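import Mathlib

/-!
# Tools for excluding small orders of simple groups
-/

set_option autoImplicit false

namespace CfsgLib.SmallGroups.SimpleTools

open Subgroup

variable {G : Type*} [Group G] [Finite G]

theorem center_eq_bot [IsSimpleGroup G] (hG : ¬ IsMulCommutative G) : center G = ⊥ := by
  rcases (inferInstance : (center G).Normal).eq_bot_or_eq_top with h | h
  · exact h
  · exact absurd (⟨⟨fun a b => Subgroup.mem_center_iff.mp (show b ∈ center G from h ▸ mem_top b) a⟩⟩ :
      IsMulCommutative G) hG

/-- A group of non-prime order `≠ 1` that is simple is not commutative. -/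
theorem not_comm_of_card [IsSimpleGroup G] (h : ¬ (Nat.card G).Prime) : ¬ IsMulCommutative G :=
  fun hc => h (Group.is_simple_iff_prime_card.mp ‹_›)

/-- In a non-abelian simple group no Sylow subgroup is centralised by its normaliser. -/
theorem not_normalizer_le [IsSimpleGroup G] (hG : ¬ IsMulCommutative G) {p : ℕ} [Fact p.Prime]
    (hp : p ∣ Nat.card G) (P : Sylow p G) :
    ¬ normalizer ((P : Subgroup G) : Set G) ≤ centralizer ((P : Subgroup G) : Set G) := by
  intro h
  have hc := MonoidHom.ker_transferSylow_isComplement' P h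
  rcases (inferInstance : (MonoidHom.transferSylow P h).ker.Normal).eq_bot_or_eq_top with hk | hk
  · rw [hk, isComplement'_bot_left] at hc
    have hcc : (P : Subgroup G) ≤ centralizer ((P : Subgroup G) : Set G) := le_normalizer.trans h
    refine hG ⟨⟨fun a b => ?_⟩⟩
    exact (mem_centralizer_iff.mp (hcc (hc ▸ mem_top a)) b (hc ▸ mem_top b)).symm
  · rw [hk, isComplement'_top_left] at hc
    exact P.ne_bot_of_dvd_card hp hc

/-- The homomorphism of a non-abelian simple group into the alternating group on the cosets of a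
proper subgroup. -/
theorem exists_embedding [IsSimpleGroup G] (hG : ¬ IsMulCommutative G) (H : Subgroup G) (hH : H ≠ ⊤) :
    ∃ f : G →* ↥(alternatingGroup (Fin H.index)), Function.Injective f := by
  let φ : G →* Equiv.Perm (Fin H.index) :=
    ((Finite.equivFinOfCardEq (show Nat.card (G ⧸ H) = H.index from rfl)).permCongrHom.toMonoidHom).comp
      (MulAction.toPermHom G (G ⧸ H))
  have hker : φ.ker = ⊥ := by
    rcases (inferInstance : φ.ker.Normal).eq_bot_or_eq_top with h | h
    · exact h
    · exfalso
      refine hH (eq_top_iff.mpr fun g _ => ?_)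
      have hg : φ g = 1 := MonoidHom.mem_ker.mp (h ▸ mem_top g)
      have h1 : MulAction.toPermHom G (G ⧸ H) g = 1 := by
        have := (Finite.equivFinOfCardEq (show Nat.card (G ⧸ H) = H.index from rfl)).permCongrHom.injective
          (hg.trans (map_one _).symm)
        exact this
      have h2 := congrArg (fun σ : Equiv.Perm (G ⧸ H) => σ ((1 : G) : G ⧸ H)) h1
      simp only [MulAction.toPermHom_apply, MulAction.toPerm_apply, Equiv.Perm.one_apply] at h2
      rw [MulAction.Quotient.smul_coe, smul_eq_mul, mul_one, eq_comm, QuotientGroup.eq] at h2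
      simpa using h2
  have hsign : ∀ g, φ g ∈ alternatingGroup (Fin H.index) := fun g => by
    rcases (inferInstance : (Equiv.Perm.sign.comp φ).ker.Normal).eq_bot_or_eq_top with h | h
    · exfalso
      refine hG ⟨⟨fun a b => ?_⟩⟩
      refine (MonoidHom.ker_eq_bot_iff _).mp h ?_
      rw [map_mul, map_mul, mul_comm]
    · rw [Equiv.Perm.mem_alternatingGroup]
      exact MonoidHom.mem_ker.mp (show g ∈ (Equiv.Perm.sign.comp φ).ker from h ▸ mem_top g)
  exact ⟨φ.codRestrict _ hsign, fun a b h =>
    (MonoidHom.ker_eq_bot_iff _).mp hker (congrArg Subtype.val h)⟩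

/-- The order of a non-abelian simple group divides half the factorial of a proper index. -/
theorem two_mul_card_dvd_factorial [IsSimpleGroup G] (hG : ¬ IsMulCommutative G) (H : Subgroup G)
    (hH : H ≠ ⊤) : 2 * Nat.card G ∣ H.index.factorial := by
  obtain ⟨f, hf⟩ := exists_embedding hG H hH
  have : Nontrivial (Fin H.index) := Fin.nontrivial_iff_two_le.mpr (Subgroup.one_lt_index_of_ne_top hH)
  have h := Nat.mul_dvd_mul_left 2 (Subgroup.card_dvd_of_injective f hf)
  rwa [two_mul_nat_card_alternatingGroup, Nat.card_perm, Nat.card_fin] at h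

/-- The order of the normaliser from the Sylow count. -/
theorem card_normalizer_mul {p : ℕ} [Fact p.Prime] (P : Sylow p G) :
    Nat.card (Sylow p G) * Nat.card (normalizer ((P : Subgroup G) : Set G)) = Nat.card G := by
  rw [P.card_eq_index_normalizer]
  exact Subgroup.index_mul_card _

theorem normalizer_ne_top [IsSimpleGroup G] (hG : ¬ IsMulCommutative G) {p : ℕ} [Fact p.Prime]
    (hp : p ∣ Nat.card G) (P : Sylow p G) : normalizer ((P : Subgroup G) : Set G) ≠ ⊤ := by
  intro h
  have hn : (P : Subgroup G).Normal := normalizer_eq_top_iff.mp h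
  rcases hn.eq_bot_or_eq_top with h' | h'
  · exact P.ne_bot_of_dvd_card hp h'
  · have hP : IsPGroup p G := fun g => by
      obtain ⟨k, hk⟩ := P.isPGroup' ⟨g, h' ▸ mem_top g⟩
      exact ⟨k, congrArg Subtype.val hk⟩
    have : Nontrivial (center G) := hP.center_nontrivial
    exact (Subgroup.nontrivial_iff_ne_bot _).mp this (center_eq_bot hG)

theorem card_sylow_ne_one [IsSimpleGroup G] (hG : ¬ IsMulCommutative G) {p : ℕ} [Fact p.Prime]
    (hp : p ∣ Nat.card G) : Nat.card (Sylow p G) ≠ 1 := by
  obtain ⟨P⟩ : Nonempty (Sylow p G) := inferInstance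
  rw [P.card_eq_index_normalizer]
  exact fun h => normalizer_ne_top hG hp P (Subgroup.index_eq_one.mp h)

/-- The candidates for the number of Sylow `p`-subgroups: a divisor of the `p`-free part. -/
theorem card_sylow_mem {p m k : ℕ} [Fact p.Prime] (hG : Nat.card G = p ^ k * m) (hm : m ≠ 0) :
    Nat.card (Sylow p G) ∈ m.divisors.filter (fun n => n % p = 1) := by
  have hmod : Nat.card (Sylow p G) % p = 1 := by
    rw [card_sylow_modEq_one p G, Nat.mod_eq_of_lt (Fact.out : p.Prime).one_lt]
  obtain ⟨P⟩ : Nonempty (Sylow p G) := inferInstance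
  have hd : Nat.card (Sylow p G) ∣ p ^ k * m := hG ▸ ⟨_, (card_normalizer_mul P).symm⟩
  have hco : Nat.Coprime (Nat.card (Sylow p G)) (p ^ k) := by
    refine Nat.Coprime.pow_right _ (Nat.Coprime.symm ?_)
    rw [Nat.Prime.coprime_iff_not_dvd Fact.out]
    intro h
    rw [Nat.mod_eq_zero_of_dvd h] at hmod  -- contradiction with `≡ 1`
    omega
  exact Finset.mem_filter.mpr ⟨Nat.mem_divisors.mpr ⟨hco.dvd_of_dvd_mul_left hd, hm⟩, hmod⟩

/-- A Sylow subgroup has the order of the `p`-part. -/
theorem card_sylow_subgroup {p m k : ℕ} [Fact p.Prime] (hG : Nat.card G = p ^ k * m) (hm : ¬ p ∣ m)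
    (P : Sylow p G) : Nat.card (P : Subgroup G) = p ^ k := by
  have hp : p.Prime := Fact.out
  rw [P.card_eq_multiplicity, hG, Nat.factorization_mul (pow_ne_zero _ hp.ne_zero)
    (by rintro rfl; exact hm (dvd_zero p)), Finsupp.add_apply, hp.factorization_pow,
    Finsupp.single_eq_same, Nat.factorization_eq_zero_of_not_dvd hm, add_zero]

/-- Every automorphism of a Sylow subgroup of prime order in a symmetric group of degree `p` or
`p + 1` is induced, and the centraliser is the subgroup itself. -/
theorem card_normalizer_perm {α : Type*} [Fintype α] [DecidableEq α] (p : ℕ) [Fact p.Prime]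
    (hα : Fintype.card α = p ∨ Fintype.card α = p + 1) (P : Sylow p (Equiv.Perm α)) :
    Nat.card (normalizer ((P : Subgroup (Equiv.Perm α)) : Set (Equiv.Perm α))) = p * (p - 1) := by
  have hp : p.Prime := Fact.out
  have hfact : ∃ m, Nat.card (Equiv.Perm α) = p ^ 1 * m ∧ ¬ p ∣ m := by
    rw [Nat.card_eq_fintype_card, Fintype.card_perm]
    obtain ⟨q, hq⟩ : ∃ q, p = q + 1 := ⟨p - 1, by have := hp.one_le; omega⟩
    rcases hα with h | h
    · refine ⟨q.factorial, by rw [h, hq, Nat.factorial_succ, pow_one], fun hd => ?_⟩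
      rw [hp.dvd_factorial] at hd; omega
    · refine ⟨(p + 1) * q.factorial, ?_, fun hd => ?_⟩
      · rw [h, hq, Nat.factorial_succ, Nat.factorial_succ, pow_one]; ring
      · rcases hp.dvd_mul.mp hd with hd | hd
        · have := Nat.le_of_dvd (by norm_num) ((Nat.dvd_add_right dvd_rfl).mp hd)
          exact absurd this (by have := hp.two_le; omega)
        · rw [hp.dvd_factorial] at hd; omega
  obtain ⟨m, hm, hpm⟩ := hfact
  have hP : Nat.card (P : Subgroup (Equiv.Perm α)) = p := by
    rw [card_sylow_subgroup hm hpm P, pow_one]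
  obtain ⟨⟨x, hxm⟩, hx⟩ := exists_prime_orderOf_dvd_card' p (dvd_of_eq hP.symm)
  rw [← Subgroup.orderOf_coe] at hx
  change orderOf x = p at hx
  have hxP : zpowers x = P :=
    Subgroup.eq_of_le_of_card_ge (by rw [zpowers_le]; exact hxm) (by rw [hP, Nat.card_zpowers, hx])
  have hct : x.cycleType = {p} := by
    obtain ⟨r, hr⟩ := Equiv.Perm.cycleType_prime_order (hx ▸ hp)
    rw [hx] at hr
    have hle : x.cycleType.sum ≤ Fintype.card α := by
      rw [Equiv.Perm.sum_cycleType]; exact Finset.card_le_univ _
    rw [hr, Multiset.sum_replicate, smul_eq_mul] at hle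
    have : r = 0 := by
      by_contra hr0
      have : 2 * p ≤ p + 1 := by
        rcases hα with h | h <;> nlinarith [Nat.pos_of_ne_zero hr0]
      have := hp.two_le
      omega
    rw [hr, this]; rfl
  have hC : centralizer ((P : Subgroup (Equiv.Perm α)) : Set (Equiv.Perm α)) = P := by
    have e : centralizer ((P : Subgroup (Equiv.Perm α)) : Set (Equiv.Perm α)) =
        centralizer {x} := by
      rw [← hxP]; exact centralizer_closure ({x} : Set _) ▸ by rw [zpowers_eq_closure]
    have hcard : Nat.card (centralizer {x}) = p := by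
      rw [Equiv.Perm.nat_card_centralizer, hct, Multiset.sum_singleton, Multiset.prod_singleton,
        Multiset.toFinset_singleton, Finset.prod_singleton, Multiset.count_singleton_self,
        Nat.factorial_one, mul_one]
      rcases hα with h | h <;> simp [h]
    refine (Subgroup.eq_of_le_of_card_ge ?_ ?_).symm
    · rw [e, ← hxP, zpowers_le, mem_centralizer_singleton_iff]
    · rw [e, hcard, hP]
  have : IsCyclic (P : Subgroup (Equiv.Perm α)) := isCyclic_of_prime_card hP
  have hrange : (normalizerMonoidHom (P : Subgroup (Equiv.Perm α))).range = ⊤ := by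
    refine eq_top_iff.mpr fun σ _ => ?_
    -- the image of the generator is conjugate to it
    let y : Equiv.Perm α := σ ⟨x, hxm⟩
    have hy : orderOf y = p := by
      show orderOf ((σ ⟨x, hxm⟩ : (P : Subgroup (Equiv.Perm α))) : Equiv.Perm α) = p
      rw [Subgroup.orderOf_coe, MulEquiv.orderOf_eq, ← Subgroup.orderOf_coe]
      exact hx
    have hyct : y.cycleType = {p} := by
      obtain ⟨r, hr⟩ := Equiv.Perm.cycleType_prime_order (hy ▸ hp)
      rw [hy] at hr
      have hle : y.cycleType.sum ≤ Fintype.card α := by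
        rw [Equiv.Perm.sum_cycleType]; exact Finset.card_le_univ _
      rw [hr, Multiset.sum_replicate, smul_eq_mul] at hle
      have : r = 0 := by
        by_contra hr0
        have : 2 * p ≤ p + 1 := by
          rcases hα with h | h <;> nlinarith [Nat.pos_of_ne_zero hr0]
        have := hp.two_le
        omega
      rw [hr, this]; rfl
    obtain ⟨g, hg⟩ := isConj_iff.mp (Equiv.Perm.isConj_iff_cycleType_eq.mpr (hct.trans hyct.symm))
    have hgN : g ∈ normalizer ((P : Subgroup (Equiv.Perm α)) : Set (Equiv.Perm α)) := by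
      rw [← hxP]
      have hy' : zpowers y = zpowers x := by
        refine Subgroup.eq_of_le_of_card_ge ?_ ?_
        · rw [zpowers_le, hxP]; exact (σ ⟨x, hxm⟩).2
        · rw [Nat.card_zpowers, Nat.card_zpowers, hx, hy]
      have e : (zpowers x).map (MulAut.conj g).toMonoidHom = zpowers x := by
        rw [MonoidHom.map_zpowers]
        show zpowers (g * x * g⁻¹) = _
        rw [hg, hy']
      exact mem_normalizer_iff_map_conj_eq.mpr e
    refine ⟨⟨g, hgN⟩, ?_⟩
    refine MulEquiv.ext fun z => ?_
    obtain ⟨k, hk⟩ := mem_zpowers_iff.mp (show (z : Equiv.Perm α) ∈ zpowers x by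
      rw [hxP]; exact z.2)
    have hz : z = ⟨x, hxm⟩ ^ k := Subtype.ext (by rw [Subgroup.coe_zpow, hk])
    rw [hz, map_zpow, map_zpow]
    congr 1
    exact Subtype.ext hg
  have h := (normalizerMonoidHom (P : Subgroup (Equiv.Perm α))).ker.index_mul_card
  rw [index_ker, hrange, Subgroup.card_top, IsCyclic.card_mulAut, hP, Nat.totient_prime hp,
    normalizerMonoidHom_ker, Nat.card_congr (subgroupOfEquivOfLe (centralizer_le_normalizer _)).toEquiv,
    hC, hP] at h
  rw [← h, mul_comm]

/-- The normaliser inside the alternating group is half as large. -/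
theorem two_mul_card_normalizer_alternating {α : Type*} [Fintype α] [DecidableEq α]
    (hα : 2 ≤ Fintype.card α) (p : ℕ) [Fact p.Prime] (hp2 : p ≠ 2) (P : Sylow p (Equiv.Perm α)) :
    (P : Subgroup (Equiv.Perm α)) ≤ alternatingGroup α ∧
      2 * Nat.card ↥(normalizer (((P : Subgroup (Equiv.Perm α)).subgroupOf (alternatingGroup α) :
        Subgroup ↥(alternatingGroup α)) : Set ↥(alternatingGroup α))) =
      Nat.card ↥(normalizer ((P : Subgroup (Equiv.Perm α)) : Set (Equiv.Perm α))) := by
  have hp : p.Prime := Fact.out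
  have hle : (P : Subgroup (Equiv.Perm α)) ≤ alternatingGroup α := by
    intro g hg
    rw [Equiv.Perm.mem_alternatingGroup]
    obtain ⟨k, hk⟩ := P.isPGroup' ⟨g, hg⟩
    have h1 : g ^ p ^ k = 1 := congrArg Subtype.val hk
    have h2 := congrArg Equiv.Perm.sign h1
    rw [map_pow, map_one] at h2
    rcases Int.units_eq_one_or (Equiv.Perm.sign g) with e | e
    · exact e
    · rw [e, (hp.odd_of_ne_two hp2).pow.neg_one_pow] at h2
      exact absurd h2 (by decide)
  refine ⟨hle, ?_⟩
  have : Nontrivial α := Fintype.one_lt_card_iff_nontrivial.mp hα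
  have hidx : (alternatingGroup α).index = 2 := alternatingGroup.index_eq_two
  have hN : normalizer (((P : Subgroup (Equiv.Perm α)).subgroupOf (alternatingGroup α) :
      Subgroup ↥(alternatingGroup α)) : Set ↥(alternatingGroup α)) =
      (normalizer ((P : Subgroup (Equiv.Perm α)) : Set (Equiv.Perm α))).subgroupOf (alternatingGroup α) := by
    ext n
    rw [Subgroup.mem_subgroupOf, mem_normalizer_iff, mem_normalizer_iff]
    constructor
    · intro h z
      refine ⟨fun hz => ?_, fun hz => ?_⟩
      · exact (h ⟨z, hle hz⟩).mp hz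
      · have hzA : z ∈ alternatingGroup α := by
          have := (alternatingGroup α).mul_mem ((alternatingGroup α).mul_mem
            ((alternatingGroup α).inv_mem n.2) (hle hz)) n.2
          simpa [mul_assoc] using this
        exact (h ⟨z, hzA⟩).mpr hz
    · exact fun h z => h z
  have hA : (alternatingGroup α).relIndex (normalizer ((P : Subgroup (Equiv.Perm α)) : Set (Equiv.Perm α))) = 2 := by
    have hFr := Sylow.normalizer_sup_eq_top' (N := alternatingGroup α) P hle
    have h : (alternatingGroup α).relIndex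
        (normalizer ((P : Subgroup (Equiv.Perm α)) : Set (Equiv.Perm α)) ⊔ alternatingGroup α) =
      (alternatingGroup α).relIndex (normalizer ((P : Subgroup (Equiv.Perm α)) : Set (Equiv.Perm α))) :=
      Subgroup.relIndex_sup_right _ _
    have hFr' : normalizer ((P : Subgroup (Equiv.Perm α)) : Set (Equiv.Perm α)) ⊔ alternatingGroup α = ⊤ := hFr
    rw [hFr', relIndex_top_right, hidx] at h
    exact h.symm
  rw [hN, ← ((alternatingGroup α).subgroupOf (normalizer ((P : Subgroup (Equiv.Perm α)) : Set _))).index_mul_card,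
    ← relIndex, hA]
  congr 1
  exact Nat.card_congr {
    toFun := fun x => ⟨⟨x.1.1, x.2⟩, x.1.2⟩
    invFun := fun x => ⟨⟨x.1.1, x.2⟩, x.1.2⟩
    left_inv := fun _ => rfl
    right_inv := fun _ => rfl }

/-- With exactly `p + 1` Sylow `p`-subgroups of order `p`, the normaliser has order dividing
`p (p - 1) / 2`. -/
theorem card_normalizer_of_succ [IsSimpleGroup G] (hG : ¬ IsMulCommutative G) {p : ℕ} [Fact p.Prime]
    (hp2 : p ≠ 2) (P : Sylow p G) (hP : Nat.card (P : Subgroup G) = p)
    (hn : Nat.card (Sylow p G) = p + 1) :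
    2 * Nat.card (normalizer ((P : Subgroup G) : Set G)) ∣ p * (p - 1) := by
  have hp : p.Prime := Fact.out
  have hH : normalizer ((P : Subgroup G) : Set G) ≠ ⊤ :=
    normalizer_ne_top hG (hP ▸ card_subgroup_dvd_card _) P
  obtain ⟨f, hf⟩ := exists_embedding hG _ hH
  have hn' : (normalizer ((P : Subgroup G) : Set G)).index = p + 1 := hn ▸ P.card_eq_index_normalizer.symm
  revert f
  generalize (normalizer ((P : Subgroup G) : Set G)).index = n at hn'
  intro f hf
  let g : G →* Equiv.Perm (Fin n) := (alternatingGroup (Fin n)).subtype.comp f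
  have hg : Function.Injective g := Subtype.val_injective.comp hf
  obtain ⟨Q, hQ⟩ := (P.isPGroup'.map g).exists_le_sylow
  have hQc : Fintype.card (Fin n) = p ∨ Fintype.card (Fin n) = p + 1 := Or.inr (by rw [Fintype.card_fin, hn'])
  have hQcard : Nat.card (Q : Subgroup (Equiv.Perm (Fin n))) = p := by
    obtain ⟨q, hq⟩ : ∃ q, p = q + 1 := ⟨p - 1, by have := hp.one_le; omega⟩
    refine (card_sylow_subgroup (k := 1) (m := (p + 1) * q.factorial) ?_ ?_ Q).trans (pow_one p)
    · rw [Nat.card_eq_fintype_card, Fintype.card_perm, Fintype.card_fin, hn', hq,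
        Nat.factorial_succ, Nat.factorial_succ, pow_one]
      ring
    · intro hd
      rcases hp.dvd_mul.mp hd with hd | hd
      · exact absurd (Nat.le_of_dvd (by norm_num) ((Nat.dvd_add_right dvd_rfl).mp hd))
          (by have := hp.two_le; omega)
      · rw [hp.dvd_factorial] at hd; omega
  have hPQ : (P : Subgroup G).map g = Q := by
    refine Subgroup.eq_of_le_of_card_ge hQ ?_
    rw [hQcard, Subgroup.card_map_of_injective hg, hP]
  obtain ⟨hQA, h2⟩ := two_mul_card_normalizer_alternating
    (by rw [Fintype.card_fin, hn']; have := hp.two_le; omega) p hp2 Q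
  rw [card_normalizer_perm p hQc Q] at h2
  rw [← h2]
  refine Nat.mul_dvd_mul_left 2 ?_
  rw [← Subgroup.card_map_of_injective hf]
  refine Subgroup.card_dvd_of_le ?_
  rintro _ ⟨x, hx, rfl⟩
  rw [mem_normalizer_iff]
  intro z
  simp only [Subgroup.mem_subgroupOf, ← hPQ]
  constructor
  · rintro ⟨y, hy, e⟩
    exact ⟨x * y * x⁻¹, (mem_normalizer_iff.mp hx y).mp hy, by
      rw [map_mul, map_mul, map_inv, e]; simp [g]⟩
  · rintro ⟨y, hy, e⟩
    refine ⟨x⁻¹ * y * x, (mem_normalizer_iff.mp hx (x⁻¹ * y * x)).mpr (by
      rw [show x * (x⁻¹ * y * x) * x⁻¹ = y by group]; exact hy), ?_⟩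
    rw [map_mul, map_mul, map_inv, e]
    simp [g, mul_assoc]

end CfsgLib.SmallGroups.SimpleTools
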