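import Mathlib

/-!
# Fixed cosets and class counting
-/

set_option autoImplicit false

namespace CfsgLib.SmallGroups.CosetFixed

open Subgroup

variable {G : Type*} [Group G] [Finite G]

theorem mem_fixedBy_coe_iff (H : Subgroup G) (x g : G) :
    (g : G ⧸ H) ∈ MulAction.fixedBy (G ⧸ H) x ↔ g⁻¹ * x * g ∈ H := by
  rw [MulAction.mem_fixedBy, MulAction.Quotient.smul_coe, smul_eq_mul, eq_comm, QuotientGroup.eq, mul_assoc]

/-- The conjugacy class of `x` as cosets of its centraliser. -/
theorem exists_classEquiv (x : G) :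
    ∃ f : G ⧸ centralizer ({x} : Set G) ≃ {g : G // IsConj x g},
      ∀ g : G, ((f (g : G ⧸ centralizer ({x} : Set G)) : {g : G // IsConj x g}) : G) = g * x * g⁻¹ := by
  let C := centralizer ({x} : Set G)
  let f : G ⧸ C → {g : G // IsConj x g} := fun q =>
    Quotient.liftOn' q (fun g => ⟨g * x * g⁻¹, isConj_iff.mpr ⟨g, rfl⟩⟩) fun a b hab => by
      rw [QuotientGroup.leftRel_apply] at hab
      apply Subtype.ext
      have h := mem_centralizer_singleton_iff.mp hab
      calc a * x * a⁻¹ = a * (x * (a⁻¹ * b)) * b⁻¹ := by group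
        _ = a * ((a⁻¹ * b) * x) * b⁻¹ := by rw [h]
        _ = b * x * b⁻¹ := by group
  have hf : ∀ g : G, ((f (g : G ⧸ C) : {g : G // IsConj x g}) : G) = g * x * g⁻¹ := fun _ => rfl
  have hbij : Function.Bijective f := by
    refine ⟨fun a b hab => ?_, fun g => ?_⟩
    · induction a using QuotientGroup.induction_on with | _ a => ?_
      induction b using QuotientGroup.induction_on with | _ b => ?_
      have h := congrArg Subtype.val hab
      rw [hf, hf] at h
      rw [QuotientGroup.eq]
      refine mem_centralizer_singleton_iff.mpr ?_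
      calc a⁻¹ * b * x = a⁻¹ * (b * x * b⁻¹) * b := by group
        _ = a⁻¹ * (a * x * a⁻¹) * b := by rw [h]
        _ = x * (a⁻¹ * b) := by group
    · obtain ⟨c, hc⟩ := isConj_iff.mp g.2
      exact ⟨(c : G ⧸ C), Subtype.ext hc⟩
  exact ⟨Equiv.ofBijective f hbij, hf⟩

theorem card_class (x : G) :
    Nat.card {g : G // IsConj x g} = (centralizer ({x} : Set G)).index := by
  obtain ⟨f, -⟩ := exists_classEquiv x
  exact (Nat.card_congr f).symm

/-- Number of fixed cosets times class size. -/
theorem card_fixedBy_mul (H : Subgroup G) (x : G) :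
    Nat.card (MulAction.fixedBy (G ⧸ H) x) * Nat.card {g : G // IsConj x g} =
      H.index * Nat.card {g : G // IsConj x g ∧ g ∈ H} := by
  let C := centralizer ({x} : Set G)
  obtain ⟨f, hf⟩ := exists_classEquiv x
  let S : Set (G ⧸ C) := {q | (f q : G) ∈ H}
  have hS : Nat.card S = Nat.card {g : G // IsConj x g ∧ g ∈ H} :=
    Nat.card_congr ((f.subtypeEquiv (fun _ => Iff.rfl)).trans
      (Equiv.subtypeSubtypeEquivSubtypeInter (fun g => IsConj x g) (fun g => g ∈ H)))
  have hcls : Nat.card {g : G // IsConj x g} = C.index := card_class x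
  -- two counts of the set of `g` with `g⁻¹ x g ∈ H`
  have h1 := Nat.card_congr (QuotientGroup.preimageMkEquivSubgroupProdSet H (MulAction.fixedBy (G ⧸ H) x))
  have h2 := Nat.card_congr (QuotientGroup.preimageMkEquivSubgroupProdSet C S)
  rw [Nat.card_prod] at h1 h2
  have e : Nat.card (QuotientGroup.mk ⁻¹' MulAction.fixedBy (G ⧸ H) x : Set G) =
      Nat.card (QuotientGroup.mk ⁻¹' S : Set G) := by
    refine Nat.card_congr ((Equiv.inv G).subtypeEquiv fun g => ?_)
    show (g : G ⧸ H) ∈ MulAction.fixedBy (G ⧸ H) x ↔ (f (g⁻¹ : G) : G) ∈ H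
    rw [mem_fixedBy_coe_iff, hf, inv_inv]
  rw [h1, h2, hS] at e
  rw [hcls]
  have hH : 0 < Nat.card H := Nat.card_pos
  refine Nat.eq_of_mul_eq_mul_left hH ?_
  calc Nat.card H * (Nat.card (MulAction.fixedBy (G ⧸ H) x) * C.index)
      = (Nat.card H * Nat.card (MulAction.fixedBy (G ⧸ H) x)) * C.index := by ring
    _ = (C.index * Nat.card C) * Nat.card {g : G // IsConj x g ∧ g ∈ H} := by rw [e]; ring
    _ = (H.index * Nat.card H) * Nat.card {g : G // IsConj x g ∧ g ∈ H} := by
        rw [C.index_mul_card, H.index_mul_card]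
    _ = _ := by ring

variable {p : ℕ} [Fact p.Prime]

/-- A conjugate of an element of order `p` lying in the normaliser of a Sylow subgroup of order `p`
generates it. -/
theorem zpowers_eq (P : Sylow p G) (hP : Nat.card (P : Subgroup G) = p) {y : G} (hy : orderOf y = p)
    (hmem : y ∈ normalizer ((P : Subgroup G) : Set G)) : zpowers y = P := by
  have hp : IsPGroup p ↥(zpowers y) := IsPGroup.of_card (n := 1) (by rw [Nat.card_zpowers, hy, pow_one])
  have h : zpowers y ≤ (P : Subgroup G) := by
    intro a ha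
    have h1 : a ∈ zpowers y ⊓ (P : Subgroup G) :=
      (hp.inf_normalizer_sylow P) ▸ ⟨ha, zpowers_le.mpr hmem ha⟩
    exact h1.2
  exact Subgroup.eq_of_le_of_card_ge h (by rw [hP, Nat.card_zpowers, hy])

theorem card_fixedBy_eq_one (P : Sylow p G) (hP : Nat.card (P : Subgroup G) = p) {y : G}
    (hy : orderOf y = p) :
    Nat.card (MulAction.fixedBy (G ⧸ normalizer ((P : Subgroup G) : Set G)) y) = 1 := by
  rw [Nat.card_eq_one_iff_unique]
  have hz : ∀ g : G, g⁻¹ * y * g ∈ normalizer ((P : Subgroup G) : Set G) → zpowers (g⁻¹ * y * g) = P :=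
    fun g hg => zpowers_eq P hP (by
      rw [← hy]; exact orderOf_injective (MulAut.conj g⁻¹).toMonoidHom (MulAut.conj g⁻¹).injective y ▸ by simp [MulAut.conj_apply]) hg
  constructor
  · refine ⟨fun a b => ?_⟩
    obtain ⟨a, ha⟩ := a
    obtain ⟨b, hb⟩ := b
    induction a using QuotientGroup.induction_on with | _ a => ?_
    induction b using QuotientGroup.induction_on with | _ b => ?_
    rw [mem_fixedBy_coe_iff] at ha hb
    refine Subtype.ext (QuotientGroup.eq.mpr ?_)
    have hA := hz a ha
    have hB := hz b hb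
    refine mem_normalizer_iff_map_conj_eq.mpr ?_
    show (P : Subgroup G).map (MulAut.conj (a⁻¹ * b)).toMonoidHom = P
    conv_lhs => rw [← hB, MonoidHom.map_zpowers]
    rw [← hA]
    congr 1
    simp [MulAut.conj_apply, mul_assoc]
  · obtain ⟨Q, hQ⟩ := (IsPGroup.of_card (n := 1) (by rw [Nat.card_zpowers, hy, pow_one]) :
      IsPGroup p ↥(zpowers y)).exists_le_sylow
    obtain ⟨g, hg⟩ := MulAction.exists_smul_eq G P Q
    refine ⟨⟨(g : G ⧸ _), (mem_fixedBy_coe_iff _ _ _).mpr (le_normalizer ?_)⟩⟩
    obtain ⟨b, hb, e⟩ := Subgroup.mem_map.mp (show y ∈ (P : Subgroup G).map (MulAut.conj g).toMonoidHom by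
      have h1 := hQ (mem_zpowers y)
      rw [← hg] at h1
      exact h1)
    rw [← e]
    simpa [MulAut.conj_apply, mul_assoc] using hb

theorem card_fixedBy_le (P : Sylow p G) (hP : Nat.card (P : Subgroup G) = p) {x : G}
    (hx : x ∈ normalizer ((P : Subgroup G) : Set G)) (hxC : x ∉ centralizer ((P : Subgroup G) : Set G)) :
    Nat.card (MulAction.fixedBy (G ⧸ normalizer ((P : Subgroup G) : Set G)) x) ≤
      Nat.card (MulAction.orbitRel.Quotient ↥(P : Subgroup G) (G ⧸ normalizer ((P : Subgroup G) : Set G))) := by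
  set N := normalizer ((P : Subgroup G) : Set G)
  have : Finite (MulAction.orbitRel.Quotient ↥(P : Subgroup G) (G ⧸ N)) := Quotient.finite _
  have hp : p.Prime := Fact.out
  refine Nat.card_le_card_of_injective (fun c => Quotient.mk'' c.1) fun a b hab => Subtype.ext ?_
  obtain ⟨u, hu⟩ := (Quotient.exact' hab : (MulAction.orbitRel _ _).r a.1 b.1)
  have hgen : ∀ v : G, v ∈ (P : Subgroup G) → v ≠ 1 → zpowers v = P := fun v hv hv1 => by
    have ho : orderOf v ∣ p := hP ▸ (P : Subgroup G).orderOf_dvd_natCard hv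
    rcases (Nat.dvd_prime hp).mp ho with e | e
    · exact absurd (orderOf_eq_one_iff.mp e) hv1
    · exact zpowers_eq P hP e (le_normalizer hv)
  by_cases hu1 : (u : G) = 1
  · rw [← hu]
    show (u : G) • b.1 = b.1
    rw [hu1, one_smul]
  have ha : x • a.1 = a.1 := a.2
  have hb : x • b.1 = b.1 := b.2
  have hu' : (u : G) • b.1 = a.1 := hu
  let w : G := (u : G)⁻¹ * (x⁻¹ * u * x)
  have hwP : w ∈ (P : Subgroup G) := by
    refine (P : Subgroup G).mul_mem ((P : Subgroup G).inv_mem u.2) ?_
    have := (mem_normalizer_iff.mp (N.inv_mem hx) (u : G)).mp u.2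
    rwa [inv_inv] at this
  have hw : w • b.1 = b.1 := by
    show ((u : G)⁻¹ * (x⁻¹ * u * x)) • b.1 = b.1
    rw [mul_smul, mul_smul, mul_smul, hb, hu']
    rw [inv_smul_eq_iff, hu', inv_smul_eq_iff, ha]
  by_cases hw1 : w = 1
  · refine absurd (mem_centralizer_iff.mpr fun v hv => ?_) hxC
    have hxu : (u : G) * x = x * u := by
      have h := congrArg (fun t => x * (u : G) * t) hw1
      simpa [w, mul_assoc] using h
    rw [← hgen u u.2 hu1] at hv
    obtain ⟨k, rfl⟩ := mem_zpowers_iff.mp hv
    exact (Commute.zpow_left hxu k).eq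
  · have hfix := card_fixedBy_eq_one P hP (show orderOf w = p by
      rw [← Nat.card_zpowers, hgen w hwP hw1, hP])
    have hsub := (Nat.card_eq_one_iff_unique.mp hfix).1
    have h0 : ((1 : G) : G ⧸ N) ∈ MulAction.fixedBy (G ⧸ N) w :=
      (mem_fixedBy_coe_iff N w 1).mpr (le_normalizer (by simpa using hwP))
    have hb0 : b.1 = ((1 : G) : G ⧸ N) := congrArg Subtype.val (Subsingleton.elim (⟨b.1, hw⟩ : MulAction.fixedBy (G ⧸ N) w) ⟨_, h0⟩)
    rw [← hu', hb0, MulAction.Quotient.smul_coe, smul_eq_mul, mul_one, QuotientGroup.eq, mul_one]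
    exact N.inv_mem (le_normalizer u.2)

/-- Counting the classes of elements of order `p` when they are self-centralising. -/
theorem class_count (p : ℕ) [Fact p.Prime] (z : G) (hz : orderOf z = p)
    (hC : centralizer ({z} : Set G) = zpowers z) :
    ∃ n t : ℕ, t = Nat.card {c : ConjClasses G // ∃ g : G, ConjClasses.mk g = c ∧ orderOf g = p} ∧
      t ∣ p - 1 ∧ Nat.card (Sylow p G) = 1 + n * p ∧ Nat.card G * t = (p - 1) * p * (1 + n * p) := by
  classical
  have hp : p.Prime := Fact.out
  obtain ⟨P, hzP⟩ := (IsPGroup.of_card (n := 1) (by rw [Nat.card_zpowers, hz, pow_one]) :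
    IsPGroup p ↥(zpowers z)).exists_le_sylow
  have hP : (P : Subgroup G) = zpowers z := by
    refine le_antisymm ?_ hzP
    have hnt : Nontrivial ↥(P : Subgroup G) :=
      ⟨⟨⟨z, hzP (mem_zpowers z)⟩, 1, fun e => by
        rw [show z = 1 from congrArg Subtype.val e, orderOf_one] at hz
        exact hp.one_lt.ne hz⟩⟩
    have := P.isPGroup'.center_nontrivial
    obtain ⟨⟨c, hc⟩, hc1⟩ := exists_ne (1 : center ↥(P : Subgroup G))
    have hcz : (c : G) ∈ zpowers z := hC ▸ mem_centralizer_singleton_iff.mpr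
      (congrArg Subtype.val (Subgroup.mem_center_iff.mp hc ⟨z, hzP (mem_zpowers z)⟩)).symm
    have hczp : zpowers (c : G) = zpowers z := Subgroup.eq_of_le_of_card_ge (zpowers_le.mpr hcz) (by
      rw [Nat.card_zpowers, Nat.card_zpowers, hz]
      have hd : orderOf (c : G) ∣ p := by
        have h1 := (zpowers z).orderOf_dvd_natCard hcz
        rwa [Nat.card_zpowers, hz] at h1
      rcases (Nat.dvd_prime hp).mp hd with e | e
      · exact absurd (Subtype.ext (Subtype.ext (orderOf_eq_one_iff.mp e))) hc1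
      · exact e.ge)
    intro a ha
    rw [← hC, mem_centralizer_singleton_iff]
    obtain ⟨k, hk⟩ := mem_zpowers_iff.mp (hczp.symm ▸ mem_zpowers z : z ∈ zpowers (c : G))
    rw [← hk]
    exact (Commute.zpow_right (show Commute a (c : G) from
      congrArg Subtype.val (Subgroup.mem_center_iff.mp hc ⟨a, ha⟩)) k).eq
  have hPc : Nat.card (P : Subgroup G) = p := by rw [hP, Nat.card_zpowers, hz]
  have hsylow : ∀ g : G, orderOf g = p → ∃ Q : Sylow p G, (Q : Subgroup G) = zpowers g := by
    intro g hg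
    obtain ⟨Q, hQ⟩ := (IsPGroup.of_card (n := 1) (by rw [Nat.card_zpowers, hg, pow_one]) :
      IsPGroup p ↥(zpowers g)).exists_le_sylow
    refine ⟨Q, (Subgroup.eq_of_le_of_card_ge hQ ?_).symm⟩
    rw [Nat.card_congr (Sylow.equiv Q P).toEquiv, hPc, Nat.card_zpowers, hg]
  -- every element of order `p` has centraliser of order `p`
  have hcent : ∀ g : G, orderOf g = p → Nat.card (centralizer ({g} : Set G)) = p := by
    intro g hg
    obtain ⟨Q, hQ⟩ := hsylow g hg
    obtain ⟨c, hc⟩ := MulAction.exists_smul_eq G P Q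
    obtain ⟨b, hb, e⟩ := Subgroup.mem_map.mp (show g ∈ (P : Subgroup G).map (MulAut.conj c).toMonoidHom by
      have h1 : g ∈ (Q : Subgroup G) := hQ.symm ▸ mem_zpowers g
      rw [← hc] at h1
      exact h1)
    have hbo : orderOf b = p := by
      rw [← hg, ← e]; exact (MulEquiv.orderOf_eq _ b).symm
    have hbz : zpowers b = zpowers z := by
      rw [← hP]; exact zpowers_eq P hPc hbo (le_normalizer hb)
    have hcb : centralizer ({b} : Set G) = zpowers z := by
      rw [← hC, ← centralizer_closure, ← zpowers_eq_closure, hbz, zpowers_eq_closure, centralizer_closure]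
    have hmap : centralizer ({g} : Set G) = (centralizer ({b} : Set G)).map (MulAut.conj c).toMonoidHom := by
      ext a
      rw [Subgroup.mem_map_equiv, mem_centralizer_singleton_iff, mem_centralizer_singleton_iff, ← e]
      show a * (c * b * c⁻¹) = c * b * c⁻¹ * a ↔ (MulAut.conj c).symm a * b = b * (MulAut.conj c).symm a
      rw [MulAut.conj_symm_apply]
      constructor
      · intro h
        calc c⁻¹ * a * c * b = c⁻¹ * (a * (c * b * c⁻¹)) * c := by group
          _ = c⁻¹ * (c * b * c⁻¹ * a) * c := by rw [h]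
          _ = b * (c⁻¹ * a * c) := by group
      · intro h
        calc a * (c * b * c⁻¹) = c * (c⁻¹ * a * c * b) * c⁻¹ := by group
          _ = c * (b * (c⁻¹ * a * c)) * c⁻¹ := by rw [h]
          _ = c * b * c⁻¹ * a := by group
    rw [hmap, Subgroup.card_map_of_injective (MulAut.conj c).injective, hcb, Nat.card_zpowers, hz]
  -- count them
  have hX1 : Nat.card {g : G // orderOf g = p} = Nat.card (Sylow p G) * (p - 1) := by
    let f : (Σ Q : Sylow p G, {g : ↥(Q : Subgroup G) // g ≠ 1}) → {g : G // orderOf g = p} := fun x =>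
      ⟨(x.2.1 : G), by
        rw [Subgroup.orderOf_coe]
        have hd : orderOf x.2.1 ∣ p := by
          have := orderOf_dvd_natCard x.2.1
          rwa [Nat.card_congr (Sylow.equiv x.1 P).toEquiv, hPc] at this
        exact ((Nat.dvd_prime hp).mp hd).resolve_left (orderOf_eq_one_iff.not.mpr x.2.2)⟩
    have hf : Function.Bijective f := by
      refine ⟨fun x y hxy => ?_, fun g => ?_⟩
      · obtain ⟨Q, a, ha⟩ := x
        obtain ⟨R, b, hb⟩ := y
        have hab : (a : G) = b := congrArg Subtype.val hxy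
        have hQR : Q = R := by
          apply Sylow.ext
          rw [← zpowers_eq Q ((Nat.card_congr (Sylow.equiv Q P).toEquiv).trans hPc) (f ⟨Q, a, ha⟩).2 (le_normalizer a.2),
            ← zpowers_eq R ((Nat.card_congr (Sylow.equiv R P).toEquiv).trans hPc) (f ⟨R, b, hb⟩).2 (le_normalizer b.2)]
          exact congrArg zpowers hab
        subst hQR
        exact Sigma.ext rfl (heq_of_eq (Subtype.ext (Subtype.ext hab)))
      · obtain ⟨Q, hQ⟩ := hsylow g.1 g.2
        refine ⟨⟨Q, ⟨⟨g.1, hQ.symm ▸ mem_zpowers g.1⟩, fun e => ?_⟩⟩, rfl⟩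
        exact hp.one_lt.ne (by rw [← g.2, congrArg Subtype.val e, OneMemClass.coe_one, orderOf_one])
    have := Fintype.ofFinite (Sylow p G)
    rw [← Nat.card_congr (Equiv.ofBijective f hf), Nat.card_sigma, Finset.sum_congr rfl (fun Q _ => ?_),
      Finset.sum_const, Finset.card_univ, smul_eq_mul, Nat.card_eq_fintype_card]
    have := Fintype.ofFinite ↥(Q : Subgroup G)
    rw [Nat.card_eq_fintype_card, Fintype.card_subtype_compl, Fintype.card_subtype_eq, ← Nat.card_eq_fintype_card,
      Nat.card_congr (Sylow.equiv Q P).toEquiv, hPc]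
  set T := {c : ConjClasses G // ∃ g : G, ConjClasses.mk g = c ∧ orderOf g = p}
  have hord : ∀ g h : G, IsConj g h → orderOf g = p → orderOf h = p := by
    intro g h hgh hg
    obtain ⟨c, rfl⟩ := isConj_iff.mp hgh
    rw [show c * g * c⁻¹ = MulAut.conj c g from rfl, MulEquiv.orderOf_eq, hg]
  let F : {g : G // orderOf g = p} → T := fun g => ⟨ConjClasses.mk g.1, g.1, rfl, g.2⟩
  have hX2 : Nat.card {g : G // orderOf g = p} * p = Nat.card G * Nat.card T := by
    have := Fintype.ofFinite T
    rw [Nat.card_congr (Equiv.sigmaFiberEquiv F).symm, Nat.card_sigma, Finset.sum_mul,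
      Nat.card_eq_fintype_card (α := T), ← Finset.card_univ, mul_comm, ← smul_eq_mul, ← Finset.sum_const]
    refine Finset.sum_congr rfl fun c _ => ?_
    obtain ⟨g, hg, hgo⟩ := c.2
    have he : Nat.card {x // F x = c} = Nat.card {x : G // IsConj g x} :=
      Nat.card_congr
        { toFun := fun x => ⟨x.1.1, ConjClasses.mk_eq_mk_iff_isConj.mp (hg.trans (congrArg Subtype.val x.2).symm)⟩
          invFun := fun x => ⟨⟨x.1, hord g x.1 x.2 hgo⟩, Subtype.ext ((ConjClasses.mk_eq_mk_iff_isConj.mpr x.2).symm.trans hg)⟩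
          left_inv := fun _ => rfl
          right_inv := fun _ => rfl }
    rw [he, card_class]
    have h2 := (centralizer ({g} : Set G)).index_mul_card
    rw [hcent g hgo] at h2
    exact h2
  have hmod : Nat.card (Sylow p G) % p = 1 := by
    rw [card_sylow_modEq_one p G, Nat.mod_eq_of_lt hp.one_lt]
  have hn : Nat.card (Sylow p G) = 1 + Nat.card (Sylow p G) / p * p := by
    have := Nat.div_add_mod (Nat.card (Sylow p G)) p
    rw [hmod] at this
    linarith
  have hmain : Nat.card G * Nat.card T = (p - 1) * p * Nat.card (Sylow p G) := by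
    rw [← hX2, hX1]; ring
  refine ⟨Nat.card (Sylow p G) / p, Nat.card T, rfl, ?_, hn, by rw [hmain, ← hn]⟩
  obtain ⟨e, he⟩ : p ∣ Nat.card (normalizer ((P : Subgroup G) : Set G)) :=
    (dvd_of_eq hPc.symm).trans (Subgroup.card_dvd_of_le le_normalizer)
  have hmul : Nat.card (Sylow p G) * (p * e) = Nat.card G := by
    rw [← he, P.card_eq_index_normalizer]
    exact Subgroup.index_mul_card _
  refine ⟨e, ?_⟩
  have hpos : 0 < Nat.card (Sylow p G) * p := Nat.mul_pos Nat.card_pos hp.pos
  refine Nat.eq_of_mul_eq_mul_left hpos ?_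
  calc Nat.card (Sylow p G) * p * (p - 1) = (p - 1) * p * Nat.card (Sylow p G) := by ring
    _ = Nat.card (Sylow p G) * (p * e) * Nat.card T := by rw [hmul, hmain]
    _ = _ := by ring

end CfsgLib.SmallGroups.CosetFixed
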