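import Mathlib

/-!
# Intersections of Sylow subgroups and Sylow counting
-/

set_option autoImplicit false

namespace CfsgLib.SmallGroups.SylowInter

open Subgroup

variable {G : Type*} [Group G] [Finite G] {p : ℕ} [Fact p.Prime]

/-- If the number of Sylow `p`-subgroups is not `1` mod `p ^ k`, some intersection of two Sylow
subgroups is large. -/
theorem exists_relIndex_le (k : ℕ) (h : ¬ Nat.card (Sylow p G) ≡ 1 [MOD p ^ k]) :
    ∃ P R : Sylow p G, P ≠ R ∧ ((R : Subgroup G).subgroupOf (P : Subgroup G)).index ≤ p ^ (k - 1) := by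
  classical
  by_contra hcon
  push Not at hcon
  apply h
  obtain ⟨P⟩ : Nonempty (Sylow p G) := inferInstance
  have hp : p.Prime := Fact.out
  have := Fintype.ofFinite (MulAction.orbitRel.Quotient ↥(P : Subgroup G) (Sylow p G))
  rw [Nat.card_congr (MulAction.selfEquivSigmaOrbits ↥(P : Subgroup G) (Sylow p G)), Nat.card_sigma]
  let ω₀ : MulAction.orbitRel.Quotient ↥(P : Subgroup G) (Sylow p G) := Quotient.mk'' P
  have hP : ∀ g : ↥(P : Subgroup G), g • P = P := fun g =>
    Sylow.smul_eq_iff_mem_normalizer.mpr (le_normalizer g.2)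
  have h0 : ω₀.out = P := by
    have h1 : ω₀.out ∈ MulAction.orbit ↥(P : Subgroup G) P :=
      Quotient.exact' (Quotient.out_eq' ω₀)
    obtain ⟨g, hg⟩ := h1
    exact hg.symm.trans (hP g)
  refine (Nat.ModEq.trans ?_ (by simp; rfl : (∑ ω, if ω = ω₀ then 1 else 0) ≡ 1 [MOD p ^ k]))
  have key : ∀ ω : MulAction.orbitRel.Quotient ↥(P : Subgroup G) (Sylow p G),
      Nat.card (MulAction.orbit ↥(P : Subgroup G) ω.out) ≡ (if ω = ω₀ then 1 else 0) [MOD p ^ k] := by
    intro ω
    by_cases hω : ω = ω₀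
    · rw [if_pos hω, hω, h0]
      have : MulAction.orbit ↥(P : Subgroup G) P = {P} := by
        ext Q; simp [MulAction.mem_orbit_iff, hP, eq_comm]
      rw [this]; simp [Nat.ModEq.refl]
    · rw [if_neg hω]
      have hne : P ≠ ω.out := fun e => hω (by
        rw [← Quotient.out_eq' ω, ← e])
      have hst : MulAction.stabilizer ↥(P : Subgroup G) ω.out =
          (ω.out : Subgroup G).subgroupOf (P : Subgroup G) := by
        ext g
        rw [MulAction.mem_stabilizer_iff, Subgroup.mem_subgroupOf]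
        constructor
        · intro hg
          have h1 : (g : G) ∈ normalizer (ω.out : Set G) := Sylow.smul_eq_iff_mem_normalizer.mp hg
          have h2 : (g : G) ∈ (P : Subgroup G) ⊓ (ω.out : Subgroup G) := by
            rw [← P.isPGroup'.inf_normalizer_sylow ω.out]
            exact ⟨g.2, h1⟩
          exact h2.2
        · intro hg
          exact Sylow.smul_eq_iff_mem_normalizer.mpr (le_normalizer hg)
      obtain ⟨n, hn⟩ := P.isPGroup'.index ((ω.out : Subgroup G).subgroupOf (P : Subgroup G))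
      have hlt := hcon P ω.out hne
      rw [hn] at hlt
      have hk : k ≤ n := by
        have := (Nat.pow_lt_pow_iff_right hp.one_lt).mp hlt
        omega
      rw [Nat.card_coe_set_eq, ← MulAction.index_stabilizer, hst, hn]
      exact Nat.modEq_zero_iff_dvd.mpr (pow_dvd_pow p hk)
  exact Nat.ModEq.sum (fun ω _ => key ω)

/-- Brodkey: with abelian Sylow subgroups some two meet in the `p`-core. -/
theorem exists_inf_eq_iInf (hab : ∀ P : Sylow p G, IsMulCommutative ↥(P : Subgroup G)) :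
    ∃ P Q : Sylow p G, (P : Subgroup G) ⊓ (Q : Subgroup G) = ⨅ R : Sylow p G, (R : Subgroup G) := by
  obtain ⟨P₀⟩ : Nonempty (Sylow p G) := inferInstance
  obtain ⟨⟨P, Q⟩, hmin⟩ := Finite.exists_min
    (fun x : Sylow p G × Sylow p G => Nat.card ↥((x.1 : Subgroup G) ⊓ (x.2 : Subgroup G)))
  refine ⟨P, Q, le_antisymm (le_iInf fun R => ?_) (le_inf (iInf_le _ P) (iInf_le _ Q))⟩
  set D := (P : Subgroup G) ⊓ (Q : Subgroup G)
  set C := centralizer (D : Set G)
  have hPC : ∀ S : Sylow p G, D ≤ (S : Subgroup G) → (S : Subgroup G) ≤ C := fun S hS a ha =>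
    mem_centralizer_iff.mpr fun d hd =>
      congrArg Subtype.val ((hab S).is_comm.comm ⟨d, hS hd⟩ ⟨a, ha⟩)
  have hP' : (P : Subgroup G) ≤ C := hPC P inf_le_left
  have hQ' : (Q : Subgroup G) ≤ C := hPC Q inf_le_right
  -- a Sylow subgroup of `C` containing `R ⊓ C` is conjugate to `P` inside `C`
  obtain ⟨S, hS⟩ := ((R.isPGroup'.to_le (inf_le_left : (R : Subgroup G) ⊓ C ≤ R)).comap_subtype
    (H := ((R : Subgroup G) ⊓ C)) (K := C)).exists_le_sylow
  obtain ⟨c, hc⟩ := MulAction.exists_smul_eq ↥C (P.subtype hP') S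
  have hRS : (R : Subgroup G) ⊓ C ≤ ((c : G) • P : Sylow p G) := by
    intro a ha
    have h1 : (⟨a, ha.2⟩ : C) ∈ (c • P.subtype hP' : Sylow p C) := hc ▸ hS ha
    rw [Sylow.smul_subtype] at h1
    exact h1
  have hcD : ∀ d ∈ D, MulAut.conj (c : G) d = d := fun d hd => by
    rw [MulAut.conj_apply, ← mem_centralizer_iff.mp c.2 d hd, mul_inv_cancel_right]
  have hle : ((R : Subgroup G) ⊓ (((c : G) • Q : Sylow p G) : Subgroup G)) ≤ D := by
    intro a ha
    obtain ⟨b, hb, rfl⟩ := Subgroup.mem_map.mp (show a ∈ (Q : Subgroup G).map (MulAut.conj (c : G)).toMonoidHom from ha.2)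
    have hbC : MulAut.conj (c : G) b ∈ C := by
      rw [MulAut.conj_apply]; exact C.mul_mem (C.mul_mem c.2 (hQ' hb)) (C.inv_mem c.2)
    obtain ⟨b', hb', e⟩ := Subgroup.mem_map.mp (show _ ∈ (P : Subgroup G).map (MulAut.conj (c : G)).toMonoidHom from hRS ⟨ha.1, hbC⟩)
    have : b' = b := (MulAut.conj (c : G)).injective e
    subst this
    show MulAut.conj (c : G) b' ∈ D
    rw [hcD b' ⟨hb', hb⟩]
    exact ⟨hb', hb⟩
  have := Subgroup.eq_of_le_of_card_ge hle (hmin (R, (c : G) • Q))
  exact this ▸ inf_le_left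

/-- A proper intersection of Sylow subgroups is properly contained in its normaliser's trace. -/
theorem lt_inf_normalizer (P : Sylow p G) {D : Subgroup G} (hD : D < (P : Subgroup G)) :
    D < (P : Subgroup G) ⊓ normalizer (D : Set G) := by
  have hnil : Group.IsNilpotent ↥(P : Subgroup G) := P.isPGroup'.isNilpotent
  have h1 : D.subgroupOf (P : Subgroup G) < ⊤ := by
    rw [lt_top_iff_ne_top, Ne, subgroupOf_eq_top]
    exact not_le_of_gt hD
  have h2 := normalizerCondition_of_isNilpotent _ h1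
  obtain ⟨a, ha, ha'⟩ := SetLike.exists_of_lt h2
  refine lt_of_le_of_ne (le_inf hD.le le_normalizer) fun e => ha' ?_
  rw [mem_subgroupOf]
  suffices hN : (a : G) ∈ normalizer (D : Set G) by
    have h3 : (a : G) ∈ (P : Subgroup G) ⊓ normalizer (D : Set G) := ⟨a.2, hN⟩
    rwa [← e] at h3
  refine mem_normalizer_iff.mpr fun z => ?_
  constructor
  · intro hz
    exact (mem_normalizer_iff.mp ha ⟨z, hD.le hz⟩).mp hz
  · intro hz
    have hzP : z ∈ (P : Subgroup G) := by
      have := (P : Subgroup G).mul_mem ((P : Subgroup G).mul_mem ((P : Subgroup G).inv_mem a.2) (hD.le hz)) a.2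
      simpa [mul_assoc] using this
    exact (mem_normalizer_iff.mp ha ⟨z, hzP⟩).mpr hz

/-- Properties of the normaliser of a maximal intersection. -/
theorem normalizer_max_inter (P Q : Sylow p G) (hPQ : P ≠ Q)
    (hmax : ∀ P' Q' : Sylow p G, P' ≠ Q' → Nat.card ↥((P' : Subgroup G) ⊓ (Q' : Subgroup G)) ≤
      Nat.card ↥((P : Subgroup G) ⊓ (Q : Subgroup G))) :
    let N := normalizer (((P : Subgroup G) ⊓ (Q : Subgroup G) : Subgroup G) : Set G)
    1 < Nat.card (Sylow p ↥N) ∧
    (∀ S T : Sylow p ↥N, S ≠ T → (S : Subgroup _) ⊓ (T : Subgroup _) =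
      ((P : Subgroup G) ⊓ (Q : Subgroup G)).subgroupOf N) ∧
    ∀ S : Sylow p ↥N, ∃! T : Sylow p G, (S : Subgroup _).map N.subtype ≤ (T : Subgroup G) := by
  intro N
  set D := (P : Subgroup G) ⊓ (Q : Subgroup G)
  have hDP : D < (P : Subgroup G) := by
    refine lt_of_le_of_ne inf_le_left fun e => hPQ (Sylow.ext ?_)
    exact (P.is_maximal' Q.isPGroup' (inf_eq_left.mp e)).symm
  have hDQ : D < (Q : Subgroup G) := by
    refine lt_of_le_of_ne inf_le_right fun e => hPQ (Sylow.ext ?_)
    exact Q.is_maximal' P.isPGroup' (inf_eq_right.mp e)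
  have huniq : ∀ (K : Subgroup G) (T T' : Sylow p G), D < K → K ≤ (T : Subgroup G) →
      K ≤ (T' : Subgroup G) → T = T' := by
    intro K T T' hK hT hT'
    by_contra hne
    have h1 := hmax T T' hne
    have h2 : K ≤ (T : Subgroup G) ⊓ (T' : Subgroup G) := le_inf hT hT'
    exact not_lt_of_ge (le_trans (Subgroup.card_le_of_le h2) h1) (Set.ncard_lt_ncard hK)
  have hD : (D.subgroupOf N).Normal := Subgroup.normal_in_normalizer
  have hDp : IsPGroup p ↥(D.subgroupOf N) :=
    (P.isPGroup'.to_le hDP.le).comap_subtype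
  have hbig : ∀ S : Sylow p ↥N, D < (S : Subgroup _).map N.subtype := by
    intro S
    have hle : D.subgroupOf N ≤ (S : Subgroup ↥N) := hDp.le_sylow_of_normal S
    refine lt_of_le_of_ne (fun d hd => ⟨⟨d, le_normalizer hd⟩, hle hd, rfl⟩) fun e => ?_
    have hPN := lt_inf_normalizer P hDP
    obtain ⟨S', hS'⟩ := ((P.isPGroup'.to_le (inf_le_left : (P : Subgroup G) ⊓ N ≤ P)).comap_subtype
      (K := N)).exists_le_sylow
    have h1 : Nat.card ↥((P : Subgroup G) ⊓ N) ≤ Nat.card ↥(S' : Subgroup ↥N) :=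
      (Nat.card_congr (subgroupOfEquivOfLe inf_le_right).toEquiv).symm.le.trans
        (Subgroup.card_le_of_le hS')
    rw [Nat.card_congr (Sylow.equiv S' S).toEquiv, ← Subgroup.card_map_of_injective N.subtype_injective,
      ← e] at h1
    exact not_lt_of_ge h1 (Set.ncard_lt_ncard hPN)
  refine ⟨?_, ?_, ?_⟩
  · by_contra hcard
    have hsub : Subsingleton (Sylow p ↥N) := Finite.card_le_one_iff_subsingleton.mp (not_lt.mp hcard)
    obtain ⟨S⟩ : Nonempty (Sylow p ↥N) := inferInstance
    have hall : ∀ T : Sylow p G, (T : Subgroup G) ⊓ N ≤ (S : Subgroup _).map N.subtype := by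
      intro T a ha
      obtain ⟨S', hS'⟩ := ((T.isPGroup'.to_le (inf_le_left : (T : Subgroup G) ⊓ N ≤ T)).comap_subtype
        (K := N)).exists_le_sylow
      exact ⟨⟨a, ha.2⟩, Subsingleton.elim S' S ▸ hS' ha, rfl⟩
    obtain ⟨T, hT⟩ := (S.isPGroup'.map N.subtype).exists_le_sylow
    have e1 := huniq _ T P (lt_inf_normalizer P hDP) ((hall P).trans hT) inf_le_left
    have e2 := huniq _ T Q (lt_inf_normalizer Q hDQ) ((hall Q).trans hT) inf_le_left
    exact hPQ (e1.symm.trans e2)
  · intro S S' hne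
    obtain ⟨T, hT⟩ := (S.isPGroup'.map N.subtype).exists_le_sylow
    obtain ⟨T', hT'⟩ := (S'.isPGroup'.map N.subtype).exists_le_sylow
    have hTT : T ≠ T' := by
      rintro rfl
      refine hne (Sylow.ext ?_)
      have hp' : IsPGroup p ↥((T : Subgroup G).subgroupOf N) := T.isPGroup'.comap_subtype
      have a1 : (T : Subgroup G).subgroupOf N = S := S.is_maximal' hp' fun x hx => hT ⟨x, hx, rfl⟩
      have a2 : (T : Subgroup G).subgroupOf N = S' := S'.is_maximal' hp' fun x hx => hT' ⟨x, hx, rfl⟩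
      exact a1.symm.trans a2
    have hle : D ≤ ((S : Subgroup ↥N) ⊓ S').map N.subtype := fun d hd =>
      ⟨⟨d, le_normalizer hd⟩, ⟨hDp.le_sylow_of_normal S hd, hDp.le_sylow_of_normal S' hd⟩, rfl⟩
    have hle2 : ((S : Subgroup ↥N) ⊓ S').map N.subtype ≤ (T : Subgroup G) ⊓ T' :=
      le_inf ((map_mono inf_le_left).trans hT) ((map_mono inf_le_right).trans hT')
    have he : D = ((S : Subgroup ↥N) ⊓ S').map N.subtype := Subgroup.eq_of_le_of_card_ge hle
      ((Subgroup.card_le_of_le hle2).trans (hmax T T' hTT))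
    rw [he, subgroupOf, comap_map_eq_self_of_injective N.subtype_injective]
  · intro S
    obtain ⟨T, hT⟩ := (S.isPGroup'.map N.subtype).exists_le_sylow
    exact ⟨T, hT, fun T' hT' => (huniq _ T T' (hbig S) hT hT').symm⟩

end CfsgLib.SmallGroups.SylowInter
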