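import Cfsg.Agent.Lib.SmallGroups.SimpleTools
import Cfsg.Agent.Lib.SmallGroups.CosetFixed
import Cfsg.Agent.Lib.SmallGroups.SylowInter

/-!
# Local arguments for excluding orders of simple groups
-/

set_option autoImplicit false

namespace CfsgLib.SmallGroups.LocalTools

open Subgroup CfsgLib.SmallGroups.SimpleTools CfsgLib.SmallGroups.CosetFixed

variable {G : Type*} [Group G] [Finite G]

/-- An element with `s ^ 2 = 1` is an even permutation of the cosets. -/
theorem card_fixedBy_mod_four [IsSimpleGroup G] (hG : ¬ IsMulCommutative G) (H : Subgroup G) {s : G}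
    (hs : s * s = 1) : Nat.card (MulAction.fixedBy (G ⧸ H) s) % 4 = H.index % 4 := by
  classical
  have := Fintype.ofFinite (G ⧸ H)
  set φ := MulAction.toPermHom G (G ⧸ H)
  have hsign : Equiv.Perm.sign (φ s) = 1 := by
    rcases (inferInstance : (Equiv.Perm.sign.comp φ).ker.Normal).eq_bot_or_eq_top with h | h
    · exfalso
      refine hG ⟨⟨fun a b => (MonoidHom.ker_eq_bot_iff _).mp h ?_⟩⟩
      rw [map_mul, map_mul, mul_comm]
    · exact MonoidHom.mem_ker.mp (show s ∈ (Equiv.Perm.sign.comp φ).ker from h ▸ mem_top s)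
  set σ := φ s
  have hσ : σ ^ 2 = 1 := by rw [← map_pow, pow_two, hs, map_one]
  obtain ⟨r, hr⟩ : ∃ r, σ.cycleType = Multiset.replicate r 2 := by
    by_cases h1 : σ = 1
    · exact ⟨0, by rw [h1, Equiv.Perm.cycleType_one, Multiset.replicate_zero]⟩
    · have ho : orderOf σ = 2 := orderOf_eq_prime hσ h1
      obtain ⟨n, hn⟩ := Equiv.Perm.cycleType_prime_order (ho.symm ▸ Nat.prime_two : (orderOf σ).Prime)
      exact ⟨n + 1, by rw [hn, ho]⟩
  rw [Equiv.Perm.sign_of_cycleType, hr, Multiset.sum_replicate, Multiset.card_replicate, smul_eq_mul] at hsign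
  have heven : Even r := by
    rcases Nat.even_or_odd r with h | h
    · exact h
    · exfalso
      rw [Odd.neg_one_pow (show Odd (r * 2 + r) from (Nat.even_mul.mpr (Or.inr even_two)).add_odd h)] at hsign
      exact absurd hsign (by decide)
  have hsupp : σ.support.card = r * 2 := by
    rw [← Equiv.Perm.sum_cycleType, hr, Multiset.sum_replicate, smul_eq_mul]
  have hfix : Nat.card (MulAction.fixedBy (G ⧸ H) s) + σ.support.card = H.index := by
    rw [Subgroup.index, Nat.card_eq_fintype_card (α := G ⧸ H), ← Finset.card_compl_add_card σ.support]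
    congr 1
    rw [Nat.card_coe_set_eq, ← Set.ncard_coe_finset]
    congr 1
    ext q
    simp [σ, φ, MulAction.mem_fixedBy, Equiv.Perm.mem_support]
  obtain ⟨t, rfl⟩ := heven
  omega

/-- Fixed points of an element centralising `P` on the cosets of `N(P)` form a set of size `1 mod p`. -/
theorem card_fixedBy_modEq_one {p : ℕ} [Fact p.Prime] (P : Sylow p G) (hP : Nat.card (P : Subgroup G) = p)
    {x : G} (hx : x ∈ centralizer ((P : Subgroup G) : Set G)) :
    Nat.card (MulAction.fixedBy (G ⧸ normalizer ((P : Subgroup G) : Set G)) x) % p = 1 := by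
  have hp : p.Prime := Fact.out
  set N := normalizer ((P : Subgroup G) : Set G)
  let X := MulAction.fixedBy (G ⧸ N) x
  have hcomm : ∀ u : ↥(P : Subgroup G), (u : G) * x = x * u := fun u => mem_centralizer_iff.mp hx u u.2
  let act : MulAction ↥(P : Subgroup G) X :=
    { smul := fun u c => ⟨(u : G) • c.1, by
        rw [MulAction.mem_fixedBy, ← mul_smul, ← hcomm u, mul_smul, c.2]⟩
      one_smul := fun c => Subtype.ext (one_smul G c.1)
      mul_smul := fun u v c => Subtype.ext (mul_smul (u : G) (v : G) c.1) }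
  have hmod := P.isPGroup'.card_modEq_card_fixedPoints X
  obtain ⟨y, hy⟩ : ∃ y : G, orderOf y = p ∧ y ∈ (P : Subgroup G) := by
    obtain ⟨⟨y, hyP⟩, hy⟩ := exists_prime_orderOf_dvd_card' p (dvd_of_eq hP.symm)
    exact ⟨y, by rw [← Subgroup.orderOf_coe] at hy; exact hy, hyP⟩
  have hone := card_fixedBy_eq_one P hP hy.1
  have hsub := (Nat.card_eq_one_iff_unique.mp hone).1
  have hx1 : ((1 : G) : G ⧸ N) ∈ MulAction.fixedBy (G ⧸ N) x :=
    (mem_fixedBy_coe_iff N x 1).mpr (by rw [inv_one, one_mul, mul_one]; exact centralizer_le_normalizer _ hx)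
  have hfp : Nat.card (MulAction.fixedPoints ↥(P : Subgroup G) X) = 1 := by
    refine Nat.card_eq_one_iff_unique.mpr ⟨⟨fun a b => ?_⟩, ⟨⟨⟨_, hx1⟩, fun u => Subtype.ext ?_⟩⟩⟩
    · have key : ∀ c : MulAction.fixedPoints ↥(P : Subgroup G) X, c.1.1 ∈ MulAction.fixedBy (G ⧸ N) y :=
        fun c => congrArg Subtype.val (c.2 ⟨y, hy.2⟩)
      have hab := Subsingleton.elim (⟨a.1.1, key a⟩ : MulAction.fixedBy (G ⧸ N) y) ⟨b.1.1, key b⟩
      simp only [Subtype.mk.injEq] at hab
      exact Subtype.ext (Subtype.ext hab)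
    · show (u : G) • ((1 : G) : G ⧸ N) = _
      exact (mem_fixedBy_coe_iff N u 1).mpr (by rw [inv_one, one_mul, mul_one]; exact le_normalizer u.2)
  rw [hfp] at hmod
  rw [show Nat.card X % p = 1 % p from hmod, Nat.one_mod_eq_one.mpr hp.one_lt.ne']

/-- The index of the centraliser in the normaliser of a Sylow subgroup of prime order. -/
theorem exists_e [IsSimpleGroup G] (hG : ¬ IsMulCommutative G) {p : ℕ} [Fact p.Prime] (P : Sylow p G)
    (hP : Nat.card (P : Subgroup G) = p) :
    ∃ e k : ℕ, e ≠ 1 ∧ e ∣ p - 1 ∧ Nat.card (normalizer ((P : Subgroup G) : Set G)) = e * (p * k) ∧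
      Nat.card (centralizer ((P : Subgroup G) : Set G)) = p * k := by
  have hp : p.Prime := Fact.out
  set C := centralizer ((P : Subgroup G) : Set G)
  set N := normalizer ((P : Subgroup G) : Set G)
  have hcyc : IsCyclic ↥(P : Subgroup G) := isCyclic_of_prime_card hP
  have hPC : (P : Subgroup G) ≤ C := fun a ha => mem_centralizer_iff.mpr fun b hb =>
    congrArg Subtype.val (hcyc.isMulCommutative.is_comm.comm ⟨b, hb⟩ ⟨a, ha⟩)
  obtain ⟨k, hk⟩ := Subgroup.card_dvd_of_le hPC
  rw [hP] at hk
  refine ⟨C.relIndex N, k, ?_, ?_, ?_, hk⟩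
  · intro h
    exact not_normalizer_le hG (hP ▸ card_subgroup_dvd_card _) P (relIndex_eq_one.mp h)
  · rw [relIndex, ← normalizerMonoidHom_ker, index_ker]
    refine (card_subgroup_dvd_card _).trans ?_
    rw [IsCyclic.card_mulAut, hP, Nat.totient_prime hp]
  · rw [← hk]
    have h := (C.subgroupOf N).index_mul_card
    rw [Nat.card_congr (subgroupOfEquivOfLe (centralizer_le_normalizer _)).toEquiv] at h
    exact h.symm

/-- A `q`-part of the centraliser which is normal in the normaliser. -/
theorem exists_complement {p q : ℕ} [Fact p.Prime] [Fact q.Prime] (P : Sylow p G) {j : ℕ}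
    (hP : Nat.card (P : Subgroup G) = p) (hpq : p ≠ q)
    (hC : Nat.card (centralizer ((P : Subgroup G) : Set G)) = p * q ^ j) :
    ∃ K : Subgroup G, K ≤ centralizer ((P : Subgroup G) : Set G) ∧ Nat.card K = q ^ j ∧
      normalizer ((P : Subgroup G) : Set G) ≤ normalizer (K : Set G) := by
  set C := centralizer ((P : Subgroup G) : Set G)
  have hp : p.Prime := Fact.out
  have hq : q.Prime := Fact.out
  have hqp : ¬ q ∣ p := fun h => hpq ((Nat.prime_dvd_prime_iff_eq hq hp).mp h).symm
  obtain ⟨Q⟩ : Nonempty (Sylow q ↥C) := inferInstance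
  have hQ : Nat.card (Q : Subgroup ↥C) = q ^ j := card_sylow_subgroup (by rw [hC, mul_comm]) hqp Q
  have hcyc : IsCyclic ↥(P : Subgroup G) := isCyclic_of_prime_card hP
  have hPC : (P : Subgroup G) ≤ C := fun a ha => mem_centralizer_iff.mpr fun b hb =>
    congrArg Subtype.val (hcyc.isMulCommutative.is_comm.comm ⟨b, hb⟩ ⟨a, ha⟩)
  -- `Q` is normal as `C` is generated by it and the central subgroup `P`
  have hPN : (P : Subgroup G).subgroupOf C ≤ normalizer ((Q : Subgroup ↥C) : Set ↥C) := by
    intro a ha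
    refine mem_normalizer_iff.mpr fun z => ?_
    have h1 : a * z * a⁻¹ = z := by
      rw [mul_inv_eq_iff_eq_mul]
      exact Subtype.ext (mem_centralizer_iff.mp z.2 (a : G) ha)
    rw [h1]
  have hnorm : (Q : Subgroup ↥C).Normal := by
    refine normalizer_eq_top_iff.mp (Subgroup.eq_top_of_card_eq _ (Nat.dvd_antisymm (card_subgroup_dvd_card _) ?_))
    have h1 := Subgroup.card_dvd_of_le hPN
    have h2 := Subgroup.card_dvd_of_le (le_normalizer (H := (Q : Subgroup ↥C)))
    rw [Nat.card_congr (subgroupOfEquivOfLe hPC).toEquiv, hP] at h1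
    rw [hQ] at h2
    rw [hC]
    exact (Nat.Coprime.pow_right j ((Nat.coprime_primes hp hq).mpr hpq)).mul_dvd_of_dvd_of_dvd h1 h2
  have huniq : ∀ a : ↥C, (∃ i, a ^ q ^ i = 1) → a ∈ (Q : Subgroup ↥C) := by
    rintro a ⟨i, hi⟩
    obtain ⟨k, -, hk⟩ := (Nat.dvd_prime_pow hq).mp (orderOf_dvd_of_pow_eq_one hi)
    have hpa : IsPGroup q ↥(zpowers a) := IsPGroup.of_card (n := k) (by rw [Nat.card_zpowers, hk])
    obtain ⟨R, hR⟩ := hpa.exists_le_sylow
    have := Sylow.unique_of_normal Q hnorm
    exact Subsingleton.elim R Q ▸ hR (mem_zpowers a)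
  refine ⟨(Q : Subgroup ↥C).map C.subtype, map_subtype_le _,
    (Subgroup.card_map_of_injective C.subtype_injective).trans hQ, fun g hg => ?_⟩
  refine mem_normalizer_iff_map_conj_eq.mpr (Subgroup.eq_of_le_of_card_ge ?_ ?_)
  · rintro _ ⟨_, ⟨a, ha, rfl⟩, rfl⟩
    have hmem : MulAut.conj g (a : G) ∈ C := by
      refine mem_centralizer_iff.mpr fun b hb => ?_
      have hb' : g⁻¹ * b * g ∈ (P : Subgroup G) := by
        have h1 := (mem_normalizer_iff.mp (inv_mem hg) b).mp hb
        rwa [inv_inv] at h1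
      have h1 := mem_centralizer_iff.mp a.2 _ hb'
      rw [MulAut.conj_apply]
      calc b * (g * a * g⁻¹) = g * ((g⁻¹ * b * g) * a) * g⁻¹ := by group
        _ = g * (a * (g⁻¹ * b * g)) * g⁻¹ := by rw [h1]
        _ = (g * a * g⁻¹) * b := by group
    refine ⟨⟨_, hmem⟩, huniq _ ?_, rfl⟩
    obtain ⟨i, hi⟩ := Q.isPGroup' ⟨a, ha⟩
    refine ⟨i, Subtype.ext ?_⟩
    have h1 : (a : G) ^ q ^ i = 1 := congrArg (fun t : (Q : Subgroup ↥C) => ((t : ↥C) : G)) hi
    show (MulAut.conj g (a : G)) ^ q ^ i = 1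
    rw [← map_pow, h1, map_one]
  · exact (Subgroup.card_map_of_injective (MulAut.conj g).injective).ge

/-- An element outside `N` normalising a `q`-subgroup of `N` that is not Sylow in `G`. -/
theorem exists_normalizing {q a : ℕ} [Fact q.Prime] (N S : Subgroup G) (hS : Nat.card S = q ^ a)
    (hd : q ^ (a + 1) ∣ Nat.card G) (hN : ¬ q ^ (a + 1) ∣ Nat.card N) :
    ∃ g, g ∈ normalizer (S : Set G) ∧ g ∉ N := by
  obtain ⟨K, hK, hle⟩ := Sylow.exists_subgroup_card_pow_succ hd hS
  have hq : q.Prime := Fact.out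
  obtain ⟨g, hgK, hgN⟩ := SetLike.not_le_iff_exists.mp fun h : K ≤ N => hN (hK ▸ Subgroup.card_dvd_of_le h)
  refine ⟨g, ?_, hgN⟩
  have hidx : (S.subgroupOf K).index = q := by
    have h := (S.subgroupOf K).index_mul_card
    rw [Nat.card_congr (subgroupOfEquivOfLe hle).toEquiv, hS, hK, pow_succ, mul_comm] at h
    exact Nat.eq_of_mul_eq_mul_left (pow_pos hq.pos a) h
  have hnorm : (S.subgroupOf K).Normal := by
    refine Subgroup.normal_of_index_eq_minFac_card ?_
    rw [hidx, hK, Nat.Prime.pow_minFac hq (Nat.succ_ne_zero a)]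
  exact le_normalizer_of_normal_subgroupOf (hK := hnorm) hle hgK

/-- Intersecting `K` with a conjugate gives a subgroup with a large normaliser. -/
theorem exists_large [IsSimpleGroup G] (hG : ¬ IsMulCommutative G) {p : ℕ} [Fact p.Prime] (P : Sylow p G)
    (hP : Nat.card (P : Subgroup G) = p) (K S : Subgroup G) (hKC : K ≤ centralizer ((P : Subgroup G) : Set G))
    (hKN : normalizer ((P : Subgroup G) : Set G) ≤ normalizer (K : Set G))
    (hSN : S ≤ normalizer ((P : Subgroup G) : Set G)) (hKS : K ≤ S)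
    (hgen : normalizer ((P : Subgroup G) : Set G) ≤ (P : Subgroup G) ⊔ S)
    (hcard : Nat.card S < Nat.card K * Nat.card K) {g : G} (hg : g ∈ normalizer (S : Set G))
    (hgN : g ∉ normalizer ((P : Subgroup G) : Set G)) :
    ∃ M : Subgroup G, M ≠ ⊤ ∧ (p + 1) * Nat.card (normalizer ((P : Subgroup G) : Set G)) ≤ Nat.card M := by
  set N := normalizer ((P : Subgroup G) : Set G)
  set K' := K.map (MulAut.conj g).toMonoidHom
  have hgS : S.map (MulAut.conj g).toMonoidHom = S := mem_normalizer_iff_map_conj_eq.mp hg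
  have hK'S : K' ≤ S := hgS ▸ Subgroup.map_mono hKS
  set L := K ⊓ K'
  have hne : L ≠ ⊥ := by
    intro hb
    have h := Subgroup.relIndex_inf_le (H := K) (K := K') (L := S)
    rw [show K ⊓ K' = ⊥ from hb, relIndex_bot_left] at h
    have h1 : K.relIndex S * Nat.card K = Nat.card S := by
      have := (K.subgroupOf S).index_mul_card
      rwa [Nat.card_congr (subgroupOfEquivOfLe hKS).toEquiv] at this
    have h2 : K'.relIndex S * Nat.card K = Nat.card S := by
      have := (K'.subgroupOf S).index_mul_card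
      rwa [Nat.card_congr (subgroupOfEquivOfLe hK'S).toEquiv,
        show Nat.card K' = Nat.card K from Subgroup.card_map_of_injective (MulAut.conj g).injective] at this
    nlinarith [Nat.card_pos (α := S)]
  set M := normalizer (L : Set G)
  have hSM : S ≤ M := fun s hs => by
    refine mem_normalizer_iff_map_conj_eq.mpr ?_
    show L.map (MulAut.conj s).toMonoidHom = L
    rw [Subgroup.map_inf K K' _ (MulAut.conj s).injective,
      show K.map (MulAut.conj s).toMonoidHom = K from mem_normalizer_iff_map_conj_eq.mp (hKN (hSN hs))]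
    congr 1
    have hs' : g⁻¹ * s * g ∈ S := by
      have h1 := (mem_normalizer_iff.mp (inv_mem hg) s).mp hs
      rwa [inv_inv] at h1
    have e : K.map (MulAut.conj (g⁻¹ * s * g)).toMonoidHom = K :=
      mem_normalizer_iff_map_conj_eq.mp (hKN (hSN hs'))
    conv_rhs => rw [show K' = K.map (MulAut.conj g).toMonoidHom from rfl, ← e]
    rw [Subgroup.map_map, Subgroup.map_map]
    congr 1
    ext z
    simp [MulAut.conj_apply, mul_assoc]
  have hcen : ∀ (Q : Subgroup G) (W : Subgroup G), W ≤ centralizer (Q : Set G) → L ≤ W → Q ≤ M := by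
    intro Q W hW hL a ha
    refine centralizer_le_normalizer _ (mem_centralizer_iff.mpr fun l hl => ?_)
    exact (mem_centralizer_iff.mp (hW (hL hl)) a ha).symm
  have hPM : (P : Subgroup G) ≤ M := hcen _ K hKC inf_le_left
  have hP'M : ((g • P : Sylow p G) : Subgroup G) ≤ M := by
    refine hcen _ K' ?_ inf_le_right
    rintro _ ⟨k, hk, rfl⟩
    refine mem_centralizer_iff.mpr ?_
    rintro _ ⟨b, hb, rfl⟩
    show (MulAut.conj g) b * (MulAut.conj g) k = (MulAut.conj g) k * (MulAut.conj g) b
    rw [← map_mul, ← map_mul, mem_centralizer_iff.mp (hKC hk) b hb]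
  have hNM : N ≤ M := hgen.trans (sup_le hPM hSM)
  have hne' : g • P ≠ P := fun e => hgN (Sylow.smul_eq_iff_mem_normalizer.mp e)
  refine ⟨M, fun e => ?_, ?_⟩
  · rcases (normalizer_eq_top_iff.mp e).eq_bot_or_eq_top with hb | hb
    · exact hne hb
    · have hPtop : K ≤ centralizer ((P : Subgroup G) : Set G) := hKC
      have hall : (⊤ : Subgroup G) ≤ centralizer ((P : Subgroup G) : Set G) :=
        (hb.ge.trans inf_le_left).trans hKC
      exact normalizer_ne_top hG (hP ▸ card_subgroup_dvd_card _) P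
        (eq_top_iff.mpr (hall.trans (centralizer_le_normalizer _)))
  · have hpne : Nat.card (Sylow p ↥M) ≠ 1 := by
      intro h1
      have : Subsingleton (Sylow p ↥M) := Finite.card_le_one_iff_subsingleton.mp h1.le
      exact hne' (Sylow.subtype_injective (Subsingleton.elim ((g • P).subtype hP'M) (P.subtype hPM)))
    have hge : p + 1 ≤ Nat.card (Sylow p ↥M) := by
      have hmod : Nat.card (Sylow p ↥M) % p = 1 := by
        rw [card_sylow_modEq_one p ↥M, Nat.mod_eq_of_lt (Fact.out : p.Prime).one_lt]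
      have := Nat.div_add_mod (Nat.card (Sylow p ↥M)) p
      rcases Nat.eq_zero_or_pos (Nat.card (Sylow p ↥M) / p) with h0 | h0
      · rw [h0, hmod] at this; omega
      · nlinarith
    rw [← card_normalizer_mul (P.subtype hPM)]
    refine Nat.mul_le_mul hge ?_
    rw [← Subgroup.card_map_of_injective M.subtype_injective]
    refine Subgroup.card_le_of_le ?_
    intro x hx
    refine ⟨⟨x, hNM hx⟩, ?_, rfl⟩
    refine mem_normalizer_iff.mpr fun z => ?_
    exact mem_normalizer_iff.mp hx (z : G)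

theorem index_mul_le [IsSimpleGroup G] {n b : ℕ} (hbound : ∀ H : Subgroup G, H ≠ ⊤ → b ≤ H.index)
    (hG : Nat.card G = n) {M : Subgroup G} (hM : M ≠ ⊤) : b * Nat.card M ≤ n := by
  rw [← hG, ← M.index_mul_card]
  exact Nat.mul_le_mul_right _ (hbound M hM)

end CfsgLib.SmallGroups.LocalTools
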