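import Cfsg.Agent.Lib.Char.Orth
import Cfsg.Agent.Lib.Char.Induced
import Cfsg.Agent.Lib.Char.Linear
import Cfsg.Agent.Lib.Char.ClassSum
import Cfsg.Agent.Lib.Char.Integral
import Cfsg.Agent.Lib.SmallGroups.LocalTools

/-!
# Exceptional characters for a self-centralising subgroup of prime order, inverted by its normaliser
-/

set_option autoImplicit false

open scoped BigOperators
open scoped ComplexConjugate

namespace CfsgLib.SmallGroups.SelfInverse

open Cfsg CfsgLib.Char

universe u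

variable {G : Type u} [Group G] [Fintype G] {p : ℕ} [Fact p.Prime]

/-- The hypothesis: `P` has order `p`, is self-centralising and has index two in its normaliser. -/
structure Hyp (P : Sylow p G) : Prop where
  card : Nat.card (P : Subgroup G) = p
  cent : Subgroup.centralizer ((P : Subgroup G) : Set G) = P
  norm : Nat.card (Subgroup.normalizer ((P : Subgroup G) : Set G)) = 2 * p

variable {P : Sylow p G}

theorem Hyp.conj_eq (h : Hyp P) {g : G} (hg : g ∈ (P : Subgroup G)) {x : G}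
    (hx : x ∈ Subgroup.normalizer ((P : Subgroup G) : Set G)) :
    x * g * x⁻¹ = g ∨ x * g * x⁻¹ = g⁻¹ := by
  classical
  by_cases h1 : g = 1
  · left; rw [h1, mul_one, mul_inv_cancel]
  have hp : p.Prime := Fact.out
  have ho : orderOf g = p := by
    have hd : orderOf g ∣ p := ((P : Subgroup G).orderOf_dvd_natCard hg).trans (dvd_of_eq h.card)
    exact ((Nat.dvd_prime hp).mp hd).resolve_left (orderOf_eq_one_iff.not.mpr h1)
  have hz : Subgroup.zpowers g = P :=
    Subgroup.eq_of_le_of_card_ge (Subgroup.zpowers_le.mpr hg) (by rw [h.card, Nat.card_zpowers, ho])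
  have hmem : x * g * x⁻¹ ∈ Subgroup.zpowers g := hz.symm ▸ (Subgroup.mem_normalizer_iff.mp hx g).mp hg
  rw [mem_zpowers_iff_mem_range_orderOf, ho] at hmem
  obtain ⟨i, hi, hi'⟩ := Finset.mem_image.mp hmem
  have hsq : ∀ b ∈ (P : Subgroup G), x * (x * b * x⁻¹) * x⁻¹ = b := by
    intro b hb
    set φ := Subgroup.normalizerMonoidHom (P : Subgroup G)
    have hr : Nat.card φ.range ∣ 2 := by
      rw [← Subgroup.index_ker, Subgroup.normalizerMonoidHom_ker]
      have hm := ((Subgroup.centralizer ((P : Subgroup G) : Set G)).subgroupOf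
        (Subgroup.normalizer ((P : Subgroup G) : Set G))).index_mul_card
      rw [Nat.card_congr (Subgroup.subgroupOfEquivOfLe (Subgroup.centralizer_le_normalizer _)).toEquiv,
        h.norm] at hm
      rw [show Nat.card ↥(Subgroup.centralizer ((P : Subgroup G) : Set G)) = p by rw [h.cent, h.card]] at hm
      exact dvd_of_eq (Nat.eq_of_mul_eq_mul_right hp.pos hm)
    have h2 : (φ ⟨x, hx⟩) ^ 2 = 1 := by
      have h' : (⟨φ ⟨x, hx⟩, ⟨_, rfl⟩⟩ : φ.range) ^ 2 = 1 :=
        orderOf_dvd_iff_pow_eq_one.mp ((orderOf_dvd_natCard _).trans hr)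
      exact congrArg Subtype.val h'
    have h3 := congrArg (fun σ : MulAut ↥(P : Subgroup G) => ((σ ⟨b, hb⟩ : ↥(P : Subgroup G)) : G)) h2
    rw [pow_two] at h3
    exact h3
  have hii : g ^ (i * i) = g := by
    rw [pow_mul]
    calc (g ^ i) ^ i = (x * g * x⁻¹) ^ i := by rw [← hi']
      _ = x * g ^ i * x⁻¹ := conj_pow
      _ = x * (x * g * x⁻¹) * x⁻¹ := by rw [← hi']
      _ = g := hsq g hg
  have hmod : i * i ≡ 1 [MOD p] := ho ▸ pow_eq_pow_iff_modEq.mp (hii.trans (pow_one g).symm)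
  have hz2 : ((i : ZMod p)) * i = 1 := by
    have := (ZMod.natCast_eq_natCast_iff _ _ _).mpr hmod
    push_cast at this
    exact this
  rcases mul_self_eq_one_iff.mp hz2 with e | e
  · left
    rw [← hi']
    refine (pow_eq_pow_iff_modEq.mpr ?_).trans (pow_one g)
    rw [ho]
    exact (ZMod.natCast_eq_natCast_iff _ _ _).mp (by push_cast; exact e)
  · right
    rw [← hi']
    refine eq_inv_of_mul_eq_one_left ?_
    rw [← pow_succ, ← orderOf_dvd_iff_pow_eq_one, ho, ← ZMod.natCast_eq_zero_iff]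
    push_cast
    rw [e]; ring

variable [Fintype ↥(P : Subgroup G)]

/-- Restriction of a function induced from `P` and vanishing at the identity. -/
theorem Hyp.indFun_apply (h : Hyp P) (f : ↥(P : Subgroup G) → ℂ) (hf : f 1 = 0)
    (g : ↥(P : Subgroup G)) : Cfsg.indFun (P : Subgroup G) f g = f g + f g⁻¹ := by
  classical
  have hp : p.Prime := Fact.out
  rw [indFun_def]
  by_cases hg1 : g = 1
  · subst hg1
    rw [inv_one, hf, add_zero, Finset.sum_eq_zero, mul_zero]
    intro x _
    rw [OneMemClass.coe_one, mul_one, inv_mul_cancel, ← OneMemClass.coe_one (P : Subgroup G),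
      extendByZero_coe, hf]
  set N := Subgroup.normalizer ((P : Subgroup G) : Set G)
  have hgo : (g : G) ≠ 1 := fun e => hg1 (Subtype.ext e)
  have ho : orderOf (g : G) = p := by
    have hd : orderOf (g : G) ∣ p :=
      ((P : Subgroup G).orderOf_dvd_natCard g.2).trans (dvd_of_eq h.card)
    exact ((Nat.dvd_prime hp).mp hd).resolve_left (orderOf_eq_one_iff.not.mpr hgo)
  have hz : Subgroup.zpowers (g : G) = P :=
    Subgroup.eq_of_le_of_card_ge (Subgroup.zpowers_le.mpr g.2) (by rw [h.card, Nat.card_zpowers, ho])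
  have hterm : ∀ x : G, Cfsg.extendByZero (P : Subgroup G) f (x⁻¹ * (g : G) * x) =
      if x ∈ N then (if x ∈ (P : Subgroup G) then f g else f g⁻¹) else 0 := by
    intro x
    by_cases hx : x ∈ N
    · rw [if_pos hx]
      by_cases hxP : x ∈ (P : Subgroup G)
      · rw [if_pos hxP]
        have hc : (g : G) * x = x * g := Subgroup.mem_centralizer_iff.mp
          (show x ∈ Subgroup.centralizer ((P : Subgroup G) : Set G) from h.cent.symm ▸ hxP) g g.2
        rw [mul_assoc, hc, inv_mul_cancel_left, extendByZero_coe]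
      · rw [if_neg hxP]
        rcases h.conj_eq g.2 (N.inv_mem hx) with e | e
        · exfalso
          apply hxP
          rw [← h.cent]
          refine Subgroup.mem_centralizer_iff.mpr fun b hb => ?_
          rw [← hz] at hb
          obtain ⟨k, rfl⟩ := Subgroup.mem_zpowers_iff.mp hb
          have hc : Commute (g : G) x := by
            rw [inv_inv] at e
            calc (g : G) * x = x * (x⁻¹ * g * x) := by group
              _ = x * g := by rw [e]
          exact (hc.zpow_left k).eq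
        · rw [inv_inv] at e
          rw [e, ← Subgroup.coe_inv, extendByZero_coe]
    · rw [if_neg hx]
      refine extendByZero_apply_notMem _ _ fun hmem => hx ?_
      refine Subgroup.inv_mem_iff _ |>.mp ?_
      refine Subgroup.mem_normalizer_iff_map_conj_eq.mpr (Subgroup.eq_of_le_of_card_ge ?_ ?_)
      · change (P : Subgroup G).map (MulAut.conj x⁻¹).toMonoidHom ≤ (P : Subgroup G)
        rw [show ((P : Subgroup G)).map (MulAut.conj x⁻¹).toMonoidHom =
          (Subgroup.zpowers (g : G)).map (MulAut.conj x⁻¹).toMonoidHom by rw [hz], MonoidHom.map_zpowers,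
          Subgroup.zpowers_le]
        simpa [MulAut.conj_apply] using hmem
      · exact (Subgroup.card_map_of_injective (MulAut.conj x⁻¹).injective).ge
  rw [Finset.sum_congr rfl fun x _ => hterm x]
  simp only [← Finset.sum_filter, Finset.sum_ite, Finset.sum_const, Finset.filter_filter, nsmul_eq_mul]
  have h1 : (Finset.univ.filter fun x => x ∈ N ∧ x ∈ (P : Subgroup G)).card = p := by
    have e : (Finset.univ.filter fun x => x ∈ N ∧ x ∈ (P : Subgroup G)) =
        Finset.univ.filter fun x => x ∈ (P : Subgroup G) := by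
      ext x
      simp only [Finset.mem_filter, Finset.mem_univ, true_and]
      exact ⟨And.right, fun hx => ⟨Subgroup.le_normalizer hx, hx⟩⟩
    rw [e, ← Fintype.card_subtype, ← Nat.card_eq_fintype_card]
    exact h.card
  have h2 : (Finset.univ.filter fun x => x ∈ N ∧ x ∉ (P : Subgroup G)).card = p := by
    have hs := Finset.card_filter_add_card_filter_not
      (s := Finset.univ.filter fun x => x ∈ N) (fun x => x ∈ (P : Subgroup G))
    have hN : (Finset.univ.filter fun x => x ∈ N).card = 2 * p := by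
      rw [← Fintype.card_subtype, ← Nat.card_eq_fintype_card]
      exact h.norm
    rw [Finset.filter_filter, Finset.filter_filter, h1, hN] at hs
    omega
  rw [h1, h2, h.card]
  have : (p : ℂ) ≠ 0 := Nat.cast_ne_zero.mpr hp.ne_zero
  field_simp

/-- A linear character of `P` of order `p`. -/
theorem Hyp.exists_hom (h : Hyp P) : ∃ l : ↥(P : Subgroup G) →* ℂˣ, ∃ y : ↥(P : Subgroup G),
    orderOf (l y) = p := by
  have hp : p.Prime := Fact.out
  have : IsCyclic ↥(P : Subgroup G) := isCyclic_of_prime_card h.card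
  letI : CommGroup ↥(P : Subgroup G) := IsCyclic.commGroup
  obtain ⟨y, hy⟩ := exists_prime_orderOf_dvd_card' p (dvd_of_eq h.card.symm)
  obtain ⟨φ, hφ⟩ := CommGroup.exists_apply_ne_one_of_hasEnoughRootsOfUnity ↥(P : Subgroup G) ℂ
    (fun e => hp.one_lt.ne (by rw [← hy, e, orderOf_one]) : y ≠ 1)
  refine ⟨φ, y, ((Nat.dvd_prime hp).mp ((orderOf_map_dvd φ y).trans (dvd_of_eq hy))).resolve_left ?_⟩
  exact orderOf_eq_one_iff.not.mpr hφ

noncomputable def pw (l : ↥(P : Subgroup G) →* ℂˣ) (a : ℕ) : ↥(P : Subgroup G) → ℂ := fun g => ((l g) ^ a : ℂˣ)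

theorem pw_inner (h : Hyp P) (l : ↥(P : Subgroup G) →* ℂˣ) {y : ↥(P : Subgroup G)} (hy : orderOf (l y) = p) (a b : ℕ) :
    Cfsg.classInner (pw l a) (pw l b) = if a % p = b % p then 1 else 0 := by
  classical
  have e : ∀ n : ℕ, pw l n = fun g => (((l ^ n) g : ℂˣ) : ℂ) := fun n => funext fun g => by
    rw [MonoidHom.pow_apply]; rfl
  rw [e a, e b, classInner_irr (isIrrCharacter_hom _) (isIrrCharacter_hom _)]
  congr 1
  rw [eq_iff_iff]
  constructor
  · intro he
    have h1 : (l y) ^ a = (l y) ^ b := Units.ext (congrFun he y)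
    rw [pow_eq_pow_iff_modEq, hy] at h1
    exact h1
  · intro hm
    funext g
    congr 1
    rw [MonoidHom.pow_apply, MonoidHom.pow_apply, pow_eq_pow_iff_modEq]
    exact Nat.ModEq.of_dvd ((orderOf_map_dvd l g).trans ((orderOf_dvd_natCard g).trans (dvd_of_eq h.card))) hm

/-- A `±1` vector of norm two. -/
theorem exists_pair {ι : Type*} [Fintype ι] (n : ι → ℤ) (h : ∑ x, n x * n x = 2) :
    ∃ A B : ι, A ≠ B ∧ (n A = 1 ∨ n A = -1) ∧ (n B = 1 ∨ n B = -1) ∧ ∀ x, x ≠ A → x ≠ B → n x = 0 := by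
  classical
  have hle : ∀ x, n x * n x ≤ 2 := fun x => h ▸
    Finset.single_le_sum (f := fun x => n x * n x) (fun i _ => mul_self_nonneg _) (Finset.mem_univ x)
  have hval : ∀ x, n x = 0 ∨ n x = 1 ∨ n x = -1 := fun x => by
    have h1 : n x ≤ 1 := by nlinarith [hle x]
    have h2 : -1 ≤ n x := by nlinarith [hle x]
    omega
  have hsq : ∀ x, n x * n x = if n x = 0 then 0 else 1 := fun x => by
    rcases hval x with e | e | e <;> simp [e]
  rw [Finset.sum_congr rfl fun x _ => hsq x, Finset.sum_ite, Finset.sum_const_zero, zero_add,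
    Finset.sum_const, nsmul_eq_mul, mul_one] at h
  obtain ⟨A, B, hAB, e⟩ := Finset.card_eq_two.mp (by exact_mod_cast h :
    (Finset.univ.filter fun x => ¬ n x = 0).card = 2)
  have hA : A ∈ Finset.univ.filter fun x => ¬ n x = 0 := e ▸ by simp
  have hB : B ∈ Finset.univ.filter fun x => ¬ n x = 0 := e ▸ by simp
  refine ⟨A, B, hAB, (hval A).resolve_left (Finset.mem_filter.mp hA).2,
    (hval B).resolve_left (Finset.mem_filter.mp hB).2, fun x hxA hxB => ?_⟩
  by_contra hx
  have : x ∈ ({A, B} : Finset ι) := e ▸ Finset.mem_filter.mpr ⟨Finset.mem_univ x, hx⟩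
  simp [hxA, hxB] at this

/-- Three norm-two vectors of degree `-1` with mutual products one have a common constituent. -/
theorem exists_common {ι : Type*} [Fintype ι] (deg : ι → ℤ) (n₁ n₂ n₃ : ι → ℤ)
    (h11 : ∑ x, n₁ x * n₁ x = 2) (h22 : ∑ x, n₂ x * n₂ x = 2) (h33 : ∑ x, n₃ x * n₃ x = 2)
    (h12 : ∑ x, n₁ x * n₂ x = 1) (h13 : ∑ x, n₁ x * n₃ x = 1) (h23 : ∑ x, n₂ x * n₃ x = 1)
    (d1 : ∑ x, n₁ x * deg x = -1) (d2 : ∑ x, n₂ x * deg x = -1) (d3 : ∑ x, n₃ x * deg x = -1) :
    ∃ χ, (n₁ χ = 1 ∨ n₁ χ = -1) ∧ n₂ χ = n₁ χ ∧ n₃ χ = n₁ χ := by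
  classical
  obtain ⟨A, B, hAB, hA, hB, h0⟩ := exists_pair n₁ h11
  have hsum : ∀ v : ι → ℤ, ∑ x, n₁ x * v x = n₁ A * v A + n₁ B * v B := fun v => by
    rw [← Finset.sum_pair hAB (f := fun x => n₁ x * v x)]
    refine (Finset.sum_subset (Finset.subset_univ _) fun x _ hx => ?_).symm
    simp only [Finset.mem_insert, Finset.mem_singleton, not_or] at hx
    rw [h0 x hx.1 hx.2, zero_mul]
  have hone : ∀ v : ι → ℤ, ∑ x, v x * v x = 2 → ∑ x, n₁ x * v x = 1 →
      (v A = n₁ A ∧ v B = 0) ∨ (v A = 0 ∧ v B = n₁ B) := by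
    intro v hv hp
    rw [hsum] at hp
    obtain ⟨C, D, -, hC, hD, hv0⟩ := exists_pair v hv
    have hval : ∀ x, v x = 0 ∨ v x = 1 ∨ v x = -1 := fun x => by
      by_cases h1 : x = C
      · subst h1; exact Or.inr hC
      by_cases h2 : x = D
      · subst h2; exact Or.inr hD
      exact Or.inl (hv0 x h1 h2)
    rcases hA with a | a <;> rcases hB with b | b <;> rcases hval A with c | c | c <;>
      rcases hval B with d | d | d <;> simp [a, b, c, d] at hp ⊢
  have third : ∀ (v : ι → ℤ) (A' B' : ι), ∑ x, v x * v x = 2 → (v A' = 1 ∨ v A' = -1) → v B' = 0 →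
      ∃ C, C ≠ A' ∧ C ≠ B' ∧ (v C = 1 ∨ v C = -1) ∧ ∀ f : ι → ℤ, ∑ x, v x * f x = v A' * f A' + v C * f C := by
    intro v A' B' hv hA' hB'
    obtain ⟨C, D, hCD, hC, hD, hv0⟩ := exists_pair v hv
    have hne : v A' ≠ 0 := by rcases hA' with e | e <;> rw [e] <;> norm_num
    have key : ∀ f : ι → ℤ, ∑ x, v x * f x = v C * f C + v D * f D := fun f => by
      rw [← Finset.sum_pair hCD (f := fun x => v x * f x)]
      refine (Finset.sum_subset (Finset.subset_univ _) fun x _ hx => ?_).symm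
      simp only [Finset.mem_insert, Finset.mem_singleton, not_or] at hx
      rw [hv0 x hx.1 hx.2, zero_mul]
    by_cases hAC : A' = C
    · subst hAC
      exact ⟨D, hCD.symm, fun e => by subst e; omega, hD, key⟩
    · have hAD : A' = D := by by_contra hh; exact hne (hv0 A' hAC hh)
      subst hAD
      exact ⟨C, hCD, fun e => by subst e; omega, hC, fun f => by rw [key f, add_comm]⟩
  have hA0 : n₁ A ≠ 0 := by rcases hA with e | e <;> rw [e] <;> norm_num
  have hB0 : n₁ B ≠ 0 := by rcases hB with e | e <;> rw [e] <;> norm_num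
  have hdeg1 : n₁ A * deg A + n₁ B * deg B = -1 := (hsum deg).symm.trans d1
  have triangle : ∀ v w : ι → ℤ, ∑ x, v x * v x = 2 → ∑ x, w x * w x = 2 → ∑ x, v x * w x = 1 →
      ∑ x, v x * deg x = -1 → ∑ x, w x * deg x = -1 →
      v A = n₁ A → v B = 0 → w A = 0 → w B = n₁ B → False := by
    intro v w hv hw hvw dv dw vA vB wA wB
    obtain ⟨C, hCA, hCB, hC, ev⟩ := third v A B hv (vA ▸ hA) vB
    obtain ⟨E, hEB, hEA, hE, ew⟩ := third w B A hw (wB ▸ hB) wA
    rw [ev, wA, mul_zero, zero_add] at hvw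
    have hwC : w C ≠ 0 := fun e => by rw [e, mul_zero] at hvw; norm_num at hvw
    have hCE : C = E := by
      by_contra hh
      obtain ⟨X, Y, -, -, -, hw0⟩ := exists_pair w hw
      have m : ∀ x, w x ≠ 0 → x = X ∨ x = Y := fun x hx => by
        by_contra hh'; push Not at hh'; exact hx (hw0 x hh'.1 hh'.2)
      have hB' := m B (wB ▸ hB0)
      have hE' := m E (by rcases hE with e | e <;> rw [e] <;> norm_num)
      have hC' := m C hwC
      rcases hB' with r | r <;> rcases hE' with r' | r' <;> rcases hC' with r'' | r'' <;>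
        first
          | exact hEB (r'.trans r.symm)
          | exact hCB (r''.trans r.symm)
          | exact hh (r''.trans r'.symm)
    subst hCE
    have hww : w C = v C := by
      rcases hC with c | c <;> rcases hE with e | e <;> rw [c, e] at hvw ⊢ <;> norm_num at hvw
    rw [ev, vA] at dv
    rw [ew, wB, hww] at dw
    omega
  rcases hone n₂ h22 h12 with ⟨a2, b2⟩ | ⟨a2, b2⟩ <;> rcases hone n₃ h33 h13 with ⟨a3, b3⟩ | ⟨a3, b3⟩
  · exact ⟨A, hA, a2, a3⟩
  · exact (triangle n₂ n₃ h22 h33 h23 d2 d3 a2 b2 a3 b3).elim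
  · refine (triangle n₃ n₂ h33 h22 ?_ d3 d2 a3 b3 a2 b2).elim
    simpa only [mul_comm] using h23
  · exact ⟨B, hB, b2, b3⟩

theorem pw_inv (h : Hyp P) (l : ↥(P : Subgroup G) →* ℂˣ) {a : ℕ} (ha : a ≤ p) (g : ↥(P : Subgroup G)) :
    pw l a g⁻¹ = pw l (p - a) g := by
  show (((l g⁻¹) ^ a : ℂˣ) : ℂ) = (((l g) ^ (p - a) : ℂˣ) : ℂ)
  congr 1
  rw [map_inv, inv_pow]
  refine inv_eq_of_mul_eq_one_right ?_
  rw [← pow_add, show a + (p - a) = p by omega, ← orderOf_dvd_iff_pow_eq_one]
  exact (orderOf_map_dvd l g).trans ((orderOf_dvd_natCard g).trans (dvd_of_eq h.card))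

/-- The generalised character `Ind (1 - l^a) - 1`. -/
noncomputable def psi (P : Sylow p G) [Fintype ↥(P : Subgroup G)] (l : ↥(P : Subgroup G) →* ℂˣ) (a : ℕ) : G → ℂ :=
  Cfsg.indFun (P : Subgroup G) (pw l 0 - pw l a) - fun _ => 1

theorem Hyp.psi_gen (l : ↥(P : Subgroup G) →* ℂˣ) (a : ℕ) : Cfsg.IsGeneralizedCharacter G (psi P l a) := by
  have e : ∀ n : ℕ, pw l n = fun g => (((l ^ n) g : ℂˣ) : ℂ) := fun n => funext fun g => by
    rw [MonoidHom.pow_apply]; rfl
  have h1 : Cfsg.IsCharacter G (Cfsg.indFun (P : Subgroup G) (pw l 0)) :=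
    IsCharacter.indFun _ (e 0 ▸ isCharacter_hom _)
  have h2 : Cfsg.IsCharacter G (Cfsg.indFun (P : Subgroup G) (pw l a)) :=
    IsCharacter.indFun _ (e a ▸ isCharacter_hom _)
  refine ⟨_, _, h1, IsCharacter.add h2 isCharacter_one, ?_⟩
  rw [psi, indFun_sub, sub_sub]

theorem Hyp.inner_ind (h : Hyp P) (l : ↥(P : Subgroup G) →* ℂˣ) {y : ↥(P : Subgroup G)}
    (hy : orderOf (l y) = p) {a b : ℕ} (ha : 1 ≤ a) (ha' : a < p) (hb : 1 ≤ b) (hb' : b < p) :
    Cfsg.classInner (psi P l a) (psi P l b) =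
      1 + (if a = b then 1 else 0) + (if a = p - b then 1 else 0) := by
  classical
  have hp : p.Prime := Fact.out
  have hf1 : ∀ n : ℕ, (pw l 0 - pw l n) 1 = 0 := fun n => by simp [pw]
  have hind : ∀ n : ℕ, Cfsg.IsClassFunction G (Cfsg.indFun (P : Subgroup G) (pw l 0 - pw l n)) :=
    fun n => indFun_isClassFunction _ _
  have hone : ∀ n : ℕ, 1 ≤ n → n < p →
      Cfsg.classInner (Cfsg.indFun (P : Subgroup G) (pw l 0 - pw l n)) (fun _ => 1) = 1 := by
    intro n hn hn'
    rw [classInner_indFun _ _ (IsIrrCharacter.isClassFunction isIrrCharacter_one),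
      show (fun g : ↥(P : Subgroup G) => (1 : ℂ)) = pw l 0 from funext fun g => by simp [pw],
      classInner_sub_left, pw_inner h l hy, pw_inner h l hy, if_pos rfl, Nat.mod_eq_of_lt hn', Nat.zero_mod,
      if_neg (by omega), sub_zero]
  have h1self : Cfsg.classInner (fun _ : G => (1 : ℂ)) (fun _ => 1) = 1 := classInner_irr_self isIrrCharacter_one
  have hone' : Cfsg.classInner (fun _ : G => (1 : ℂ)) (Cfsg.indFun (P : Subgroup G) (pw l 0 - pw l b)) = 1 := by
    rw [← classInner_conj_symm, hone b hb hb', map_one]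
  rw [psi, psi, classInner_sub_left, classInner_sub_right, classInner_sub_right, hone a ha ha', hone', h1self,
    classInner_indFun _ _ (hind b)]
  have hres : (fun g : ↥(P : Subgroup G) => Cfsg.indFun (P : Subgroup G) (pw l 0 - pw l b) (g : G)) =
      (pw l 0 + pw l 0) - (pw l b + pw l (p - b)) := by
    funext g
    rw [h.indFun_apply _ (hf1 b)]
    simp only [Pi.sub_apply, Pi.add_apply, pw_inv h l hb'.le, pw_inv h l (Nat.zero_le p)]
    have : pw l p g = pw l 0 g := by
      show (((l g) ^ p : ℂˣ) : ℂ) = (((l g) ^ 0 : ℂˣ) : ℂ)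
      rw [pow_zero, orderOf_dvd_iff_pow_eq_one.mp
        ((orderOf_map_dvd l g).trans ((orderOf_dvd_natCard g).trans (dvd_of_eq h.card)))]
    rw [Nat.sub_zero, this]
    ring
  rw [hres]
  simp only [classInner_sub_left, classInner_sub_right, classInner_add_right, pw_inner h l hy,
    Nat.zero_mod, Nat.mod_eq_of_lt ha', Nat.mod_eq_of_lt hb', Nat.mod_eq_of_lt (show p - b < p by omega)]
  rw [if_neg (show ¬ (0 : ℕ) = b by omega), if_neg (show ¬ (0 : ℕ) = p - b by omega),
    if_neg (show ¬ a = 0 by omega)]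
  simp only [if_true]
  ring

/-- An irreducible character of degree one of a perfect group is principal. -/
theorem apply_one_ne_one (hperf : commutator G = ⊤) {χ : G → ℂ} (hχ : Cfsg.IsIrrCharacter G χ)
    (hne : χ ≠ fun _ => 1) : χ 1 ≠ 1 := by
  intro h1
  obtain ⟨φ, hφ⟩ := exists_hom_of_apply_one_eq_one (IsIrrCharacter.isCharacter hχ) h1
  have hle : commutator G ≤ φ.ker := Abelianization.commutator_subset_ker φ
  apply hne
  funext g
  rw [hφ]
  have : φ g = 1 := MonoidHom.mem_ker.mp (hle (hperf ▸ Subgroup.mem_top g))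
  simp [this]

/-- The degree equation. -/
theorem degree_eq (h : Hyp P) (hp5 : 5 ≤ p) (hperf : commutator G = ⊤) :
    ∃ (χ X : G → ℂ) (b c : ℤ) (d x : ℕ), Cfsg.IsIrrCharacter G χ ∧ Cfsg.IsIrrCharacter G X ∧
      χ 1 = d ∧ X 1 = x ∧ 2 ≤ d ∧ 2 ≤ x ∧ d ∣ Nat.card G ∧ x ∣ Nat.card G ∧
      (b = 1 ∨ b = -1) ∧ (c = 1 ∨ c = -1) ∧ b * d + c * x = -1 ∧ (d : ℤ) % p = b % p ∧
      ∃ (l : ↥(P : Subgroup G) →* ℂˣ), (∃ y : ↥(P : Subgroup G), orderOf (l y) = p) ∧
        psi P l 1 = (b : ℂ) • χ + (c : ℂ) • X := by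
  classical
  have hp : p.Prime := Fact.out
  obtain ⟨l, y, hy⟩ := h.exists_hom
  have hgen := fun a => Hyp.psi_gen (P := P) l a
  choose n hn using fun (a : ℕ) (χ : Cfsg.IrrCharacter G) =>
    (isGeneralizedCharacter_iff.mp (hgen a)).2 χ χ.2
  have hexp : ∀ a, psi P l a = ∑ χ : Cfsg.IrrCharacter G, (n a χ : ℂ) • (χ : G → ℂ) := fun a => by
    conv_lhs => rw [IsClassFunction.eq_sum_irr (isGeneralizedCharacter_iff.mp (hgen a)).1]
    exact Finset.sum_congr rfl fun χ _ => by rw [hn]
  have hprod : ∀ a b, Cfsg.classInner (psi P l a) (psi P l b) = ((∑ χ, n a χ * n b χ : ℤ) : ℂ) := fun a b => by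
    rw [classInner_eq_sum_irr (isGeneralizedCharacter_iff.mp (hgen a)).1]
    push_cast
    refine Finset.sum_congr rfl fun χ _ => ?_
    have h1 : Cfsg.classInner ((χ : Cfsg.IrrCharacter G) : G → ℂ) (psi P l b) = (n b χ : ℂ) := by
      rw [← classInner_conj_symm, hn, map_intCast]
    simp only [hn, h1]
  have hip : ∀ a b, 1 ≤ a → a < p → 1 ≤ b → b < p →
      ∑ χ, n a χ * n b χ = 1 + (if a = b then 1 else 0) + (if a = p - b then 1 else 0) := by
    intro a b ha ha' hb hb'
    have := (hprod a b).symm.trans (h.inner_ind l hy ha ha' hb hb')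
    exact_mod_cast this
  have hdegc : ∀ χ : Cfsg.IrrCharacter G, ∃ d : ℕ, (χ : G → ℂ) 1 = d := fun χ =>
    let ⟨d, _, hd⟩ := IsIrrCharacter.apply_one_eq χ.2
    ⟨d, hd⟩
  choose deg hdeg using hdegc
  have hpsi1 : ∀ a, psi P l a 1 = -1 := fun a => by
    rw [psi, Pi.sub_apply, indFun_one]
    simp [pw]
  have hd : ∀ a, ∑ χ, n a χ * (deg χ : ℤ) = -1 := fun a => by
    have h1 := congrFun (hexp a) 1
    rw [hpsi1, Finset.sum_apply] at h1
    simp only [Pi.smul_apply, smul_eq_mul, hdeg] at h1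
    exact_mod_cast h1.symm
  have hself : ∀ a, 1 ≤ a → a < p → ∑ χ, n a χ * n a χ = 2 := fun a ha ha' => by
    rw [hip a a ha ha' ha ha', if_pos rfl, if_neg (fun e => by
      rcases hp.eq_two_or_odd with e2 | e2 <;> omega)]
    norm_num
  have h12 : ∑ χ, n 1 χ * n 2 χ = 1 := by
    rw [hip 1 2 le_rfl (by omega) (by omega) (by omega), if_neg (by omega), if_neg (by omega)]; norm_num
  -- the other constituents
  have hother : ∀ χ : Cfsg.IrrCharacter G, ∀ a, 1 ≤ a → a < p → n a χ ≠ 0 → ∃ X, X ≠ χ ∧ (n a X = 1 ∨ n a X = -1) ∧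
      ∀ f : Cfsg.IrrCharacter G → ℤ, ∑ ξ, n a ξ * f ξ = n a χ * f χ + n a X * f X := by
    intro χ a ha ha' hne
    obtain ⟨A, B, hAB, hA, hB, h0⟩ := exists_pair (n a) (hself a ha ha')
    have key : ∀ f : Cfsg.IrrCharacter G → ℤ, ∑ ξ, n a ξ * f ξ = n a A * f A + n a B * f B := fun f => by
      rw [← Finset.sum_pair hAB (f := fun x => n a x * f x)]
      refine (Finset.sum_subset (Finset.subset_univ _) fun x _ hx => ?_).symm
      simp only [Finset.mem_insert, Finset.mem_singleton, not_or] at hx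
      rw [h0 x hx.1 hx.2, zero_mul]
    by_cases hχA : χ = A
    · exact ⟨B, hχA ▸ hAB.symm, hB, fun f => by rw [hχA]; exact key f⟩
    · have hχB : χ = B := by by_contra hh; exact hne (h0 χ hχA hh)
      exact ⟨A, Ne.symm hχA, hA, fun f => by rw [hχB, key f, add_comm]⟩
  obtain ⟨χ, hb, hall⟩ : ∃ χ, (n 1 χ = 1 ∨ n 1 χ = -1) ∧ ∀ a, 1 ≤ a → a < p → n a χ = n 1 χ := by
    rcases eq_or_ne p 5 with hp5' | hp5'
    · have heqv : ∀ a a', 1 ≤ a → a < p → 1 ≤ a' → a' = p - a → n a = n a' := by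
        intro a a' ha ha' hb1 hb2
        funext ξ
        have h0 : ∑ x, (n a x - n a' x) * (n a x - n a' x) = 0 := by
          have hx : ∀ x, (n a x - n a' x) * (n a x - n a' x) =
              n a x * n a x + n a' x * n a' x - 2 * (n a x * n a' x) := fun x => by ring
          simp only [hx, Finset.sum_sub_distrib, Finset.sum_add_distrib, ← Finset.mul_sum]
          rw [hself a ha ha', hself a' hb1 (by omega), hip a a' ha ha' hb1 (by omega),
            if_neg (by omega), if_pos (by omega)]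
          norm_num
        have := (Finset.sum_eq_zero_iff_of_nonneg (fun x _ => mul_self_nonneg _)).mp h0 ξ (Finset.mem_univ ξ)
        rw [mul_self_eq_zero, sub_eq_zero] at this
        exact this
      obtain ⟨A, B, hAB, hA, hB, h0⟩ := exists_pair (n 1) (hself 1 le_rfl (by omega))
      have hsum2 : n 1 A * n 2 A + n 1 B * n 2 B = 1 := by
        rw [← h12, ← Finset.sum_pair hAB (f := fun x => n 1 x * n 2 x)]
        refine Finset.sum_subset (Finset.subset_univ _) fun x _ hx => ?_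
        simp only [Finset.mem_insert, Finset.mem_singleton, not_or] at hx
        rw [h0 x hx.1 hx.2, zero_mul]
      obtain ⟨C, D, -, hC, hD, hv0⟩ := exists_pair (n 2) (hself 2 (by omega) (by omega))
      have hval : ∀ x, n 2 x = 0 ∨ n 2 x = 1 ∨ n 2 x = -1 := fun x => by
        by_cases h1 : x = C
        · subst h1; exact Or.inr hC
        by_cases h2 : x = D
        · subst h2; exact Or.inr hD
        exact Or.inl (hv0 x h1 h2)
      obtain ⟨χ, hχ1, hχ2⟩ : ∃ χ, (n 1 χ = 1 ∨ n 1 χ = -1) ∧ n 2 χ = n 1 χ := by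
        by_contra hno
        push Not at hno
        have hA' := hno A hA
        have hB' := hno B hB
        rcases hA with a | a <;> rcases hB with b | b <;> rcases hval A with c | c | c <;>
          rcases hval B with d | d | d <;> rw [a, b, c, d] at hsum2 <;> omega
      refine ⟨χ, hχ1, fun a ha ha' => ?_⟩
      subst hp5'
      interval_cases a
      · rfl
      · exact hχ2
      · rw [← heqv 2 3 (by omega) (by omega) (by omega) (by omega)]; exact hχ2
      · rw [← heqv 1 4 (by omega) (by omega) (by omega) (by omega)]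
    have hp7 : 7 ≤ p := by
      have : p ≠ 6 := fun e => by rw [e] at hp; norm_num at hp
      omega
    have h13 : ∑ χ, n 1 χ * n 3 χ = 1 := by
      rw [hip 1 3 le_rfl (by omega) (by omega) (by omega), if_neg (by omega), if_neg (by omega)]; norm_num
    have h23 : ∑ χ, n 2 χ * n 3 χ = 1 := by
      rw [hip 2 3 (by omega) (by omega) (by omega) (by omega), if_neg (by omega), if_neg (by omega)]; norm_num
    obtain ⟨χ, hb, e2, e3⟩ := exists_common (fun χ => (deg χ : ℤ)) (n 1) (n 2) (n 3)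
      (hself 1 le_rfl (by omega)) (hself 2 (by omega) (by omega)) (hself 3 (by omega) (by omega))
      h12 h13 h23 (hd 1) (hd 2) (hd 3)
    refine ⟨χ, hb, ?_⟩
    set b := n 1 χ
    have hb0 : b ≠ 0 := by rcases hb with e | e <;> rw [e] <;> norm_num
    obtain ⟨X₁, hX₁, hc₁, k1⟩ := hother χ 1 le_rfl (by omega) hb0
    obtain ⟨X₂, hX₂, hc₂, k2⟩ := hother χ 2 (by omega) (by omega) (e2 ▸ hb0)
    obtain ⟨X₃, hX₃, hc₃, k3⟩ := hother χ 3 (by omega) (by omega) (e3 ▸ hb0)
    have hbb : b * b = 1 := by rcases hb with e | e <;> rw [e] <;> norm_num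
    have hX12 : n 1 X₁ * n 2 X₁ = 0 := by have := k1 (n 2); rw [h12, e2, hbb] at this; linarith
    have hX13 : n 1 X₁ * n 3 X₁ = 0 := by have := k1 (n 3); rw [h13, e3, hbb] at this; linarith
    have hX23 : n 2 X₂ * n 3 X₂ = 0 := by have := k2 (n 3); rw [h23, e2, e3, hbb] at this; linarith
    have hne : X₁ ≠ X₂ ∧ X₁ ≠ X₃ ∧ X₂ ≠ X₃ := by
      refine ⟨fun e => ?_, fun e => ?_, fun e => ?_⟩ <;> subst e
      · rcases mul_eq_zero.mp hX12 with z | z <;> omega
      · rcases mul_eq_zero.mp hX13 with z | z <;> omega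
      · rcases mul_eq_zero.mp hX23 with z | z <;> omega
    have hall : ∀ a, 1 ≤ a → a < p → n a χ = b := by
      intro a ha ha'
      obtain ⟨A, B, hAB, hA, hB, h0⟩ := exists_pair (n a) (hself a ha ha')
      have hval : ∀ ξ, n a ξ = 0 ∨ n a ξ = 1 ∨ n a ξ = -1 := fun ξ => by
        by_cases h1 : ξ = A
        · subst h1; exact Or.inr hA
        by_cases h2 : ξ = B
        · subst h2; exact Or.inr hB
        exact Or.inl (h0 ξ h1 h2)
      by_contra hneq
      have hcases : ∀ i X, 1 ≤ i → i < p → n i χ = b →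
          (∀ f : Cfsg.IrrCharacter G → ℤ, ∑ ξ, n i ξ * f ξ = n i χ * f χ + n i X * f X) →
          (n i X = 1 ∨ n i X = -1) → n a X ≠ 0 := by
        intro i X hi hi' hiχ ki hcX hzero
        have := ki (n a)
        rw [hip i a hi hi' ha ha', hiχ, hzero, mul_zero, add_zero] at this
        rcases hval χ with z | z | z <;> rcases hb with e | e <;> rw [z, e] at this <;>
          split_ifs at this <;> omega
      have m1 := hcases 1 X₁ le_rfl (by omega) rfl k1 hc₁
      have m2 := hcases 2 X₂ (by omega) (by omega) e2 k2 hc₂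
      have m3 := hcases 3 X₃ (by omega) (by omega) e3 k3 hc₃
      have mem : ∀ ξ, n a ξ ≠ 0 → ξ = A ∨ ξ = B := fun ξ hξ => by
        by_contra hh; push Not at hh; exact hξ (h0 ξ hh.1 hh.2)
      rcases mem _ m1 with r | r <;> rcases mem _ m2 with r' | r' <;> rcases mem _ m3 with r'' | r'' <;>
        first
          | exact hne.1 (r.trans r'.symm)
          | exact hne.2.1 (r.trans r''.symm)
          | exact hne.2.2 (r'.trans r''.symm)
    exact hall
  set b := n 1 χ
  have hb0 : b ≠ 0 := by rcases hb with e | e <;> rw [e] <;> norm_num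
  obtain ⟨X₁, hX₁, hc₁, k1⟩ := hother χ 1 le_rfl (by omega) hb0
  -- non-principal constituents
  have hnp : ∀ ξ : Cfsg.IrrCharacter G, n 1 ξ ≠ 0 → (ξ : G → ℂ) ≠ fun _ => 1 := by
    intro ξ hξ e
    apply hξ
    have h1 := hn 1 ξ
    rw [e, psi, classInner_sub_left, classInner_indFun _ _ (IsIrrCharacter.isClassFunction isIrrCharacter_one),
      show (fun g : ↥(P : Subgroup G) => (1 : ℂ)) = pw l 0 from funext fun g => by simp [pw],
      classInner_sub_left, pw_inner h l hy, pw_inner h l hy, if_pos rfl, if_neg (by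
        rw [Nat.zero_mod, Nat.mod_eq_of_lt (by omega : 1 < p)]; omega), sub_zero,
      classInner_irr_self isIrrCharacter_one, sub_self] at h1
    exact_mod_cast h1.symm
  have hdeg2 : ∀ ξ : Cfsg.IrrCharacter G, n 1 ξ ≠ 0 → 2 ≤ deg ξ := by
    intro ξ hξ
    have h1 := apply_one_ne_one hperf ξ.2 (hnp ξ hξ)
    have h0 := IsIrrCharacter.apply_one_ne_zero ξ.2
    rw [hdeg] at h1 h0
    have : deg ξ ≠ 1 := fun e => h1 (by rw [e, Nat.cast_one])
    have : deg ξ ≠ 0 := fun e => h0 (by rw [e, Nat.cast_zero])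
    omega
  have hc0 : n 1 X₁ ≠ 0 := by rcases hc₁ with e | e <;> rw [e] <;> norm_num
  have hdvd : ∀ ξ : Cfsg.IrrCharacter G, deg ξ ∣ Nat.card G := fun ξ => by
    obtain ⟨d, hd1, hd2⟩ : ∃ d : ℕ, (ξ : G → ℂ) 1 = d ∧ d ∣ Nat.card G :=
      IsIrrCharacter.apply_one_dvd_card ξ.2
    rw [hdeg ξ] at hd1
    rw [Nat.cast_inj.mp hd1]
    exact hd2
  -- the congruence
  have hcong : (deg χ : ℤ) % p = b % p := by
    set r : ↥(P : Subgroup G) → ℂ := fun g => (χ : G → ℂ) g
    have hr : Cfsg.IsCharacter ↥(P : Subgroup G) r :=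
      IsCharacter.restrict (IsIrrCharacter.isCharacter χ.2) _
    have e : ∀ m : ℕ, pw l m = fun g => (((l ^ m) g : ℂˣ) : ℂ) := fun m => funext fun g => by
      rw [MonoidHom.pow_apply]; rfl
    obtain ⟨m0, hm0⟩ := IsCharacter.classInner_nat (e 0 ▸ isCharacter_hom _ : Cfsg.IsCharacter _ (pw l 0)) hr
    have hma : ∀ a, 1 ≤ a → a < p → Cfsg.classInner (pw l a) r = (m0 : ℂ) - (b : ℂ) := by
      intro a ha ha'
      have h1 := hn a χ
      rw [psi, classInner_sub_left, classInner_indFun _ _ (IsIrrCharacter.isClassFunction χ.2),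
        classInner_irr_ne isIrrCharacter_one χ.2 (hnp χ hb0).symm, sub_zero, classInner_sub_left, hall a ha ha'] at h1
      rw [hm0] at h1
      linear_combination -h1
    have hsum : ∑ a ∈ Finset.range p, Cfsg.classInner (pw l a) r = (deg χ : ℂ) := by
      have hreg : ∀ g : ↥(P : Subgroup G), ∑ a ∈ Finset.range p, pw l a g = if g = 1 then (p : ℂ) else 0 := by
        intro g
        have hpw : ∀ a, pw l a g = ((l g : ℂˣ) : ℂ) ^ a := fun a => Units.val_pow_eq_pow_val _ _
        simp only [hpw]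
        by_cases hg : g = 1
        · simp [hg]
        · rw [if_neg hg]
          have hgp : orderOf g = p :=
            ((Nat.dvd_prime hp).mp ((orderOf_dvd_natCard g).trans (dvd_of_eq h.card))).resolve_left
              (orderOf_eq_one_iff.not.mpr hg)
          have hz : ((l g : ℂˣ) : ℂ) ≠ 1 := by
            intro e1
            have hl : l g = 1 := Units.ext e1
            have hzg : Subgroup.zpowers g = ⊤ := Subgroup.eq_top_of_card_eq _ (by
              rw [Nat.card_zpowers, hgp]; exact h.card.symm)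
            obtain ⟨k, hk⟩ := Subgroup.mem_zpowers_iff.mp (hzg ▸ Subgroup.mem_top y : y ∈ Subgroup.zpowers g)
            rw [← hk, map_zpow, hl, one_zpow, orderOf_one] at hy
            exact hp.one_lt.ne hy
          have hzp : ((l g : ℂˣ) : ℂ) ^ p = 1 := by
            rw [← Units.val_pow_eq_pow_val,
              orderOf_dvd_iff_pow_eq_one.mp ((orderOf_map_dvd l g).trans (dvd_of_eq hgp)), Units.val_one]
          rw [geom_sum_eq hz, hzp, sub_self, zero_div]
      rw [← classInner_sum_left, Cfsg.classInner]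
      simp only [Finset.sum_apply, hreg, ite_mul, zero_mul, Finset.sum_ite_eq', Finset.mem_univ, if_true]
      rw [h.card]
      show (p : ℂ)⁻¹ * ((p : ℂ) * conj ((χ : G → ℂ) 1)) = _
      rw [hdeg, map_natCast, inv_mul_cancel_left₀ (Nat.cast_ne_zero.mpr hp.ne_zero)]
    obtain ⟨q, hq⟩ : ∃ q, p = q + 1 := ⟨p - 1, by omega⟩
    have hs := Finset.sum_range_succ' (fun a => Cfsg.classInner (pw l a) r) q
    rw [← hq, hsum] at hs
    rw [Finset.sum_congr rfl fun a ha => hma (a + 1) (by omega)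
      (by rw [Finset.mem_range] at ha; omega), hm0, Finset.sum_const, Finset.card_range, nsmul_eq_mul] at hs
    have hz : (deg χ : ℤ) = (q : ℤ) * ((m0 : ℤ) - b) + m0 := by exact_mod_cast hs
    have hpq : (p : ℤ) = ((q + 1 : ℕ) : ℤ) := congrArg Nat.cast hq
    rw [hz, hpq, show (q : ℤ) * ((m0 : ℤ) - b) + m0 = b + ((q + 1 : ℕ) : ℤ) * ((m0 : ℤ) - b) by push_cast; ring,
      Int.add_mul_emod_self_left]
  have hdeq := k1 (fun ξ => (deg ξ : ℤ))
  rw [hd 1] at hdeq
  refine ⟨χ, X₁, b, n 1 X₁, deg χ, deg X₁, χ.2, X₁.2, hdeg χ, hdeg X₁, hdeg2 χ hb0, hdeg2 X₁ hc0,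
    hdvd χ, hdvd X₁, hb, hc₁, hdeq.symm, hcong, l, ⟨y, hy⟩, ?_⟩
  rw [hexp 1]
  have hz : ∀ ξ, ξ ≠ χ → ξ ≠ X₁ → n 1 ξ = 0 := by
    intro ξ h1 h2
    have := k1 (fun η => if η = ξ then 1 else 0)
    simpa [Ne.symm h1, Ne.symm h2] using this
  rw [← Finset.sum_subset (Finset.subset_univ {χ, X₁}), Finset.sum_pair (Ne.symm hX₁)]
  intro ξ _ hξ
  simp only [Finset.mem_insert, Finset.mem_singleton, not_or] at hξ
  rw [hz ξ hξ.1 hξ.2, Int.cast_zero, zero_smul]

/-- Character values on involutions are rational integers of absolute value at most the degree. -/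
theorem exists_int_abs_le_of_sq_one {χ : G → ℂ} (hχ : Cfsg.IsIrrCharacter G χ) {u : G} (hu : u * u = 1) :
    ∃ s : ℤ, χ u = s ∧ ∀ d : ℕ, χ 1 = d → |s| ≤ d := by
  classical
  obtain ⟨n, ρ, hρ, rfl⟩ := hχ
  obtain ⟨μ, hμ, hk⟩ := exists_eigenvalues ρ u
  have hd : orderOf u ∣ 2 := orderOf_dvd_of_pow_eq_one (by rw [pow_two, hu])
  have hsq : ∀ i, μ i = 1 ∨ μ i = -1 := fun i => by
    obtain ⟨j, hj⟩ := hd
    have : μ i ^ 2 = 1 := by rw [hj, pow_mul, hμ i, one_pow]
    exact sq_eq_one_iff.mp this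
  refine ⟨∑ i, if μ i = 1 then 1 else -1, ?_, fun d hd1 => ?_⟩
  swap
  · refine (Finset.abs_sum_le_sum_abs _ _).trans (le_of_eq ?_)
    have hn : Module.finrank ℂ (Fin n → ℂ) = d :=
      Nat.cast_injective (R := ℂ) (by rw [← Representation.char_one ρ]; exact hd1)
    rw [Finset.sum_congr rfl (g := fun _ => (1 : ℤ)) fun i _ => by split_ifs <;> norm_num]
    simp [← hn]
  have h1 := hk 1
  rw [pow_one] at h1
  rw [h1, Int.cast_sum]
  refine Finset.sum_congr rfl fun i _ => ?_
  rw [pow_one]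
  rcases hsq i with e | e <;> rw [e] <;> norm_num

/-- Character values on involutions are rational integers. -/
theorem exists_int_of_sq_one {χ : G → ℂ} (hχ : Cfsg.IsIrrCharacter G χ) {u : G} (hu : u * u = 1) :
    ∃ s : ℤ, χ u = s :=
  (exists_int_abs_le_of_sq_one hχ hu).imp fun _ h => h.1

/-- An involution inverting `P` ties the exceptional degrees to the order of its centraliser. -/
theorem involution_eq (h : Hyp P) (hp5 : 5 ≤ p) (hperf : commutator G = ⊤) {u : G} (hu : u * u = 1)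
    (huN : u ∈ Subgroup.normalizer ((P : Subgroup G) : Set G)) (huP : u ∉ (P : Subgroup G)) :
    ∃ (b c : ℤ) (d x : ℕ) (s : ℤ), 2 ≤ d ∧ 2 ≤ x ∧ d ∣ Nat.card G ∧ x ∣ Nat.card G ∧ (b = 1 ∨ b = -1) ∧
      (c = 1 ∨ c = -1) ∧ b * d + c * x = -1 ∧ (d : ℤ) % p = b % p ∧
      (p : ℤ) * ((Nat.card (Subgroup.centralizer ({u} : Set G)) : ℤ)) ^ 2 * d * (1 + b * d) =
        (Nat.card G : ℤ) * b * (d - s) ^ 2 ∧ |s| ≤ (d : ℤ) := by
  classical
  have hp : p.Prime := Fact.out
  obtain ⟨χ, X, b, c, d, x, hχ, hX, hχ1, hX1, hd2, hx2, hdd, hxd, hb, hc, heq, hcong, l, ⟨y, hy⟩, hpsi⟩ :=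
    degree_eq h hp5 hperf
  obtain ⟨s, hs, hsd⟩ := exists_int_abs_le_of_sq_one hχ hu
  refine ⟨b, c, d, x, s, hd2, hx2, hdd, hxd, hb, hc, heq, hcong, ?_, hsd d hχ1⟩
  set f : ↥(P : Subgroup G) → ℂ := pw l 0 - pw l 1
  have hf1 : f 1 = 0 := by simp [f, pw]
  have hphi : ∀ g, Cfsg.indFun (P : Subgroup G) f g = psi P l 1 g + 1 := fun g => by
    rw [psi, Pi.sub_apply, sub_add_cancel]
  have hu2 : u ≠ 1 := fun e => huP (e ▸ one_mem _)
  -- the value at the involution
  have hphiu : Cfsg.indFun (P : Subgroup G) f u = 0 := by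
    refine indFun_eq_zero_of_forall _ _ fun g hg => hu2 ?_
    have h1 : (g⁻¹ * u * g) * (g⁻¹ * u * g) = 1 := by
      calc (g⁻¹ * u * g) * (g⁻¹ * u * g) = g⁻¹ * (u * u) * g := by group
        _ = 1 := by rw [hu]; group
    have h2 : orderOf (g⁻¹ * u * g) ∣ p := ((P : Subgroup G).orderOf_dvd_natCard hg).trans (dvd_of_eq h.card)
    have h3 : orderOf (g⁻¹ * u * g) ∣ 2 := orderOf_dvd_of_pow_eq_one (by rw [pow_two, h1])
    have h4 := Nat.eq_one_of_dvd_coprimes ((Nat.coprime_primes hp Nat.prime_two).mpr (by omega)) h2 h3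
    rw [orderOf_eq_one_iff] at h4
    calc u = g * (g⁻¹ * u * g) * g⁻¹ := by group
      _ = 1 := by rw [h4]; group
  have hXu : (b : ℂ) * s + (c : ℂ) * X u = -1 := by
    have h1 := hphi u
    rw [hphiu, hpsi] at h1
    simp only [Pi.add_apply, Pi.smul_apply, smul_eq_mul, hs] at h1
    linear_combination -h1
  -- the double count
  set Cu := Subgroup.centralizer ({u} : Set G)
  have hA : ∑ k : G, Cfsg.indFun (P : Subgroup G) f (u * (k * u * k⁻¹)) =
      (Nat.card G : ℂ) * (1 + (b : ℂ) * s ^ 2 / d + (c : ℂ) * (X u) ^ 2 / x) := by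
    simp only [hphi, hpsi, Pi.add_apply, Pi.smul_apply, smul_eq_mul, Finset.sum_add_distrib, ← Finset.mul_sum,
      IsIrrCharacter.sum_mul_conjugate hχ, IsIrrCharacter.sum_mul_conjugate hX, hs, hχ1, hX1,
      Finset.sum_const, Finset.card_univ, nsmul_eq_mul, mul_one, ← Nat.card_eq_fintype_card]
    ring
  have hinv : ∀ a : ↥(P : Subgroup G), u * (a : G) * u⁻¹ = (a : G)⁻¹ := by
    intro a
    rcases h.conj_eq a.2 huN with e | e
    · by_cases ha : (a : G) = 1
      · rw [ha]; simp
      exfalso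
      apply huP
      rw [← h.cent]
      refine Subgroup.mem_centralizer_iff.mpr fun z hz => ?_
      have hzg : Subgroup.zpowers (a : G) = P := Subgroup.eq_of_le_of_card_ge (Subgroup.zpowers_le.mpr a.2) (by
        rw [h.card, Nat.card_zpowers, ((Nat.dvd_prime hp).mp (((P : Subgroup G).orderOf_dvd_natCard a.2).trans
          (dvd_of_eq h.card))).resolve_left (orderOf_eq_one_iff.not.mpr ha)])
      rw [← hzg] at hz
      obtain ⟨k, rfl⟩ := Subgroup.mem_zpowers_iff.mp hz
      exact ((show Commute u (a : G) from mul_inv_eq_iff_eq_mul.mp e).zpow_right k).eq.symm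
    · exact e
  have huinv : u⁻¹ = u := inv_eq_of_mul_eq_one_right hu
  -- conjugates of `u` inside the coset
  have hroot : ∀ a : ↥(P : Subgroup G), ∃ r : ↥(P : Subgroup G), (r : G) * u * (r : G)⁻¹ = u * a := by
    intro a
    obtain ⟨q, hq⟩ : ∃ q, p = 2 * q + 1 := ⟨p / 2, by rcases hp.eq_two_or_odd with e | e <;> omega⟩
    refine ⟨(a ^ (q + 1))⁻¹, ?_⟩
    set r : G := ((a ^ (q + 1) : ↥(P : Subgroup G)) : G)
    have hr2 : r * r = a := by
      show ((a ^ (q + 1) : ↥(P : Subgroup G)) : G) * ((a ^ (q + 1) : ↥(P : Subgroup G)) : G) = _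
      rw [← Subgroup.coe_mul, ← pow_add, show q + 1 + (q + 1) = 2 * q + 1 + 1 by omega, pow_succ,
        orderOf_dvd_iff_pow_eq_one.mp ((orderOf_dvd_natCard a).trans (dvd_of_eq (h.card.trans hq))), one_mul]
    have hru : r⁻¹ * u = u * r := by
      have h1 := hinv (a ^ (q + 1))
      calc r⁻¹ * u = u * r * u⁻¹ * u := by rw [show u * r * u⁻¹ = r⁻¹ from h1]
        _ = u * r := by rw [inv_mul_cancel_right]
    rw [Subgroup.coe_inv, inv_inv, hru, mul_assoc, hr2]
  have hcount : ∀ a : ↥(P : Subgroup G), a ≠ 1 →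
      Nat.card {w : G × G // (w.1⁻¹ * u * w.1) * (w.2 * u * w.2⁻¹) = (a : G)} =
        p * (Nat.card Cu * Nat.card Cu) := by
    intro a ha
    have hkey : ∀ v w : G, v * v = 1 → w * w = 1 → v * w = (a : G) →
        ∃ r : ↥(P : Subgroup G), v = u * r ∧ w = u * ((r * a : ↥(P : Subgroup G)) : G) := by
      intro v w hv hw hvw
      have hw' : w = v * a := by rw [← hvw, ← mul_assoc, hv, one_mul]
      have hva : v * (a : G) * v⁻¹ = (a : G)⁻¹ := by
        rw [hw', ← mul_assoc] at hw
        rw [inv_eq_of_mul_eq_one_right hv]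
        exact eq_inv_of_mul_eq_one_left hw
      have hmem : u⁻¹ * v ∈ (P : Subgroup G) := by
        rw [← h.cent]
        refine Subgroup.mem_centralizer_iff.mpr fun z hz => ?_
        have hzg : Subgroup.zpowers (a : G) = P := Subgroup.eq_of_le_of_card_ge (Subgroup.zpowers_le.mpr a.2) (by
          rw [h.card, Nat.card_zpowers, ((Nat.dvd_prime hp).mp (((P : Subgroup G).orderOf_dvd_natCard a.2).trans
            (dvd_of_eq h.card))).resolve_left (orderOf_eq_one_iff.not.mpr fun e => ha (Subtype.ext e))])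
        rw [← hzg] at hz
        obtain ⟨k, rfl⟩ := Subgroup.mem_zpowers_iff.mp hz
        refine ((show Commute (u⁻¹ * v) (a : G) from ?_).zpow_right k).eq.symm
        show u⁻¹ * v * a = a * (u⁻¹ * v)
        calc u⁻¹ * v * a = u⁻¹ * (v * a * v⁻¹) * v := by group
          _ = u⁻¹ * (u * a * u⁻¹) * v := by rw [hva, hinv a]
          _ = a * (u⁻¹ * v) := by group
      refine ⟨⟨_, hmem⟩, ?_, ?_⟩
      · show v = u * (u⁻¹ * v)
        group
      · rw [hw', Subgroup.coe_mul, ← mul_assoc]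
        show v * a = u * (u⁻¹ * v) * a
        group
    choose root hroot' using hroot
    have hsq : ∀ g : G, (g⁻¹ * u * g) * (g⁻¹ * u * g) = 1 := fun g => by
      calc (g⁻¹ * u * g) * (g⁻¹ * u * g) = g⁻¹ * (u * u) * g := by group
        _ = 1 := by rw [hu]; group
    have hsq' : ∀ g : G, (g * u * g⁻¹) * (g * u * g⁻¹) = 1 := fun g => by
      calc (g * u * g⁻¹) * (g * u * g⁻¹) = g * (u * u) * g⁻¹ := by group
        _ = 1 := by rw [hu]; group
    -- parametrise the solutions
    let F : ↥(P : Subgroup G) × Cu × Cu → {w : G × G // (w.1⁻¹ * u * w.1) * (w.2 * u * w.2⁻¹) = (a : G)} :=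
      fun t => ⟨((t.2.1 : G) * (root t.1 : G)⁻¹, (root (t.1 * a) : G) * (t.2.2 : G)), by
        have c1 : (t.2.1 : G)⁻¹ * u * (t.2.1 : G) = u := by
          rw [mul_assoc, ← Subgroup.mem_centralizer_singleton_iff.mp t.2.1.2, inv_mul_cancel_left]
        have c2 : (t.2.2 : G) * u * (t.2.2 : G)⁻¹ = u :=
          mul_inv_eq_iff_eq_mul.mpr (Subgroup.mem_centralizer_singleton_iff.mp t.2.2.2)
        calc ((t.2.1 : G) * (root t.1 : G)⁻¹)⁻¹ * u * ((t.2.1 : G) * (root t.1 : G)⁻¹) *
              ((root (t.1 * a) : G) * (t.2.2 : G) * u * ((root (t.1 * a) : G) * (t.2.2 : G))⁻¹)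
            = ((root t.1 : G) * ((t.2.1 : G)⁻¹ * u * (t.2.1 : G)) * (root t.1 : G)⁻¹) *
              ((root (t.1 * a) : G) * ((t.2.2 : G) * u * (t.2.2 : G)⁻¹) * (root (t.1 * a) : G)⁻¹) := by group
          _ = (u * t.1) * (u * (t.1 * a : ↥(P : Subgroup G))) := by rw [c1, c2, hroot', hroot']
          _ = (u * t.1 * u⁻¹) * t.1 * a := by rw [Subgroup.coe_mul, huinv]; group
          _ = a := by rw [hinv]; group⟩
    have hF : Function.Bijective F := by
      refine ⟨?_, ?_⟩
      · rintro ⟨r, ⟨c1, hc1⟩, ⟨c2, hc2⟩⟩ ⟨r', ⟨c1', hc1'⟩, ⟨c2', hc2'⟩⟩ he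
        have e1 := congrArg (fun w : {w : G × G // _} => w.1.1) he
        have e2 := congrArg (fun w : {w : G × G // _} => w.1.2) he
        simp only [F] at e1 e2
        have hr : r = r' := by
          have h1 := congrArg (fun g => g⁻¹ * u * g) e1
          skip
          have k : ∀ (q : ↥(P : Subgroup G)) (z : G), z ∈ Cu → (z * (root q : G)⁻¹)⁻¹ * u * (z * (root q : G)⁻¹) = u * q := by
            intro q z hz
            rw [← hroot' q]
            calc (z * (root q : G)⁻¹)⁻¹ * u * (z * (root q : G)⁻¹) = (root q : G) * (z⁻¹ * (u * z)) * (root q : G)⁻¹ := by group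
              _ = (root q : G) * u * (root q : G)⁻¹ := by
                rw [← Subgroup.mem_centralizer_singleton_iff.mp hz, inv_mul_cancel_left]
          rw [k r c1 hc1, k r' c1' hc1'] at h1
          exact Subtype.ext (mul_left_cancel h1)
        subst hr
        have a1 : c1 = c1' := mul_right_cancel e1
        have a2 : c2 = c2' := mul_left_cancel e2
        subst a1 a2
        rfl
      · rintro ⟨⟨g, k⟩, hgk⟩
        obtain ⟨r, hv, hw⟩ := hkey _ _ (hsq g) (hsq' k) hgk
        have m1 : g * (root r : G) ∈ Cu := by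
          refine Subgroup.mem_centralizer_singleton_iff.mpr ?_
          calc g * (root r : G) * u = g * ((root r : G) * u * (root r : G)⁻¹) * root r := by group
            _ = g * (g⁻¹ * u * g) * root r := by rw [hroot' r, ← hv]
            _ = u * (g * root r) := by group
        have m2 : (root (r * a) : G)⁻¹ * k ∈ Cu := by
          refine Subgroup.mem_centralizer_singleton_iff.mpr ?_
          calc (root (r * a) : G)⁻¹ * k * u = (root (r * a) : G)⁻¹ * (k * u * k⁻¹) * k := by group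
            _ = (root (r * a) : G)⁻¹ * ((root (r * a) : G) * u * (root (r * a) : G)⁻¹) * k := by
              rw [hw, hroot' (r * a)]
            _ = u * ((root (r * a) : G)⁻¹ * k) := by group
        refine ⟨(r, ⟨_, m1⟩, ⟨_, m2⟩), Subtype.ext ?_⟩
        simp only [F]
        rw [mul_inv_cancel_right, mul_inv_cancel_left]
    rw [← Nat.card_congr (Equiv.ofBijective F hF), Nat.card_prod, Nat.card_prod, h.card]
  have hfsum : ∑ a : ↥(P : Subgroup G), f a = (p : ℂ) := by
    have h0 := pw_inner h l hy 0 0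
    have h1 := pw_inner h l hy 1 0
    rw [if_pos rfl] at h0
    rw [if_neg (by rw [Nat.zero_mod, Nat.one_mod_eq_one.mpr hp.one_lt.ne']; norm_num)] at h1
    have hone : pw l 0 = fun _ => 1 := funext fun g => by simp [pw]
    rw [hone, Cfsg.classInner] at h0 h1
    simp only [map_one, mul_one] at h0 h1
    rw [h.card] at h0 h1
    have hp0 : (p : ℂ) ≠ 0 := Nat.cast_ne_zero.mpr hp.ne_zero
    simp only [f, Pi.sub_apply, Finset.sum_sub_distrib, hone]
    rw [mul_eq_zero, inv_eq_zero] at h1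
    rw [h1.resolve_left hp0, sub_zero]
    field_simp at h0
    exact h0
  have hB : (Nat.card G : ℂ) * ∑ k : G, Cfsg.indFun (P : Subgroup G) f (u * (k * u * k⁻¹)) =
      (Nat.card G : ℂ) * ((p : ℂ) * ((Nat.card Cu : ℂ) * (Nat.card Cu : ℂ))) := by
    have e1 : ∀ g : G, ∑ k : G, Cfsg.indFun (P : Subgroup G) f (u * (k * u * k⁻¹)) =
        ∑ k : G, Cfsg.indFun (P : Subgroup G) f ((g⁻¹ * u * g) * (k * u * k⁻¹)) := by
      intro g
      refine Fintype.sum_equiv (Equiv.mulLeft g⁻¹) _ _ fun k => ?_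
      rw [Equiv.coe_mulLeft]
      conv_lhs => rw [← indFun_isClassFunction (P : Subgroup G) f (u * (k * u * k⁻¹)) g⁻¹]
      congr 1
      group
    have e2 : ∀ z : G, Cfsg.extendByZero (P : Subgroup G) f z =
        ∑ a : ↥(P : Subgroup G), if z = (a : G) then f a else 0 := by
      intro z
      by_cases hz : z ∈ (P : Subgroup G)
      · rw [Finset.sum_eq_single (⟨z, hz⟩ : ↥(P : Subgroup G))]
        · rw [if_pos rfl, extendByZero_apply_mem _ _ hz]
        · intro a _ ha; rw [if_neg fun e => ha (Subtype.ext e.symm)]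
        · simp
      · rw [extendByZero_apply_notMem _ _ hz, Finset.sum_eq_zero]
        intro a _; rw [if_neg]; rintro rfl; exact hz a.2
    have e3 : ∀ g : G, ∑ k : G, Cfsg.indFun (P : Subgroup G) f (u * (k * u * k⁻¹)) =
        (p : ℂ)⁻¹ * ∑ z : G, ∑ k : G, ∑ a : ↥(P : Subgroup G),
          if (g * z)⁻¹ * u * (g * z) * (k * u * k⁻¹) = (a : G) then f a else 0 := by
      intro g
      rw [e1 g]
      simp only [indFun_def, h.card, e2, ← Finset.mul_sum]
      congr 1
      rw [Finset.sum_comm]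
      refine Finset.sum_congr rfl fun z _ => ?_
      refine Fintype.sum_equiv (Equiv.mulLeft z⁻¹) _ _ fun k => ?_
      refine Finset.sum_congr rfl fun a _ => if_congr (Iff.of_eq (congrArg (· = (a : G)) ?_)) rfl rfl
      simp only [Equiv.coe_mulLeft]
      group
    have e4 : ∑ k : G, Cfsg.indFun (P : Subgroup G) f (u * (k * u * k⁻¹)) =
        (p : ℂ)⁻¹ * ∑ a : ↥(P : Subgroup G), f a *
          (Nat.card {w : G × G // (w.1⁻¹ * u * w.1) * (w.2 * u * w.2⁻¹) = (a : G)} : ℂ) := by
      rw [e3 1]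
      congr 1
      simp only [one_mul]
      rw [Finset.sum_congr rfl fun z _ => Finset.sum_comm, Finset.sum_comm]
      refine Finset.sum_congr rfl fun a _ => ?_
      rw [Nat.card_eq_fintype_card, Fintype.card_subtype, ← Finset.sum_boole, Fintype.sum_prod_type, Finset.mul_sum]
      refine Finset.sum_congr rfl fun z _ => ?_
      rw [Finset.mul_sum]
      exact Finset.sum_congr rfl fun k _ => by split_ifs <;> simp
    rw [e4]
    congr 1
    have hz : ∀ a : ↥(P : Subgroup G), f a *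
        (Nat.card {w : G × G // (w.1⁻¹ * u * w.1) * (w.2 * u * w.2⁻¹) = (a : G)} : ℂ) =
        f a * ((p * (Nat.card Cu * Nat.card Cu) : ℕ) : ℂ) := by
      intro a
      by_cases ha : a = 1
      · subst ha; rw [hf1, zero_mul, zero_mul]
      · rw [hcount a ha]
    rw [Finset.sum_congr rfl fun a _ => hz a, ← Finset.sum_mul, hfsum]
    push_cast
    field_simp [Nat.cast_ne_zero.mpr hp.ne_zero]
  have hG0 : (Nat.card G : ℂ) ≠ 0 := CfsgLib.Char.card_ne_zero
  have hmain := (hA.symm.trans (mul_left_cancel₀ hG0 hB))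
  have hd0 : (d : ℂ) ≠ 0 := by exact_mod_cast (by omega : d ≠ 0)
  have hx0 : (x : ℂ) ≠ 0 := by exact_mod_cast (by omega : x ≠ 0)
  have hb2 : (b : ℂ) * b = 1 := by rcases hb with e | e <;> rw [e] <;> norm_num
  have hc2 : (c : ℂ) * c = 1 := by rcases hc with e | e <;> rw [e] <;> norm_num
  have heqC : (b : ℂ) * d + (c : ℂ) * x = -1 := by exact_mod_cast heq
  have hXv : X u = -(c : ℂ) * (1 + b * s) := by linear_combination (c : ℂ) * hXu - (X u) * hc2
  have hxv : (x : ℂ) = -(c : ℂ) * (1 + b * d) := by linear_combination (c : ℂ) * heqC - (x : ℂ) * hc2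
  have h1bd : (1 + (b : ℂ) * d) ≠ 0 := fun e => hx0 (by rw [hxv, e, mul_zero])
  have hc0 : (c : ℂ) ≠ 0 := by intro e; rw [e, mul_zero] at hc2; exact zero_ne_one hc2
  rw [hXv, hxv] at hmain
  field_simp at hmain
  have hgoal : (p : ℂ) * ((Nat.card Cu : ℂ)) ^ 2 * d * (1 + b * d) =
      (Nat.card G : ℂ) * b * ((d : ℂ) - s) ^ 2 := by
    rcases hb with e | e <;> rcases hc with e' | e' <;> subst e <;> subst e' <;>
      push_cast at hmain ⊢ <;>
      first | linear_combination hmain | linear_combination -hmain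
  exact_mod_cast hgoal

end CfsgLib.SmallGroups.SelfInverse
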