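import Cfsg.Agent.Lib.SmallGroups.CofactorTools
import Cfsg.Agent.Lib.Blocks.Basic
import Cfsg.Agent.Lib.CharDeep.DetExt
import Cfsg.Agent.Lib.Char.Orth

/-!
# Rational values of a faithful character at elements of prime order

Bounds, the determinant at an involution, and the congruences coming from a cyclic subgroup.
-/

set_option autoImplicit false

open scoped BigOperators
open scoped ComplexConjugate

namespace CfsgLib.SmallGroups.ValueTools

open Cfsg CfsgLib.Char CfsgLib.Blocks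
open scoped Classical

variable {G : Type*} [Group G] [Fintype G] [IsSimpleGroup G]

/-- A rational value away from the identity is smaller than the degree in absolute value. -/
theorem lt_degree (hG : ¬ IsMulCommutative G) {χ : IrrCharacter G} (hne : χ ≠ trivChar G) {y : G} (hy : y ≠ 1)
    {c : ℤ} (hc : (χ : G → ℂ) y = c) : c.natAbs < charDegree (χ : G → ℂ) := by
  obtain ⟨n, ρ, -, hρ⟩ := χ.2
  have hle : ‖(χ : G → ℂ) y‖ ≤ (charDegree (χ : G → ℂ) : ℝ) := by
    obtain ⟨μ, hμ, hk⟩ := exists_eigenvalues ρ y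
    have hd : Module.finrank ℂ (Fin n → ℂ) = charDegree (χ : G → ℂ) :=
      Nat.cast_injective (R := ℂ) (by rw [← Representation.char_one ρ, hρ, irr_one_eq])
    have h1 := hk 1
    rw [pow_one, hρ] at h1
    rw [h1, ← hd]
    refine (norm_sum_le _ _).trans (le_of_eq ?_)
    rw [Finset.sum_congr rfl fun i _ => by rw [pow_one, norm_eq_one_of_pow_orderOf (hμ i)], Finset.sum_const,
      Finset.card_univ, Fintype.card_fin, nsmul_eq_mul, mul_one]
  rcases hle.lt_or_eq with h | h
  · rw [hc, Complex.norm_intCast, ← Int.cast_abs, Int.abs_eq_natAbs] at h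
    exact_mod_cast h
  · exfalso
    have hmem := DegreeTools.mem_center_of_norm_eq χ (Cofactor.faithful hne) y h
    rw [SimpleTools.center_eq_bot hG, Subgroup.mem_bot] at hmem
    exact hy hmem

/-- At an involution the value is congruent to the degree modulo four. -/
theorem mod_four (hG : ¬ IsMulCommutative G) (χ : IrrCharacter G) {u : G} (hu : orderOf u = 2)
    {c : ℤ} (hc : (χ : G → ℂ) u = c) : (c - charDegree (χ : G → ℂ)) % 4 = 0 := by
  classical
  obtain ⟨n, ρ, -, hρ⟩ := χ.2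
  have hd : Module.finrank ℂ (Fin n → ℂ) = charDegree (χ : G → ℂ) :=
    Nat.cast_injective (R := ℂ) (by rw [← Representation.char_one ρ, hρ, irr_one_eq])
  have hperf : commutator G = ⊤ := by
    rcases (inferInstance : (commutator G).Normal).eq_bot_or_eq_top with hb | hb
    · exact absurd ⟨⟨fun a b => commutatorElement_eq_one_iff_mul_comm.mp (Subgroup.mem_bot.mp
        (hb ▸ Subgroup.commutator_mem_commutator (Subgroup.mem_top a) (Subgroup.mem_top b)))⟩⟩ hG
    · exact hb
  have hdet : CfsgLib.CharDeep.DetExt.detHom ρ u = 1 :=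
    MonoidHom.mem_ker.mp (Abelianization.commutator_subset_ker (CfsgLib.CharDeep.DetExt.detHom ρ)
      (hperf ▸ Subgroup.mem_top u))
  obtain ⟨b, μ, hμ, hb⟩ := exists_eigenbasis ρ u
  have hb1 : ∀ i, ρ u (b i) = μ i • b i := fun i => by simpa using hb 1 i
  have hsq : ∀ i, μ i = 1 ∨ μ i = -1 := fun i => sq_eq_one_iff.mp (hu ▸ hμ i)
  have hprod : ∏ i, μ i = 1 := by
    have h1 : LinearMap.det (ρ u) = 1 := by
      have := congrArg Units.val hdet
      rwa [CfsgLib.CharDeep.DetExt.coe_detHom] at this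
    rw [← h1, ← LinearMap.det_toMatrix b, show LinearMap.toMatrix b b (ρ u) = Matrix.diagonal μ by
      ext i j
      by_cases hij : i = j
      · subst hij
        simp [LinearMap.toMatrix_apply, hb1]
      · simp [LinearMap.toMatrix_apply, hb1, Finsupp.single_eq_of_ne, hij],
      Matrix.det_diagonal]
  set S := Finset.univ.filter fun i => μ i = -1 with hS
  have hval : ∀ i, μ i = if i ∈ S then -1 else 1 := fun i => by
    rcases hsq i with e | e <;> simp [hS, e]
  have heven : Even S.card := by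
    rw [Finset.prod_congr rfl fun i _ => hval i, Finset.prod_ite_mem, Finset.univ_inter, Finset.prod_const] at hprod
    exact (neg_one_pow_eq_one_iff_even (by norm_num)).mp hprod
  have htr : ((c : ℤ) : ℂ) = ((charDegree (χ : G → ℂ) : ℤ) - 2 * (S.card : ℤ) : ℤ) := by
    rw [← hc, show (χ : G → ℂ) u = ρ.character u by rw [hρ]]
    show LinearMap.trace ℂ (Fin n → ℂ) (ρ u) = _
    rw [trace_eq_sum_of_eigen _ b μ hb1, Finset.sum_congr rfl (g := fun i => (1 : ℂ) - if i ∈ S then 2 else 0)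
      fun i _ => by rw [hval i]; split_ifs <;> norm_num, Finset.sum_sub_distrib, Finset.sum_ite_mem,
      Finset.univ_inter, Finset.sum_const, Finset.sum_const, Finset.card_univ, Fintype.card_fin, nsmul_eq_mul, nsmul_eq_mul, mul_one]
    rw [show ((Module.finrank ℂ (Fin n → ℂ) : ℕ) : ℂ) = (charDegree (χ : G → ℂ) : ℂ) by rw [hd]]
    push_cast
    ring
  have h2 : c = (charDegree (χ : G → ℂ) : ℤ) - 2 * (S.card : ℤ) := Int.cast_injective htr
  obtain ⟨k, hk⟩ := heven
  omega

omit [IsSimpleGroup G] in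
/-- The multiplicity of the trivial character of a subgroup. -/
theorem exists_mult (χ : IrrCharacter G) (A : Subgroup G) :
    ∃ m : ℕ, ∑ a : ↥A, (χ : G → ℂ) a = (Nat.card A : ℂ) * m := by
  classical
  have hone : Cfsg.IsCharacter ↥A (fun _ => (1 : ℂ)) := isCharacter_one
  obtain ⟨m, hm⟩ := IsCharacter.classInner_nat (IsCharacter.restrict (isCharacter_irr χ) A) hone
  refine ⟨m, ?_⟩
  rw [Cfsg.classInner] at hm
  simp only [map_one, mul_one] at hm
  rw [← hm, mul_inv_cancel_left₀ (by exact_mod_cast Nat.card_pos.ne')]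

omit [IsSimpleGroup G] in
/-- Equal values on the nontrivial powers of an element of order `q`. -/
theorem sum_zpowers {q : ℕ} (χ : IrrCharacter G) {y : G} (hy : orderOf y = q) (hq : 0 < q) {c : ℤ}
    (hval : ∀ j, 0 < j → j < q → (χ : G → ℂ) (y ^ j) = c) :
    ∃ m : ℕ, (charDegree (χ : G → ℂ) : ℤ) + ((q : ℤ) - 1) * c = q * m := by
  classical
  obtain ⟨m, hm⟩ := exists_mult χ (Subgroup.zpowers y)
  refine ⟨m, ?_⟩
  rw [Nat.card_zpowers, hy] at hm
  let f : Fin q → ↥(Subgroup.zpowers y) := fun i => ⟨y ^ (i : ℕ), Subgroup.npow_mem_zpowers _ _⟩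
  have hf : Function.Bijective f := by
    refine (Fintype.bijective_iff_injective_and_card f).mpr ⟨fun i j e => ?_, ?_⟩
    · exact Fin.ext (pow_injOn_Iio_orderOf (by rw [hy]; exact i.2) (by rw [hy]; exact j.2) (congrArg Subtype.val e))
    · rw [Fintype.card_fin, ← Nat.card_eq_fintype_card, Nat.card_zpowers, hy]
  rw [← Fintype.sum_equiv (Equiv.ofBijective f hf) (fun i => (χ : G → ℂ) (y ^ (i : ℕ))) _ fun i => rfl] at hm
  rw [← Finset.add_sum_erase _ _ (Finset.mem_univ (⟨0, hq⟩ : Fin q)), pow_zero, irr_one_eq,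
    Finset.sum_congr rfl (g := fun _ => ((c : ℤ) : ℂ)) fun (i : Fin q) hi => hval (i : ℕ)
      (Nat.pos_of_ne_zero fun e => (Finset.mem_erase.mp hi).1 (Fin.ext e)) i.2,
    Finset.sum_const, Finset.card_erase_of_mem (Finset.mem_univ _), Finset.card_univ, Fintype.card_fin,
    nsmul_eq_mul, Nat.cast_sub hq, Nat.cast_one] at hm
  exact Int.cast_injective (α := ℂ) (by push_cast; exact hm)

omit [IsSimpleGroup G] in
/-- The congruence from a cyclic subgroup of order `p * q`. -/
theorem sum_product {p q : ℕ} (hp : p.Prime) (hq : q.Prime) (hpq : p ≠ q) (χ : IrrCharacter G) {x y : G}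
    (hx : orderOf x = p) (hy : orderOf y = q) (hxy : Commute x y) {c ε : ℤ}
    (hval : ∀ j, 0 < j → j < q → (χ : G → ℂ) (y ^ j) = c)
    (hε : ∀ i j, 0 < i → i < p → j < q → (χ : G → ℂ) (x ^ i * y ^ j) = ε) :
    ∃ m : ℕ, (charDegree (χ : G → ℂ) : ℤ) + ((p : ℤ) - 1) * ε + ((q : ℤ) - 1) * (c + ((p : ℤ) - 1) * ε) =
      p * q * m := by
  classical
  have hcop : Nat.Coprime p q := (Nat.coprime_primes hp hq).mpr hpq
  have ho : orderOf (x * y) = p * q := by
    rw [hxy.orderOf_mul_eq_mul_orderOf_of_coprime (by rw [hx, hy]; exact hcop), hx, hy]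
  set A := Subgroup.zpowers (x * y)
  obtain ⟨m, hm⟩ := exists_mult χ A
  refine ⟨m, ?_⟩
  rw [Nat.card_zpowers, ho] at hm
  have hxA : x ∈ A := by
    obtain ⟨a, ha⟩ := Nat.exists_mul_mod_eq_one_of_coprime hcop.symm hp.one_lt
    have : (x * y) ^ (q * a) = x := by
      rw [hxy.mul_pow, show y ^ (q * a) = 1 by rw [pow_mul, ← hy, pow_orderOf_eq_one, one_pow], mul_one,
        ← pow_mod_orderOf, hx, ha.2, pow_one]
    exact this ▸ Subgroup.npow_mem_zpowers _ _
  have hyA : y ∈ A := by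
    have := A.mul_mem (A.inv_mem hxA) (Subgroup.mem_zpowers (x * y))
    rwa [inv_mul_cancel_left] at this
  let f : Fin p × Fin q → ↥A := fun z => ⟨x ^ (z.1 : ℕ) * y ^ (z.2 : ℕ), A.mul_mem (A.pow_mem hxA _) (A.pow_mem hyA _)⟩
  have hf : Function.Bijective f := by
    refine (Fintype.bijective_iff_surjective_and_card f).mpr ⟨fun a => ?_, ?_⟩
    · obtain ⟨k, hk⟩ := (mem_zpowers_iff_mem_range_orderOf.mp a.2 : _)
        |> fun h => (Finset.mem_image.mp h)
      refine ⟨(⟨k % p, Nat.mod_lt _ hp.pos⟩, ⟨k % q, Nat.mod_lt _ hq.pos⟩), Subtype.ext ?_⟩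
      show x ^ (k % p) * y ^ (k % q) = a
      rw [← hk.2, hxy.mul_pow, ← hx, pow_mod_orderOf, ← hy, pow_mod_orderOf]
    · rw [Fintype.card_prod, Fintype.card_fin, Fintype.card_fin, ← Nat.card_eq_fintype_card, Nat.card_zpowers, ho]
  rw [← Fintype.sum_equiv (Equiv.ofBijective f hf) (fun z => (χ : G → ℂ) (x ^ (z.1 : ℕ) * y ^ (z.2 : ℕ))) _
    fun i => rfl, Fintype.sum_prod_type] at hm
  have hrow0 : ∑ j : Fin q, (χ : G → ℂ) (x ^ 0 * y ^ (j : ℕ)) =
      (((charDegree (χ : G → ℂ) : ℤ) + ((q : ℤ) - 1) * c : ℤ) : ℂ) := by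
    rw [← Finset.add_sum_erase _ _ (Finset.mem_univ (⟨0, hq.pos⟩ : Fin q))]
    simp only [pow_zero, one_mul, irr_one_eq]
    rw [Finset.sum_congr rfl (g := fun _ => ((c : ℤ) : ℂ)) fun (i : Fin q) hi => hval (i : ℕ)
        (Nat.pos_of_ne_zero fun e => (Finset.mem_erase.mp hi).1 (Fin.ext e)) i.2,
      Finset.sum_const, Finset.card_erase_of_mem (Finset.mem_univ _), Finset.card_univ, Fintype.card_fin,
      nsmul_eq_mul, Nat.cast_sub hq.pos]
    push_cast
    ring
  rw [← Finset.add_sum_erase _ _ (Finset.mem_univ (⟨0, hp.pos⟩ : Fin p)), hrow0,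
    Finset.sum_congr rfl (g := fun _ => (((q : ℤ) * ε : ℤ) : ℂ)) fun (i : Fin p) hi => by
      rw [Finset.sum_congr rfl (g := fun _ => ((ε : ℤ) : ℂ)) fun (j : Fin q) _ => hε (i : ℕ) (j : ℕ)
        (Nat.pos_of_ne_zero fun e => (Finset.mem_erase.mp hi).1 (Fin.ext e)) i.2 j.2,
        Finset.sum_const, Finset.card_univ, Fintype.card_fin, nsmul_eq_mul]
      push_cast; ring,
    Finset.sum_const, Finset.card_erase_of_mem (Finset.mem_univ _), Finset.card_univ, Fintype.card_fin,
    nsmul_eq_mul, Nat.cast_sub hp.pos] at hm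
  have h := Int.cast_injective (α := ℂ) (a₁ := ((charDegree (χ : G → ℂ) : ℤ) + ((q : ℤ) - 1) * c) +
    ((p : ℤ) - 1) * ((q : ℤ) * ε)) (a₂ := (p : ℤ) * q * m) (by push_cast at hm ⊢; linear_combination hm)
  linarith

end CfsgLib.SmallGroups.ValueTools
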