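import Cfsg.Agent.Lib.SmallGroups.OrdersMidTools
import Cfsg.Agent.Lib.Char.Perm

/-!
# Simple groups of order 2520 without a subgroup of index seven

Such a group has an element of order four with centraliser of order four: the Sylow normalisers for
`3`, `5`, `7` leave no element of order twelve, and Burnside's orbit count on the Sylow 2-subgroups
excludes an abelian Sylow 2-subgroup.
-/

set_option autoImplicit false
set_option linter.unusedSectionVars false

namespace CfsgLib.SmallGroups.Order2520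

open Subgroup CfsgLib.SmallGroups.SimpleTools CfsgLib.SmallGroups.LocalTools CfsgLib.SmallGroups.TwoClass
  CfsgLib.SmallGroups.OrdersMid

variable {G : Type*} [Group G] [Finite G]

/-- The fixed points of a `p`-group normalising a subgroup. -/
theorem card_fixed_modEq {p : ℕ} [Fact p.Prime] (A R : Subgroup G) (hR : IsPGroup p R)
    (hN : R ≤ normalizer (A : Set G)) :
    Nat.card ↥(A ⊓ centralizer (R : Set G)) % p = Nat.card A % p := by
  let act : MulAction ↥R ↥A := MulAction.compHom ↥A (A.normalizerMonoidHom.comp (inclusion hN))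
  have h := hR.card_modEq_card_fixedPoints ↥A
  have hsmul : ∀ (r : ↥R) (a : ↥A), ((r • a : ↥A) : G) = (r : G) * a * (r : G)⁻¹ := fun r a => rfl
  have e : Nat.card (MulAction.fixedPoints ↥R ↥A) = Nat.card ↥(A ⊓ centralizer (R : Set G)) := by
    refine Nat.card_congr
      { toFun := fun a => ⟨(a.1 : G), mem_inf.2 ⟨a.1.2, mem_centralizer_iff.2 fun r hr => ?_⟩⟩
        invFun := fun a => ⟨⟨a.1, (mem_inf.1 a.2).1⟩, fun r => Subtype.ext ?_⟩
        left_inv := fun a => rfl
        right_inv := fun a => rfl }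
    · have h' := congrArg Subtype.val (a.2 ⟨r, hr⟩)
      rw [hsmul] at h'
      exact mul_inv_eq_iff_eq_mul.1 h'
    · rw [hsmul]
      exact mul_inv_eq_iff_eq_mul.2 (mem_centralizer_iff.1 (mem_inf.1 a.2).2 r r.2)
  rw [e] at h
  exact h.symm

/-- An element normalising a subgroup and fixing more of it than a proper subgroup can hold centralises it. -/
theorem le_centralizer_of_normalizes {q : ℕ} [Fact q.Prime] {A : Subgroup G} {y : G} (hy : orderOf y = q)
    (hN : y ∈ normalizer (A : Set G))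
    (hq : ∀ c ∈ (Nat.card A).divisors, c % q = Nat.card A % q → c = Nat.card A) :
    A ≤ centralizer ({y} : Set G) := by
  have hp : IsPGroup q (zpowers y) := IsPGroup.of_card (n := 1) (by rw [Nat.card_zpowers, hy, pow_one])
  have hmod := card_fixed_modEq A (zpowers y) hp (zpowers_le.2 hN)
  have hle : A ⊓ centralizer ((zpowers y : Subgroup G) : Set G) ≤ A := inf_le_left
  have hc := hq _ (Nat.mem_divisors.2 ⟨card_dvd_of_le hle, Nat.card_pos.ne'⟩) hmod
  have he := eq_of_le_of_card_ge hle hc.ge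
  rw [← centralizer_zpowers]
  exact inf_eq_left.1 he

variable [IsSimpleGroup G]

/-- The hypotheses. -/
structure Hyp (G : Type*) [Group G] [Finite G] [IsSimpleGroup G] : Prop where
  card : Nat.card G = 2520
  nc : ¬ IsMulCommutative G
  small : ∀ H : Subgroup G, H ≠ ⊤ → Nat.card H ≤ 315

variable (D : Hyp G)
include D

theorem Hyp.dvd (H : Subgroup G) : Nat.card H ∣ 2520 := D.card ▸ card_subgroup_dvd_card H

theorem Hyp.centralizer_ne_top {z : G} (hz : z ≠ 1) : centralizer ({z} : Set G) ≠ ⊤ := by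
  intro h
  refine hz ?_
  have hc : z ∈ center G := mem_center_iff.2 fun g =>
    mem_centralizer_singleton_iff.1 (h ▸ mem_top g : g ∈ centralizer ({z} : Set G))
  rwa [center_eq_bot D.nc, mem_bot] at hc

theorem Hyp.normalizer_ne_top {H : Subgroup G} (h1 : H ≠ ⊥) (h2 : H ≠ ⊤) : normalizer (H : Set G) ≠ ⊤ :=
  fun h => ((normalizer_eq_top_iff.1 h).eq_bot_or_eq_top).elim h1 h2

/-- Sylow normalisers for primes dividing the order once. -/
theorem Hyp.normalizer_count {p m : ℕ} [Fact p.Prime] (hpm : p * m = 2520) (hm : ¬ p ∣ m) (P : Sylow p G) :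
    Nat.card (P : Subgroup G) = p ∧ Nat.card (Sylow p G) * Nat.card (normalizer ((P : Subgroup G) : Set G)) = 2520 ∧
      Nat.card (Sylow p G) ∈ m.divisors.filter (fun n => n % p = 1) ∧
      Nat.card (normalizer ((P : Subgroup G) : Set G)) ≤ 315 ∧
      ∃ e k : ℕ, e ≠ 1 ∧ e ∣ p - 1 ∧ Nat.card (normalizer ((P : Subgroup G) : Set G)) = e * (p * k) ∧
        Nat.card (centralizer ((P : Subgroup G) : Set G)) = p * k := by
  have hfac : Nat.card G = p ^ 1 * m := by rw [D.card, pow_one, hpm]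
  have hP : Nat.card (P : Subgroup G) = p := (card_sylow_subgroup hfac hm P).trans (pow_one p)
  have hd : p ∣ Nat.card G := by rw [D.card, ← hpm]; exact dvd_mul_right p m
  refine ⟨hP, by rw [card_normalizer_mul P, D.card], card_sylow_mem hfac (by rintro rfl; exact hm (dvd_zero p)),
    D.small _ (SimpleTools.normalizer_ne_top D.nc hd P), exists_e D.nc P hP⟩

/-- The centraliser of an element of order seven has order prime to six. -/
theorem Hyp.seven {x : G} (hx : orderOf x = 7) :
    ¬ 2 ∣ Nat.card (centralizer ({x} : Set G)) ∧ ¬ 3 ∣ Nat.card (centralizer ({x} : Set G)) := by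
  have : Fact (Nat.Prime 7) := ⟨by norm_num⟩
  have hall : ∀ P : Sylow 7 G, Nat.card (P : Subgroup G) = 7 :=
    fun P => (D.normalizer_count (m := 360) (by norm_num) (by norm_num) P).1
  obtain ⟨P, hP⟩ := exists_zpowers hx hall
  obtain ⟨hP7, hmul, hmem, hle, e, k, he1, hed, hN, hC⟩ := D.normalizer_count (m := 360) (by norm_num) (by norm_num) P
  rw [← centralizer_zpowers, hP, hC]
  rw [show (360 : ℕ).divisors.filter (fun n => n % 7 = 1) = {1, 8, 15, 36, 120} by decide] at hmem
  simp only [Finset.mem_insert, Finset.mem_singleton] at hmem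
  have he : e = 2 ∨ e = 3 ∨ e = 6 := by
    have := Nat.le_of_dvd (by norm_num) hed
    interval_cases e <;> omega
  rw [hN] at hmul hle
  rcases hmem with h | h | h | h | h <;> rw [h] at hmul
  · omega
  · -- eight: an element of order five would fix three cosets
    exfalso
    have hk : k = 15 := by rcases he with rfl | rfl | rfl <;> omega
    have : Fact (Nat.Prime 5) := ⟨by norm_num⟩
    obtain ⟨y, hy, hy5⟩ := exists_mem_of_dvd (q := 5) (centralizer ((P : Subgroup G) : Set G))
      (by rw [hC, hk]; norm_num)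
    obtain ⟨f, -, hf1, hf2, hf3, -⟩ := exists_fixed D.nc P hP7 hy hy5
    omega
  · -- fifteen: an involution would be an odd permutation
    exfalso
    have hk : 2 ∣ k := by rcases he with rfl | rfl | rfl <;> omega
    have : Fact (Nat.Prime 2) := ⟨Nat.prime_two⟩
    obtain ⟨y, hy, hy2⟩ := exists_mem_of_dvd (q := 2) (centralizer ((P : Subgroup G) : Set G))
      (by rw [hC]; exact hk.mul_left 7)
    obtain ⟨f, -, hf1, hf2, -, hf4⟩ := exists_fixed D.nc P hP7 hy hy2
    have := hf4 rfl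
    omega
  · rcases he with rfl | rfl | rfl <;> omega
  · rcases he with rfl | rfl | rfl <;> omega

/-- The normaliser of a subgroup of order five. -/
theorem Hyp.five {y : G} (hy : orderOf y = 5) :
    (Nat.card (normalizer ((zpowers y : Subgroup G) : Set G)) = 120 ∨
      Nat.card (normalizer ((zpowers y : Subgroup G) : Set G)) = 70 ∨
      Nat.card (normalizer ((zpowers y : Subgroup G) : Set G)) = 20) ∧
    Nat.card (centralizer ({y} : Set G)) ∣ Nat.card (normalizer ((zpowers y : Subgroup G) : Set G)) ∧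
    Nat.card (centralizer ({y} : Set G)) ≠ Nat.card (normalizer ((zpowers y : Subgroup G) : Set G)) ∧
    5 ∣ Nat.card (centralizer ({y} : Set G)) := by
  have : Fact (Nat.Prime 5) := ⟨by norm_num⟩
  have hall : ∀ P : Sylow 5 G, Nat.card (P : Subgroup G) = 5 :=
    fun P => (D.normalizer_count (m := 504) (by norm_num) (by norm_num) P).1
  obtain ⟨P, hP⟩ := exists_zpowers hy hall
  obtain ⟨hP5, hmul, hmem, hle, e, k, he1, hed, hN, hC⟩ := D.normalizer_count (m := 504) (by norm_num) (by norm_num) P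
  rw [← centralizer_zpowers, hP, hC]
  refine ⟨?_, by rw [hN]; exact dvd_mul_left _ e, ?_, dvd_mul_right 5 k⟩
  · rw [show (504 : ℕ).divisors.filter (fun n => n % 5 = 1) = {1, 6, 21, 36, 56, 126} by decide] at hmem
    simp only [Finset.mem_insert, Finset.mem_singleton] at hmem
    have he4 : e = 2 ∨ e = 4 := by
      have := Nat.le_of_dvd (by norm_num) hed
      interval_cases e <;> omega
    rcases hmem with h | h | h | h | h | h <;> rw [h] at hmul
    · omega
    · omega
    · left; omega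
    · right; left; omega
    · exfalso
      rw [hN] at hmul
      rcases he4 with rfl | rfl <;> omega
    · right; right; omega
  · intro h
    rw [hN] at h
    have hpos : 0 < 5 * k := hC ▸ Nat.card_pos
    exact he1 (Nat.eq_of_mul_eq_mul_right hpos (h.symm.trans (one_mul _).symm))

theorem Hyp.not_nine_dvd_five {y : G} (hy : orderOf y = 5) :
    ¬ 9 ∣ Nat.card (normalizer ((zpowers y : Subgroup G) : Set G)) := by
  rcases (D.five hy).1 with h | h | h <;> omega

theorem Hyp.sylow_three (P : Sylow 3 G) :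
    Nat.card (P : Subgroup G) = 9 ∧ IsMulCommutative (P : Subgroup G) ∧
      Nat.card (normalizer ((P : Subgroup G) : Set G)) = 36 := by
  have : Fact (Nat.Prime 3) := ⟨Nat.prime_three⟩
  have hfac : Nat.card G = 3 ^ 2 * 280 := by rw [D.card]; norm_num
  have hP : Nat.card (P : Subgroup G) = 9 := card_sylow_subgroup hfac (by norm_num) P
  have hcomm : IsMulCommutative (P : Subgroup G) :=
    IsPGroup.isMulCommutative_of_card_eq_prime_sq (p := 3) (by rw [hP]; norm_num)
  refine ⟨hP, hcomm, ?_⟩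
  have hmem := card_sylow_mem hfac (by norm_num)
  rw [show (280 : ℕ).divisors.filter (fun n => n % 3 = 1) = {1, 4, 7, 10, 28, 40, 70, 280} by decide] at hmem
  simp only [Finset.mem_insert, Finset.mem_singleton] at hmem
  have hd3 : 3 ∣ Nat.card G := by rw [D.card]; norm_num
  have hle := D.small _ (SimpleTools.normalizer_ne_top D.nc hd3 P)
  have hmul := card_normalizer_mul P
  rw [D.card] at hmul
  set N := normalizer ((P : Subgroup G) : Set G) with hNd
  have hseven : ¬ 7 ∣ Nat.card N := by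
    intro h7
    have : Fact (Nat.Prime 7) := ⟨by norm_num⟩
    obtain ⟨x, hx, hx7⟩ := exists_mem_of_dvd (q := 7) N h7
    have hc := le_centralizer_of_normalizes hx7 hx (by rw [hP]; decide)
    exact (D.seven hx7).2 ((show 3 ∣ Nat.card (P : Subgroup G) by rw [hP]; norm_num).trans (card_dvd_of_le hc))
  have hfive : ¬ 5 ∣ Nat.card N := by
    intro h5
    have : Fact (Nat.Prime 5) := ⟨by norm_num⟩
    obtain ⟨y, hy, hy5⟩ := exists_mem_of_dvd (q := 5) N h5
    have hc := le_centralizer_of_normalizes hy5 hy (by rw [hP]; decide)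
    refine D.not_nine_dvd_five hy5 ?_
    refine hP ▸ card_dvd_of_le (hc.trans ?_)
    rw [← centralizer_zpowers]
    exact centralizer_le_normalizer _
  rcases hmem with h | h | h | h | h | h | h | h <;> rw [h] at hmul
  · omega
  · omega
  · omega
  · exact absurd (⟨36, by omega⟩ : 7 ∣ Nat.card N) hseven
  · exact absurd (⟨18, by omega⟩ : 5 ∣ Nat.card N) hfive
  · exact absurd (⟨9, by omega⟩ : 7 ∣ Nat.card N) hseven
  · omega
  · exfalso
    have hNP : (P : Subgroup G) = N := eq_of_le_of_card_ge le_normalizer (by omega)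
    obtain ⟨z, hz, hz3⟩ := exists_mem_of_dvd (q := 3) (P : Subgroup G) (by rw [hP]; norm_num)
    have := eq_one_of_central D.nc P hz fun n hn =>
      congrArg Subtype.val (hcomm.is_comm.comm (⟨n, hNP ▸ hn⟩ : (P : Subgroup G)) ⟨z, hz⟩)
    rw [this, orderOf_one] at hz3
    norm_num at hz3

/-- An element of `P` with few conjugates under `N(P)` is inverted. -/
theorem Hyp.exists_inverter (P : Sylow 3 G) {z : G} (hz : z ∈ (P : Subgroup G)) (hz1 : z ≠ 1)
    (hd : 18 ≤ Nat.card ↥(centralizer ({z} : Set G) ⊓ normalizer ((P : Subgroup G) : Set G))) :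
    ∃ n : G, n * z * n⁻¹ = z⁻¹ ∧ n ∉ centralizer ({z} : Set G) := by
  have : Fact (Nat.Prime 3) := ⟨Nat.prime_three⟩
  obtain ⟨hP, hcomm, hN36⟩ := D.sylow_three P
  set N := normalizer ((P : Subgroup G) : Set G) with hNd
  set M := (centralizer ({z} : Set G) ⊓ N).subgroupOf N with hM
  have hMc : Nat.card M = Nat.card ↥(centralizer ({z} : Set G) ⊓ N) :=
    Nat.card_congr (subgroupOfEquivOfLe inf_le_right).toEquiv
  obtain ⟨n, hnN, hnz⟩ : ∃ n ∈ N, n ∉ centralizer ({z} : Set G) := by
    by_contra hall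
    push Not at hall
    exact hz1 (eq_one_of_central D.nc P hz fun n hn => mem_centralizer_singleton_iff.1 (hall n hn))
  have hidx : M.index = 2 := by
    have h := M.index_mul_card
    rw [hMc, hN36] at h
    have h1 : M.index ≠ 1 := fun e => hnz (mem_inf.1 (mem_subgroupOf.1
      (show (⟨n, hnN⟩ : N) ∈ M from (index_eq_one.1 e) ▸ mem_top _))).1
    have h0 : M.index ≠ 0 := index_ne_zero_of_finite
    have h18 : M.index * 18 ≤ 36 := (Nat.mul_le_mul_left _ hd).trans h.le
    omega
  have hMn : M.Normal := normal_of_index_eq_two hidx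
  have hcz : ∀ m : N, m ∈ M → Commute (m : G) z := fun m hm =>
    mem_centralizer_singleton_iff.1 (mem_inf.1 (mem_subgroupOf.1 hm)).1
  have hz' : n * z * n⁻¹ ∈ (P : Subgroup G) := (mem_normalizer_iff.1 hnN z).1 hz
  have hn2 : Commute (n * n) z := hcz (⟨n, hnN⟩ * ⟨n, hnN⟩) (mul_self_mem_of_index_two hidx _)
  have hMu : ∀ m : N, m ∈ M → Commute (m : G) (z * (n * z * n⁻¹)) := by
    intro m hm
    have h1 : Commute ((⟨n, hnN⟩⁻¹ * m * ⟨n, hnN⟩ : N) : G) z := hcz _ (by
      have h' := hMn.conj_mem m hm (⟨n, hnN⟩ : N)⁻¹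
      rwa [inv_inv] at h')
    have h2 := h1.map (MulAut.conj n).toMonoidHom
    have e : n * ((⟨n, hnN⟩⁻¹ * m * ⟨n, hnN⟩ : N) : G) * n⁻¹ = (m : G) := by push_cast; group
    simp only [MulEquiv.coe_toMonoidHom, MulAut.conj_apply] at h2
    rw [e] at h2
    exact (hcz m hm).mul_right h2
  have hnu : Commute n (z * (n * z * n⁻¹)) := by
    refine mul_inv_eq_iff_eq_mul.1 ?_
    calc n * (z * (n * z * n⁻¹)) * n⁻¹ = (n * z * n⁻¹) * (n * n * z * (n * n)⁻¹) := by group
      _ = (n * z * n⁻¹) * z := by rw [hn2.eq, mul_inv_cancel_right]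
      _ = z * (n * z * n⁻¹) := congrArg Subtype.val (hcomm.is_comm.comm (⟨_, hz'⟩ : (P : Subgroup G)) ⟨z, hz⟩)
  have hu := eq_one_of_central D.nc P (mul_mem hz hz') fun a ha => by
    by_cases hm : (⟨a, ha⟩ : N) ∈ M
    · exact (hMu _ hm).eq
    · have hm' : (⟨n, hnN⟩⁻¹ * ⟨a, ha⟩ : N) ∈ M := by
        rw [mul_mem_iff_of_index_two hidx, inv_mem_iff]
        exact iff_of_false (fun h => hnz (mem_inf.1 (mem_subgroupOf.1 h)).1) hm
      have h' := hnu.mul_left (hMu _ hm')
      simpa using h'.eq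
  exact ⟨n, eq_inv_of_mul_eq_one_right hu, hnz⟩

/-- The centraliser of an element of order three. -/
theorem Hyp.three {z : G} (hz : orderOf z = 3) : ∃ P : Sylow 3 G, z ∈ (P : Subgroup G) ∧
    (P : Subgroup G) ≤ centralizer ({z} : Set G) ∧
    (Nat.card (centralizer ({z} : Set G)) = 9 ∨ Nat.card (centralizer ({z} : Set G)) = 18 ∨
      (Nat.card (centralizer ({z} : Set G)) = 36 ∧
        Nat.card ↥(centralizer ({z} : Set G) ⊓ normalizer ((P : Subgroup G) : Set G)) = 9)) := by
  have : Fact (Nat.Prime 3) := ⟨Nat.prime_three⟩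
  have hzp : IsPGroup 3 (zpowers z) := IsPGroup.of_card (n := 1) (by rw [Nat.card_zpowers, hz, pow_one])
  obtain ⟨P, hP'⟩ := hzp.exists_le_sylow
  obtain ⟨hP, hcomm, hN36⟩ := D.sylow_three P
  have hzP : z ∈ (P : Subgroup G) := hP' (mem_zpowers z)
  have hz1 : z ≠ 1 := fun e => by rw [e, orderOf_one] at hz; norm_num at hz
  set C := centralizer ({z} : Set G) with hCd
  have hPC : (P : Subgroup G) ≤ C := fun a ha => mem_centralizer_singleton_iff.2
    (congrArg Subtype.val (hcomm.is_comm.comm (⟨a, ha⟩ : (P : Subgroup G)) ⟨z, hzP⟩))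
  refine ⟨P, hzP, hPC, ?_⟩
  set N := normalizer ((P : Subgroup G) : Set G) with hNd
  obtain ⟨n, hn3, hcn, -, -⟩ := sylow_count_le D.nc P (by rw [D.card]; norm_num) hPC (D.centralizer_ne_top hz1)
  have hle := D.small C (D.centralizer_ne_top hz1)
  have hdvd := D.dvd C
  have h7 : ¬ 7 ∣ Nat.card C := by
    intro h7
    have : Fact (Nat.Prime 7) := ⟨by norm_num⟩
    obtain ⟨x, hx, hx7⟩ := exists_mem_of_dvd (q := 7) C h7
    refine (D.seven hx7).2 ?_
    rw [← hz]
    exact (centralizer ({x} : Set G)).orderOf_dvd_natCard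
      (mem_centralizer_singleton_iff.2 (mem_centralizer_singleton_iff.1 hx).symm)
  have hd9 : 9 ∣ Nat.card ↥(C ⊓ N) := hP ▸ card_dvd_of_le (le_inf hPC le_normalizer)
  have hd36 : Nat.card ↥(C ⊓ N) ∣ 36 := hN36 ▸ card_dvd_of_le inf_le_right
  have hne : Nat.card ↥(C ⊓ N) ≠ 36 := by
    intro h
    have hNC : C ⊓ N = N := eq_of_le_of_card_ge inf_le_right (by rw [hN36]; exact h.ge)
    exact hz1 (eq_one_of_central D.nc P hzP fun a ha => mem_centralizer_singleton_iff.1 (mem_inf.1 (show a ∈ C ⊓ N by rw [hNC]; exact ha)).1)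
  have hd : Nat.card ↥(C ⊓ N) = 9 ∨ Nat.card ↥(C ⊓ N) = 18 := by
    obtain ⟨r, hr⟩ := hd9
    have := Nat.le_of_dvd (by norm_num) hd36
    rw [hr] at hd36 hne this ⊢
    have : r ≤ 4 := by omega
    interval_cases r <;> omega
  have hc : Nat.card C ∈ ((2520 : ℕ).divisors.filter fun c => c ≤ 315 ∧ 9 ∣ c ∧ ¬ 7 ∣ c) :=
    Finset.mem_filter.2 ⟨Nat.mem_divisors.2 ⟨hdvd, by norm_num⟩, hle,
      hd9.trans (hcn ▸ dvd_mul_left _ n), h7⟩
  rw [show ((2520 : ℕ).divisors.filter fun c => c ≤ 315 ∧ 9 ∣ c ∧ ¬ 7 ∣ c) = {9, 18, 36, 45, 72, 90, 180} by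
    decide +kernel] at hc
  simp only [Finset.mem_insert, Finset.mem_singleton] at hc
  -- an element of `N(P)` inverting `z` doubles the centraliser
  have hbig : Nat.card ↥(C ⊓ N) = 18 →
      ∃ r, 2 ≤ r ∧ Nat.card C * r ∣ 2520 ∧ Nat.card C * r ≤ 315 := by
    intro h18
    obtain ⟨a, ha, haC⟩ := D.exists_inverter P hzP hz1 h18.ge
    have hCN : C ≤ normalizer ((zpowers z : Subgroup G) : Set G) := by
      rw [hCd, ← centralizer_zpowers]; exact centralizer_le_normalizer _
    have haN : a ∈ normalizer ((zpowers z : Subgroup G) : Set G) := by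
      refine mem_normalizer_iff.2 fun w => ⟨fun hw => ?_, fun hw => ?_⟩
      · obtain ⟨i, rfl⟩ := mem_zpowers_iff.1 hw
        rw [← conj_zpow, ha]
        exact zpow_mem (inv_mem (mem_zpowers z)) i
      · obtain ⟨i, hi⟩ := mem_zpowers_iff.1 hw
        refine mem_zpowers_iff.2 ⟨-i, ?_⟩
        have : a * z ^ (-i) * a⁻¹ = a * w * a⁻¹ := by rw [← conj_zpow, ha, inv_zpow', neg_neg, hi]
        exact mul_left_cancel (mul_right_cancel this)
    obtain ⟨r, hr⟩ := card_dvd_of_le hCN
    refine ⟨r, ?_, hr ▸ D.dvd _, hr ▸ D.small _ (D.normalizer_ne_top ?_ ?_)⟩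
    · have h1 : r ≠ 1 := fun e => by
        rw [e, mul_one] at hr
        have hCe := eq_of_le_of_card_ge hCN hr.le
        refine haC ?_
        show a ∈ C
        rw [hCe]; exact haN
      have h0 : r ≠ 0 := fun e => by
        rw [e, mul_zero] at hr
        exact Nat.card_pos.ne' hr
      omega
    · exact fun h => hz1 (zpowers_eq_bot.1 h)
    · intro h
      have := congrArg (fun H : Subgroup G => Nat.card H) h
      simp only [Nat.card_zpowers, hz, card_top, D.card] at this
      norm_num at this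
  have hn1 : n ≤ Nat.card C := by
    rw [hcn]; exact Nat.le_mul_of_pos_right n Nat.card_pos
  rcases hc with h | h | h | h | h | h | h
  · exact Or.inl h
  · exact Or.inr (Or.inl h)
  · refine Or.inr (Or.inr ⟨h, ?_⟩)
    rw [h] at hcn
    rcases hd with e | e
    · exact e
    · rw [e] at hcn; omega
  · exfalso
    rw [h] at hcn
    rcases hd with e | e <;> rw [e] at hcn <;> omega
  · exfalso
    rw [h] at hcn hbig
    rcases hd with e | e
    · rw [e] at hcn; omega
    · obtain ⟨r, hr2, hrd, hrl⟩ := hbig e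
      have : r ≤ 4 := by omega
      interval_cases r <;> omega
  · -- ninety: the complement of `P` contains a normal subgroup of order five
    exfalso
    rw [h] at hcn
    have hd9' : Nat.card ↥(C ⊓ N) = 9 := by
      rcases hd with e | e
      · exact e
      · rw [e] at hcn; omega
    have hCN : C ⊓ N = (P : Subgroup G) :=
      (eq_of_le_of_card_ge (le_inf hPC le_normalizer) (by rw [hd9', hP])).symm
    set Q : Sylow 3 C := P.subtype hPC with hQ
    have hQc : normalizer ((Q : Subgroup C) : Set C) ≤ centralizer ((Q : Subgroup C) : Set C) := by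
      intro a ha
      have haP : (a : G) ∈ (P : Subgroup G) := by
        rw [← hCN]
        refine mem_inf.2 ⟨a.2, mem_normalizer_iff.2 fun w => ⟨fun hw => ?_, fun hw => ?_⟩⟩
        · exact (mem_normalizer_iff.1 ha ⟨w, hPC hw⟩).1 hw
        · have hwC : w ∈ C := by
            have := mul_mem (mul_mem (inv_mem a.2) (hPC hw)) a.2
            simpa [mul_assoc] using this
          exact (mem_normalizer_iff.1 ha ⟨w, hwC⟩).2 hw
      refine mem_centralizer_iff.2 fun q hq => Subtype.ext ?_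
      have e := congrArg Subtype.val (hcomm.is_comm.comm (⟨(q : G), hq⟩ : (P : Subgroup G)) ⟨(a : G), haP⟩)
      exact e
    set K := (MonoidHom.transferSylow Q hQc).ker with hK
    have hcompl := MonoidHom.ker_transferSylow_isComplement' Q hQc
    have hQ9 : Nat.card (Q : Subgroup C) = 9 := by
      rw [hQ, Sylow.coe_subtype, Nat.card_congr (subgroupOfEquivOfLe hPC).toEquiv, hP]
    have hK10 : Nat.card K = 10 := by
      have h' := hcompl.card_mul
      rw [hQ9, h] at h'
      change Nat.card K * 9 = 90 at h'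
      omega
    have : Fact (Nat.Prime 5) := ⟨by norm_num⟩
    obtain ⟨y, hy5⟩ := exists_prime_orderOf_dvd_card' (G := C) 5 (by rw [h]; norm_num)
    have hin : ∀ w : C, orderOf w = 5 → w ∈ K := by
      intro w hw
      rw [hK, MonoidHom.mem_ker]
      refine orderOf_eq_one_iff.1 (Nat.eq_one_of_dvd_coprimes (show Nat.Coprime 5 9 by norm_num) ?_ ?_)
      · exact hw ▸ orderOf_map_dvd _ w
      · exact hQ9 ▸ orderOf_dvd_natCard _
    have hKy : ∀ w : C, orderOf w = 5 → w ∈ zpowers y := by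
      intro w hw
      have hyK : zpowers y ≤ K := zpowers_le.2 (hin y hy5)
      have hidx : ((zpowers y).subgroupOf K).index = 2 := by
        have h' := ((zpowers y).subgroupOf K).index_mul_card
        rw [Nat.card_congr (subgroupOfEquivOfLe hyK).toEquiv, Nat.card_zpowers, hy5, hK10] at h'
        omega
      have h2 := mul_self_mem_of_index_two hidx (⟨w, hin w hw⟩ : K)
      rw [mem_subgroupOf] at h2
      have e : w = (w * w) ^ 3 := by
        have h5 : w ^ 5 = 1 := hw ▸ pow_orderOf_eq_one w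
        rw [← pow_two, ← pow_mul, show 2 * 3 = 5 + 1 from rfl, pow_succ, h5, one_mul]
      rw [e]
      exact pow_mem h2 3
    have hy5' : orderOf (y : G) = 5 := by rw [Subgroup.orderOf_coe, hy5]
    refine D.not_nine_dvd_five hy5' (hP ▸ card_dvd_of_le fun a ha => ?_)
    have hconj : ∀ b : C, (b : G) * y * (b : G)⁻¹ ∈ zpowers (y : G) := by
      intro b
      obtain ⟨i, hi⟩ := mem_zpowers_iff.1 (hKy (b * y * b⁻¹)
        ((orderOf_injective (MulAut.conj b).toMonoidHom (MulAut.conj b).injective y).trans hy5))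
      exact mem_zpowers_iff.2 ⟨i, by simpa using congrArg Subtype.val hi⟩
    refine mem_normalizer_iff.2 fun w => ⟨fun hw => ?_, fun hw => ?_⟩
    · obtain ⟨i, rfl⟩ := mem_zpowers_iff.1 hw
      rw [← conj_zpow]
      exact zpow_mem (hconj ⟨a, hPC ha⟩) i
    · obtain ⟨i, hi⟩ := mem_zpowers_iff.1 hw
      have h' := zpow_mem (hconj ⟨a, hPC ha⟩⁻¹) i
      rw [conj_zpow, hi] at h'
      simpa [mul_assoc] using h'
  · exfalso
    rw [h] at hcn hbig
    rcases hd with e | e
    · rw [e] at hcn; omega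
    · obtain ⟨r, hr2, hrd, hrl⟩ := hbig e
      omega

/-- No element of order four commutes with an element of order three. -/
theorem Hyp.no_twelve {z f : G} (hz : orderOf z = 3) (hf : orderOf f = 4) (hzf : Commute f z) : False := by
  have : Fact (Nat.Prime 2) := ⟨Nat.prime_two⟩
  obtain ⟨P, hzP, hPC, hc⟩ := D.three hz
  set C := centralizer ({z} : Set G) with hCd
  have hfC : f ∈ C := mem_centralizer_singleton_iff.2 hzf.eq
  have h4 : 4 ∣ Nat.card C := hf ▸ C.orderOf_dvd_natCard hfC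
  obtain ⟨hC36, hCN⟩ : Nat.card C = 36 ∧
      Nat.card ↥(C ⊓ normalizer ((P : Subgroup G) : Set G)) = 9 := by
    rcases hc with h | h | h
    · omega
    · omega
    · exact h
  set f' : C := ⟨f, hfC⟩ with hf'
  have hf4 : orderOf f' = 4 := by rw [hf', Subgroup.orderOf_mk, hf]
  obtain ⟨Q, hQ⟩ := (IsPGroup.of_card (p := 2) (n := 2) (by rw [Nat.card_zpowers, hf4]; norm_num) :
    IsPGroup 2 (zpowers f')).exists_le_sylow
  have hQ4 : Nat.card (Q : Subgroup C) = 4 := by
    rw [card_sylow_subgroup (p := 2) (k := 2) (m := 9) (by rw [hC36]; norm_num) (by norm_num) Q]; norm_num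
  have hQe : (Q : Subgroup C) = zpowers f' :=
    (eq_of_le_of_card_ge hQ (by rw [Nat.card_zpowers, hf4, hQ4])).symm
  have hcyc : IsCyclic (Q : Subgroup C) := hQe ▸ inferInstance
  have hmin : (Nat.card C).minFac = 2 := by rw [hC36]; norm_num
  have hcompl := IsCyclic.isComplement' hmin hcyc
  set K := (MonoidHom.transferSylow Q (hcyc.normalizer_le_centralizer hmin)).ker with hK
  have hK9 : Nat.card K = 9 := by
    have h' := hcompl.card_mul
    rw [hQ4, hC36] at h'
    change Nat.card K * 4 = 36 at h'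
    omega
  have hP9 := (D.sylow_three P).1
  have hle : (P : Subgroup G).subgroupOf C ≤ K := by
    intro a ha
    rw [hK, MonoidHom.mem_ker]
    refine orderOf_eq_one_iff.1 (Nat.eq_one_of_dvd_coprimes (show Nat.Coprime 9 4 by norm_num) ?_ ?_)
    · refine (orderOf_map_dvd _ a).trans ?_
      rw [← hP9, ← Subgroup.orderOf_coe]
      exact (P : Subgroup G).orderOf_dvd_natCard ha
    · exact hQ4 ▸ orderOf_dvd_natCard _
  have hPK : (P : Subgroup G).subgroupOf C = K :=
    eq_of_le_of_card_ge hle (by rw [hK9, Nat.card_congr (subgroupOfEquivOfLe hPC).toEquiv, hP9])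
  have hKn : ((P : Subgroup G).subgroupOf C).Normal := by rw [hPK]; infer_instance
  have hCle : C ≤ normalizer ((P : Subgroup G) : Set G) := (normal_subgroupOf_iff_le_normalizer hPC).1 hKn
  rw [inf_eq_left.2 hCle, hC36] at hCN
  omega

/-- The centraliser of an element of order five. -/
theorem Hyp.five_two {y : G} (hy : orderOf y = 5) :
    ¬ 4 ∣ Nat.card (centralizer ({y} : Set G)) ∧
      (Nat.card (normalizer ((zpowers y : Subgroup G) : Set G)) = 70 ∨
        Nat.card (normalizer ((zpowers y : Subgroup G) : Set G)) = 20) := by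
  obtain ⟨hN, hCd, hCne, h5⟩ := D.five hy
  have h3 : ¬ 3 ∣ Nat.card (centralizer ({y} : Set G)) := by
    intro h
    have : Fact (Nat.Prime 3) := ⟨Nat.prime_three⟩
    obtain ⟨z, hz, hz3⟩ := exists_mem_of_dvd (q := 3) _ h
    obtain ⟨P, -, -, hc⟩ := D.three hz3
    have h5' : 5 ∣ Nat.card (centralizer ({z} : Set G)) := hy ▸ (centralizer ({z} : Set G)).orderOf_dvd_natCard
      (mem_centralizer_singleton_iff.2 (mem_centralizer_singleton_iff.1 hz).symm)
    omega
  obtain ⟨c, hc⟩ := h5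
  obtain ⟨e, he⟩ := hCd
  rw [hc] at he h3 hCne ⊢
  rcases hN with h | h | h <;> rw [h] at he hCne ⊢
  · exfalso
    have : Fact (Nat.Prime 5) := ⟨by norm_num⟩
    -- the index divides four
    have hall : ∀ P : Sylow 5 G, Nat.card (P : Subgroup G) = 5 :=
      fun P => (D.normalizer_count (m := 504) (by norm_num) (by norm_num) P).1
    obtain ⟨P, hP⟩ := exists_zpowers hy hall
    obtain ⟨-, -, -, -, e', k, -, hed, hN', hC'⟩ := D.normalizer_count (m := 504) (by norm_num) (by norm_num) P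
    rw [← hP, h] at hN'
    rw [← hP, centralizer_zpowers, hc] at hC'
    have hck : c = k := by omega
    subst hck
    have := Nat.le_of_dvd (by norm_num) hed
    interval_cases e' <;> omega
  · refine ⟨fun h4 => ?_, Or.inl rfl⟩
    have h2 : 4 ∣ 70 := h4.trans ⟨e, he⟩
    omega
  · refine ⟨fun h4 => hCne ?_, Or.inr rfl⟩
    have h2 : 5 * c ∣ 20 := ⟨e, he⟩
    have h3' : 5 * c ≤ 20 := Nat.le_of_dvd (by norm_num) h2
    omega

/-- An abelian Sylow `2`-subgroup is impossible. -/
theorem Hyp.not_abelian (S : Sylow 2 G) (hS : IsMulCommutative (S : Subgroup G)) : False := by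
  classical
  have : Fact (Nat.Prime 2) := ⟨Nat.prime_two⟩
  have hfac : Nat.card G = 2 ^ 3 * 315 := by rw [D.card]; norm_num
  have hS8 : Nat.card (S : Subgroup G) = 8 := by rw [card_sylow_subgroup hfac (by norm_num) S]; norm_num
  set H := normalizer ((S : Subgroup G) : Set G) with hHd
  have hd2 : 2 ∣ Nat.card G := by rw [D.card]; norm_num
  have hH : H ≠ ⊤ := SimpleTools.normalizer_ne_top D.nc hd2 S
  have hSC : ∀ s ∈ (S : Subgroup G), (S : Subgroup G) ≤ centralizer ({s} : Set G) := fun s hs a ha =>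
    mem_centralizer_singleton_iff.2 (congrArg Subtype.val (hS.is_comm.comm (⟨a, ha⟩ : (S : Subgroup G)) ⟨s, hs⟩))
  obtain ⟨k, hk⟩ : 8 ∣ Nat.card H := hS8 ▸ card_dvd_of_le le_normalizer
  have hk315 : k ∣ 315 := by
    have h := D.dvd H
    rw [hk, show 2520 = 8 * 315 by norm_num] at h
    exact Nat.dvd_of_mul_dvd_mul_left (by norm_num) h
  have hkle : 8 * k ≤ 315 := hk ▸ D.small H hH
  have h5 : ¬ 5 ∣ Nat.card H := by
    intro h
    have : Fact (Nat.Prime 5) := ⟨by norm_num⟩
    obtain ⟨y, hy, hy5⟩ := exists_mem_of_dvd (q := 5) H h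
    have hc := le_centralizer_of_normalizes hy5 hy (by rw [hS8]; decide)
    exact (D.five_two hy5).1 ((show 4 ∣ 8 by norm_num).trans (hS8 ▸ card_dvd_of_le hc))
  have h7 : 7 ∣ Nat.card H := by
    by_contra h7
    have : Fact (Nat.Prime 3) := ⟨Nat.prime_three⟩
    have hk9 : k ∈ ((315 : ℕ).divisors.filter fun k => 8 * k ≤ 315 ∧ ¬ 5 ∣ k ∧ ¬ 7 ∣ k) :=
      Finset.mem_filter.2 ⟨Nat.mem_divisors.2 ⟨hk315, by norm_num⟩, hkle,
        fun h => h5 (hk ▸ h.mul_left 8), fun h => h7 (hk ▸ h.mul_left 8)⟩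
    rw [show ((315 : ℕ).divisors.filter fun k => 8 * k ≤ 315 ∧ ¬ 5 ∣ k ∧ ¬ 7 ∣ k) = {1, 3, 9} by decide] at hk9
    simp only [Finset.mem_insert, Finset.mem_singleton] at hk9
    obtain ⟨j, hj⟩ : ∃ j, k = 3 ^ j := by
      rcases hk9 with rfl | rfl | rfl
      exacts [⟨0, rfl⟩, ⟨1, rfl⟩, ⟨2, rfl⟩]
    obtain ⟨R₀, hR₀⟩ := Sylow.exists_subgroup_card_pow_prime (G := H) 3 (n := j)
      (by rw [hk, hj]; exact dvd_mul_left _ _)
    set R := R₀.map H.subtype with hRd
    have hRk : Nat.card R = k := by rw [hRd, card_map_of_injective H.subtype_injective, hR₀, hj]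
    have hRH : R ≤ H := map_subtype_le _
    have hmod := card_fixed_modEq (p := 3) (S : Subgroup G) R (IsPGroup.of_card (n := j) (hRk.trans hj)) hRH
    rw [hS8] at hmod
    obtain ⟨s, hs, hs1⟩ : ∃ s ∈ (S : Subgroup G) ⊓ centralizer (R : Set G), s ≠ 1 := by
      by_contra hall
      push Not at hall
      rw [Subgroup.eq_bot_iff_forall _ |>.2 hall, card_bot] at hmod
      norm_num at hmod
    obtain ⟨hsS, hsR⟩ := mem_inf.1 hs
    refine hs1 (eq_one_of_central D.nc S hsS fun n hn => ?_)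
    have hle : H ≤ centralizer ({s} : Set G) := by
      have hC1 : (S : Subgroup G) ≤ centralizer ({s} : Set G) ⊓ H := le_inf (hSC s hsS) le_normalizer
      have hC2 : R ≤ centralizer ({s} : Set G) ⊓ H := le_inf
        (fun r hr => mem_centralizer_singleton_iff.2 (mem_centralizer_iff.1 hsR r hr)) hRH
      have hd : Nat.card H ∣ Nat.card ↥(centralizer ({s} : Set G) ⊓ H) := by
        rw [hk]
        refine Nat.Coprime.mul_dvd_of_dvd_of_dvd ?_ (hS8 ▸ card_dvd_of_le hC1) (hRk ▸ card_dvd_of_le hC2)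
        rw [hj]
        exact Nat.Coprime.pow_right j (by norm_num)
      exact inf_eq_right.1 (eq_of_le_of_card_ge inf_le_right (Nat.le_of_dvd Nat.card_pos hd))
    exact mem_centralizer_singleton_iff.1 (hle hn)
  have : Fact (Nat.Prime 7) := ⟨by norm_num⟩
  obtain ⟨x, hxH, hx7⟩ := exists_mem_of_dvd (q := 7) H h7
  have hH' : H.index = 45 ∧ Nat.card H = 56 ∨ H.index = 15 ∧ Nat.card H = 168 := by
    have hm := H.index_mul_card
    rw [D.card, hk] at hm
    have hmem : k ∈ ((315 : ℕ).divisors.filter fun k => 8 * k ≤ 315 ∧ ¬ 5 ∣ k ∧ 7 ∣ k) :=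
      Finset.mem_filter.2 ⟨Nat.mem_divisors.2 ⟨hk315, by norm_num⟩, hkle, fun h => h5 (hk ▸ h.mul_left 8),
        (Nat.Coprime.dvd_of_dvd_mul_left (by norm_num) (hk ▸ h7))⟩
    rw [show ((315 : ℕ).divisors.filter fun k => 8 * k ≤ 315 ∧ ¬ 5 ∣ k ∧ 7 ∣ k) = {7, 21} by decide] at hmem
    simp only [Finset.mem_insert, Finset.mem_singleton] at hmem
    rcases hmem with rfl | rfl
    · left; constructor <;> omega
    · right; constructor <;> omega
  obtain ⟨s₀, hs₀S, hs₀⟩ : ∃ s ∈ (S : Subgroup G), s ≠ 1 := by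
    by_contra hall
    push Not at hall
    rw [Subgroup.eq_bot_iff_forall _ |>.2 hall, card_bot] at hS8
    norm_num at hS8
  have h2mem : ∀ g : G, g ∈ H → g ^ 8 = 1 → g ∈ (S : Subgroup G) := by
    intro g hg h8
    have hp : IsPGroup 2 (zpowers g) := fun a => ⟨3, by
      obtain ⟨i, hi⟩ := mem_zpowers_iff.1 a.2
      refine Subtype.ext ?_
      push_cast
      rw [← hi, ← zpow_natCast, ← zpow_mul, mul_comm, zpow_mul, zpow_natCast,
        h8, one_zpow]⟩
    have h := hp.inf_normalizer_sylow S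
    exact (mem_inf.1 (h ▸ mem_inf.2 ⟨mem_zpowers g, hg⟩ : g ∈ zpowers g ⊓ (S : Subgroup G))).2
  have hpow8 : ∀ g ∈ (S : Subgroup G), g ^ 8 = 1 := fun g hg => by
    rw [← hS8]; exact congrArg Subtype.val (pow_card_eq_one' (x := (⟨g, hg⟩ : (S : Subgroup G))))
  have hcardne : Nat.card {g : G // g ∈ (S : Subgroup G) ∧ g ≠ 1} = 7 := by
    have := Fintype.ofFinite G
    have h1 : Nat.card {g : G // g ∈ (S : Subgroup G) ∧ g ≠ 1} = Nat.card {a : (S : Subgroup G) // a ≠ 1} :=
      Nat.card_congr ((Equiv.subtypeSubtypeEquivSubtypeInter (fun g => g ∈ (S : Subgroup G)) (fun g => g ≠ 1)).symm.trans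
        (Equiv.subtypeEquivRight fun a => by simp))
    rw [h1, Nat.card_eq_fintype_card, Fintype.card_subtype_compl, Fintype.card_subtype_eq,
      ← Nat.card_eq_fintype_card, hS8]
  -- the element of order seven permutes the involutions transitively
  let φ : ↥(zpowers x) → {g : G // g ∈ (S : Subgroup G) ∧ g ≠ 1} := fun a =>
    ⟨(a : G) * s₀ * (a : G)⁻¹, (mem_normalizer_iff.1 (zpowers_le.2 hxH a.2) s₀).1 hs₀S,
      fun e => hs₀ (conj_eq_one_iff.1 e)⟩
  have hφ : Function.Bijective φ := by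
    refine (Nat.bijective_iff_injective_and_card φ).2 ⟨fun a c e => ?_, by rw [Nat.card_zpowers, hx7, hcardne]⟩
    by_contra hac
    have hcm : Commute ((a : G)⁻¹ * c) s₀ := by
      have e' : (a : G) * s₀ * (a : G)⁻¹ = c * s₀ * (c : G)⁻¹ := congrArg Subtype.val e
      refine mul_inv_eq_iff_eq_mul.1 ?_
      calc (a : G)⁻¹ * c * s₀ * ((a : G)⁻¹ * c)⁻¹ = (a : G)⁻¹ * (c * s₀ * (c : G)⁻¹) * a := by group
        _ = s₀ := by rw [← e']; group
    have hne : (a : G)⁻¹ * c ≠ 1 := fun h => hac (Subtype.ext (inv_mul_eq_one.1 h))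
    have hmem : (a : G)⁻¹ * c ∈ zpowers x := mul_mem (inv_mem a.2) c.2
    have ho : orderOf ((a : G)⁻¹ * c) = 7 := by
      have hd : orderOf ((a : G)⁻¹ * c) ∣ 7 := by
        rw [← hx7, ← Nat.card_zpowers x]; exact (zpowers x).orderOf_dvd_natCard hmem
      exact ((Nat.dvd_prime (by norm_num)).1 hd).resolve_left fun h => hne (orderOf_eq_one_iff.1 h)
    refine (D.seven ho).1 ?_
    have h8 : orderOf s₀ ∣ 2 ^ 3 := orderOf_dvd_of_pow_eq_one (hpow8 s₀ hs₀S)
    obtain ⟨i, -, hi⟩ := (Nat.dvd_prime_pow Nat.prime_two).1 h8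
    have hi0 : i ≠ 0 := fun e => hs₀ (orderOf_eq_one_iff.1 (by rw [hi, e, pow_zero]))
    exact ((hi ▸ dvd_pow_self 2 hi0 : 2 ∣ orderOf s₀)).trans
      ((centralizer ({(a : G)⁻¹ * c} : Set G)).orderOf_dvd_natCard (mem_centralizer_singleton_iff.2 hcm.symm.eq))
  have hconj : ∀ s ∈ (S : Subgroup G), s ≠ 1 → IsConj s₀ s := by
    intro s hs hs1
    obtain ⟨a, ha⟩ := hφ.2 ⟨s, hs, hs1⟩
    exact isConj_iff.2 ⟨a, congrArg Subtype.val ha⟩
  have hcls : Nat.card {g : G // IsConj s₀ g ∧ g ∈ H} = 7 := by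
    rw [← hcardne]
    refine Nat.card_congr (Equiv.subtypeEquivRight fun g =>
      ⟨fun ⟨hg, hgH⟩ => ?_, fun ⟨hg, hg1⟩ => ⟨hconj g hg hg1, le_normalizer hg⟩⟩)
    obtain ⟨c, rfl⟩ := isConj_iff.1 hg
    exact ⟨h2mem _ hgH (by rw [conj_pow, hpow8 s₀ hs₀S]; group), fun e => hs₀ (conj_eq_one_iff.1 e)⟩
  set F := Nat.card (MulAction.fixedBy (G ⧸ H) s₀) with hF
  have hfm := fixed_mul H s₀
  rw [hcls, ← hF] at hfm
  have hfix : ∀ s ∈ (S : Subgroup G), s ≠ 1 → Nat.card (MulAction.fixedBy (G ⧸ H) s) = F := by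
    intro s hs hs1
    have h := fixed_mul H s
    have := Fintype.ofFinite G
    have hc : Nat.card {g : G // IsConj s g ∧ g ∈ H} = 7 := by
      rw [← hcls]
      exact Nat.card_congr (Equiv.subtypeEquivRight fun g =>
        and_congr_left fun _ => ⟨fun h => (hconj s hs hs1).trans h, fun h => (hconj s hs hs1).symm.trans h⟩)
    rw [hc, ← CfsgLib.Char.card_centralizer_eq_of_isConj (hconj s hs hs1), ← hfm] at h
    exact Nat.eq_of_mul_eq_mul_right Nat.card_pos h
  -- Burnside's count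
  have hburn : 8 ∣ H.index + 7 * F := by
    haveI := Fintype.ofFinite G
    haveI := Fintype.ofFinite (G ⧸ H)
    have h := MulAction.sum_card_fixedBy_eq_card_orbits_mul_card_group ↥(S : Subgroup G) (G ⧸ H)
    rw [← Nat.card_eq_fintype_card (α := ↥(S : Subgroup G)), hS8] at h
    have h1 : Fintype.card (MulAction.fixedBy (G ⧸ H) (1 : ↥(S : Subgroup G))) = H.index := by
      rw [← Nat.card_eq_fintype_card, Subgroup.index]
      refine Nat.card_congr ((Equiv.setCongr ?_).trans (Equiv.Set.univ _))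
      ext q
      simp
    rw [← Finset.add_sum_erase _ _ (Finset.mem_univ (1 : ↥(S : Subgroup G))), h1,
      Finset.sum_congr rfl (g := fun _ => F) (fun s hs => ?_), Finset.sum_const, smul_eq_mul,
      Finset.card_erase_of_mem (Finset.mem_univ _), Finset.card_univ, ← Nat.card_eq_fintype_card, hS8] at h
    · exact ⟨_, h.trans (mul_comm _ _)⟩
    · have hs1 : (s : G) ≠ 1 := fun e => (Finset.mem_erase.1 hs).1 (Subtype.ext e)
      rw [← Nat.card_eq_fintype_card, ← hfix s s.2 hs1]
      rfl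
  set c := Nat.card (centralizer ({s₀} : Set G)) with hcd
  have hcle : c ≤ 315 := D.small _ (D.centralizer_ne_top hs₀)
  have hcdvd : c ∣ 2520 := D.dvd _
  have hc8 : 8 ∣ c := hS8 ▸ card_dvd_of_le (hSC s₀ hs₀S)
  have hc7 : ¬ 7 ∣ c := by
    intro h
    obtain ⟨a, ha, ha7⟩ := exists_mem_of_dvd (q := 7) _ h
    refine (D.seven ha7).1 ?_
    have h8 : orderOf s₀ ∣ 2 ^ 3 := orderOf_dvd_of_pow_eq_one (hpow8 s₀ hs₀S)
    obtain ⟨i, -, hi⟩ := (Nat.dvd_prime_pow Nat.prime_two).1 h8
    have hi0 : i ≠ 0 := fun e => hs₀ (orderOf_eq_one_iff.1 (by rw [hi, e, pow_zero]))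
    exact ((hi ▸ dvd_pow_self 2 hi0 : 2 ∣ orderOf s₀)).trans
      ((centralizer ({a} : Set G)).orderOf_dvd_natCard
        (mem_centralizer_singleton_iff.2 (mem_centralizer_singleton_iff.1 ha).symm))
  have hmem : c ∈ ((2520 : ℕ).divisors.filter fun c => c ≤ 315 ∧ 8 ∣ c ∧ ¬ 7 ∣ c) :=
    Finset.mem_filter.2 ⟨Nat.mem_divisors.2 ⟨hcdvd, by norm_num⟩, hcle, hc8, hc7⟩
  rw [show ((2520 : ℕ).divisors.filter fun c => c ≤ 315 ∧ 8 ∣ c ∧ ¬ 7 ∣ c) = {8, 24, 40, 72, 120} by
    decide +kernel] at hmem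
  simp only [Finset.mem_insert, Finset.mem_singleton] at hmem
  have hc40 : c ≠ 40 := by
    intro h40
    have : Fact (Nat.Prime 5) := ⟨by norm_num⟩
    obtain ⟨y, hy, hy5⟩ := exists_mem_of_dvd (q := 5) (centralizer ({s₀} : Set G)) (by rw [← hcd, h40]; norm_num)
    have hall : ∀ P : Sylow 5 G, Nat.card (P : Subgroup G) = 5 :=
      fun P => (D.normalizer_count (m := 504) (by norm_num) (by norm_num) P).1
    obtain ⟨P, hP⟩ := exists_zpowers hy5 hall
    obtain ⟨n, hn, hcn, -, -⟩ := sylow_count_le D.nc P (by rw [D.card]; norm_num) (hP ▸ zpowers_le.2 hy)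
      (D.centralizer_ne_top hs₀)
    rw [← hcd, h40] at hcn
    have hmemn : n ∈ ((40 : ℕ).divisors.filter fun n => n % 5 = 1) :=
      Finset.mem_filter.2 ⟨Nat.mem_divisors.2 ⟨⟨_, hcn⟩, by norm_num⟩, hn⟩
    rw [show ((40 : ℕ).divisors.filter fun n => n % 5 = 1) = {1} by decide, Finset.mem_singleton] at hmemn
    rw [hmemn, one_mul] at hcn
    have hdN : Nat.card ↥(centralizer ({s₀} : Set G) ⊓ normalizer ((P : Subgroup G) : Set G)) ∣
        Nat.card (normalizer ((P : Subgroup G) : Set G)) := card_dvd_of_le inf_le_right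
    rw [← hcn, ← hP] at hdN
    rcases (D.five_two hy5).2 with h | h <;> omega
  rcases hH' with ⟨hi, hcH⟩ | ⟨hi, hcH⟩ <;> rw [hcH] at hfm <;> rw [hi] at hburn <;> omega

/-- An element with centraliser of order four. -/
theorem Hyp.exists_small : ∃ f : G, Nat.card (centralizer ({f} : Set G)) ≤ 4 := by
  classical
  have : Fact (Nat.Prime 2) := ⟨Nat.prime_two⟩
  obtain ⟨S⟩ : Nonempty (Sylow 2 G) := inferInstance
  have hfac : Nat.card G = 2 ^ 3 * 315 := by rw [D.card]; norm_num
  have hcard : ∀ Q : Sylow 2 G, Nat.card (Q : Subgroup G) = 8 := fun Q => by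
    rw [card_sylow_subgroup hfac (by norm_num) Q]; norm_num
  have hpow : ∀ (Q : Sylow 2 G), ∀ g ∈ (Q : Subgroup G), g ^ 8 = 1 := fun Q g hg => by
    rw [← hcard Q]; exact congrArg Subtype.val (pow_card_eq_one' (x := (⟨g, hg⟩ : (Q : Subgroup G))))
  have hna : ∀ Q : Sylow 2 G, ∀ {g : G}, g ∈ (Q : Subgroup G) → orderOf g = 4 →
      ¬ (Q : Subgroup G) ≤ centralizer ({g} : Set G) := by
    intro Q g hg hg4 hle
    refine D.not_abelian Q ⟨⟨fun a b => Subtype.ext ?_⟩⟩
    set Z := (zpowers g).subgroupOf (Q : Subgroup G) with hZ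
    have hidx : Z.index = 2 := by
      have h := Z.index_mul_card
      rw [Nat.card_congr (subgroupOfEquivOfLe (zpowers_le.2 hg)).toEquiv, Nat.card_zpowers, hg4, hcard Q] at h
      omega
    have hcen : ∀ u v : (Q : Subgroup G), u ∈ Z → Commute (u : G) (v : G) := by
      intro u v hu
      obtain ⟨i, hi⟩ := mem_zpowers_iff.1 (mem_subgroupOf.1 hu)
      rw [← hi]
      exact (show Commute (v : G) g from mem_centralizer_singleton_iff.1 (hle v.2)).symm.zpow_left i
    push_cast
    by_cases ha : a ∈ Z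
    · exact (hcen a b ha).eq
    by_cases hb : b ∈ Z
    · exact (hcen b a hb).symm.eq
    have hab : a⁻¹ * b ∈ Z := by
      rw [mul_mem_iff_of_index_two hidx, inv_mem_iff]; exact iff_of_false ha hb
    have h' := (hcen (a⁻¹ * b) a hab).symm
    have h'' : Commute (a : G) ((a : G) * ((a⁻¹ * b : (Q : Subgroup G)) : G)) := (Commute.refl _).mul_right h'
    simpa using h''.eq
  obtain ⟨f, hfS, hf⟩ : ∃ f ∈ (S : Subgroup G), orderOf f = 4 := by
    by_contra hall
    push Not at hall
    refine D.not_abelian S ?_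
    have hsq : ∀ g ∈ (S : Subgroup G), g * g = 1 := by
      intro g hg
      obtain ⟨i, hi3, hi⟩ := (Nat.dvd_prime_pow Nat.prime_two).1
        (show orderOf g ∣ 2 ^ 3 from orderOf_dvd_of_pow_eq_one (hpow S g hg))
      have hne := hall g hg
      rw [hi] at hne
      interval_cases i
      · rw [orderOf_eq_one_iff.1 (hi.trans (pow_zero 2)), one_mul]
      · rw [← pow_two, ← show orderOf g = 2 from hi, pow_orderOf_eq_one]
      · simp at hne
      · exfalso
        have h4 : orderOf (g ^ 2) = 4 := by rw [orderOf_pow, hi]; rfl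
        exact hall (g ^ 2) (pow_mem hg 2) h4
    refine ⟨⟨fun a b => Subtype.ext ?_⟩⟩
    push_cast
    have hab := hsq _ (mul_mem a.2 b.2)
    calc (a : G) * b = ((a : G) * b)⁻¹ := (inv_eq_of_mul_eq_one_right hab).symm
      _ = b * a := by
        rw [mul_inv_rev, inv_eq_of_mul_eq_one_right (hsq _ a.2), inv_eq_of_mul_eq_one_right (hsq _ b.2)]
  refine ⟨f, ?_⟩
  set C := centralizer ({f} : Set G) with hCd
  have hfC : f ∈ C := mem_centralizer_singleton_iff.2 rfl
  have h4 : 4 ∣ Nat.card C := hf ▸ C.orderOf_dvd_natCard hfC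
  have hsymm : ∀ {g : G}, g ∈ C → f ∈ centralizer ({g} : Set G) := fun {g} hg =>
    mem_centralizer_singleton_iff.2 (mem_centralizer_singleton_iff.1 hg).symm
  have h8 : ¬ 8 ∣ Nat.card C := by
    intro h
    obtain ⟨R₀, hR₀⟩ := Sylow.exists_subgroup_card_pow_prime (G := C) 2 (n := 3) (by norm_num; exact h)
    have hRc : Nat.card (R₀.map C.subtype) = 8 := by
      rw [card_map_of_injective C.subtype_injective, hR₀]; norm_num
    obtain ⟨Q, hQ⟩ := (IsPGroup.of_card (p := 2) (n := 3) (by rw [hRc]; norm_num) :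
      IsPGroup 2 (R₀.map C.subtype)).exists_le_sylow
    have hQC : (Q : Subgroup G) ≤ C := by
      rw [← eq_of_le_of_card_ge hQ (by rw [hRc, hcard Q])]
      exact map_subtype_le _
    have hfN : f ∈ normalizer ((Q : Subgroup G) : Set G) := by
      refine mem_normalizer_iff.2 fun w => ⟨fun hw => ?_, fun hw => ?_⟩
      · rw [← mem_centralizer_singleton_iff.1 (hQC hw), mul_inv_cancel_right]; exact hw
      · have hcm : Commute (f * w * f⁻¹) f := mem_centralizer_singleton_iff.1 (hQC hw)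
        have e : w = f * w * f⁻¹ := by
          calc w = f⁻¹ * (f * w * f⁻¹ * f) := by group
            _ = f * w * f⁻¹ := by rw [hcm.eq]; group
        rw [e]; exact hw
    have hfQ : f ∈ (Q : Subgroup G) := by
      have hp : IsPGroup 2 (zpowers f) := IsPGroup.of_card (n := 2) (by rw [Nat.card_zpowers, hf]; norm_num)
      exact (mem_inf.1 (hp.inf_normalizer_sylow Q ▸ mem_inf.2 ⟨mem_zpowers f, hfN⟩ :
        f ∈ zpowers f ⊓ (Q : Subgroup G))).2
    exact hna Q hfQ hf hQC
  have h7 : ¬ 7 ∣ Nat.card C := by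
    intro h
    have : Fact (Nat.Prime 7) := ⟨by norm_num⟩
    obtain ⟨x, hx, hx7⟩ := exists_mem_of_dvd (q := 7) C h
    exact (D.seven hx7).1 ((show 2 ∣ 4 by norm_num).trans (hf ▸ (centralizer ({x} : Set G)).orderOf_dvd_natCard (hsymm hx)))
  have h5 : ¬ 5 ∣ Nat.card C := by
    intro h
    have : Fact (Nat.Prime 5) := ⟨by norm_num⟩
    obtain ⟨y, hy, hy5⟩ := exists_mem_of_dvd (q := 5) C h
    exact (D.five_two hy5).1 (hf ▸ (centralizer ({y} : Set G)).orderOf_dvd_natCard (hsymm hy))
  have h3 : ¬ 3 ∣ Nat.card C := by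
    intro h
    have : Fact (Nat.Prime 3) := ⟨Nat.prime_three⟩
    obtain ⟨z, hz, hz3⟩ := exists_mem_of_dvd (q := 3) C h
    exact D.no_twelve hz3 hf (mem_centralizer_singleton_iff.1 hz).symm
  have hmem : Nat.card C ∈ ((2520 : ℕ).divisors.filter fun c =>
      4 ∣ c ∧ ¬ 8 ∣ c ∧ ¬ 3 ∣ c ∧ ¬ 5 ∣ c ∧ ¬ 7 ∣ c) :=
    Finset.mem_filter.2 ⟨Nat.mem_divisors.2 ⟨D.dvd C, by norm_num⟩, h4, h8, h3, h5, h7⟩
  rw [show ((2520 : ℕ).divisors.filter fun c =>
    4 ∣ c ∧ ¬ 8 ∣ c ∧ ¬ 3 ∣ c ∧ ¬ 5 ∣ c ∧ ¬ 7 ∣ c) = {4} by decide +kernel, Finset.mem_singleton] at hmem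
  exact hmem.le

omit D

end CfsgLib.SmallGroups.Order2520
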