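import Cfsg.Agent.Lib.SmallGroups.Order168Klein
import Cfsg.Agent.Lib.SmallGroups.SylowInter

/-!
# Simple groups of order 168: four-groups and maximal subgroups
-/

set_option autoImplicit false

namespace CfsgLib.SmallGroups.Order168

open Subgroup CfsgLib.SmallGroups.SimpleTools

/-- One of the two four-groups of the dihedral group of order eight. -/
def dihFour (j : ZMod 4) : Subgroup (DihedralGroup 4) :=
  Subgroup.closure {DihedralGroup.r 2, DihedralGroup.sr j}

theorem mem_dihFour {j : ZMod 4} (g : DihedralGroup 4) :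
    g ∈ dihFour j ↔ g = 1 ∨ g = .r 2 ∨ g = .sr j ∨ g = .sr (j + 2) := by
  refine ⟨fun hg => ?_, fun hg => ?_⟩
  · induction hg using Subgroup.closure_induction with
    | mem x hx => rcases hx with rfl | rfl <;> simp
    | one => exact Or.inl rfl
    | mul x y hxm hym hx hy =>
      clear hxm hym; revert hx hy; revert x y; revert j
      decide
    | inv x hxm hx =>
      clear hxm; revert hx; revert x; revert j
      decide
  · have h1 : DihedralGroup.r 2 ∈ dihFour j := Subgroup.subset_closure (Or.inl rfl)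
    have h2 : DihedralGroup.sr j ∈ dihFour j := Subgroup.subset_closure (Or.inr rfl)
    rcases hg with rfl | rfl | rfl | rfl
    · exact one_mem _
    · exact h1
    · exact h2
    · have := mul_mem h2 h1
      rwa [DihedralGroup.sr_mul_r] at this

theorem dihFour_klein (j : ZMod 4) : IsKleinFour ↥(dihFour j) := by
  refine isKleinFour_of ?_ fun x => Subtype.ext ?_
  · have h : (dihFour j : Set (DihedralGroup 4)) =
        ↑({1, .r 2, .sr j, .sr (j + 2)} : Finset (DihedralGroup 4)) := by
      ext g; simp [mem_dihFour]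
    rw [← SetLike.coe_sort_coe, Nat.card_coe_set_eq, h, Set.ncard_coe_finset]
    clear h; revert j; decide
  · have key : ∀ (i : ZMod 4) (g : DihedralGroup 4),
        g = 1 ∨ g = .r 2 ∨ g = .sr i ∨ g = .sr (i + 2) → g * g = 1 := by decide
    exact key j _ ((mem_dihFour (x : DihedralGroup 4)).mp x.2)

theorem dihFour_ne : dihFour 0 ≠ dihFour 1 := fun e => by
  have h : DihedralGroup.sr (0 : ZMod 4) ∈ dihFour 1 := e ▸ (mem_dihFour _).mpr (Or.inr (Or.inr (Or.inl rfl)))
  rw [mem_dihFour] at h
  revert h; decide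

theorem dihFour_cases (V : Subgroup (DihedralGroup 4)) (hV : IsKleinFour ↥V) :
    V = dihFour 0 ∨ V = dihFour 1 := by
  have key : ∀ v w : DihedralGroup 4, v * v = 1 → w * w = 1 → (v * w) * (v * w) = 1 →
      (v = 1 ∨ v = .r 2 ∨ v = .sr 0 ∨ v = .sr (0 + 2)) ∧ (w = 1 ∨ w = .r 2 ∨ w = .sr 0 ∨ w = .sr (0 + 2)) ∨
      (v = 1 ∨ v = .r 2 ∨ v = .sr 1 ∨ v = .sr (1 + 2)) ∧ (w = 1 ∨ w = .r 2 ∨ w = .sr 1 ∨ w = .sr (1 + 2)) := by
    decide
  have hsq : ∀ v ∈ V, v * v = 1 := fun v hv => congrArg Subtype.val (IsKleinFour.mul_self (⟨v, hv⟩ : V))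
  have hle : V ≤ dihFour 0 ∨ V ≤ dihFour 1 := by
    by_contra hcon
    rw [not_or] at hcon
    obtain ⟨v, hv, hv0⟩ := SetLike.not_le_iff_exists.mp hcon.1
    obtain ⟨w, hw, hw1⟩ := SetLike.not_le_iff_exists.mp hcon.2
    rcases key v w (hsq v hv) (hsq w hw) (hsq _ (mul_mem hv hw)) with ⟨a, -⟩ | ⟨-, b⟩
    · exact hv0 ((mem_dihFour v).mpr a)
    · exact hw1 ((mem_dihFour w).mpr b)
  rcases hle with e | e
  · exact Or.inl (Subgroup.eq_of_le_of_card_ge e (by
      rw [IsKleinFour.card_four (G := ↥V), (dihFour_klein 0).card_four]))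
  · exact Or.inr (Subgroup.eq_of_le_of_card_ge e (by
      rw [IsKleinFour.card_four (G := ↥V), (dihFour_klein 1).card_four]))

theorem klein_map {H K : Type*} [Group H] [Group K] (f : H →* K) (hf : Function.Injective f)
    (U : Subgroup H) (hU : IsKleinFour ↥U) : IsKleinFour ↥(U.map f) := by
  refine isKleinFour_of ((Subgroup.card_map_of_injective hf).trans hU.card_four) fun x => Subtype.ext ?_
  obtain ⟨u, hu, e⟩ := Subgroup.mem_map.mp x.2
  show (x : K) * x = 1
  rw [← e, ← map_mul, show u * u = 1 from congrArg Subtype.val (IsKleinFour.mul_self (⟨u, hu⟩ : U)), map_one]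

variable {G : Type*} [Group G] [Finite G] [IsSimpleGroup G]

section
variable (h : Nat.card G = 168)
include h

theorem klein_in_sylow (T : Sylow 2 G) : ∃ U W : Subgroup G, U ≠ W ∧ U ≤ T ∧ W ≤ T ∧
    IsKleinFour ↥U ∧ IsKleinFour ↥W ∧
    ∀ V : Subgroup G, V ≤ T → IsKleinFour ↥V → V = U ∨ V = W := by
  obtain ⟨e⟩ := dihedral h T
  let f : DihedralGroup 4 →* G := (T : Subgroup G).subtype.comp e.symm.toMonoidHom
  have hf : Function.Injective f := (T : Subgroup G).subtype_injective.comp e.symm.injective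
  have hrange : ∀ V : Subgroup (DihedralGroup 4), V.map f ≤ T := by
    rintro V _ ⟨v, -, rfl⟩
    exact (e.symm v).2
  refine ⟨(dihFour 0).map f, (dihFour 1).map f, fun e' => dihFour_ne (Subgroup.map_injective hf e'),
    hrange _, hrange _, klein_map f hf _ (dihFour_klein 0), klein_map f hf _ (dihFour_klein 1),
    fun V hV hk => ?_⟩
  have hVeq : (V.comap f).map f = V := by
    refine Subgroup.map_comap_eq_self fun v hv => ⟨e ⟨v, hV hv⟩, ?_⟩
    show ((e.symm (e ⟨v, hV hv⟩) : ↥(T : Subgroup G)) : G) = v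
    rw [MulEquiv.symm_apply_apply]
  have hk' : IsKleinFour ↥(V.comap f) := by
    refine isKleinFour_of ?_ fun x => Subtype.ext (hf ?_)
    · rw [← Subgroup.card_map_of_injective hf, hVeq]; exact hk.card_four
    · show f ((x : DihedralGroup 4) * x) = f 1
      rw [map_mul, map_one]
      exact congrArg Subtype.val (IsKleinFour.mul_self (⟨f x, x.2⟩ : V))
  rcases dihFour_cases _ hk' with e' | e' <;> [left; right] <;> rw [← hVeq, e']

theorem sylow_le_normalizer {T : Sylow 2 G} {U : Subgroup G} (hU : U ≤ T) (hk : IsKleinFour ↥U) :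
    (T : Subgroup G) ≤ normalizer (U : Set G) := by
  refine le_normalizer_of_normal_subgroupOf (hK := Subgroup.normal_of_index_eq_two ?_) hU
  have hm := (U.subgroupOf (T : Subgroup G)).index_mul_card
  rw [card_two h T, Nat.card_congr (subgroupOfEquivOfLe hU).toEquiv, hk.card_four] at hm
  omega

theorem card_normalizer_klein {U : Subgroup G} (hk : IsKleinFour ↥U) :
    Nat.card (normalizer (U : Set G)) = 24 := by
  have : Fact (Nat.Prime 2) := ⟨Nat.prime_two⟩
  obtain ⟨T, hT⟩ := (IsPGroup.of_card (n := 2) hk.card_four : IsPGroup 2 ↥U).exists_le_sylow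
  have hTN := sylow_le_normalizer h hT hk
  have h8 := Subgroup.card_dvd_of_le hTN
  rw [card_two h T] at h8
  have hne : normalizer (U : Set G) ≠ ⊤ := by
    intro e
    rcases (normalizer_eq_top_iff.mp e).eq_bot_or_eq_top with hb | hb
    · have := hk.card_four
      rw [hb, Subgroup.card_bot] at this; omega
    · have := hk.card_four
      rw [hb, Subgroup.card_top, h] at this; omega
  have h7 := seven_le_index h hne
  have hm := (normalizer (U : Set G)).index_mul_card
  rw [h] at hm
  have hne8 : Nat.card (normalizer (U : Set G)) ≠ 8 := by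
    intro e8
    have hTeq : (T : Subgroup G) = normalizer (U : Set G) :=
      Subgroup.eq_of_le_of_card_ge hTN (by rw [e8, card_two h T])
    obtain ⟨z, hzT, hz2, hzc⟩ := exists_central h T
    obtain ⟨⟨t, htU⟩, ht⟩ : ∃ t : U, (t : G) ≠ 1 ∧ (t : G) ≠ z := by
      by_contra hcon
      push Not at hcon
      have hsub : (U : Set G) ⊆ {1, z} := fun a ha => by
        rcases eq_or_ne a 1 with rfl | hne
        · exact Or.inl rfl
        · exact Or.inr (hcon ⟨a, ha⟩ hne)
      have := (Set.ncard_le_ncard hsub).trans (Set.ncard_insert_le _ _)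
      rw [Set.ncard_singleton, ← Nat.card_coe_set_eq, SetLike.coe_sort_coe, hk.card_four] at this
      omega
    have hto : orderOf t = 2 := orderOf_eq_prime (by
      rw [pow_two]; exact congrArg Subtype.val (IsKleinFour.mul_self (⟨t, htU⟩ : U))) ht.1
    obtain ⟨g, hg⟩ := isConj_iff.mp ((classes h).2.2.1 z t hz2 hto)
    -- `centralizer t` is a Sylow subgroup normalising `U`
    have hC := centralizer_central h (g • T : Sylow 2 G) (z := t)
      (show t ∈ (T : Subgroup G).map (MulAut.conj g).toMonoidHom from ⟨z, hzT, hg⟩) ht.1 (by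
        intro a ha
        obtain ⟨b, hb, rfl⟩ := Subgroup.mem_map.mp (show a ∈ (T : Subgroup G).map (MulAut.conj g).toMonoidHom from ha)
        show (g * b * g⁻¹) * t = t * (g * b * g⁻¹)
        rw [← hg]
        calc (g * b * g⁻¹) * (g * z * g⁻¹) = g * (b * z) * g⁻¹ := by group
          _ = g * (z * b) * g⁻¹ := by rw [hzc b hb]
          _ = _ := by group)
    have hUle : U ≤ ((g • T : Sylow 2 G) : Subgroup G) := by
      rw [← hC]
      intro a ha
      have := hk
      exact mem_centralizer_singleton_iff.mpr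
        (congrArg Subtype.val (mul_comm_of_exponent_two hk.exponent_two (⟨a, ha⟩ : U) ⟨t, htU⟩))
    have hTT : (T : Subgroup G) = (g • T : Sylow 2 G) :=
      (Subgroup.eq_of_le_of_card_ge ((sylow_le_normalizer h hUle hk).trans hTeq.ge) (by
        rw [card_two h T, card_two h (g • T)])).symm
    have htc : ∀ a ∈ (T : Subgroup G), a * t = t * a := fun a ha => by
      rw [hTT, ← hC] at ha
      exact mem_centralizer_singleton_iff.mp ha
    -- the centre of `T` has order two
    obtain ⟨e⟩ := dihedral h T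
    have hcen : ∀ x y : DihedralGroup 4, x ≠ 1 → y ≠ 1 → (∀ a, a * x = x * a) → (∀ a, a * y = y * a) → x = y := by
      decide
    have htT : t ∈ (T : Subgroup G) := hT htU
    refine ht.2 (congrArg Subtype.val (e.injective (hcen (e ⟨t, htT⟩) (e ⟨z, hzT⟩) ?_ ?_ ?_ ?_)))
    · exact fun e1 => ht.1 (congrArg Subtype.val (e.injective (e1.trans (map_one e).symm)))
    · intro e1
      have := congrArg Subtype.val (e.injective (e1.trans (map_one e).symm))
      simp only [OneMemClass.coe_one] at this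
      rw [this, orderOf_one] at hz2; omega
    all_goals
      intro a
      obtain ⟨⟨a, ha⟩, rfl⟩ := e.surjective a
      rw [← map_mul, ← map_mul]
      exact congrArg e (Subtype.ext (by first | exact htc a ha | exact hzc a ha))
  obtain ⟨m, hm'⟩ := h8
  rw [hm'] at hm hne8 ⊢
  have hm3 : m ≤ 3 := by nlinarith
  interval_cases m <;> omega

theorem normalizer_klein_iso {U : Subgroup G} (hk : IsKleinFour ↥U) :
    Nonempty (↥(normalizer (U : Set G)) ≃* Equiv.Perm (Fin 4)) := by
  refine Cfsg.Agent.S1012.result (card_normalizer_klein h hk) fun g hg => ?_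
  rw [← Subgroup.orderOf_coe] at hg
  rcases orderOf_mem h (g : G) with e | e | e | e | e <;> omega

theorem klein_not_conj {T : Sylow 2 G} {U W : Subgroup G} (hU : U ≤ T) (hW : W ≤ T)
    (hkU : IsKleinFour ↥U) (hkW : IsKleinFour ↥W) (hne : U ≠ W) (g : G) :
    U.map (MulAut.conj g).toMonoidHom ≠ W := by
  intro hg
  have : Fact (Nat.Prime 2) := ⟨Nat.prime_two⟩
  set N := normalizer (W : Set G)
  have h1 : (T : Subgroup G) ≤ N := sylow_le_normalizer h hW hkW
  have h2 : ((g • T : Sylow 2 G) : Subgroup G) ≤ N := by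
    refine sylow_le_normalizer h ?_ hkW
    rw [← hg]
    exact Subgroup.map_mono hU
  obtain ⟨n, hn⟩ := MulAction.exists_smul_eq ↥N ((g • T : Sylow 2 G).subtype h2) (T.subtype h1)
  rw [Sylow.smul_subtype] at hn
  have hfix : ((n : G) * g) • T = T := by
    rw [mul_smul]
    exact Sylow.subtype_injective hn
  have hmem : (n : G) * g ∈ (T : Subgroup G) := by
    rw [← normalizer_two h T]
    exact Sylow.smul_eq_iff_mem_normalizer.mp hfix
  have e1 : U.map (MulAut.conj ((n : G) * g)).toMonoidHom = U :=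
    mem_normalizer_iff_map_conj_eq.mp (sylow_le_normalizer h hU hkU hmem)
  have e2 : W.map (MulAut.conj (n : G)).toMonoidHom = W := mem_normalizer_iff_map_conj_eq.mp n.2
  apply hne
  calc U = U.map (MulAut.conj ((n : G) * g)).toMonoidHom := e1.symm
    _ = (U.map (MulAut.conj g).toMonoidHom).map (MulAut.conj (n : G)).toMonoidHom := by
      rw [map_mul, Subgroup.map_map]; rfl
    _ = W := by rw [hg, e2]

omit h in
theorem map_conj_normalizer (U : Subgroup G) (g : G) :
    (normalizer (U : Set G)).map (MulAut.conj g).toMonoidHom =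
      normalizer ((U.map (MulAut.conj g).toMonoidHom : Subgroup G) : Set G) :=
  map_equiv_normalizer_eq (H := U) (MulAut.conj g)

theorem klein_conj_cases {T : Sylow 2 G} {U W : Subgroup G} (hUW : U ≠ W)
    (hall : ∀ V : Subgroup G, V ≤ T → IsKleinFour ↥V → V = U ∨ V = W) {V : Subgroup G}
    (hk : IsKleinFour ↥V) :
    ∃ g : G, V = U.map (MulAut.conj g).toMonoidHom ∨ V = W.map (MulAut.conj g).toMonoidHom := by
  have : Fact (Nat.Prime 2) := ⟨Nat.prime_two⟩
  obtain ⟨S, hS⟩ := (IsPGroup.of_card (n := 2) hk.card_four : IsPGroup 2 ↥V).exists_le_sylow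
  obtain ⟨g, hg⟩ := MulAction.exists_smul_eq G T S
  have hSeq : (S : Subgroup G) = (T : Subgroup G).map (MulAut.conj g).toMonoidHom := by
    rw [← hg]; rfl
  have hback : V.map (MulAut.conj g⁻¹).toMonoidHom ≤ (T : Subgroup G) := by
    rintro _ ⟨v, hv, rfl⟩
    obtain ⟨t, ht, e⟩ := Subgroup.mem_map.mp (hSeq ▸ hS hv)
    rw [← e]
    simpa [MulAut.conj_apply, mul_assoc] using ht
  have hV : V = (V.map (MulAut.conj g⁻¹).toMonoidHom).map (MulAut.conj g).toMonoidHom := by
    rw [Subgroup.map_map]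
    conv_lhs => rw [← Subgroup.map_id V]
    congr 1
    ext v; simp [MulAut.conj_apply, mul_assoc]
  rcases hall _ hback (klein_map _ (MulAut.conj g⁻¹).injective V hk) with e | e
  · exact ⟨g, Or.inl (by rw [hV, e])⟩
  · exact ⟨g, Or.inr (by rw [hV, e])⟩

/-- A subgroup of order four normalised by an element of order three is a four-group. -/
theorem klein_of_normalised {K : Subgroup G} (hK : Nat.card K = 4) {q : G} (hq : orderOf q = 3)
    (hqK : q ∈ normalizer (K : Set G)) : IsKleinFour ↥K := by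
  classical
  refine isKleinFour_of hK fun x => Subtype.ext ?_
  show (x : G) * x = 1
  by_contra hne
  have hox : orderOf (x : G) = 4 := by
    have hd : orderOf (x : G) ∣ 2 ^ 2 := by
      have h1 := K.orderOf_dvd_natCard x.2
      rwa [hK] at h1
    obtain ⟨i, hi, e⟩ := (Nat.dvd_prime_pow Nat.prime_two).mp hd
    interval_cases i
    · exact absurd (by rw [orderOf_eq_one_iff.mp (e.trans (pow_zero 2)), one_mul]) hne
    · refine absurd ?_ hne
      rw [← pow_two, show (2 : ℕ) = orderOf (x : G) by rw [e, pow_one]]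
      exact pow_orderOf_eq_one _
    · exact e
  have hz : zpowers (x : G) = K :=
    Subgroup.eq_of_le_of_card_ge (zpowers_le.mpr x.2) (by rw [hK, Nat.card_zpowers, hox])
  have h2 : orderOf ((x : G) ^ 2) = 2 := by rw [orderOf_pow' _ two_ne_zero, hox]; norm_num
  refine not_commute_three h hq h2 ?_
  have hm : q * (x : G) ^ 2 * q⁻¹ ∈ K := (mem_normalizer_iff.mp hqK _).mp (K.pow_mem x.2 2)
  have ho : orderOf (q * (x : G) ^ 2 * q⁻¹) = 2 := by
    rw [show q * (x : G) ^ 2 * q⁻¹ = MulAut.conj q ((x : G) ^ 2) from rfl, MulEquiv.orderOf_eq, h2]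
  have hm' := (SetLike.ext_iff.mp hz _).mpr hm
  rw [mem_zpowers_iff_mem_range_orderOf] at hm'
  obtain ⟨i, hi, e⟩ := Finset.mem_image.mp hm'
  rw [hox, Finset.mem_range] at hi
  rw [← e] at ho
  interval_cases i
  · rw [pow_zero, orderOf_one] at ho; omega
  · rw [pow_one, hox] at ho; omega
  · exact (mul_inv_eq_iff_eq_mul.mp e.symm).symm
  · rw [orderOf_pow' _ three_ne_zero, hox] at ho; norm_num at ho

theorem normalizer_three_le [Fact (Nat.Prime 3)] (Q : Sylow 3 G) :
    ∃ V : Subgroup G, IsKleinFour ↥V ∧ normalizer ((Q : Subgroup G) : Set G) ≤ normalizer (V : Set G) := by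
  have : Fact (Nat.Prime 2) := ⟨Nat.prime_two⟩
  obtain ⟨T⟩ : Nonempty (Sylow 2 G) := inferInstance
  obtain ⟨U, W, -, hU, -, hkU, -, -⟩ := klein_in_sylow h T
  set N := normalizer (U : Set G)
  have hN : Nat.card N = 24 := card_normalizer_klein h hkU
  obtain ⟨Q'⟩ : Nonempty (Sylow 3 ↥N) := inferInstance
  obtain ⟨S, hS⟩ := (Q'.isPGroup'.map N.subtype).exists_le_sylow
  have hQ' : (Q' : Subgroup ↥N).map N.subtype = S := by
    refine Subgroup.eq_of_le_of_card_ge hS ?_
    rw [card_three h S, Subgroup.card_map_of_injective N.subtype_injective,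
      card_sylow_subgroup (k := 1) (m := 8) (by rw [hN]; norm_num) (by norm_num) Q']
    norm_num
  have hle : normalizer ((S : Subgroup G) : Set G) ≤ N := by
    have h1 : (normalizer ((Q' : Subgroup ↥N) : Set ↥N)).map N.subtype ≤ normalizer ((S : Subgroup G) : Set G) := by
      rw [← hQ']
      exact le_normalizer_map N.subtype
    have h2 := card_normalizer_mul Q'
    have hm := card_sylow_mem (G := ↥N) (p := 3) (k := 1) (m := 8) (by rw [hN]; norm_num) (by norm_num)
    rw [show (Nat.divisors 8).filter (fun n => n % 3 = 1) = {1, 4} by decide] at hm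
    simp only [Finset.mem_insert, Finset.mem_singleton] at hm
    rw [hN] at h2
    have h6 : 6 ≤ Nat.card ↥(normalizer ((Q' : Subgroup ↥N) : Set ↥N)) := by
      rcases hm with e | e <;> rw [e] at h2 <;> omega
    have heq := Subgroup.eq_of_le_of_card_ge h1 (by
      rw [card_normalizer_three h S, Subgroup.card_map_of_injective N.subtype_injective]; exact h6)
    exact heq ▸ map_subtype_le _
  obtain ⟨g, rfl⟩ := MulAction.exists_smul_eq G S Q
  refine ⟨U.map (MulAut.conj g).toMonoidHom, klein_map _ (MulAut.conj g).injective U hkU, ?_⟩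
  rw [← map_conj_normalizer,
    show (((g • S : Sylow 3 G) : Subgroup G) : Set G) =
      (((S : Subgroup G).map (MulAut.conj g).toMonoidHom : Subgroup G) : Set G) from rfl, ← map_conj_normalizer]
  exact Subgroup.map_mono hle

/-- The four-group of the symmetric group of degree four. -/
def permFour : Subgroup (Equiv.Perm (Fin 4)) :=
  Subgroup.closure {Equiv.swap 0 1 * Equiv.swap 2 3, Equiv.swap 0 2 * Equiv.swap 1 3}

omit h in
theorem permFour_card_normal : Nat.card permFour = 4 ∧ permFour.Normal := by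
  have hmem : ∀ g, g ∈ permFour ↔ g ∈ ({1, Equiv.swap 0 1 * Equiv.swap 2 3, Equiv.swap 0 2 * Equiv.swap 1 3,
      Equiv.swap 0 3 * Equiv.swap 1 2} : Finset (Equiv.Perm (Fin 4))) := by
    intro g
    refine ⟨fun hg => ?_, fun hg => ?_⟩
    · induction hg using Subgroup.closure_induction with
      | mem x hx => rcases hx with rfl | rfl <;> simp
      | one => simp
      | mul x y hxm hym hx hy => clear hxm hym; revert hx hy; revert x y; decide
      | inv x hxm hx => clear hxm; revert hx; revert x; decide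
    · have h1 : Equiv.swap (0 : Fin 4) 1 * Equiv.swap 2 3 ∈ permFour := Subgroup.subset_closure (Or.inl rfl)
      have h2 : Equiv.swap (0 : Fin 4) 2 * Equiv.swap 1 3 ∈ permFour := Subgroup.subset_closure (Or.inr rfl)
      simp only [Finset.mem_insert, Finset.mem_singleton] at hg
      rcases hg with rfl | rfl | rfl | rfl
      · exact one_mem _
      · exact h1
      · exact h2
      · have h3 := mul_mem h1 h2
        rwa [show Equiv.swap (0 : Fin 4) 1 * Equiv.swap 2 3 * (Equiv.swap 0 2 * Equiv.swap 1 3) =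
          Equiv.swap 0 3 * Equiv.swap 1 2 by decide] at h3
  refine ⟨?_, ⟨fun a ha g => ?_⟩⟩
  · rw [← SetLike.coe_sort_coe, Nat.card_coe_set_eq,
      show (permFour : Set (Equiv.Perm (Fin 4))) = ↑({1, Equiv.swap 0 1 * Equiv.swap 2 3, Equiv.swap 0 2 * Equiv.swap 1 3,
        Equiv.swap 0 3 * Equiv.swap 1 2} : Finset (Equiv.Perm (Fin 4))) from Set.ext hmem, Set.ncard_coe_finset]
    decide
  · rw [hmem] at ha ⊢
    revert ha; revert a g; decide

theorem le_normalizer_klein {H : Subgroup G} (hH : Nat.card H ∣ 24) :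
    ∃ V : Subgroup G, IsKleinFour ↥V ∧ H ≤ normalizer (V : Set G) := by
  have : Fact (Nat.Prime 2) := ⟨Nat.prime_two⟩
  have : Fact (Nat.Prime 3) := ⟨Nat.prime_three⟩
  by_cases h3 : 3 ∣ Nat.card H
  swap
  · have hd8 : Nat.card H ∣ 2 ^ 3 := (Nat.Coprime.symm (Nat.prime_three.coprime_iff_not_dvd.mpr h3)).dvd_of_dvd_mul_left
      (show Nat.card H ∣ 3 * 8 from hH)
    obtain ⟨j, -, hj⟩ := (Nat.dvd_prime_pow Nat.prime_two).mp hd8
    obtain ⟨T, hT⟩ := (IsPGroup.of_card hj : IsPGroup 2 ↥H).exists_le_sylow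
    obtain ⟨U, -, -, hU, -, hk, -, -⟩ := klein_in_sylow h T
    exact ⟨U, hk, hT.trans (sylow_le_normalizer h hU hk)⟩
  obtain ⟨k, hk⟩ := h3
  have hk8 : k ∣ 8 := Nat.dvd_of_mul_dvd_mul_left (by norm_num : 0 < 3) (hk ▸ hH : 3 * k ∣ 3 * 8)
  obtain ⟨Q'⟩ : Nonempty (Sylow 3 ↥H) := inferInstance
  have hk3 : ¬ 3 ∣ k := fun hd => by
    have := hd.trans hk8; norm_num at this
  have hkne : k ≠ 0 := by rintro rfl; exact hk3 (dvd_zero 3)
  have hQc : Nat.card (Q' : Subgroup ↥H) = 3 :=
    (card_sylow_subgroup (k := 1) (m := k) (by rw [hk, pow_one]) hk3 Q').trans (pow_one 3)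
  obtain ⟨S, hS⟩ := (Q'.isPGroup'.map H.subtype).exists_le_sylow
  have hQ' : (Q' : Subgroup ↥H).map H.subtype = S := Subgroup.eq_of_le_of_card_ge hS (by
    rw [card_three h S, Subgroup.card_map_of_injective H.subtype_injective, hQc])
  by_cases hone : Nat.card (Sylow 3 ↥H) = 1
  · obtain ⟨V, hV, hle⟩ := normalizer_three_le h S
    refine ⟨V, hV, fun a ha => hle ?_⟩
    have htop : normalizer ((Q' : Subgroup ↥H) : Set ↥H) = ⊤ :=
      Subgroup.index_eq_one.mp (hone ▸ Q'.card_eq_index_normalizer.symm)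
    rw [← hQ']
    exact le_normalizer_map H.subtype ⟨⟨a, ha⟩, htop ▸ mem_top _, rfl⟩
  obtain ⟨⟨q, hqS⟩, hq⟩ := exists_prime_orderOf_dvd_card' 3 (dvd_of_eq (card_three h S).symm)
  rw [← Subgroup.orderOf_coe] at hq
  have hqH : q ∈ H := map_subtype_le (Q' : Subgroup ↥H) (hQ'.symm ▸ hqS)
  -- it suffices to find a normal subgroup of order four
  suffices hK : ∃ K : Subgroup ↥H, Nat.card K = 4 ∧ K.Normal by
    obtain ⟨K, hK4, hKn⟩ := hK
    have hle : H ≤ normalizer ((K.map H.subtype : Subgroup G) : Set G) := by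
      intro a ha
      exact le_normalizer_map H.subtype ⟨⟨a, ha⟩, (normalizer_eq_top_iff.mpr hKn) ▸ mem_top _, rfl⟩
    have hc : Nat.card (K.map H.subtype) = 4 := by rw [Subgroup.card_map_of_injective H.subtype_injective, hK4]
    exact ⟨K.map H.subtype, klein_of_normalised h hc hq (hle hqH), hle⟩
  have hm := card_sylow_mem (G := ↥H) (p := 3) (k := 1) (by rw [hk, pow_one]) hkne
  rw [Finset.mem_filter, Nat.mem_divisors] at hm
  have hmul := card_normalizer_mul Q'
  have hkle := Nat.le_of_dvd (by norm_num) hk8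
  have hn4 : Nat.card (Sylow 3 ↥H) = 4 ∧ (k = 4 ∨ k = 8) := by
    have key : ∀ k : Fin 9, ∀ n : Fin 9, k.1 ∣ 8 → n.1 ∣ k.1 → n.1 % 3 = 1 → n.1 ≠ 1 → n.1 = 4 ∧ (k.1 = 4 ∨ k.1 = 8) := by decide
    have hle := Nat.le_of_dvd (Nat.pos_of_ne_zero hkne) hm.1.1
    exact key ⟨k, by omega⟩ ⟨Nat.card (Sylow 3 ↥H), by omega⟩ hk8 hm.1.1 hm.2 hone
  rcases hn4.2 with rfl | rfl
  · -- order twelve: the Sylow subgroup is self-normalising
    have hN3 : Nat.card (normalizer ((Q' : Subgroup ↥H) : Set ↥H)) = 3 := by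
      rw [hn4.1, hk] at hmul; omega
    have heq : (Q' : Subgroup ↥H) = normalizer ((Q' : Subgroup ↥H) : Set ↥H) :=
      Subgroup.eq_of_le_of_card_ge le_normalizer (by rw [hN3, hQc])
    have : IsCyclic ↥(Q' : Subgroup ↥H) := isCyclic_of_prime_card hQc
    have hc := MonoidHom.ker_transferSylow_isComplement' Q' (by
      refine (le_of_eq heq.symm).trans ?_
      exact fun a ha => mem_centralizer_iff.mpr fun b hb =>
        congrArg Subtype.val (IsCyclic.isMulCommutative.is_comm.comm ⟨b, hb⟩ (⟨a, ha⟩ : ↥(Q' : Subgroup ↥H))))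
    have hfin : ∀ K : Subgroup ↥H, Subgroup.IsComplement' K (Q' : Subgroup ↥H) → Nat.card K = 4 := fun K hK => by
      have := hK.card_mul
      rw [hQc, hk] at this
      omega
    exact ⟨_, hfin _ hc, inferInstance⟩
  · have h24 : Nat.card H = 24 := by rw [hk]
    obtain ⟨e⟩ := Cfsg.Agent.S1012.result h24 fun g hg => by
      rw [← Subgroup.orderOf_coe] at hg
      rcases orderOf_mem h (g : G) with e | e | e | e | e <;> omega
    refine ⟨permFour.map e.symm.toMonoidHom, ?_, ?_⟩
    · rw [Subgroup.card_map_of_injective e.symm.injective, permFour_card_normal.1]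
    · exact permFour_card_normal.2.map _ e.symm.surjective

theorem isCoatom_normalizer_klein {U : Subgroup G} (hk : IsKleinFour ↥U) :
    IsCoatom (normalizer (U : Set G)) := by
  have hN := card_normalizer_klein h hk
  refine ⟨fun e => ?_, fun M hM => ?_⟩
  · rw [e, Subgroup.card_top, h] at hN; omega
  · by_contra hne
    have h7 := seven_le_index h hne
    have hd := Subgroup.card_dvd_of_le hM.le
    have hlt := Set.ncard_lt_ncard (show (normalizer (U : Set G) : Set G) ⊂ (M : Set G) from hM)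
    rw [← Nat.card_coe_set_eq, ← Nat.card_coe_set_eq, SetLike.coe_sort_coe, SetLike.coe_sort_coe, hN] at hlt
    have hm := M.index_mul_card
    rw [h] at hm
    rw [hN] at hd
    obtain ⟨j, hj⟩ := hd
    nlinarith

theorem coatom_cases {M : Subgroup G} (hM : IsCoatom M) :
    (∃ U : Subgroup G, IsKleinFour ↥U ∧ M = normalizer (U : Set G)) ∨
      (∃ (_ : Fact (Nat.Prime 7)) (P : Sylow 7 G), M = normalizer ((P : Subgroup G) : Set G)) := by
  have : Fact (Nat.Prime 7) := ⟨by norm_num⟩
  have h7i := seven_le_index h hM.1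
  have hm := M.index_mul_card
  rw [h] at hm
  have hd : Nat.card M ∣ 168 := ⟨M.index, by rw [← hm, mul_comm]⟩
  by_cases h7 : 7 ∣ Nat.card M
  · right
    obtain ⟨⟨x, hxM⟩, hx⟩ := exists_prime_orderOf_dvd_card' 7 h7
    obtain ⟨Q⟩ : Nonempty (Sylow 7 ↥M) := inferInstance
    obtain ⟨k, hk⟩ := h7
    have hk7 : ¬ 7 ∣ k := fun hd7 => by
      have h49 : 49 ∣ Nat.card M := by rw [hk]; exact Nat.mul_dvd_mul_left 7 hd7
      have := h49.trans hd
      norm_num at this
    have hk4 : k ≤ 4 ∧ 0 < k := by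
      constructor
      · rw [hk] at hm; nlinarith
      · rcases Nat.eq_zero_or_pos k with rfl | hpos
        · exact absurd (hk.trans (Nat.mul_zero 7)) Nat.card_pos.ne'
        · exact hpos
    have hn := card_sylow_mem (G := ↥M) (p := 7) (k := 1) (by rw [hk, pow_one]) hk4.2.ne'
    rw [Finset.mem_filter, Nat.mem_divisors] at hn
    have hone : Nat.card (Sylow 7 ↥M) = 1 := by
      have hle := Nat.le_of_dvd hk4.2 hn.1.1
      have hmod := hn.2
      have : 0 < Nat.card (Sylow 7 ↥M) := Nat.card_pos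
      omega
    have hQn : (Q : Subgroup ↥M).Normal := normalizer_eq_top_iff.mp
      (Subgroup.index_eq_one.mp (hone ▸ Q.card_eq_index_normalizer.symm))
    obtain ⟨P, hP⟩ := (Q.isPGroup'.map M.subtype).exists_le_sylow
    have hQP : (Q : Subgroup ↥M).map M.subtype = P := Subgroup.eq_of_le_of_card_ge hP (by
      rw [card_seven h P, Subgroup.card_map_of_injective M.subtype_injective,
        card_sylow_subgroup (k := 1) (m := k) (by rw [hk, pow_one]) hk7 Q]
      norm_num)
    refine ⟨this, P, ?_⟩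
    have hle : M ≤ normalizer ((P : Subgroup G) : Set G) := by
      rw [← hQP]
      intro a ha
      exact le_normalizer_map M.subtype ⟨⟨a, ha⟩, (normalizer_eq_top_iff.mpr hQn) ▸ mem_top _, rfl⟩
    rcases hM.le_iff.mp hle with e | e
    · exact absurd e (normalizer_ne_top (not_comm h) (by rw [h]; norm_num) P)
    · exact e.symm
  · left
    have hd24 : Nat.card M ∣ 24 :=
      (Nat.Coprime.symm ((by norm_num : Nat.Prime 7).coprime_iff_not_dvd.mpr h7)).dvd_of_dvd_mul_left
        (show Nat.card M ∣ 7 * 24 from hd)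
    obtain ⟨V, hV, hle⟩ := le_normalizer_klein h hd24
    refine ⟨V, hV, ?_⟩
    rcases hM.le_iff.mp hle with e | e
    · exact absurd e (isCoatom_normalizer_klein h hV).1
    · exact e.symm

end

end CfsgLib.SmallGroups.Order168
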