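import Cfsg.Agent.Lib.SmallGroups.OrdersBelow1092

/-!
# The surviving orders up to 1092
-/

set_option autoImplicit false

namespace CfsgLib.SmallGroups.OrdersBelow1092

open Subgroup CfsgLib.SmallGroups.SimpleTools CfsgLib.SmallGroups.LocalTools

variable {G : Type*} [Group G] [Finite G] [IsSimpleGroup G] (hG : ¬ IsMulCommutative G)

include hG

theorem sylow_count {p k m : ℕ} [Fact p.Prime] (hcard : Nat.card G = p ^ k * m) (hm : m ≠ 0)
    (hk : k ≠ 0) : Nat.card (Sylow p G) ∈ (m.divisors.filter (fun n => n % p = 1)).erase 1 :=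
  Finset.mem_erase.mpr ⟨card_sylow_ne_one hG (hcard ▸ dvd_mul_of_dvd_left (dvd_pow_self p hk) m),
    card_sylow_mem hcard hm⟩

theorem embeds {p : ℕ} [Fact p.Prime] (hp : p ∣ Nat.card G) :
    2 * Nat.card G ∣ (Nat.card (Sylow p G)).factorial := by
  obtain ⟨P⟩ : Nonempty (Sylow p G) := inferInstance
  rw [P.card_eq_index_normalizer]
  exact two_mul_card_dvd_factorial hG _ (normalizer_ne_top hG hp P)

/-- Divisors of the order congruent to `1` modulo `p` in absolute value, signed. -/
theorem signed_mem {n p : ℕ} (hn : n ≠ 0) {a : ℤ} (hd : a.natAbs ∣ n) (h2 : 2 ≤ a.natAbs)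
    (hm : a ≡ 1 [ZMOD p]) :
    a ∈ (((n.divisors.filter (fun d => 2 ≤ d)).image (fun d : ℕ => (d : ℤ))) ∪
      ((n.divisors.filter (fun d => 2 ≤ d)).image (fun d : ℕ => -(d : ℤ)))).filter
        (fun a => a % (p : ℤ) = 1 % (p : ℤ)) := by
  refine Finset.mem_filter.mpr ⟨?_, hm⟩
  rcases Int.natAbs_eq a with e | e
  · exact Finset.mem_union_left _ (Finset.mem_image.mpr
      ⟨a.natAbs, Finset.mem_filter.mpr ⟨Nat.mem_divisors.mpr ⟨hd, hn⟩, h2⟩, e.symm⟩)
  · exact Finset.mem_union_right _ (Finset.mem_image.mpr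
      ⟨a.natAbs, Finset.mem_filter.mpr ⟨Nat.mem_divisors.mpr ⟨hd, hn⟩, h2⟩, e.symm⟩)

theorem ne_420_840 (hn : Nat.card G = 420 ∨ Nat.card G = 840) : False := by
  have : Fact (Nat.Prime 7) := ⟨by norm_num⟩
  refine CfsgLib.NT.SylowFifteen.false_of_simple (S := G) ?_
  rcases hn with h | h
  · have h1 := sylow_count hG (p := 7) (k := 1) (m := 60) (by rw [h]; norm_num) (by norm_num) (by norm_num)
    rw [show (Nat.divisors 60).filter (fun n => n % 7 = 1) = {1, 15} by decide +kernel] at h1
    simpa using h1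
  · have h1 := sylow_count hG (p := 7) (k := 1) (m := 120) (by rw [h]; norm_num) (by norm_num) (by norm_num)
    rw [show (Nat.divisors 120).filter (fun n => n % 7 = 1) = {1, 8, 15, 120} by decide +kernel] at h1
    simp only [Finset.mem_erase, Finset.mem_insert, Finset.mem_singleton] at h1
    rcases h1 with ⟨h1, e | e | e | e⟩
    · exact absurd e h1
    · have h2 := embeds hG (p := 7) (by rw [h]; norm_num)
      rw [e, h] at h2
      norm_num [Nat.factorial] at h2
      have := card_normalizer_of_succ hG (p := 7) (by norm_num)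
      obtain ⟨P⟩ : Nonempty (Sylow 7 G) := inferInstance
      have hP : Nat.card (P : Subgroup G) = 7 :=
        (card_sylow_subgroup (k := 1) (m := 120) (by rw [h]; norm_num) (by norm_num) P).trans (pow_one _)
      have h3 := this P hP e
      have h4 := card_normalizer_mul P
      rw [e, h] at h4
      rw [show Nat.card (normalizer ((P : Subgroup G) : Set G)) = 105 by omega] at h3
      norm_num at h3
    · exact e
    · obtain ⟨P⟩ : Nonempty (Sylow 7 G) := inferInstance
      have hP : Nat.card (P : Subgroup G) = 7 :=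
        (card_sylow_subgroup (k := 1) (m := 120) (by rw [h]; norm_num) (by norm_num) P).trans (pow_one _)
      obtain ⟨f, k, hf, -, hN, -⟩ := exists_e hG P hP
      have h4 := card_normalizer_mul P
      rw [e, h, hN] at h4
      have h5 : f * k = 1 := by nlinarith
      exact absurd (Nat.eq_one_of_mul_eq_one_right h5) hf

theorem ne_612 (hn : Nat.card G = 612) : False := by
  have : Fact (Nat.Prime 17) := ⟨by norm_num⟩
  have h1 := sylow_count hG (p := 17) (k := 1) (m := 36) (by rw [hn]; norm_num) (by norm_num) (by norm_num)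
  rw [show (Nat.divisors 36).filter (fun n => n % 17 = 1) = {1, 18} by decide +kernel] at h1
  have h18 : Nat.card (Sylow 17 G) = 18 := by simpa using h1
  obtain ⟨P, e, k, hP, he, hed, hek, hN, hC⟩ :=
    prime_order_setup hG (p := 17) (m := 36) (by rw [hn]) (by norm_num) h18
  have he2 : e = 2 := by
    rcases (Nat.dvd_prime Nat.prime_two).mp (Dvd.intro k (show e * k = 2 by omega)) with h | h <;> omega
  subst he2
  obtain ⟨l, x, hl, ha, hx, -, hxs⟩ := relation hG (by norm_num) P hP hN hC (by norm_num)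
  match l, hl with
  | [a], _ =>
    obtain ⟨ha1, ha2, ha3⟩ := ha a (List.mem_singleton.mpr rfl)
    rw [hn] at ha1 hx
    have hS := signed_mem hG (n := 612) (p := 17) (by norm_num) ha1 ha2 ha3
    simp only [List.sum_cons, List.sum_nil, add_zero] at hxs
    subst hxs
    have key : ∀ a ∈ ((((Nat.divisors 612).filter (fun d => 2 ≤ d)).image (fun d : ℕ => (d : ℤ)) ∪
      (((Nat.divisors 612).filter (fun d => 2 ≤ d)).image (fun d : ℕ => -(d : ℤ))))).filter
        (fun a => a % ((17 : ℕ) : ℤ) = 1 % ((17 : ℕ) : ℤ)), ¬ (1 + a).natAbs ∣ 612 := by decide +kernel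
    exact key a hS hx

theorem ne_1040 (hn : Nat.card G = 1040) : False := by
  have : Fact (Nat.Prime 13) := ⟨by norm_num⟩
  have h1 := sylow_count hG (p := 13) (k := 1) (m := 80) (by rw [hn]; norm_num) (by norm_num) (by norm_num)
  rw [show (Nat.divisors 80).filter (fun n => n % 13 = 1) = {1, 40} by decide +kernel] at h1
  have h40 : Nat.card (Sylow 13 G) = 40 := by simpa using h1
  obtain ⟨P, e, k, hP, he, hed, hek, hN, hC⟩ :=
    prime_order_setup hG (p := 13) (m := 80) (by rw [hn]) (by norm_num) h40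
  have he2 : e = 2 := by
    rcases (Nat.dvd_prime Nat.prime_two).mp (Dvd.intro k (show e * k = 2 by omega)) with h | h <;> omega
  subst he2
  obtain ⟨l, x, hl, ha, hx, -, hxs⟩ := relation hG (by norm_num) P hP hN hC (by norm_num)
  match l, hl with
  | [a], _ =>
    obtain ⟨ha1, ha2, ha3⟩ := ha a (List.mem_singleton.mpr rfl)
    rw [hn] at ha1 hx
    have hS := signed_mem hG (n := 1040) (p := 13) (by norm_num) ha1 ha2 ha3
    simp only [List.sum_cons, List.sum_nil, add_zero] at hxs
    subst hxs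
    have key : ∀ a ∈ ((((Nat.divisors 1040).filter (fun d => 2 ≤ d)).image (fun d : ℕ => (d : ℤ)) ∪
      (((Nat.divisors 1040).filter (fun d => 2 ≤ d)).image (fun d : ℕ => -(d : ℤ))))).filter
        (fun a => a % ((13 : ℕ) : ℤ) = 1 % ((13 : ℕ) : ℤ)), ¬ (1 + a).natAbs ∣ 1040 := by decide +kernel
    exact key a hS hx

theorem ne_756 (hn : Nat.card G = 756) : False := by
  have : Fact (Nat.Prime 7) := ⟨by norm_num⟩
  have h1 := sylow_count hG (p := 7) (k := 1) (m := 108) (by rw [hn]; norm_num) (by norm_num) (by norm_num)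
  rw [show (Nat.divisors 108).filter (fun n => n % 7 = 1) = {1, 36} by decide +kernel] at h1
  have h36 : Nat.card (Sylow 7 G) = 36 := by simpa using h1
  obtain ⟨P, e, k, hP, he, hed, hek, hN, hC⟩ :=
    prime_order_setup hG (p := 7) (m := 108) (by rw [hn]) (by norm_num) h36
  have he3 : e = 3 := by
    rcases (Nat.dvd_prime Nat.prime_three).mp (Dvd.intro k (show e * k = 3 by omega)) with h | h <;> omega
  subst he3
  obtain ⟨l, x, hl, ha, hx, -, hxs⟩ := relation hG (by norm_num) P hP hN hC (by norm_num)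
  match l, hl with
  | [a, b], _ =>
    obtain ⟨ha1, ha2, ha3⟩ := ha a (by simp)
    obtain ⟨hb1, hb2, hb3⟩ := ha b (by simp)
    rw [hn] at ha1 hb1 hx
    have hS := signed_mem hG (n := 756) (p := 7) (by norm_num) ha1 ha2 ha3
    have hT := signed_mem hG (n := 756) (p := 7) (by norm_num) hb1 hb2 hb3
    simp only [List.sum_cons, List.sum_nil, add_zero] at hxs
    subst hxs
    have key : ∀ a ∈ ({-6, -27, 36} : Finset ℤ), ∀ b ∈ ({-6, -27, 36} : Finset ℤ),
        ¬ (1 + (a + b)).natAbs ∣ 756 := by decide +kernel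
    rw [show (((Nat.divisors 756).filter (fun d => 2 ≤ d)).image (fun d : ℕ => (d : ℤ)) ∪
      (((Nat.divisors 756).filter (fun d => 2 ≤ d)).image (fun d : ℕ => -(d : ℤ)))).filter
        (fun a => a % ((7 : ℕ) : ℤ) = 1 % ((7 : ℕ) : ℤ)) = ({-6, -27, 36} : Finset ℤ) by decide +kernel] at hS hT
    exact key a hS b hT hx

theorem ne_480_960 (hn : Nat.card G = 480 ∨ Nat.card G = 960) : False := by
  have : Fact (Nat.Prime 2) := ⟨Nat.prime_two⟩
  have key : ∀ a, Nat.card G = 2 ^ a * 15 → 2 ≤ a → ¬ 2 * Nat.card G ∣ Nat.factorial 5 → False := by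
    intro a hc ha hb
    have h1 := sylow_count hG (p := 2) (k := a) (m := 15) hc (by norm_num) (by omega)
    rw [show (Nat.divisors 15).filter (fun n => n % 2 = 1) = {1, 3, 5, 15} by decide +kernel] at h1
    simp only [Finset.mem_erase, Finset.mem_insert, Finset.mem_singleton] at h1
    have h2 := embeds hG (p := 2) (hc ▸ dvd_mul_of_dvd_left (dvd_pow_self 2 (by omega)) 15)
    rcases h1 with ⟨h1, e | e | e | e⟩
    · exact h1 e
    · exact hb (h2.trans (e ▸ Nat.factorial_dvd_factorial (by norm_num)))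
    · exact hb (h2.trans (e ▸ Nat.factorial_dvd_factorial (by norm_num)))
    · exact false_of_big hG hc (by norm_num) ha (by rw [e]; decide) hb (by norm_num)
  rcases hn with h | h
  · exact key 5 (by rw [h]; norm_num) (by norm_num) (by rw [h]; decide +kernel)
  · exact key 6 (by rw [h]; norm_num) (by norm_num) (by rw [h]; decide +kernel)

theorem ne_900 (hn : Nat.card G = 900) : False := by
  have : Fact (Nat.Prime 5) := ⟨by norm_num⟩
  have h1 := sylow_count hG (p := 5) (k := 2) (m := 36) (by rw [hn]; norm_num) (by norm_num) (by norm_num)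
  rw [show (Nat.divisors 36).filter (fun n => n % 5 = 1) = {1, 6, 36} by decide +kernel] at h1
  simp only [Finset.mem_erase, Finset.mem_insert, Finset.mem_singleton] at h1
  have hb : ¬ 2 * Nat.card G ∣ Nat.factorial 6 := by rw [hn]; decide +kernel
  have h2 := embeds hG (p := 5) (by rw [hn]; norm_num)
  rcases h1 with ⟨h1, e | e | e⟩
  · exact h1 e
  · exact hb (e ▸ h2)
  · exact false_of_big hG (p := 5) (m := 36) (a := 2) (by rw [hn]; norm_num) (by norm_num) le_rfl
      (by rw [e]; decide) hb (by norm_num)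

theorem ne_1080 (hn : Nat.card G = 1080) : False := by
  classical
  have : Fact (Nat.Prime 5) := ⟨by norm_num⟩
  have : Fact (Nat.Prime 3) := ⟨Nat.prime_three⟩
  have h1 := sylow_count hG (p := 5) (k := 1) (m := 216) (by rw [hn]; norm_num) (by norm_num) (by norm_num)
  rw [show (Nat.divisors 216).filter (fun n => n % 5 = 1) = {1, 6, 36, 216} by decide +kernel] at h1
  simp only [Finset.mem_erase, Finset.mem_insert, Finset.mem_singleton] at h1
  have hb : ¬ 2 * Nat.card G ∣ Nat.factorial 6 := by rw [hn]; decide +kernel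
  rcases h1 with ⟨h1, e | e | e | e⟩
  · exact h1 e
  · exact hb (e ▸ embeds hG (p := 5) (by rw [hn]; norm_num))
  · obtain ⟨P, f, k, hP, hf, hfd, hfk, hN, hC⟩ :=
      prime_order_setup hG (p := 5) (m := 216) (by rw [hn]) (by norm_num) e
    have hk : k = 3 := by
      have h4 : f ∣ 4 := hfd
      have := Nat.le_of_dvd (by norm_num) h4
      interval_cases f <;> omega
    subst hk
    have hf2 : f = 2 := by omega
    subst hf2
    obtain ⟨K, -, hK, hKN⟩ := exists_complement P (q := 3) (j := 1) hP (by norm_num) (by rw [hC]; norm_num)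
    have hle := hKN
    obtain ⟨L, hL, hKL⟩ := Sylow.exists_subgroup_card_pow_succ (p := 3) (by rw [hn]; norm_num) hK
    have hLc : IsMulCommutative L := IsPGroup.isMulCommutative_of_card_eq_prime_sq (p := 3) hL
    set H := normalizer (K : Set G)
    have hLH : L ≤ H := fun l hl => centralizer_le_normalizer _ (mem_centralizer_iff.mpr fun a ha =>
      congrArg Subtype.val (hLc.is_comm.comm ⟨a, hKL ha⟩ ⟨l, hl⟩))
    obtain ⟨n, hn5, hH⟩ := card_eq_mul hG P hle
    have h9 : 9 ∣ Nat.card H := by
      have := card_dvd_of_le hLH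
      rw [hL] at this
      simpa using this
    have hHtop : H ≠ ⊤ := fun h => by
      rcases (normalizer_eq_top_iff.mp h).eq_bot_or_eq_top with h | h
      · rw [h, card_bot] at hK; norm_num at hK
      · rw [h, card_top, hn] at hK; norm_num at hK
    have hidx := lt_of_index hG H hHtop hb
    have hmul := H.index_mul_card
    rw [hH, hN, hn] at hmul
    rw [hH, hN] at h9
    have hd : n ∣ 36 := ⟨H.index, by linarith⟩
    have hle36 := Nat.le_of_dvd (by norm_num) hd
    have h7 : n * 7 ≤ 36 := by nlinarith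
    interval_cases n <;> omega
  · obtain ⟨P, f, k, hP, hf, hfd, hfk, hN, hC⟩ :=
      prime_order_setup hG (p := 5) (m := 216) (by rw [hn]) (by norm_num) e
    exact hf (Nat.eq_one_of_mul_eq_one_right (show f * k = 1 by omega))

/-- An element of prime order `p` centralised by an involution, with few Sylow subgroups. -/
theorem card_centralizer_eq {p q n₀ : ℕ} [Fact p.Prime] (P : Sylow p G)
    (hP : Nat.card (P : Subgroup G) = p) (hpq : p ≠ 2)
    (hC : Nat.card (centralizer ((P : Subgroup G) : Set G)) = p * 2 ^ 1)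
    (hN : Nat.card (normalizer ((P : Subgroup G) : Set G)) = q) (hcard : Nat.card G = n₀ * q)
    (harith : ∀ n, n ∣ n₀ → n % p = 1 → n = 1 ∨ n = n₀ ∨ ¬ 2 * (n₀ * q) ∣ (n₀ / n).factorial) :
    ∃ t : G, orderOf t = 2 ∧ Nat.card (centralizer ({t} : Set G)) = q := by
  have : Fact (Nat.Prime 2) := ⟨Nat.prime_two⟩
  obtain ⟨K, -, hK, hKN⟩ := exists_complement P (q := 2) (j := 1) hP hpq hC
  obtain ⟨⟨t, htK⟩, ht⟩ := exists_prime_orderOf_dvd_card' 2 (dvd_of_eq (hK.trans (pow_one 2)).symm)
  rw [← orderOf_coe] at ht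
  change orderOf t = 2 at ht
  have ht1 : t ≠ 1 := fun e => by rw [e, orderOf_one] at ht; norm_num at ht
  refine ⟨t, ht, ?_⟩
  set H := centralizer ({t} : Set G)
  have hKt : K = zpowers t := (Subgroup.eq_of_le_of_card_ge (zpowers_le.mpr htK)
    (by rw [hK, Nat.card_zpowers, ht, pow_one])).symm
  have hNH : normalizer ((P : Subgroup G) : Set G) ≤ H := by
    intro g hg
    have h2 := (mem_normalizer_iff.mp (hKN hg) t).mp htK
    rw [hKt] at h2
    obtain ⟨j, hj⟩ := mem_zpowers_iff.mp h2
    refine mem_centralizer_singleton_iff.mpr ?_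
    have ht2 : t ^ (2 : ℤ) = 1 := by
      rw [show (2 : ℤ) = ((2 : ℕ) : ℤ) from rfl, zpow_natCast, ← ht, pow_orderOf_eq_one]
    rcases Int.even_or_odd j with ⟨i, rfl⟩ | ⟨i, rfl⟩
    · rw [← two_mul, zpow_mul, ht2, one_zpow, eq_comm, conj_eq_one_iff] at hj
      exact absurd hj ht1
    · rw [zpow_add, zpow_mul, ht2, one_zpow, one_mul, zpow_one] at hj
      conv_rhs => rw [hj]
      group
  obtain ⟨n, hnp, hH⟩ := card_eq_mul hG P hNH
  rw [hN] at hH
  have hq : 0 < q := hN ▸ Nat.card_pos
  have hmul := H.index_mul_card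
  rw [hH, hcard] at hmul
  have hi : H.index * n = n₀ := Nat.eq_of_mul_eq_mul_right hq (by rw [← hmul, mul_assoc])
  have hnpos : 0 < n := by
    rcases Nat.eq_zero_or_pos n with h | h
    · rw [h] at hnp; norm_num at hnp
    · exact h
  have hHtop : H ≠ ⊤ := fun h => by
    have hc : t ∈ center G := mem_center_iff.mpr fun g =>
      mem_centralizer_singleton_iff.mp (show g ∈ H from h ▸ mem_top g)
    rw [center_eq_bot hG] at hc
    exact ht1 (mem_bot.mp hc)
  rcases harith n ⟨H.index, by rw [mul_comm]; exact hi.symm⟩ hnp with h | h | h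
  · rw [hH, h, one_mul]
  · exact absurd (Subgroup.index_eq_one.mp (Nat.eq_of_mul_eq_mul_right hnpos (by rw [one_mul, hi, h]))) hHtop
  · refine absurd ?_ h
    have h2 := two_mul_card_dvd_factorial hG H hHtop
    rwa [hcard, show H.index = n₀ / n by rw [← hi, Nat.mul_div_cancel _ hnpos]] at h2

theorem ne_1008 (hn : Nat.card G = 1008) : False := by
  have : Fact (Nat.Prime 7) := ⟨by norm_num⟩
  have h1 := sylow_count hG (p := 7) (k := 1) (m := 144) (by rw [hn]; norm_num) (by norm_num) (by norm_num)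
  rw [show (Nat.divisors 144).filter (fun n => n % 7 = 1) = {1, 8, 36} by decide +kernel] at h1
  simp only [Finset.mem_erase, Finset.mem_insert, Finset.mem_singleton] at h1
  rcases h1 with ⟨h1, e | e | e⟩
  · exact h1 e
  · obtain ⟨P, f, k, hP, -, -, hfk, hN, -⟩ :=
      prime_order_setup hG (p := 7) (m := 144) (by rw [hn]) (by norm_num) e
    have h2 := card_normalizer_of_succ hG (p := 7) (by norm_num) P hP e
    have h4 : Nat.card (normalizer ((P : Subgroup G) : Set G)) = 126 := by rw [hN]; nlinarith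
    rw [h4] at h2
    norm_num at h2
  · obtain ⟨P, f, k, hP, hf, hfd, hfk, hN, hC⟩ :=
      prime_order_setup hG (p := 7) (m := 144) (by rw [hn]) (by norm_num) e
    have hk : k = 2 := by
      have h4 : f ∣ 6 := hfd
      have := Nat.le_of_dvd (by norm_num) h4
      interval_cases f <;> omega
    subst hk
    have hf2 : f = 2 := by omega
    subst hf2
    have harith : ∀ n, n ∣ 36 → n % 7 = 1 → n = 1 ∨ n = 36 ∨ ¬ 2 * (36 * 28) ∣ (36 / n).factorial := by
      intro n hd h7
      have := Nat.le_of_dvd (by norm_num) hd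
      interval_cases n <;> omega
    obtain ⟨t, ht, hCt⟩ := card_centralizer_eq hG (p := 7) (q := 28) (n₀ := 36) P hP (by norm_num)
      (by rw [hC]; norm_num) (by rw [hN]) (by rw [hn]) harith
    exact false_of_small_centralizer hG (m := 63) (by rw [hn]; norm_num) (by norm_num) ht
      (by rw [hCt]; norm_num)

open Cfsg CfsgLib.Blocks in
/-- A simple group whose Sylow subgroup of order five is self-centralised with automiser of order
four has no character of degree four. -/
theorem no_degree_four [Fintype G] {y u : G} (hy : y ^ 5 = 1) (hy1 : y ≠ 1) (hu : u ^ 4 = 1)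
    (hrel : y * u = u * y ^ 3) (χ : IrrCharacter G) (hd : charDegree (χ : G → ℂ) = 4) : False := by
  classical
  obtain ⟨n, ρ, hρ, hχ⟩ := χ.2
  have hn : n = 4 := by
    have h1 : (χ : G → ℂ) 1 = (n : ℂ) := by rw [← hχ]; simp
    rw [irr_one_eq, hd] at h1
    exact_mod_cast h1.symm
  subst hn
  have hperf : ∀ δ : G →* ℂˣ, δ = 1 := by
    intro δ
    rcases (inferInstance : δ.ker.Normal).eq_bot_or_eq_top with h | h
    · exact absurd ⟨⟨fun a b => (δ.ker_eq_bot_iff).mp h (by rw [map_mul, map_mul, mul_comm])⟩⟩ hG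
    · exact MonoidHom.ker_eq_top_iff.mp h
  have h1 := CyclicShiftDet.map_eq_one ρ (by simp) hperf hy hu hrel
  let N : Subgroup G :=
    { carrier := {g | ρ g = 1}
      one_mem' := map_one ρ
      mul_mem' := fun {a b} ha hb => by
        show ρ (a * b) = 1
        rw [map_mul, show ρ a = 1 from ha, show ρ b = 1 from hb, one_mul]
      inv_mem' := fun {a} ha => by
        show ρ a⁻¹ = 1
        have h : ρ a⁻¹ * ρ a = 1 := by rw [← map_mul, inv_mul_cancel, map_one]
        rwa [show ρ a = 1 from ha, mul_one] at h }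
  have hN : N.Normal := ⟨fun a ha g => by
    show ρ (g * a * g⁻¹) = 1
    rw [map_mul, map_mul, show ρ a = 1 from ha, mul_one, ← map_mul, mul_inv_cancel, map_one]⟩
  rcases hN.eq_bot_or_eq_top with h | h
  · exact hy1 (mem_bot.mp (h ▸ (show y ∈ N from h1)))
  · have hall : ∀ g : G, (χ : G → ℂ) g = 4 := by
      intro g
      have hg : ρ g = 1 := (h ▸ mem_top g : g ∈ N)
      rw [← hχ, Representation.character, hg]
      simp [LinearMap.trace_one]
    have hne : χ ≠ trivChar G := fun e => by
      have := hall 1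
      rw [e, trivChar_apply] at this
      norm_num at this
    have hs := sum_mul_inv χ (trivChar G)
    rw [if_neg hne] at hs
    simp only [hall, trivChar_apply, mul_one, Finset.sum_const, Finset.card_univ, nsmul_eq_mul] at hs
    simp [Fintype.card_ne_zero] at hs

open Cfsg CfsgLib.Blocks in
theorem exists_degree_four [Fintype G] [Fact (Nat.Prime 5)] (hn : Nat.card G = 720) (P : Sylow 5 G)
    (hP : Nat.card (P : Subgroup G) = 5) (haut : TIAbelian.autCard P = 4) :
    ∃ χ : IrrCharacter G, charDegree (χ : G → ℂ) = 4 := by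
  classical
  by_contra hcon
  push Not at hcon
  have hp : Nat.Prime 5 := Fact.out
  obtain ⟨M, hM⟩ := DegreeTools.TISum.exists_pmodular hp
  obtain ⟨X, Y, εX, ε, hB, hdisj, hX, hY, hXp, hε, hYd, -, hrel⟩ :=
    PrimeOrder.principal_block hM (by norm_num) P hP
  rw [haut] at hX hY hYd
  obtain ⟨θ, hθY⟩ := Finset.card_eq_one.mp (show Y.card = 1 by rw [hY])
  have hθ : θ ∈ Y := hθY ▸ Finset.mem_singleton_self θ
  let s : IrrCharacter G → ℤ := fun χ => if χ ∈ X then εX χ else -ε
  have hs : ∀ χ ∈ X ∪ Y, (s χ = 1 ∨ s χ = -1) ∧ (charDegree (χ : G → ℂ) : ℤ) ≡ s χ [ZMOD 5] := by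
    intro χ hχ
    by_cases h : χ ∈ X
    · simp only [s, if_pos h]
      exact ⟨(hXp χ h).1, (hXp χ h).2.1⟩
    · have hχY := (Finset.mem_union.mp hχ).resolve_left h
      simp only [s, if_neg h]
      refine ⟨by rcases hε with e | e <;> simp [e], (hYd χ hχY).trans ?_⟩
      rcases hε with e | e <;> rw [e] <;> decide
  have hrel1 : ∑ χ ∈ X ∪ Y, s χ * (charDegree (χ : G → ℂ) : ℤ) = 0 := by
    have h := hrel θ hθ 1 (by rw [orderOf_one]; norm_num)
    simp only [irr_one_eq] at h
    have h' : ε * (charDegree (θ : G → ℂ) : ℤ) = ∑ χ ∈ X, εX χ * (charDegree (χ : G → ℂ) : ℤ) := by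
      exact_mod_cast h
    rw [Finset.sum_union hdisj, hθY, Finset.sum_singleton,
      show s θ = -ε from if_neg (Finset.disjoint_right.mp hdisj hθ),
      Finset.sum_congr rfl (fun χ hχ => show s χ * (charDegree (χ : G → ℂ) : ℤ) =
        εX χ * (charDegree (χ : G → ℂ) : ℤ) by simp only [s, if_pos hχ]), ← h']
    ring
  have htriv : trivChar G ∈ X ∪ Y := Finset.mem_union.mpr ((hB _).1 (trivChar_mem_principalBlock hM))
  have hd1 : charDegree ((trivChar G : IrrCharacter G) : G → ℂ) = 1 := by simp [charDegree]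
  have hst : s (trivChar G) = 1 := by
    obtain ⟨h1, h2⟩ := hs _ htriv
    rcases h1 with h | h
    · exact h
    · rw [hd1, h] at h2
      exact absurd h2 (by decide)
  set R := (X ∪ Y).erase (trivChar G) with hR
  have hRc : R.card = 4 := by
    rw [hR, Finset.card_erase_of_mem htriv, Finset.card_union_of_disjoint hdisj, hX, hY]
  have hsum : ∑ χ ∈ R, s χ * (charDegree (χ : G → ℂ) : ℤ) = -1 := by
    have h := Finset.add_sum_erase _ (fun χ => s χ * (charDegree (χ : G → ℂ) : ℤ)) htriv
    rw [hrel1] at h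
    simp only [hst, hd1, Nat.cast_one, mul_one, one_mul] at h
    rw [← hR] at h
    linarith
  have hsq : ∑ χ ∈ R, charDegree (χ : G → ℂ) ^ 2 < 720 := by
    have h := CfsgLib.Char.sum_sq_apply_one (G := G)
    have h' : ∑ χ : IrrCharacter G, charDegree (χ : G → ℂ) ^ 2 = 720 := by
      apply Nat.cast_injective (R := ℂ)
      rw [Nat.cast_sum, ← hn, ← h]
      exact Finset.sum_congr rfl fun χ _ => by rw [irr_one_eq, Nat.cast_pow]
    have h2 : charDegree ((trivChar G : IrrCharacter G) : G → ℂ) ^ 2 + ∑ χ ∈ R, charDegree (χ : G → ℂ) ^ 2 ≤ 720 := by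
      rw [← h']
      refine le_trans (le_of_eq ?_) (Finset.sum_le_sum_of_subset (Finset.subset_univ (insert (trivChar G) R)))
      exact (Finset.sum_insert (f := fun χ : IrrCharacter G => charDegree (χ : G → ℂ) ^ 2)
        (Finset.notMem_erase _ _)).symm
    rw [hd1] at h2
    omega
  let f : IrrCharacter G → ℤ := fun χ => s χ * (charDegree (χ : G → ℂ) : ℤ)
  have hfsq : ∀ χ ∈ R, f χ * f χ = ((charDegree (χ : G → ℂ) ^ 2 : ℕ) : ℤ) := by
    intro χ hχ
    rcases (hs χ (Finset.mem_of_mem_erase hχ)).1 with h | h <;> simp [f, h] <;> ring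
  have hmem : ∀ χ ∈ R, f χ ∈ ({6, 16, -9, -24} : Finset ℤ) := by
    intro χ hχ
    obtain ⟨hne, hχU⟩ := Finset.mem_erase.mp hχ
    obtain ⟨h1, h2⟩ := hs χ hχU
    have hdle : charDegree (χ : G → ℂ) ≤ 26 := by
      by_contra hgt
      have := Finset.single_le_sum (f := fun i : IrrCharacter G => charDegree (i : G → ℂ) ^ 2) (fun i _ => Nat.zero_le _) hχ
      have h27 := Nat.pow_le_pow_left (show 27 ≤ charDegree (χ : G → ℂ) by omega) 2
      omega
    have hd2 : 2 ≤ charDegree (χ : G → ℂ) := by
      have := charDegree_pos χ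
      by_contra hlt
      exact hne (BlockDegrees.eq_trivChar hG χ (by omega))
    have hdvd : charDegree (χ : G → ℂ) ∣ 720 := hn ▸ charDegree_dvd χ
    have h4 := hcon χ
    simp only [Finset.mem_insert, Finset.mem_singleton]
    have key : ∀ d : ℕ, d < 27 → 2 ≤ d → d ∣ 720 → d ≠ 4 →
        (((d : ℤ) % 5 = 1 → (d : ℤ) = 6 ∨ (d : ℤ) = 16 ∨ (d : ℤ) = -9 ∨ (d : ℤ) = -24) ∧
        ((d : ℤ) % 5 = 4 → -(d : ℤ) = 6 ∨ -(d : ℤ) = 16 ∨ -(d : ℤ) = -9 ∨ -(d : ℤ) = -24)) := by
      intro d hd h2 hdv h4
      interval_cases d <;> norm_num at *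
    obtain ⟨k1, k2⟩ := key (charDegree (χ : G → ℂ)) (by omega) hd2 hdvd h4
    rcases h1 with h | h <;> rw [h] at h2
    · simp only [f, h, one_mul]; exact k1 h2
    · simp only [f, h, neg_one_mul]; exact k2 h2
  obtain ⟨a, b, c, d, hab, hac, had, hbc, hbd, hcd, hRe⟩ := Finset.card_eq_four.mp hRc
  rw [hRe] at hmem hfsq hsum hsq
  rw [Finset.sum_insert (by simp [hab, hac, had]), Finset.sum_insert (by simp [hbc, hbd]),
    Finset.sum_insert (by simp [hcd]), Finset.sum_singleton] at hsum hsq
  have key : ∀ w ∈ ({6, 16, -9, -24} : Finset ℤ), ∀ x ∈ ({6, 16, -9, -24} : Finset ℤ),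
      ∀ y ∈ ({6, 16, -9, -24} : Finset ℤ), ∀ z ∈ ({6, 16, -9, -24} : Finset ℤ),
      w * w + (x * x + (y * y + z * z)) < 720 → w + (x + (y + z)) ≠ -1 := by decide +kernel
  refine key _ (hmem a (by simp)) _ (hmem b (by simp)) _ (hmem c (by simp)) _ (hmem d (by simp)) ?_ hsum
  rw [hfsq a (by simp), hfsq b (by simp), hfsq c (by simp), hfsq d (by simp)]
  exact_mod_cast hsq

open Cfsg CfsgLib.Blocks in
theorem ne_720 (hn : Nat.card G = 720) : False := by
  classical
  have : Fact (Nat.Prime 5) := ⟨by norm_num⟩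
  have := Fintype.ofFinite G
  have h1 := sylow_count hG (p := 5) (k := 1) (m := 144) (by rw [hn]; norm_num) (by norm_num) (by norm_num)
  rw [show (Nat.divisors 144).filter (fun n => n % 5 = 1) = {1, 6, 16, 36} by decide +kernel] at h1
  simp only [Finset.mem_erase, Finset.mem_insert, Finset.mem_singleton] at h1
  rcases h1 with ⟨h1, e | e | e | e⟩
  · exact h1 e
  · have h2 := embeds hG (p := 5) (by rw [hn]; norm_num)
    rw [e, hn] at h2
    norm_num [Nat.factorial] at h2
  · obtain ⟨P, f, k, hP, hf, hfd, hfk, hN, hC⟩ :=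
      prime_order_setup hG (p := 5) (m := 144) (by rw [hn]) (by norm_num) e
    have h4 : f ∣ 4 := hfd
    have := Nat.le_of_dvd (by norm_num) h4
    interval_cases f <;> omega
  · obtain ⟨P, f, k, hP, hf, hfd, hfk, hN, hC⟩ :=
      prime_order_setup hG (p := 5) (m := 144) (by rw [hn]) (by norm_num) e
    have h4 : f ∣ 4 := hfd
    have hfk' : (f = 2 ∧ k = 2) ∨ (f = 4 ∧ k = 1) := by
      have := Nat.le_of_dvd (by norm_num) h4
      interval_cases f <;> omega
    rcases hfk' with ⟨rfl, rfl⟩ | ⟨rfl, rfl⟩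
    · have harith : ∀ n, n ∣ 36 → n % 5 = 1 → n = 1 ∨ n = 36 ∨ ¬ 2 * (36 * 20) ∣ (36 / n).factorial := by
        intro n hd h5
        have := Nat.le_of_dvd (by norm_num) hd
        interval_cases n <;> norm_num [Nat.factorial] at *
      obtain ⟨t, ht, hCt⟩ := card_centralizer_eq hG (p := 5) (q := 20) (n₀ := 36) P hP (by norm_num)
        (by rw [hC]; norm_num) (by rw [hN]) (by rw [hn]) harith
      exact false_of_small_centralizer hG (m := 45) (by rw [hn]; norm_num) (by norm_num) ht
        (by rw [hCt]; norm_num)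
    · have haut : TIAbelian.autCard P = 4 := by
        rw [TIAbelian.autCard_eq, Subgroup.relIndex]
        have h := ((centralizer ((P : Subgroup G) : Set G)).subgroupOf
          (normalizer ((P : Subgroup G) : Set G))).index_mul_card
        rw [Nat.card_congr (subgroupOfEquivOfLe (centralizer_le_normalizer _)).toEquiv, hN, hC] at h
        omega
      obtain ⟨χ, hd⟩ := exists_degree_four hG hn P hP haut
      obtain ⟨⟨y, hyP⟩, hy⟩ := exists_prime_orderOf_dvd_card' 5 (dvd_of_eq hP.symm)
      rw [← orderOf_coe] at hy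
      change orderOf y = 5 at hy
      have hy5 : y ^ 5 = 1 := by rw [← hy, pow_orderOf_eq_one]
      -- the normaliser induces all automorphisms
      set N := normalizer ((P : Subgroup G) : Set G)
      have : IsCyclic (P : Subgroup G) := isCyclic_of_prime_card hP
      have hrange : (normalizerMonoidHom (P : Subgroup G)).range = ⊤ := by
        refine Subgroup.eq_top_of_card_eq _ ?_
        rw [← index_ker, normalizerMonoidHom_ker, IsCyclic.card_mulAut, hP, Nat.totient_prime (by norm_num)]
        rw [TIAbelian.autCard_eq, Subgroup.relIndex] at haut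
        exact haut
      have hcop : (Nat.card (P : Subgroup G)).Coprime 2 := by rw [hP]; decide
      have hcomm : IsMulCommutative ↥(P : Subgroup G) := IsCyclic.isMulCommutative
      let σ : MulAut ↥(P : Subgroup G) :=
        { powCoprime hcop with map_mul' := fun a b => (show Commute a b from hcomm.is_comm.comm a b).mul_pow 2 }
      obtain ⟨n, hnσ⟩ : σ ∈ (normalizerMonoidHom (P : Subgroup G)).range := hrange ▸ mem_top σ
      have hn20 : ((n : G)) ^ 20 = 1 := by
        have : orderOf n ∣ 20 := (orderOf_dvd_natCard n).trans (dvd_of_eq hN)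
        rw [← Subgroup.orderOf_coe] at this
        exact orderOf_dvd_iff_pow_eq_one.mp this
      have hj' : (n : G) * y * (n : G)⁻¹ = y ^ 2 :=
        congrArg Subtype.val (DFunLike.congr_fun hnσ (⟨y, hyP⟩ : ↥(P : Subgroup G)))
      have hiter : ∀ i : ℕ, (n : G) ^ i * y * ((n : G) ^ i)⁻¹ = y ^ 2 ^ i := by
        intro i
        induction i with
        | zero => simp
        | succ i ih =>
          rw [pow_succ' (n : G), show (n : G) * (n : G) ^ i * y * ((n : G) * (n : G) ^ i)⁻¹ =
            (n : G) * ((n : G) ^ i * y * ((n : G) ^ i)⁻¹) * (n : G)⁻¹ by group, ih,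
            ← conj_pow, hj', ← pow_mul, ← pow_succ']
      have h5 := hiter 5
      rw [pow_eq_pow_mod (2 ^ 5) hy5] at h5
      norm_num at h5
      refine no_degree_four hG hy5 (fun h => by rw [h, orderOf_one] at hy; norm_num at hy)
        (show ((n : G) ^ 5) ^ 4 = 1 by rw [← pow_mul]; exact hn20) ?_ χ hd
      have h3 : (n : G) ^ 5 * y ^ 3 * ((n : G) ^ 5)⁻¹ = y := by
        rw [← conj_pow, h5, ← pow_mul, pow_eq_pow_mod _ hy5]
        norm_num
      exact (mul_inv_eq_iff_eq_mul.mp h3).symm

end CfsgLib.SmallGroups.OrdersBelow1092
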