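import Mathlib

/-!
# The arithmetical sieve for orders of simple groups up to 1092
-/

set_option autoImplicit false

namespace CfsgLib.SmallGroups.OrdersSieve

/-- Trial division. -/
def isP (p : ℕ) : Bool := (List.range p).all fun d => decide (d < 2) || !(p % d == 0)

/-- The prime divisors. -/
def primesOf (n : ℕ) : List ℕ :=
  (List.range (n + 1)).filter fun p => decide (2 ≤ p) && n % p == 0 && isP p

/-- The factorial modulo `N`. -/
def fmod (k N : ℕ) : ℕ := (List.range k).foldl (fun r i => r * (i + 1) % N) (1 % N)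

/-- The necessary condition on one prime with exponent `a`. -/
def cands (n p a m : ℕ) : Bool :=
  (List.range (m + 1)).any fun k => decide (2 ≤ k) && m % k == 0 && k % p == 1 && fmod k (2 * n) == 0 &&
    (!(a == 1) || ((p == 2 || !(k == p + 1) || p * (p - 1) % (2 * (n / k)) == 0) &&
      (List.range p).any fun e => decide (2 ≤ e) && (p - 1) % e == 0 && (n / k / p) % e == 0))

/-- All exponents. -/
def good (n p : ℕ) : Bool :=
  (List.range 11).all fun a => a == 0 || !(n % p ^ a == 0) || n % p ^ (a + 1) == 0 || cands n p a (n / p ^ a)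

/-- The condition from the smallest prime divisor. -/
def pre (n : ℕ) : Bool :=
  if n % 2 == 0 then n % 12 == 0 || n % 16 == 0 || n % 56 == 0
  else (List.range 11).any fun d => decide (3 ≤ d) && n % (d * d * d) == 0

/-- The sieve. -/
def survive (n : ℕ) : Bool :=
  pre n && decide (3 ≤ (primesOf n).length) && (primesOf n).all (good n)

theorem survive_cases : ∀ n, n < 1093 → survive n = true →
    n ∈ [60, 168, 360, 420, 480, 504, 612, 660, 720, 756, 840, 900, 960, 1008, 1040, 1080, 1092] := by
  decide +kernel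

theorem fmod_eq (k N : ℕ) : fmod k N = k.factorial % N := by
  unfold fmod
  induction k with
  | zero => simp
  | succ k ih =>
    rw [List.range_succ, List.foldl_append, List.foldl_cons, List.foldl_nil, ih, Nat.factorial_succ,
      mul_comm, Nat.mul_mod, Nat.mod_mod, ← Nat.mul_mod]

theorem isP_of_prime {p : ℕ} (hp : p.Prime) : isP p = true := by
  rw [isP, List.all_eq_true]
  intro d hd
  rw [List.mem_range] at hd
  rcases Nat.lt_or_ge d 2 with h | h
  · simp [h]
  · have : p % d ≠ 0 := fun e => by
      rcases (Nat.dvd_prime hp).mp (Nat.dvd_of_mod_eq_zero e) with h' | h' <;> omega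
    simp [this]

theorem mem_primesOf {n p : ℕ} (hn : n ≠ 0) (hp : p.Prime) (hd : p ∣ n) : p ∈ primesOf n := by
  rw [primesOf, List.mem_filter, List.mem_range]
  refine ⟨Nat.lt_succ_of_le (Nat.le_of_dvd (Nat.pos_of_ne_zero hn) hd), ?_⟩
  simp [hp.two_le, Nat.mod_eq_zero_of_dvd hd, isP_of_prime hp]

theorem prime_of_mem {n p : ℕ} (h : p ∈ primesOf n) : p.Prime ∧ p ∣ n := by
  rw [primesOf, List.mem_filter] at h
  simp only [Bool.and_eq_true, decide_eq_true_eq, beq_iff_eq] at h
  obtain ⟨-, ⟨h2, hd⟩, hp⟩ := h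
  refine ⟨Nat.prime_def_lt'.mpr ⟨h2, fun d hd2 hdp hdd => ?_⟩, Nat.dvd_of_mod_eq_zero hd⟩
  rw [isP, List.all_eq_true] at hp
  have := hp d (List.mem_range.mpr hdp)
  simp [Nat.not_lt.mpr hd2, Nat.mod_eq_zero_of_dvd hdd] at this

theorem card_primeFactors_le (n : ℕ) : n.primeFactors.card ≤ (primesOf n).length := by
  refine le_trans (Finset.card_le_card fun p hp => List.mem_toFinset.mpr ?_) (List.toFinset_card_le _)
  rw [Nat.mem_primeFactors] at hp
  exact mem_primesOf hp.2.2 hp.1 hp.2.1

end CfsgLib.SmallGroups.OrdersSieve
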