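import Cfsg.Agent.Lib.Blocks.Section
import Cfsg.Agent.Lib.Blocks.Parts
import Cfsg.Agent.Lib.Blocks.Defect2
import Cfsg.Agent.Lib.Blocks.Eigen
import Cfsg.Agent.Lib.DegreeTools.Basic
import Cfsg.Agent.Lib.SmallGroups.SimpleTools
import Cfsg.Agent.S0165

/-!
# No element of order `p * r` in a simple group of order `p ^ a * q ^ b * r`

In the principal `p`-block the degrees that are powers of `p` are ruled out by Burnside's lemma at a
`p`-central element, so at an element of order divisible by `p` and `r` column orthogonality with the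
identity reduces to `1 ≡ 0` modulo `q`.
-/

set_option autoImplicit false

namespace CfsgLib.SmallGroups.NoMixedOrder

open Cfsg CfsgLib.Blocks
open scoped Classical

variable {G : Type*} [Group G] [Fintype G] [IsSimpleGroup G]

/-- In the principal `p`-block the only degree that is a power of `p` is one. -/
theorem ne_prime_pow_of_mem (hG : ¬ IsMulCommutative G) {p : ℕ} (hp : p.Prime) (hdiv : p ∣ Nat.card G)
    {M : Ideal AlgInt} (hM : IsPModular p M) {χ : IrrCharacter G} (hχ : χ ∈ principalBlock M G)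
    {l : ℕ} (hl : l ≠ 0) : charDegree (χ : G → ℂ) ≠ p ^ l := by
  intro hd
  have : Fact p.Prime := ⟨hp⟩
  obtain ⟨P⟩ : Nonempty (Sylow p G) := inferInstance
  have hne : (P : Subgroup G) ≠ ⊥ := P.ne_bot_of_dvd_card hdiv
  have : Nontrivial ↥(P : Subgroup G) := (Subgroup.nontrivial_iff_ne_bot _).2 hne
  have : Nontrivial (Subgroup.center ↥(P : Subgroup G)) := P.isPGroup'.center_nontrivial
  obtain ⟨⟨u, hu⟩, hu1⟩ := exists_ne (1 : Subgroup.center ↥(P : Subgroup G))
  have hu1' : (u : G) ≠ 1 := fun h => hu1 (Subtype.ext (Subtype.ext h))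
  have hle : (P : Subgroup G) ≤ Subgroup.centralizer ({(u : G)} : Set G) := fun w hw =>
    Subgroup.mem_centralizer_singleton_iff.2
      (congrArg Subtype.val (Subgroup.mem_center_iff.1 hu ⟨w, hw⟩))
  have hidx : ¬ p ∣ (Subgroup.centralizer ({(u : G)} : Set G)).index := fun h =>
    P.not_dvd_index (h.trans (Subgroup.index_dvd_of_le hle))
  have htriv : χ ≠ trivChar G := fun e => by
    rw [e] at hd
    have h1 : charDegree ((trivChar G : IrrCharacter G) : G → ℂ) = 1 := by simp [charDegree]
    rw [h1] at hd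
    exact (Nat.one_lt_pow hl hp.one_lt).ne hd
  have hfaith : ∀ g : G, (χ : G → ℂ) g = (χ : G → ℂ) 1 → g = 1 := by
    intro g hg
    have hχc := CfsgLib.Char.isCharacter_irr χ
    rcases (CfsgLib.Char.charKer_normal hχc).eq_bot_or_eq_top with h | h
    · have : g ∈ CfsgLib.Char.charKer hχc := (CfsgLib.Char.mem_charKer hχc).2 hg
      rw [h] at this
      exact Subgroup.mem_bot.1 this
    · exfalso
      have h0 := CfsgLib.Char.classInner_irr_ne χ.2 (trivChar G).2 fun h => htriv (Subtype.ext h)
      have hall : ∀ x : G, (χ : G → ℂ) x = (χ : G → ℂ) 1 := fun x =>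
        (CfsgLib.Char.mem_charKer hχc).1 (by rw [h]; exact Subgroup.mem_top x)
      rw [classInner] at h0
      simp only [trivChar_apply, map_one, mul_one, hall, Finset.sum_const, nsmul_eq_mul,
        irr_one_eq] at h0
      rcases mul_eq_zero.1 h0 with h1 | h1
      · simp at h1
      · rcases mul_eq_zero.1 h1 with h2 | h2
        · simp at h2
        · exact (charDegree_pos χ).ne' (by exact_mod_cast h2)
  have hzero : (χ : G → ℂ) (u : G) = 0 := by
    refine (DegreeTools.eq_zero_or_norm_eq_of_coprime χ (u : G) ?_).resolve_right fun h => ?_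
    · rw [hd]
      exact (((Nat.Prime.coprime_iff_not_dvd hp).2 hidx).pow_left l).symm
    · have := DegreeTools.mem_center_of_norm_eq χ hfaith _ h
      rw [SimpleTools.center_eq_bot hG, Subgroup.mem_bot] at this
      exact hu1' this
  have h := hχ (u : G)
  rw [centralChar, centralChar, hzero, mul_zero, zero_div, sub_zero, mul_one, div_one,
    LI.natCast_iff hM] at h
  exact hidx h

/-- A simple group of order `p ^ a * q ^ b * r` has no element whose order is divisible by `p * r`. -/
theorem not_dvd_orderOf (hG : ¬ IsMulCommutative G) {p q r a b : ℕ} (hp : p.Prime) (hq : q.Prime)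
    (hr : r.Prime) (hpr : p ≠ r) (hqr : q ≠ r) (hcard : Nat.card G = p ^ a * q ^ b * r) {g : G}
    (hgp : p ∣ orderOf g) : ¬ r ∣ orderOf g := by
  intro hgr
  have hdiv : p ∣ Nat.card G := hgp.trans (orderOf_dvd_natCard g)
  obtain ⟨M, hM⟩ := exists_isPModular hp
  obtain ⟨Mq, hMq⟩ := exists_isPModular hq
  obtain ⟨z, w, hz, hzw, hcomm, hw, hk, -, -⟩ := exists_isPPart (G := G) hp g
  have hz1 : ¬ IsConj z 1 := fun h => by
    rw [isConj_one_left] at h
    rw [h, one_mul] at hzw
    exact hw (hzw ▸ hgp)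
  have hortho := sum_block_mul_eq_zero hM (isPBlock_principalBlock (M := M) (G := G)) (g := g) (h := (1 : G))
    hz ⟨1, one_mul 1, Commute.one_left 1, ⟨0, by rw [orderOf_one, pow_zero]⟩, by
      rw [orderOf_one]; exact hp.not_dvd_one⟩ hz1
  rw [← Finset.add_sum_erase _ _ (Finset.mem_univ (trivChar G)),
    blockInd_of_mem (trivChar_mem_principalBlock hM), trivChar_apply, trivChar_apply, one_mul, one_mul] at hortho
  have hrsq : ¬ r ^ (1 + 1) ∣ Nat.card G := fun h => by
    rw [hcard, sq] at h
    rcases (Nat.Prime.dvd_mul hr).1 (Nat.dvd_of_mul_dvd_mul_right hr.pos h) with h | h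
    · exact hpr ((Nat.prime_dvd_prime_iff_eq hr hp).1 (hr.dvd_of_dvd_pow h)).symm
    · exact hqr ((Nat.prime_dvd_prime_iff_eq hr hq).1 (hr.dvd_of_dvd_pow h)).symm
  have hsum : MemLocalIdeal Mq (∑ χ ∈ Finset.univ.erase (trivChar G),
      blockInd (principalBlock M G) χ * ((χ : G → ℂ) g * (χ : G → ℂ) (1 : G)⁻¹)) := by
    refine LI.sum hMq fun χ hχ => ?_
    by_cases hmem : χ ∈ principalBlock M G
    swap
    · rw [blockInd_of_notMem hmem, zero_mul]
      exact LI.zero hMq
    rw [blockInd_of_mem hmem, one_mul, inv_one]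
    by_cases hqd : q ∣ charDegree (χ : G → ℂ)
    · rw [irr_one_eq]
      exact LI.mul_left hMq (LR.of_isIntegral hMq (irr_isIntegral χ g)) ((LI.natCast_iff hMq _).2 hqd)
    by_cases hrd : r ∣ charDegree (χ : G → ℂ)
    · obtain ⟨n, ρ, hirr, hρ⟩ := χ.2
      haveI := hirr
      have hfin : Module.finrank ℂ (Fin n → ℂ) = charDegree (χ : G → ℂ) :=
        Nat.cast_injective (R := ℂ) (by rw [← Representation.char_one ρ, hρ, irr_one_eq])
      have h0 : ρ.character g = 0 := Cfsg.Agent.S0165.result ρ r 1 hr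
        (by rw [pow_one]; exact hgr.trans (orderOf_dvd_natCard g)) hrsq (by rw [pow_one, hfin]; exact hrd) g hgr
      rw [hρ] at h0
      rw [h0, zero_mul]
      exact LI.zero hMq
    exfalso
    have h1 := charDegree_dvd χ
    rw [hcard] at h1
    have h2 := ((Nat.Prime.coprime_iff_not_dvd hr).2 hrd).symm.dvd_of_dvd_mul_right h1
    have h3 := (((Nat.Prime.coprime_iff_not_dvd hq).2 hqd).symm.pow_right b).dvd_of_dvd_mul_right h2
    obtain ⟨l, -, hl⟩ := (Nat.dvd_prime_pow hp).1 h3
    refine ne_prime_pow_of_mem hG hp hdiv hM hmem ?_ hl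
    intro h0
    rw [h0, pow_zero] at hl
    have hne := Finset.ne_of_mem_erase hχ
    obtain ⟨φ, hφ⟩ := CfsgLib.Char.exists_hom_of_apply_one_eq_one (CfsgLib.Char.isCharacter_irr χ)
      (by rw [irr_one_eq, hl, Nat.cast_one])
    refine hne (Subtype.ext (funext fun y => ?_))
    have hker : φ.ker = ⊤ := (inferInstance : φ.ker.Normal).eq_bot_or_eq_top.resolve_left fun hb =>
      hG ⟨⟨fun c d => (MonoidHom.ker_eq_bot_iff _).1 hb (by rw [map_mul, map_mul, mul_comm])⟩⟩
    have hy : φ y = 1 := MonoidHom.mem_ker.1 (hker ▸ Subgroup.mem_top y)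
    simp [congrFun hφ y, hy]
  rw [eq_neg_of_add_eq_zero_right hortho] at hsum
  exact LI.not_one hMq (by simpa using LI.neg hsum)

end CfsgLib.SmallGroups.NoMixedOrder
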