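import Cfsg.Agent.Lib.SmallGroups.CofactorThree
import Cfsg.Agent.Lib.SmallGroups.NoMixedOrder
import Cfsg.Agent.S0904

/-!
# Simple groups of order `p * r * q ^ b`

For `5 ≤ p < r` the principal blocks of the two self-centralizing Sylow subgroups give characters of
degree `p` and `r`; parity in the degree relations then forces one of `p`, `r` to be divisible by three.
-/

set_option autoImplicit false

namespace CfsgLib.SmallGroups.TwoPrimesTimesPower

open Cfsg CfsgLib.Blocks
open scoped Classical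

variable {G : Type*} [Group G] [Fintype G] [IsSimpleGroup G]

omit [IsSimpleGroup G] in
theorem autCard_of {p : ℕ} [Fact p.Prime] (P : Sylow p G) {e c : ℕ}
    (hN : Nat.card (Subgroup.normalizer ((P : Subgroup G) : Set G)) = e * c)
    (hC : Nat.card (Subgroup.centralizer ((P : Subgroup G) : Set G)) = c) : TIAbelian.autCard P = e := by
  rw [TIAbelian.autCard_eq, Subgroup.relIndex]
  have hle := Subgroup.centralizer_le_normalizer ((P : Subgroup G) : Set G)
  have h := ((Subgroup.centralizer ((P : Subgroup G) : Set G)).subgroupOf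
    (Subgroup.normalizer ((P : Subgroup G) : Set G))).index_mul_card
  rw [Nat.card_congr (Subgroup.subgroupOfEquivOfLe hle).toEquiv, hN, hC] at h
  exact Nat.eq_of_mul_eq_mul_right (hC ▸ Nat.card_pos) h

/-- Some nontrivial member of the principal block has degree prime to `ℓ`. -/
theorem exists_member_not_dvd (hG : ¬ IsMulCommutative G) {r : ℕ} [Fact r.Prime] (hodd : r ≠ 2) (R : Sylow r G)
    (hR : Nat.card R = r) {ℓ : ℕ} (hℓ : ℓ.Prime) {e : ℕ} (he : TIAbelian.autCard R = e)
    {M : Ideal AlgInt} (hM : IsPModular r M) :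
    ∃ χ : IrrCharacter G, χ ≠ trivChar G ∧ χ ∈ principalBlock M G ∧ ¬ ℓ ∣ charDegree (χ : G → ℂ) ∧
      ((charDegree (χ : G → ℂ) : ℤ) ≡ 1 [ZMOD r] ∨ (charDegree (χ : G → ℂ) : ℤ) ≡ -1 [ZMOD r] ∨
        (charDegree (χ : G → ℂ) : ℤ) ≡ e [ZMOD r] ∨ (charDegree (χ : G → ℂ) : ℤ) ≡ -(e : ℤ) [ZMOD r]) := by
  have hr : r.Prime := Fact.out
  obtain ⟨X, Y, εX, ε, hB, hdisj, -, hY, hXp, hε, hYd, hYagree, hrel⟩ :=
    PrimeOrder.principal_block hM hodd R hR
  rw [he] at hYd
  have hd1 : charDegree ((trivChar G : IrrCharacter G) : G → ℂ) = 1 := by simp [charDegree]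
  have hmod : ∀ χ, χ ∈ principalBlock M G →
      (charDegree (χ : G → ℂ) : ℤ) ≡ 1 [ZMOD r] ∨ (charDegree (χ : G → ℂ) : ℤ) ≡ -1 [ZMOD r] ∨
        (charDegree (χ : G → ℂ) : ℤ) ≡ e [ZMOD r] ∨ (charDegree (χ : G → ℂ) : ℤ) ≡ -(e : ℤ) [ZMOD r] := by
    intro χ hχ
    rcases (hB χ).1 hχ with h | h
    · obtain ⟨hs, hm, -⟩ := hXp χ h
      rcases hs with e' | e' <;> rw [e'] at hm
      · exact .inl hm
      · exact .inr (.inl hm)
    · have hm := hYd χ h
      rcases hε with rfl | rfl
      · exact .inr (.inr (.inl (by simpa using hm)))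
      · exact .inr (.inr (.inr (by simpa using hm)))
  by_contra hno
  have hdvd : ∀ χ, χ ∈ principalBlock M G → χ ≠ trivChar G → ℓ ∣ charDegree (χ : G → ℂ) := fun χ h h' => by
    by_contra hc
    exact hno ⟨χ, h', h, hc, hmod χ h⟩
  have hYne : Y.Nonempty := by
    refine Finset.card_pos.1 ?_
    obtain ⟨-, h⟩ := Cofactor.exists_aut hG R hR
    rw [hY]
    exact Nat.div_pos (Nat.le_of_dvd (by have := hr.two_le; omega) h)
      (Nat.pos_of_dvd_of_pos h (by have := hr.two_le; omega))
  obtain ⟨θ₀, hθ₀⟩ := hYne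
  have h1 := hrel θ₀ hθ₀ 1 (by rw [orderOf_one]; exact hr.not_dvd_one)
  simp only [irr_one_eq] at h1
  have h1' : ε * (charDegree (θ₀ : G → ℂ) : ℤ) = ∑ χ ∈ X, εX χ * (charDegree (χ : G → ℂ) : ℤ) := by
    exact_mod_cast h1
  have hsum : ∀ S : Finset (IrrCharacter G), (∀ χ ∈ S, χ ∈ X ∧ χ ≠ trivChar G) →
      (ℓ : ℤ) ∣ ∑ χ ∈ S, εX χ * (charDegree (χ : G → ℂ) : ℤ) := fun S hS =>
    Finset.dvd_sum fun χ hχ => dvd_mul_of_dvd_right
      (by exact_mod_cast hdvd χ ((hB χ).2 (.inl (hS χ hχ).1)) (hS χ hχ).2) _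
  have hnot : ¬ (ℓ : ℤ) ∣ 1 := by exact_mod_cast hℓ.not_dvd_one
  rcases (hB _).1 (trivChar_mem_principalBlock hM) with htX | htY
  · have hθ := hdvd θ₀ ((hB _).2 (.inr hθ₀)) fun e' => Finset.disjoint_left.1 hdisj htX (e' ▸ hθ₀)
    have hθ' : (ℓ : ℤ) ∣ ε * (charDegree (θ₀ : G → ℂ) : ℤ) := dvd_mul_of_dvd_right (by exact_mod_cast hθ) _
    rw [h1', ← Finset.add_sum_erase _ _ htX, hd1] at hθ'
    have h2 := (dvd_add_left (hsum (X.erase (trivChar G)) fun χ hχ =>
      ⟨Finset.mem_of_mem_erase hχ, Finset.ne_of_mem_erase hχ⟩)).1 hθ'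
    rcases (hXp _ htX).1 with e' | e' <;> rw [e'] at h2
    · exact hnot (by simpa using h2)
    · exact hnot (by simpa using h2)
  · have h2 := hsum X fun χ hχ => ⟨hχ, fun e' => Finset.disjoint_left.1 hdisj hχ (e' ▸ htY)⟩
    have hdeg : charDegree (θ₀ : G → ℂ) = 1 := Nat.cast_injective (R := ℂ) (by
      rw [← irr_one_eq, hYagree θ₀ hθ₀ _ htY 1 (by rw [orderOf_one]; exact hr.not_dvd_one), irr_one_eq, hd1])
    rw [← h1', hdeg] at h2
    rcases hε with rfl | rfl
    · exact hnot (by simpa using h2)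
    · exact hnot (by simpa using h2)

/-- The Sylow data of a self-centralizing subgroup of prime order. -/
theorem setup (hG : ¬ IsMulCommutative G) {p r q b : ℕ} (hp : p.Prime) [Fact r.Prime] (hq : q.Prime)
    (hpr : p ≠ r) (hpq : p ≠ q) (hqr : q ≠ r) (hcard : Nat.card G = p * r * q ^ b) :
    ∃ (R : Sylow r G) (e : ℕ), Nat.card (R : Subgroup G) = r ∧ TIAbelian.autCard R = e ∧ e ≠ 1 ∧ e ∣ r - 1 ∧
      Nat.card (Sylow r G) * e = p * q ^ b ∧
      Nat.card (Subgroup.normalizer ((R : Subgroup G) : Set G)) =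
        e * Nat.card (Subgroup.centralizer ((R : Subgroup G) : Set G)) := by
  have hr : r.Prime := Fact.out
  have hm : ¬ r ∣ p * q ^ b := fun h => by
    rcases (Nat.Prime.dvd_mul hr).1 h with h | h
    · exact hpr ((Nat.prime_dvd_prime_iff_eq hr hp).1 h).symm
    · exact hqr ((Nat.prime_dvd_prime_iff_eq hr hq).1 (hr.dvd_of_dvd_pow h)).symm
  obtain ⟨R, e, k, hR, he, hed, hnek, hN, hC⟩ :=
    OrdersBelow1092.prime_order_setup hG (p := r) (m := p * q ^ b) (by rw [hcard]; ring) hm rfl
  have hself := Cfsg.Agent.S0904.result p q r 1 b hp hq hpq hpr hqr (by rw [hcard]; ring) R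
  have hC' : Nat.card (Subgroup.centralizer ((R : Subgroup G) : Set G)) = r :=
    (congrArg (fun H : Subgroup G => Nat.card H) hself).trans hR
  have hk : k = 1 := (Nat.mul_eq_left hr.ne_zero).1 (hC.symm.trans hC')
  subst hk
  rw [mul_one] at hnek hN hC
  exact ⟨R, e, hR, autCard_of R hN hC, he, hed, hnek, by rw [hN, hC]⟩

theorem sum_div_two_pow_le (n k : ℕ) : ∑ i ∈ Finset.range k, n / 2 ^ i ≤ 2 * n - 1 := by
  induction k generalizing n with
  | zero => simp
  | succ k ih =>
    rw [Finset.sum_range_succ']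
    have h := ih (n / 2)
    have e : ∀ i, n / 2 ^ (i + 1) = n / 2 / 2 ^ i := fun i => by rw [Nat.div_div_eq_div_mul, pow_succ']
    simp only [e, pow_zero, Nat.div_one]
    rcases Nat.eq_zero_or_pos (n / 2) with h0 | h0
    · rw [h0] at h ⊢
      simp only [Nat.zero_div, Finset.sum_const_zero]
      omega
    · omega

/-- With a character of degree `p` in the exceptional family, `r = 2 p + 1` bounds the exponent of `q`. -/
theorem exponent_lt (hG : ¬ IsMulCommutative G) {p r q b : ℕ} (hp : p.Prime) [Fact r.Prime] (hq : q.Prime)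
    (hpr : p < r) (h5 : 5 ≤ p) (hpq : p ≠ q) (hqr : q ≠ r) (hcard : Nat.card G = p * r * q ^ b)
    (R : Sylow r G) (hR : Nat.card R = r) {χ : IrrCharacter G} (hne : χ ≠ trivChar G)
    (hχ : charDegree (χ : G → ℂ) = p) {M : Ideal AlgInt} (hM : IsPModular r M) (hmem : χ ∈ principalBlock M G)
    (hp1 : p + 1 < r) : b < p ∨ q = 2 ∧ b < 2 * p := by
  have hr : r.Prime := Fact.out
  obtain ⟨X, Y, εX, ε, hB, -, -, -, hXp, -, -, hYagree, -⟩ :=
    PrimeOrder.principal_block hM (by omega) R hR
  have notX : ∀ ψ : IrrCharacter G, charDegree (ψ : G → ℂ) = p → ψ ∉ X := by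
    intro ψ hψ hX
    obtain ⟨hs, hm, -⟩ := hXp ψ hX
    rw [hψ, Int.modEq_iff_dvd] at hm
    rcases hs with e | e <;> rw [e] at hm <;>
      have := Int.eq_zero_of_dvd_of_natAbs_lt_natAbs hm (by omega) <;> omega
  have hχY : χ ∈ Y := ((hB χ).1 hmem).resolve_left (notX χ hχ)
  have hreg : ∀ g : G, ¬ r ∣ orderOf g → ∃ k : ℤ, (χ : G → ℂ) g = k := fun g hg =>
    CfsgLib.DegreeTools.Rationality.exists_int_of_fixed (irr_isIntegral χ g) fun σ => by
      have hσ := CfsgLib.DegreeTools.Rationality.galIrr_mem_principalBlock hM σ hmem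
      have hdeg : charDegree ((CfsgLib.DegreeTools.Rationality.galIrr σ χ : IrrCharacter G) : G → ℂ) = p :=
        Nat.cast_injective (R := ℂ) (by
          rw [← irr_one_eq, CfsgLib.DegreeTools.Rationality.galIrr_apply, irr_one_eq, hχ, map_natCast])
      have := hYagree _ (((hB _).1 hσ).resolve_left (notX _ hdeg)) χ hχY g hg
      rwa [CfsgLib.DegreeTools.Rationality.galIrr_apply] at this
  have hval : ∀ g : G, (χ : G → ℂ) g ∈
      IntermediateField.adjoin ℚ ({Complex.exp (2 * Real.pi * Complex.I / r)} : Set ℂ) := by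
    intro g
    by_cases hg : r ∣ orderOf g
    · refine Cofactor.apply_mem_cyclotomic (CfsgLib.Char.isCharacter_irr χ) hr.pos (dvd_of_eq ?_)
      have hd : orderOf g ∣ p * r * q ^ b := hcard ▸ orderOf_dvd_natCard g
      obtain ⟨m, hm⟩ := hg
      have h1 : ¬ p ∣ orderOf g := fun h =>
        NoMixedOrder.not_dvd_orderOf hG hp hq hr (by omega) hqr (a := 1) (b := b) (by rw [hcard]; ring) h ⟨m, hm⟩
      have h2 : ¬ q ∣ orderOf g := fun h =>
        NoMixedOrder.not_dvd_orderOf hG hq hp hr hqr (by omega) (a := b) (b := 1) (by rw [hcard]; ring) h ⟨m, hm⟩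
      have h3 := (((Nat.Prime.coprime_iff_not_dvd hq).2 h2).symm.pow_right b).dvd_of_dvd_mul_right hd
      exact Nat.dvd_antisymm (((Nat.Prime.coprime_iff_not_dvd hp).2 h1).symm.dvd_of_dvd_mul_left h3) ⟨m, hm⟩
    · obtain ⟨k, hk⟩ := hreg g hg
      rw [hk]
      exact intCast_mem _ k
  have hqr' : ¬ q ∣ r := fun h => hqr ((Nat.prime_dvd_prime_iff_eq hq hr).1 h)
  have hb := Cfsg.Agent.S4488.result q hq _ (CfsgLib.Char.isCharacter_irr χ) (Cofactor.faithful hne)
    ⟨r, hr.pos, hqr', hval⟩ p hχ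
  have hfac : (Nat.card G).factorization q = b := by
    rw [hcard]
    simpa using Cofactor.factorization_order (u := p) (p := r) (r := q) (a := 1) (b := b) hp.ne_zero hr hq
      (Ne.symm hqr) (fun h => hpq ((Nat.prime_dvd_prime_iff_eq hq hp).1 h).symm)
  rw [hfac] at hb
  rcases hq.eq_two_or_odd with rfl | hodd
  · refine .inr ⟨rfl, ?_⟩
    have := sum_div_two_pow_le p (p + 1)
    simp only [show (2 : ℕ) - 1 = 1 from rfl, one_mul] at hb
    omega
  · refine .inl ?_
    have h3 : 3 ≤ q := by have := hq.two_le; omega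
    have hle : ∑ i ∈ Finset.range (p + 1), p / ((q - 1) * q ^ i) ≤ ∑ i ∈ Finset.range (p + 1), p / 2 / 2 ^ i :=
      Finset.sum_le_sum fun i _ => by
        rw [Nat.div_div_eq_div_mul]
        exact Nat.div_le_div_left (Nat.mul_le_mul (by omega) (Nat.pow_le_pow_left hq.two_le i)) (by positivity)
    have := sum_div_two_pow_le (p / 2) (p + 1)
    omega

theorem two_pow_mod_three (k : ℕ) : 2 ^ k % 3 ≠ 0 := by
  intro h
  have := (Nat.prime_dvd_prime_iff_eq Nat.prime_three Nat.prime_two).1
    (Nat.prime_three.dvd_of_dvd_pow (Nat.dvd_of_mod_eq_zero h))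
  omega

theorem not_three_dvd {p : ℕ} (hp : p.Prime) (h : 5 ≤ p) : p % 3 ≠ 0 := fun h0 => by
  have := (Nat.prime_dvd_prime_iff_eq Nat.prime_three hp).1 (Nat.dvd_of_mod_eq_zero h0)
  omega

/-- The case where the smaller prime is not the automiser order. -/
theorem false_of_shift (hG : ¬ IsMulCommutative G) {p r b e : ℕ} (hp : p.Prime) [Fact r.Prime] (h5 : 5 ≤ p)
    (hpr : p < r) (hcard : Nat.card G = p * r * 2 ^ b) (R : Sylow r G) (hR : Nat.card R = r)
    (hN : Nat.card (Subgroup.normalizer ((R : Subgroup G) : Set G)) =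
      e * Nat.card (Subgroup.centralizer ((R : Subgroup G) : Set G)))
    (hed : e ∣ r - 1) (he2 : e ∣ p * 2 ^ b) (hsum : p + e = r) : False := by
  have hr : r.Prime := Fact.out
  have hpodd := Nat.odd_iff.1 (hp.odd_of_ne_two (by omega))
  have hrodd := Nat.odd_iff.1 (hr.odd_of_ne_two (by omega))
  have hpe : ¬ p ∣ e := fun h => by
    have : p ∣ r := hsum ▸ dvd_add dvd_rfl h
    exact hpr.ne ((Nat.prime_dvd_prime_iff_eq hp hr).1 this)
  obtain ⟨s, -, hes⟩ := (Nat.dvd_prime_pow Nat.prime_two).1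
    (((Nat.Prime.coprime_iff_not_dvd hp).2 hpe).symm.dvd_of_dvd_mul_left he2)
  have heven_e : e % 2 = 0 := by omega
  have hepos : 0 < e := by rw [hes]; positivity
  obtain ⟨l, x, hlen, hl, hxd, hxm, hx⟩ :=
    BlockDegrees.degree_relation hG (p := r) (by omega) R hR hN (by omega)
  have h3p := not_three_dvd hp h5
  have h3r := not_three_dvd hr (by omega)
  rw [hcard] at hl hxd
  -- the nontrivial degrees are even
  have hodd_dvd : ∀ n : ℕ, n ∣ p * r * 2 ^ b → n % 2 = 1 → ¬ r ∣ n → n = 1 ∨ n = p := fun n hn hn2 hnr => by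
    have h1 := ((Nat.coprime_two_right.2 (Nat.odd_iff.2 hn2)).pow_right b).dvd_of_dvd_mul_right hn
    exact hp.eq_one_or_self_of_dvd _ (((Nat.Prime.coprime_iff_not_dvd hr).2 hnr).symm.dvd_of_dvd_mul_right h1)
  have hmod_small : ∀ {u v : ℤ}, u ≡ v [ZMOD r] → (v - u).natAbs < r → u = v := fun {u v} h hlt => by
    have := Int.eq_zero_of_dvd_of_natAbs_lt_natAbs (Int.modEq_iff_dvd.1 h) (by omega)
    omega
  have hlr : ∀ a ∈ l, ¬ r ∣ a.natAbs := fun a ha h => by
    obtain ⟨-, -, hm⟩ := hl a ha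
    have h0 : (r : ℤ) ∣ a := Int.natCast_dvd.2 h
    have := dvd_add (Int.modEq_iff_dvd.1 hm) h0
    rw [sub_add_cancel] at this
    exact hr.not_dvd_one (by exact_mod_cast this)
  have heven : ∀ a ∈ l, (2 : ℤ) ∣ a := fun a ha => by
    obtain ⟨hd, h2, hm⟩ := hl a ha
    by_contra hodd
    rcases hodd_dvd _ hd (by omega) (hlr a ha) with h | h
    · omega
    · have := hmod_small hm (by omega)
      omega
  have hsum2 : (2 : ℤ) ∣ l.sum := List.dvd_sum heven
  have hxr : ¬ r ∣ x.natAbs := fun h => by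
    have h0 : (r : ℤ) ∣ x := Int.natCast_dvd.2 h
    have h1 := dvd_add (Int.modEq_iff_dvd.1 hxm) h0
    rw [sub_add_cancel] at h1
    have := Nat.le_of_dvd hepos (show r ∣ e by exact_mod_cast h1)
    omega
  have hxp : x = -(p : ℤ) := by
    rcases hodd_dvd _ hxd (by omega) hxr with h | h
    · exfalso
      rcases Int.natAbs_eq x with e' | e' <;> rw [h] at e' <;> rw [e'] at hxm <;>
        have := hmod_small hxm (by push_cast; omega) <;> push_cast at this <;> omega
    · rcases Int.natAbs_eq x with e' | e' <;> rw [h] at e'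
      · exfalso
        rw [e'] at hxm
        have := hmod_small hxm (by push_cast; omega)
        push_cast at this
        omega
      · exact e'
  rcases Nat.lt_or_ge s 2 with hs2 | hs2
  · -- twin primes
    have he_two : e = 2 := by
      have : s = 0 ∨ s = 1 := by omega
      rcases this with rfl | rfl <;> simp at hes <;> omega
    obtain ⟨a, rfl⟩ := List.length_eq_one_iff.1 (show l.length = 1 by omega)
    obtain ⟨hd, -, -⟩ := hl a (by simp)
    simp only [List.sum_cons, List.sum_nil, add_zero] at hx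
    have ha : a.natAbs = p + 1 := by omega
    rw [ha] at hd
    have h1 : Nat.Coprime (p + 1) p := Nat.coprime_self_add_left.2 (Nat.coprime_one_left p)
    have h2 : Nat.Coprime (p + 1) r :=
      ((Nat.Prime.coprime_iff_not_dvd hr).2 fun h => by have := Nat.le_of_dvd (by omega) h; omega).symm
    obtain ⟨k, -, hk⟩ := (Nat.dvd_prime_pow Nat.prime_two).1
      ((h1.mul_right h2).dvd_of_dvd_mul_left hd)
    have := two_pow_mod_three k
    rcases (show p % 3 = 1 ∨ p % 3 = 2 by omega) with hp3 | hp3 <;> omega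
  · have h4 : (4 : ℤ) ∣ l.sum := List.dvd_sum fun a ha => by
      obtain ⟨hd, h2, hm⟩ := hl a ha
      by_contra h4
      obtain ⟨c, hc⟩ := heven a ha
      have hcd : c.natAbs ∣ p * r * 2 ^ b := dvd_trans ⟨2, by rw [hc, Int.natAbs_mul, mul_comm]; rfl⟩ hd
      have hcr : ¬ r ∣ c.natAbs := fun h => hlr a ha (by rw [hc, Int.natAbs_mul]; exact dvd_mul_of_dvd_right h _)
      rcases hodd_dvd _ hcd (by omega) hcr with h | h
      · rcases Int.natAbs_eq c with e' | e' <;> rw [h] at e' <;> subst e' hc <;>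
          have := hmod_small hm (by omega) <;> omega
      · have key : (r : ℤ) ∣ 2 * (p : ℤ) - 1 ∨ (r : ℤ) ∣ 2 * (p : ℤ) + 1 := by
          rcases Int.natAbs_eq c with e' | e' <;> rw [h] at e' <;> subst e' hc
          · exact .inl (Int.modEq_iff_dvd.1 hm.symm)
          · exact .inr (by
              have := Int.modEq_iff_dvd.1 hm
              convert this using 1
              ring)
        have hcase : r + 1 = 2 * p ∨ r = 2 * p + 1 := by
          rcases key with hk | hk
          · have hk' : r ∣ 2 * p - 1 := by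
              rw [← Int.natCast_dvd_natCast]; push_cast [Nat.cast_sub (by omega : 1 ≤ 2 * p)]; exact hk
            obtain ⟨j, hj⟩ := hk'
            have hj2 : j < 2 := by
              by_contra hge
              have := Nat.mul_le_mul_left r (not_lt.1 hge)
              omega
            interval_cases j <;> omega
          · have hk' : r ∣ 2 * p + 1 := by exact_mod_cast hk
            obtain ⟨j, hj⟩ := hk'
            have hj2 : j < 3 := by
              by_contra hge
              have := Nat.mul_le_mul_left r (not_lt.1 hge)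
              omega
            interval_cases j <;> omega
        rcases hcase with hr' | hr'
        · have := two_pow_mod_three s
          rcases (show p % 3 = 1 ∨ p % 3 = 2 by omega) with hp3 | hp3 <;> omega
        · obtain ⟨j, hj⟩ := hed
          have hje : e = p + 1 := by omega
          rw [hje] at hj
          have hj2 : j < 2 := by
            by_contra hge
            have := Nat.mul_le_mul_left (p + 1) (not_lt.1 hge)
            omega
          interval_cases j <;> omega
    obtain ⟨s', rfl⟩ : ∃ j, s = j + 2 := ⟨s - 2, by omega⟩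
    have he4 : 4 ∣ e := ⟨2 ^ s', by rw [hes, pow_add]; ring⟩
    have := he4.trans hed
    omega

/-- The case where the smaller prime is the automiser order. -/
theorem false_of_half (hG : ¬ IsMulCommutative G) {p r q b : ℕ} (hp : p.Prime) [Fact r.Prime] (hq : q.Prime)
    (h5 : 5 ≤ p) (hqp : q < p) (hr2 : r = 2 * p + 1) (hcard : Nat.card G = p * r * q ^ b) (hb0 : 1 ≤ b)
    (R : Sylow r G) (hR : Nat.card R = r) (hn : Nat.card (Sylow r G) = q ^ b) {χ : IrrCharacter G}
    (hne : χ ≠ trivChar G) (hχ : charDegree (χ : G → ℂ) = p)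
    {M : Ideal AlgInt} (hM : IsPModular r M) (hmem : χ ∈ principalBlock M G) : False := by
  have hr : r.Prime := Fact.out
  have hp' : Fact p.Prime := ⟨hp⟩
  have hbound := exponent_lt hG hp hq (by omega) h5 (by omega) (by omega) hcard R hR hne hχ hM hmem (by omega)
  have hone : q ^ b % r = 1 := by
    rw [← hn, card_sylow_modEq_one r G, Nat.one_mod_eq_one.2 hr.one_lt.ne']
  have hZ : (q : ZMod r) ^ b = 1 := by
    rw [← Nat.cast_pow, ← ZMod.natCast_mod, hone, Nat.cast_one]
  have hq0 : (q : ZMod r) ≠ 0 := fun h => by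
    have := Nat.le_of_dvd hq.pos ((ZMod.natCast_eq_zero_iff q r).1 h); omega
  have hpb : p ∣ b := by
    by_contra hpb
    have h1 := orderOf_dvd_of_pow_eq_one hZ
    have h2 := orderOf_dvd_of_pow_eq_one (ZMod.pow_card_sub_one_eq_one hq0)
    have h3 : ¬ p ∣ orderOf (q : ZMod r) := fun h => hpb (h.trans h1)
    have h4 := ((Nat.Prime.coprime_iff_not_dvd hp).2 h3).symm.dvd_of_dvd_mul_right
      (show orderOf (q : ZMod r) ∣ 2 * p by rwa [show r - 1 = 2 * p by omega] at h2)
    have h5' : (q : ZMod r) ^ 2 = 1 := orderOf_dvd_iff_pow_eq_one.1 h4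
    have h6 : ((q : ZMod r) - 1) * ((q : ZMod r) + 1) = 0 := by
      linear_combination h5'
    rcases mul_eq_zero.1 h6 with h | h
    · have h7 : ((q - 1 : ℕ) : ZMod r) = 0 := by rw [Nat.cast_sub hq.one_le, Nat.cast_one]; exact h
      have := Nat.le_of_dvd (by have := hq.two_le; omega) ((ZMod.natCast_eq_zero_iff _ r).1 h7)
      omega
    · have h7 : ((q + 1 : ℕ) : ZMod r) = 0 := by rw [Nat.cast_succ]; exact h
      have := Nat.le_of_dvd (by omega) ((ZMod.natCast_eq_zero_iff _ r).1 h7)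
      omega
  obtain ⟨j, hj⟩ := hpb
  rcases hbound with hlt | ⟨rfl, hlt⟩
  · rcases Nat.eq_zero_or_pos j with rfl | hj0
    · omega
    · have := Nat.le_mul_of_pos_right p hj0
      omega
  have hjone : j = 1 := by
    rcases Nat.lt_or_ge j 2 with h | h
    · rcases Nat.eq_zero_or_pos j with rfl | hj0
      · omega
      · omega
    · have := Nat.mul_le_mul_left p h
      omega
  rw [hjone, mul_one] at hj
  subst hj
  -- the other block
  obtain ⟨P, e, hP, -, he1, hed, hne', hN⟩ := setup hG (p := r) (r := b) (q := 2) hr Nat.prime_two (by omega)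
    (by omega) (by omega) (show Nat.card G = r * b * 2 ^ b by rw [hcard]; ring)
  have hnp : Nat.card (Sylow b G) % b = 1 := by
    rw [card_sylow_modEq_one b G, Nat.one_mod_eq_one.2 hp.one_lt.ne']
  have he2 : e = 2 := by
    have h1 : ((Nat.card (Sylow b G) * e : ℕ) : ZMod b) = ((r * 2 ^ b : ℕ) : ZMod b) := congrArg Nat.cast hne'
    push_cast at h1
    rw [← ZMod.natCast_mod (Nat.card (Sylow b G)), hnp, Nat.cast_one, one_mul, ZMod.pow_card, hr2] at h1
    push_cast at h1
    rw [ZMod.natCast_self, mul_zero, zero_add, one_mul] at h1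
    have h2 : (e : ZMod b) = ((2 : ℕ) : ZMod b) := by rw [h1]; norm_num
    rw [ZMod.natCast_eq_natCast_iff, Nat.ModEq] at h2
    have := Nat.le_of_dvd (by omega) hed
    rwa [Nat.mod_eq_of_lt (by omega), Nat.mod_eq_of_lt (by omega)] at h2
  subst he2
  obtain ⟨l, x, hlen, hl, hxd, hxm, hx⟩ :=
    BlockDegrees.degree_relation hG (p := b) (by omega) P hP hN (by omega)
  obtain ⟨a, rfl⟩ := List.length_eq_one_iff.1 (show l.length = 1 by omega)
  obtain ⟨had, ha2, ham⟩ := hl a (by simp)
  simp only [List.sum_cons, List.sum_nil, add_zero] at hx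
  rw [hcard] at had hxd
  have hb_ndvd : ∀ {u : ℤ} {v : ℕ}, u ≡ v [ZMOD b] → 0 < v → v < b → ¬ b ∣ u.natAbs := fun {u v} hm hv hvb h => by
    have h1 := dvd_add (Int.modEq_iff_dvd.1 hm) (Int.natCast_dvd.2 h)
    rw [sub_add_cancel] at h1
    have := Nat.le_of_dvd hv (show b ∣ v by exact_mod_cast h1)
    omega
  have hap : ¬ b ∣ a.natAbs := hb_ndvd (v := 1) (by exact_mod_cast ham) one_pos (by omega)
  have hxp : ¬ b ∣ x.natAbs := hb_ndvd (v := 2) (by exact_mod_cast hxm) two_pos (by omega)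
  have drop : ∀ {n : ℕ}, n ∣ b * r * 2 ^ b → ¬ b ∣ n → n ∣ r * 2 ^ b := fun {n} h h' => by
    rw [mul_assoc] at h
    exact ((Nat.Prime.coprime_iff_not_dvd hp).2 h').symm.dvd_of_dvd_mul_left h
  have odd_case : ∀ {n : ℕ}, n ∣ r * 2 ^ b → n % 2 = 1 → n = 1 ∨ n = r := fun {n} h h' =>
    hr.eq_one_or_self_of_dvd _ (((Nat.coprime_two_right.2 (Nat.odd_iff.2 h')).pow_right b).dvd_of_dvd_mul_right h)
  rcases Nat.mod_two_eq_zero_or_one a.natAbs with h2 | h2
  · rcases odd_case (drop hxd hxp) (by omega) with h | h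
    · rcases Int.natAbs_eq x with e' | e' <;> rw [h] at e' <;> rw [e'] at hxm <;>
        have := Int.eq_zero_of_dvd_of_natAbs_lt_natAbs (Int.modEq_iff_dvd.1 hxm) (by push_cast; omega) <;>
        push_cast at this <;> omega
    · rcases Int.natAbs_eq x with e' | e' <;> rw [h, hr2] at e' <;> rw [e'] at hxm
      · have h1 := dvd_add (Int.modEq_iff_dvd.1 hxm) (Dvd.intro_left 2 rfl : (b : ℤ) ∣ 2 * (b : ℤ))
        push_cast at h1
        ring_nf at h1
        exact hp.not_dvd_one (by exact_mod_cast h1)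
      · have h1 := dvd_sub (Int.modEq_iff_dvd.1 hxm) (Dvd.intro_left 2 rfl : (b : ℤ) ∣ 2 * (b : ℤ))
        push_cast at h1
        ring_nf at h1
        have := Nat.le_of_dvd (by norm_num) (show b ∣ 3 by exact_mod_cast h1)
        omega
  · rcases odd_case (drop had hap) h2 with h | h
    · omega
    rcases Int.natAbs_eq a with e' | e' <;> rw [h] at e'
    · have hxn : x.natAbs = r + 1 := by omega
      have hxd' := drop hxd hxp
      rw [hxn] at hxd'
      obtain ⟨k, -, hk⟩ := (Nat.dvd_prime_pow Nat.prime_two).1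
        ((Nat.coprime_self_add_left.2 (Nat.coprime_one_left r)).dvd_of_dvd_mul_left hxd')
      have := two_pow_mod_three k
      have := not_three_dvd hp h5
      have := not_three_dvd hr (by omega)
      rcases (show b % 3 = 1 ∨ b % 3 = 2 by omega) with hp3 | hp3 <;> omega
    · rw [e', hr2] at ham
      have h1 := dvd_sub (Int.modEq_iff_dvd.1 ham) (Dvd.intro_left 2 rfl : (b : ℤ) ∣ 2 * (b : ℤ))
      push_cast at h1
      ring_nf at h1
      have := Nat.le_of_dvd (by norm_num) (show b ∣ 2 by exact_mod_cast h1)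
      omega

/-- No simple group has order `p * r * q ^ b` with `5 ≤ p < r`, `q < p`, when `q = 2` or the order is odd. -/
theorem false_of_primes (hG : ¬ IsMulCommutative G) {p r q b : ℕ} (hp : p.Prime) [Fact r.Prime] (hq : q.Prime)
    (h5 : 5 ≤ p) (hpr : p < r) (hqp : q < p) (hcard : Nat.card G = p * r * q ^ b) (hb0 : 1 ≤ b) : False := by
  have hr : r.Prime := Fact.out
  have hp' : Fact p.Prime := ⟨hp⟩
  obtain ⟨R, e, hR, haut, he1, hed, hne, hN⟩ := setup hG (p := p) (r := r) hp hq (by omega) (by omega) (by omega) hcard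
  obtain ⟨M, hM⟩ := exists_isPModular hr
  obtain ⟨χ, hχne, hχmem, hχq, hχm⟩ := exists_member_not_dvd hG (r := r) (by omega) R hR hq haut hM
  have he_lt : e ≤ r - 1 := Nat.le_of_dvd (by omega) hed
  have he_pos : 1 ≤ e := Nat.pos_of_dvd_of_pos hed (by omega)
  have hd : charDegree (χ : G → ℂ) = p := by
    have h0 : ¬ r ∣ charDegree (χ : G → ℂ) := fun h => by
      have hz : (r : ℤ) ∣ (charDegree (χ : G → ℂ) : ℤ) := by exact_mod_cast h
      rcases hχm with hm | hm | hm | hm <;>
        have h1 := Int.eq_zero_of_dvd_of_natAbs_lt_natAbs (dvd_add (Int.modEq_iff_dvd.1 hm) hz)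
          (by rw [sub_add_cancel]; omega) <;> rw [sub_add_cancel] at h1 <;> omega
    have h1 := charDegree_dvd χ
    rw [hcard] at h1
    have h2 := (((Nat.Prime.coprime_iff_not_dvd hq).2 hχq).symm.pow_right b).dvd_of_dvd_mul_right h1
    rcases hp.eq_one_or_self_of_dvd _ (((Nat.Prime.coprime_iff_not_dvd hr).2 h0).symm.dvd_of_dvd_mul_right h2) with h | h
    · exact absurd (BlockDegrees.eq_trivChar hG χ h) hχne
    · exact h
  have hrle := Cofactor.prime_le_degree hG hχne hr (hcard ▸ dvd_mul_of_dvd_left (dvd_mul_left r p) _)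
  rw [hd] at hrle hχm
  have hrodd := Nat.odd_iff.1 (hr.odd_of_ne_two (by omega))
  have hpodd := Nat.odd_iff.1 (hp.odd_of_ne_two (by omega))
  have hcases : e = p ∨ p + e = r := by
    rcases hχm with hm | hm | hm | hm <;> have hm' := Int.modEq_iff_dvd.1 hm
    · have := Int.eq_zero_of_dvd_of_natAbs_lt_natAbs hm' (by omega); omega
    · have := Int.eq_zero_of_dvd_of_natAbs_lt_natAbs hm' (by omega); omega
    · exact .inl (by have := Int.eq_zero_of_dvd_of_natAbs_lt_natAbs hm' (by omega); omega)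
    · have h1 : (r : ℤ) ∣ (p : ℤ) + (e : ℤ) := by
        obtain ⟨u, hu⟩ := hm'
        exact ⟨-u, by linear_combination -hu⟩
      obtain ⟨j, hj⟩ := (show r ∣ p + e by exact_mod_cast h1)
      have hj2 : j < 2 := by
        by_contra hge
        have := Nat.mul_le_mul_left r (not_lt.1 hge)
        omega
      exact .inr (by interval_cases j <;> omega)
  rcases hcases with rfl | hsum
  · have hr2 : r = 2 * e + 1 := by
      obtain ⟨j, hj⟩ := hed
      have hj3 : j < 3 := by
        by_contra hge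
        have := Nat.mul_le_mul_left e (not_lt.1 hge)
        omega
      interval_cases j <;> omega
    exact false_of_half hG hp hq h5 hqp hr2 hcard hb0 R hR
      (Nat.eq_of_mul_eq_mul_right hp.pos (hne.trans (mul_comm _ _))) hχne hd hM hχmem
  · rcases hq.eq_two_or_odd with rfl | hqodd
    · exact false_of_shift hG hp h5 hpr hcard R hR hN hed (Dvd.intro_left _ hne) hsum
    · have h1 : e ∣ p * q ^ b := Dvd.intro_left _ hne
      have h2 : Odd (p * q ^ b) := (Nat.odd_iff.2 hpodd).mul (Nat.odd_iff.2 hqodd).pow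
      have := Nat.odd_iff.1 (h2.of_dvd_nat h1)
      omega

end CfsgLib.SmallGroups.TwoPrimesTimesPower
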