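import Cfsg.Agent.Lib.SmallGroups.CofactorTools
import Cfsg.Agent.Lib.Blocks.FourGroupOrder
import Cfsg.Agent.S0948
import Cfsg.Agent.S4500

/-!
# Simple groups of order four times two prime powers

The degrees in the principal 2-block satisfy `1 + a + ε b = e`; with a character of degree at most
four bounding the primes, one of them is five (or three, for the prime seven) and rational.
-/

set_option autoImplicit false

namespace CfsgLib.SmallGroups.Cofactor

open Cfsg CfsgLib.Blocks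

/-- The candidates for the degrees. -/
def degCand (r K L : ℕ) : Finset ℕ :=
  ((Finset.range (K + 1) ×ˢ Finset.range (L + 1)).image fun u => 3 ^ u.1 * r ^ u.2).filter (2 ≤ ·)

theorem mem_degCand {r K L k l : ℕ} (hk : k ≤ K) (hl : l ≤ L) (h2 : 2 ≤ 3 ^ k * r ^ l) :
    3 ^ k * r ^ l ∈ degCand r K L :=
  Finset.mem_filter.2 ⟨Finset.mem_image.2 ⟨(k, l), Finset.mem_product.2
    ⟨Finset.mem_range.2 (by omega), Finset.mem_range.2 (by omega)⟩, rfl⟩, h2⟩

/-- One of three numbers equals `t`, the others do not. -/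
def AloneAt (t a b e : ℕ) : Prop :=
  (a = t ∧ b ≠ t ∧ e ≠ t) ∨ (b = t ∧ a ≠ t ∧ e ≠ t) ∨ (e = t ∧ a ≠ t ∧ b ≠ t)

instance decidableAloneAt (t a b e : ℕ) : Decidable (AloneAt t a b e) := by unfold AloneAt; infer_instance

/-- The solutions of the relation among small candidates. -/
def Check (r K L t : ℕ) : Prop :=
  ∀ a ∈ degCand r K L, a % 4 = 1 → ∀ b ∈ degCand r K L,
    (b % 4 = 1 → 1 + a + b ∈ degCand r K L → AloneAt t a b (1 + a + b)) ∧
    (b % 4 = 3 → b ≤ a + 1 → 1 + a - b ∈ degCand r K L → (1 + a - b) % 4 = 3 → AloneAt t a b (1 + a - b))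

theorem check_five_left : Check 5 2 3 5 := by unfold Check; decide +kernel

theorem check_five_right : Check 5 7 2 5 := by unfold Check; decide +kernel

theorem check_seven_left : Check 7 2 3 3 := by unfold Check; decide +kernel

theorem check_seven_right : Check 7 7 2 3 := by unfold Check; decide +kernel

/-- A candidate near a multiple of `N`, when `N` is `81` or `r ^ 2`. -/
theorem third_small {r k l : ℕ} (hr : r = 5 ∨ r = 7) (h2 : 2 ≤ 3 ^ k * r ^ l) :
    (l ≤ 2 → ¬ ((81 : ℤ) ∣ ((3 ^ k * r ^ l : ℕ) : ℤ) + 1) ∧ ¬ ((81 : ℤ) ∣ ((3 ^ k * r ^ l : ℕ) : ℤ) - 1)) ∧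
    (k ≤ 2 → ¬ ((r : ℤ) ^ 2 ∣ ((3 ^ k * r ^ l : ℕ) : ℤ) + 1) ∧ ¬ ((r : ℤ) ^ 2 ∣ ((3 ^ k * r ^ l : ℕ) : ℤ) - 1)) := by
  constructor
  · intro hl
    rcases Nat.eq_zero_or_pos k with rfl | hk
    · rcases hr with rfl | rfl <;> interval_cases l <;> norm_num at *
    · obtain ⟨k, rfl⟩ : ∃ j, k = j + 1 := ⟨k - 1, by omega⟩
      have e : ((3 ^ (k + 1) * r ^ l : ℕ) : ℤ) = 3 * ((3 ^ k * r ^ l : ℕ) : ℤ) := by push_cast; ring
      rw [e]; omega
  · intro hk
    rcases Nat.eq_zero_or_pos l with rfl | hl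
    · rcases hr with rfl | rfl <;> interval_cases k <;> norm_num at *
    · obtain ⟨l, rfl⟩ : ∃ j, l = j + 1 := ⟨l - 1, by omega⟩
      have e : ((3 ^ k * r ^ (l + 1) : ℕ) : ℤ) = (r : ℤ) * ((3 ^ k * r ^ l : ℕ) : ℤ) := by push_cast; ring
      rw [e]
      rcases hr with rfl | rfl <;> norm_num <;> omega

theorem alone_four {r c d t a b e : ℕ} {ε : ℤ} (hr : r = 5 ∧ t = 5 ∨ r = 7 ∧ t = 3) (hor : c ≤ 2 ∨ d ≤ 2)
    (ha : ∃ k l, k ≤ c ∧ l ≤ d ∧ a = 3 ^ k * r ^ l) (hb : ∃ k l, k ≤ c ∧ l ≤ d ∧ b = 3 ^ k * r ^ l)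
    (he : ∃ k l, k ≤ c ∧ l ≤ d ∧ e = 3 ^ k * r ^ l) (ha2 : 2 ≤ a) (hb2 : 2 ≤ b) (he2 : 2 ≤ e)
    (hε : ε = 1 ∨ ε = -1) (ha4 : (4 : ℤ) ∣ (a : ℤ) - 1) (hb4 : (4 : ℤ) ∣ (b : ℤ) - ε)
    (he4 : (4 : ℤ) ∣ (e : ℤ) + 1) (hrel : 1 + (a : ℤ) + ε * b - e = 0) : AloneAt t a b e := by
  obtain ⟨ka, la, hka, hla, rfl⟩ := ha
  obtain ⟨kb, lb, hkb, hlb, rfl⟩ := hb
  obtain ⟨ke, le, hke, hle, rfl⟩ := he
  have hr' : r = 5 ∨ r = 7 := hr.imp And.left And.left
  -- at most one of the three is divisible by `N`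
  have two : ∀ N : ℤ, (∀ x : ℕ, (x = 3 ^ ka * r ^ la ∨ x = 3 ^ kb * r ^ lb ∨ x = 3 ^ ke * r ^ le) →
      ¬ (N ∣ (x : ℤ) + 1) ∧ ¬ (N ∣ (x : ℤ) - 1)) →
      ¬ (N ∣ ((3 ^ ka * r ^ la : ℕ) : ℤ) ∧ N ∣ ((3 ^ kb * r ^ lb : ℕ) : ℤ)) ∧
      ¬ (N ∣ ((3 ^ ka * r ^ la : ℕ) : ℤ) ∧ N ∣ ((3 ^ ke * r ^ le : ℕ) : ℤ)) ∧
      ¬ (N ∣ ((3 ^ kb * r ^ lb : ℕ) : ℤ) ∧ N ∣ ((3 ^ ke * r ^ le : ℕ) : ℤ)) := by
    intro N hN
    refine ⟨fun ⟨⟨u, hu⟩, ⟨v, hv⟩⟩ => (hN _ (.inr (.inr rfl))).2 ⟨u + ε * v, ?_⟩,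
      fun ⟨⟨u, hu⟩, ⟨v, hv⟩⟩ => ?_, fun ⟨⟨u, hu⟩, ⟨v, hv⟩⟩ => (hN _ (.inl rfl)).1 ⟨v - ε * u, ?_⟩⟩
    · linear_combination hu + ε * hv - hrel
    · rcases hε with rfl | rfl
      · exact (hN _ (.inr (.inl rfl))).1 ⟨v - u, by linear_combination hv - hu + hrel⟩
      · exact (hN _ (.inr (.inl rfl))).2 ⟨u - v, by linear_combination hu - hv - hrel⟩
    · linear_combination hv - ε * hu + hrel
  have hpow : ∀ {q k N : ℕ} (j x : ℕ), N ≤ k → x = q ^ k * j → ((q : ℤ) ^ N ∣ (x : ℤ)) := fun j x h e => by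
    rw [e, Nat.cast_mul, Nat.cast_pow]
    exact (pow_dvd_pow _ h).mul_right _
  rcases hor with hc | hd
  · -- small powers of three
    obtain ⟨n1, n2, n3⟩ := two ((r : ℤ) ^ 2) (by
      rintro x (rfl | rfl | rfl)
      · exact (third_small hr' ha2).2 (by omega)
      · exact (third_small hr' hb2).2 (by omega)
      · exact (third_small hr' he2).2 (by omega))
    have hr7 : r ≤ 7 := by omega
    have small : ∀ k l, k ≤ c → l ≤ 1 → 3 ^ k * r ^ l ≤ 63 := fun k l hk hl =>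
      (Nat.mul_le_mul (Nat.pow_le_pow_right (by norm_num) (hk.trans hc))
        (Nat.pow_le_pow_right (show 0 < r by omega) hl)).trans (by rw [pow_one]; omega)
    have big : ∀ k l, 3 ^ k * r ^ l ≤ 127 → l ≤ 3 := fun k l h => by
      by_contra hl
      have h5 : 5 ^ 4 ≤ r ^ l := (Nat.pow_le_pow_left (show 5 ≤ r by omega) 4).trans
        (Nat.pow_le_pow_right (by omega) (by omega))
      have := (Nat.le_mul_of_pos_left (r ^ l) (pow_pos (show 0 < 3 by norm_num) k)).trans h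
      omega
    have da : ∀ {k l : ℕ}, 2 ≤ l → (r : ℤ) ^ 2 ∣ ((3 ^ k * r ^ l : ℕ) : ℤ) := fun {k l} h =>
      hpow (3 ^ k) _ h (mul_comm _ _)
    have hall : la ≤ 3 ∧ lb ≤ 3 ∧ le ≤ 3 := by
      by_cases hA : 2 ≤ la
      · have hB : lb ≤ 1 := not_lt.1 fun h => n1 ⟨da hA, da h⟩
        have hE : le ≤ 1 := not_lt.1 fun h => n2 ⟨da hA, da h⟩
        refine ⟨big ka la ?_, by omega, by omega⟩
        have := small kb lb hkb hB
        have := small ke le hke hE
        rcases hε with rfl | rfl <;> omega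
      · have := small ka la hka (by omega)
        by_cases hB : 2 ≤ lb
        · have hE : le ≤ 1 := not_lt.1 fun h => n3 ⟨da hB, da h⟩
          refine ⟨by omega, big kb lb ?_, by omega⟩
          have := small ke le hke hE
          rcases hε with rfl | rfl <;> omega
        · have := small kb lb hkb (by omega)
          refine ⟨by omega, by omega, big ke le ?_⟩
          rcases hε with rfl | rfl <;> omega
    obtain ⟨A, B, E⟩ := hall
    have mA := mem_degCand (K := 2) (hka.trans hc) A ha2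
    have mB := mem_degCand (K := 2) (hkb.trans hc) B hb2
    have mE := mem_degCand (K := 2) (hke.trans hc) E he2
    have hchk : Check r 2 3 t := by
      rcases hr with ⟨rfl, rfl⟩ | ⟨rfl, rfl⟩
      exacts [check_five_left, check_seven_left]
    generalize 3 ^ ka * r ^ la = A' at *
    generalize 3 ^ kb * r ^ lb = B' at *
    generalize 3 ^ ke * r ^ le = E' at *
    obtain ⟨c1, c2⟩ := hchk A' mA (by omega) B' mB
    rcases hε with rfl | rfl
    · obtain rfl : E' = 1 + A' + B' := by omega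
      exact c1 (by omega) mE
    · obtain rfl : E' = 1 + A' - B' := by omega
      exact c2 (by omega) (by omega) mE (by omega)
  · -- small powers of `r`
    obtain ⟨n1, n2, n3⟩ := two 81 (by
      rintro x (rfl | rfl | rfl)
      · exact (third_small hr' ha2).1 (by omega)
      · exact (third_small hr' hb2).1 (by omega)
      · exact (third_small hr' he2).1 (by omega))
    have hr7 : r ≤ 7 := by omega
    have small : ∀ k l, l ≤ d → k ≤ 3 → 3 ^ k * r ^ l ≤ 1323 := fun k l hl hk =>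
      (Nat.mul_le_mul (Nat.pow_le_pow_right (by norm_num) hk)
        ((Nat.pow_le_pow_right (show 0 < r by omega) (hl.trans hd)).trans (Nat.pow_le_pow_left hr7 2))).trans
        (by norm_num)
    have big : ∀ k l, 3 ^ k * r ^ l ≤ 2647 → k ≤ 7 := fun k l h => by
      by_contra hk
      have h3 : 3 ^ 8 ≤ 3 ^ k := Nat.pow_le_pow_right (by norm_num) (by omega)
      have := (Nat.le_mul_of_pos_right (3 ^ k) (pow_pos (show 0 < r by omega) l)).trans h
      omega
    have da : ∀ {k l : ℕ}, 4 ≤ k → (81 : ℤ) ∣ ((3 ^ k * r ^ l : ℕ) : ℤ) := fun {k l} h => by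
      have := hpow (q := 3) (r ^ l) _ h rfl
      norm_num at this ⊢
      exact this
    have hall : ka ≤ 7 ∧ kb ≤ 7 ∧ ke ≤ 7 := by
      by_cases hA : 4 ≤ ka
      · have hB : kb ≤ 3 := not_lt.1 fun h => n1 ⟨da hA, da h⟩
        have hE : ke ≤ 3 := not_lt.1 fun h => n2 ⟨da hA, da h⟩
        refine ⟨big ka la ?_, by omega, by omega⟩
        have := small kb lb hlb hB
        have := small ke le hle hE
        rcases hε with rfl | rfl <;> omega
      · have := small ka la hla (by omega)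
        by_cases hB : 4 ≤ kb
        · have hE : ke ≤ 3 := not_lt.1 fun h => n3 ⟨da hB, da h⟩
          refine ⟨by omega, big kb lb ?_, by omega⟩
          have := small ke le hle hE
          rcases hε with rfl | rfl <;> omega
        · have := small kb lb hlb (by omega)
          refine ⟨by omega, by omega, big ke le ?_⟩
          rcases hε with rfl | rfl <;> omega
    obtain ⟨A, B, E⟩ := hall
    have mA := mem_degCand (L := 2) A (hla.trans hd) ha2
    have mB := mem_degCand (L := 2) B (hlb.trans hd) hb2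
    have mE := mem_degCand (L := 2) E (hle.trans hd) he2
    have hchk : Check r 7 2 t := by
      rcases hr with ⟨rfl, rfl⟩ | ⟨rfl, rfl⟩
      exacts [check_five_right, check_seven_right]
    generalize 3 ^ ka * r ^ la = A' at *
    generalize 3 ^ kb * r ^ lb = B' at *
    generalize 3 ^ ke * r ^ le = E' at *
    obtain ⟨c1, c2⟩ := hchk A' mA (by omega) B' mB
    rcases hε with rfl | rfl
    · obtain rfl : E' = 1 + A' + B' := by omega
      exact c1 (by omega) mE
    · obtain rfl : E' = 1 + A' - B' := by omega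
      exact c2 (by omega) (by omega) mE (by omega)

open scoped Classical

variable {G : Type*} [Group G] [Fintype G] [IsSimpleGroup G]

/-- A nonabelian simple group of order `4 * 3 ^ c * r ^ d` with a small exponent has order at most
180. -/
theorem order_four (hG : ¬ IsMulCommutative G) {r c d : ℕ} (hr : r.Prime) (hr2 : r ≠ 2) (hr3 : r ≠ 3)
    (hd : 1 ≤ d) (hor : c ≤ 2 ∨ d ≤ 2) (hcard : Nat.card G = 4 * 3 ^ c * r ^ d) :
    Nat.card G ≤ 180 := by
  have h23 : Nat.Prime 3 := Nat.prime_three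
  have : Fact (Nat.Prime 2) := ⟨Nat.prime_two⟩
  have hodd : Odd (3 ^ c * r ^ d) := ((show Odd 3 by decide).pow).mul ((hr.odd_of_ne_two hr2).pow)
  -- a character of degree two or four
  obtain ⟨χ, hχne, k, hk⟩ : ∃ χ : IrrCharacter G, χ ≠ trivChar G ∧ ∃ k, charDegree (χ : G → ℂ) = 2 ^ k := by
    rcases hor with h | h
    · obtain ⟨χ, hχ, k, hk⟩ := (Cfsg.Agent.S4500.result 3 2 r c 2 d h23 Nat.prime_two hr (by norm_num)
        (Ne.symm hr3) (Ne.symm hr2) h (by rw [hcard]; ring)).1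
      exact ⟨χ, fun e => hχ (by rw [e]; rfl), k, hk⟩
    · obtain ⟨χ, hχ, k, hk⟩ := (Cfsg.Agent.S4500.result r 2 3 d 2 c hr Nat.prime_two h23 hr2
        hr3 (by norm_num) h (by rw [hcard]; ring)).1
      exact ⟨χ, fun e => hχ (by rw [e]; rfl), k, hk⟩
  have hk4 : charDegree (χ : G → ℂ) ≤ 4 := by
    have h := charDegree_dvd χ
    rw [hcard, mul_assoc, hk] at h
    rw [hk]
    exact Nat.le_of_dvd (by norm_num)
      (((Nat.coprime_two_left.2 hodd).pow_left k).dvd_of_dvd_mul_right h)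
  have hrdvd : r ∣ Nat.card G := hcard ▸ dvd_mul_of_dvd_right (dvd_pow_self r (by omega)) _
  have hr9 := prime_le_degree hG hχne hr hrdvd
  have hr' : r = 5 ∨ r = 7 := by
    have := hr.two_le
    have h9 : r ≤ 9 := by omega
    interval_cases r <;> first | omega | norm_num at hr
  -- the principal block for the prime two
  obtain ⟨M, hM⟩ := exists_isPModular Nat.prime_two
  obtain ⟨P⟩ : Nonempty (Sylow 2 G) := inferInstance
  have h1lt : 1 < 3 ^ c * r ^ d := lt_of_lt_of_le (Nat.one_lt_pow (by omega) hr.one_lt)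
    (Nat.le_mul_of_pos_left _ (by positivity))
  obtain ⟨hP4, hexp, hone⟩ := FourGroup.setup_four P (3 ^ c * r ^ d) hodd (by rw [hcard]; ring) (by
    rintro ⟨N, hN, hNc⟩
    rcases hN.eq_bot_or_eq_top with rfl | rfl
    · rw [Subgroup.card_bot] at hNc; omega
    · rw [Subgroup.card_top, hcard, mul_assoc] at hNc; omega)
  have : Nontrivial ↥(P : Subgroup G) := Finite.one_lt_card_iff_nontrivial.1 (by rw [hP4]; norm_num)
  have hKlein : IsKleinFour (P : Subgroup G) :=
    ⟨hP4, (Monoid.exponent_eq_prime_iff Nat.prime_two).mpr fun g hg =>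
      orderOf_eq_prime (by rw [sq]; exact hexp g) hg⟩
  obtain ⟨ζ₂, ζ₃, ζ₄, ε, hε, hne2, hne3, h23', h24, h34, hblock, -, h2a, h3b, h4e, hrel⟩ :=
    Cfsg.Agent.S0948.result M hM P hKlein hone
  have ne_triv : ∀ {ζ : IrrCharacter G}, (ζ : G → ℂ) ≠ (fun _ => 1) → ζ ≠ trivChar G :=
    fun h e => h (by rw [e]; rfl)
  have hd1 : charDegree ((trivChar G : IrrCharacter G) : G → ℂ) = 1 := by simp [charDegree]
  have hne4 : ζ₄ ≠ trivChar G := fun e => by
    rw [e, hd1] at h4e; norm_num at h4e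
  have two_le : ∀ {ζ : IrrCharacter G}, ζ ≠ trivChar G → 2 ≤ charDegree (ζ : G → ℂ) := fun {ζ} h => by
    have := charDegree_pos ζ
    have : charDegree (ζ : G → ℂ) ≠ 1 := fun h' => h (BlockDegrees.eq_trivChar hG ζ h')
    omega
  have form : ∀ ζ : IrrCharacter G, Odd (charDegree (ζ : G → ℂ)) →
      ∃ k l, k ≤ c ∧ l ≤ d ∧ charDegree (ζ : G → ℂ) = 3 ^ k * r ^ l := fun ζ h =>
    exists_exponents h23 hr (hcard ▸ charDegree_dvd ζ)
      (by rw [show (4 : ℕ) = 2 ^ 2 by norm_num]; exact (Nat.coprime_two_right.2 h).pow_right 2)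
  have hrel1 := hrel 1 (by rw [orderOf_one]; decide)
  simp only [irr_one_eq] at hrel1
  have hrelz : 1 + (charDegree (ζ₂ : G → ℂ) : ℤ) + ε * (charDegree (ζ₃ : G → ℂ) : ℤ) -
      (charDegree (ζ₄ : G → ℂ) : ℤ) = 0 := by exact_mod_cast hrel1
  obtain ⟨t, ht⟩ : ∃ t, r = 5 ∧ t = 5 ∨ r = 7 ∧ t = 3 := by
    rcases hr' with h | h
    exacts [⟨5, .inl ⟨h, rfl⟩⟩, ⟨3, .inr ⟨h, rfl⟩⟩]
  have halone := alone_four ht hor (form ζ₂ (Nat.odd_iff.2 (by omega)))
    (form ζ₃ (Nat.odd_iff.2 (by rcases hε with rfl | rfl <;> omega)))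
    (form ζ₄ (Nat.odd_iff.2 (by omega))) (two_le (ne_triv hne2)) (two_le (ne_triv hne3)) (two_le hne4)
    hε h2a h3b h4e hrelz
  obtain ⟨ψ, hψne, hψmem, hψt, hψu⟩ : ∃ ψ : IrrCharacter G, ψ ≠ trivChar G ∧ ψ ∈ principalBlock M G ∧
      charDegree (ψ : G → ℂ) = t ∧
      ∀ φ ∈ principalBlock M G, charDegree (φ : G → ℂ) = charDegree (ψ : G → ℂ) → φ = ψ := by
    have mem : ∀ φ : IrrCharacter G, φ ∈ principalBlock M G →
        φ = trivChar G ∨ φ = ζ₂ ∨ φ = ζ₃ ∨ φ = ζ₄ := fun φ h => by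
      rw [hblock] at h
      rcases h with h | h
      · exact .inl (Subtype.ext h)
      · exact .inr h
    have ht1 : t ≠ 1 := by omega
    rcases halone with ⟨h1, h2, h3⟩ | ⟨h1, h2, h3⟩ | ⟨h1, h2, h3⟩
    · refine ⟨ζ₂, ne_triv hne2, by rw [hblock]; exact .inr (.inl rfl), h1, fun φ hφ h => ?_⟩
      rcases mem φ hφ with rfl | rfl | rfl | rfl <;> first | rfl | (exfalso; omega)
    · refine ⟨ζ₃, ne_triv hne3, by rw [hblock]; exact .inr (.inr (.inl rfl)), h1, fun φ hφ h => ?_⟩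
      rcases mem φ hφ with rfl | rfl | rfl | rfl <;> first | rfl | (exfalso; omega)
    · refine ⟨ζ₄, hne4, by rw [hblock]; exact .inr (.inr (.inr rfl)), h1, fun φ hφ h => ?_⟩
      rcases mem φ hφ with rfl | rfl | rfl | rfl <;> first | rfl | (exfalso; omega)
  have hrat := rational_of_unique hM hψmem hψu
  have hdfac : (Nat.card G).factorization r = d := by
    rw [hcard]
    exact factorization_order (by norm_num) h23 hr (Ne.symm hr3) (fun h => by
      have := Nat.le_of_dvd (by norm_num) h; omega)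
  have hcfac : (Nat.card G).factorization 3 = c := by
    rw [hcard, mul_assoc, mul_comm (3 ^ c), ← mul_assoc]
    exact factorization_order (by norm_num) hr h23 hr3 (by norm_num)
  rcases ht with ⟨rfl, rfl⟩ | ⟨rfl, rfl⟩
  · have h5 := exponent_le hψne hrat (p := 5) (by norm_num) hψt
    have h3 := exponent_le hψne hrat (p := 3) Nat.prime_three hψt
    rw [hdfac] at h5
    rw [hcfac] at h3
    norm_num [Finset.sum_range_succ] at h5 h3
    rw [hcard]
    calc 4 * 3 ^ c * 5 ^ d ≤ 4 * 3 ^ 2 * 5 ^ 1 := Nat.mul_le_mul (Nat.mul_le_mul le_rfl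
          (Nat.pow_le_pow_right (by norm_num) h3)) (Nat.pow_le_pow_right (by norm_num) h5)
      _ = 180 := by norm_num
  · have h7 := exponent_le hψne hrat (p := 7) (by norm_num) hψt
    rw [hdfac] at h7
    norm_num [Finset.sum_range_succ] at h7
    omega

end CfsgLib.SmallGroups.Cofactor
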