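import Cfsg.Agent.Lib.SmallGroups.CofactorTools
import Cfsg.Agent.Lib.SmallGroups.OrdersBelow1092Cases
import Cfsg.Agent.Lib.Involution.ZStar.PrincipalBlock
import Cfsg.Agent.S4500

/-!
# Simple groups of order three times two prime powers

The three characters of the principal 3-block have degrees `1`, a power of two and `r`.  For `r = 5`
this caps the 2-part by a Sylow count, for `r = 7` a character of degree three with values in the
seventh cyclotomic field does.
-/

set_option autoImplicit false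

namespace CfsgLib.SmallGroups.Cofactor

open Cfsg CfsgLib.Blocks
open scoped Classical

theorem neighbours {r c d a b : ℕ} (hr : r = 5 ∨ r = 7) (hor : c ≤ 2 ∨ d ≤ 2)
    (ha : ∃ i j, i ≤ c ∧ j ≤ d ∧ a = 2 ^ i * r ^ j) (hb : ∃ i j, i ≤ c ∧ j ≤ d ∧ b = 2 ^ i * r ^ j)
    (ha2 : 2 ≤ a) (hb2 : 2 ≤ b) (hab : a = b + 1 ∨ b = a + 1) : a = r ∧ b ≠ r ∨ b = r ∧ a ≠ r := by
  have key : ∀ {a b : ℕ}, (∃ i j, i ≤ c ∧ j ≤ d ∧ a = 2 ^ i * r ^ j) → (∃ i j, i ≤ c ∧ j ≤ d ∧ b = 2 ^ i * r ^ j) →
      2 ≤ a → 2 ≤ b → (a = b + 1 ∨ b = a + 1) → Odd a → a = r ∧ b ≠ r := by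
    clear ha hb ha2 hb2 hab a b
    rintro a b ⟨i, j, hi, hj, rfl⟩ ⟨i', j', hi', hj', rfl⟩ ha2 hb2 hab hodd
    have hi0 : i = 0 := by
      by_contra h
      exact Nat.not_even_iff_odd.2 hodd ((Nat.even_pow.2 ⟨even_two, h⟩).mul_right _)
    subst hi0
    rw [pow_zero, one_mul] at *
    have hj0 : j ≠ 0 := by rintro rfl; simp at ha2
    have hj'0 : j' = 0 := by
      by_contra h
      have h1 : r ∣ r ^ j := dvd_pow_self r hj0
      have h2 : r ∣ 2 ^ i' * r ^ j' := dvd_mul_of_dvd_right (dvd_pow_self r h) _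
      have h3 : r ∣ 1 := by
        rcases hab with e | e
        · exact (Nat.dvd_add_right h2).1 (e ▸ h1)
        · exact (Nat.dvd_add_right h1).1 (e ▸ h2)
      have := Nat.le_of_dvd one_pos h3
      omega
    subst hj'0
    rw [pow_zero, mul_one] at *
    suffices hj1 : j = 1 by subst hj1; rw [pow_one] at *; exact ⟨rfl, by omega⟩
    have h5 : 5 ≤ r := by omega
    by_contra hj1
    have hj2 : r ^ 2 ≤ r ^ j := Nat.pow_le_pow_right (by omega) (by omega)
    rcases hor with h | h
    · have : 2 ^ i' ≤ 2 ^ 2 := Nat.pow_le_pow_right (by norm_num) (by omega)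
      have : 5 ^ 2 ≤ r ^ 2 := Nat.pow_le_pow_left h5 2
      omega
    · obtain rfl : j = 2 := by omega
      have hup : i' ≤ 5 := by
        by_contra h'
        have : 2 ^ 6 ≤ 2 ^ i' := Nat.pow_le_pow_right (by norm_num) (by omega)
        rcases hr with rfl | rfl <;> omega
      rcases hr with rfl | rfl <;> interval_cases i' <;> omega
  rcases Nat.even_or_odd a with he | ho
  · exact .inr (key hb ha hb2 ha2 hab.symm (Nat.odd_iff.2 (by have := Nat.even_iff.1 he; omega)))
  · exact .inl (key ha hb ha2 hb2 hab ho)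

variable {G : Type*} [Group G] [Fintype G] [IsSimpleGroup G]

/-- The automiser order in a Sylow subgroup of prime order. -/
theorem exists_aut (hG : ¬ IsMulCommutative G) {p : ℕ} [Fact p.Prime] (P : Sylow p G)
    (hP : Nat.card (P : Subgroup G) = p) : TIAbelian.autCard P ≠ 1 ∧ TIAbelian.autCard P ∣ p - 1 := by
  obtain ⟨e, k, he, hed, hN, hC⟩ := LocalTools.exists_e hG P hP
  have haut : TIAbelian.autCard P = e := by
    rw [TIAbelian.autCard_eq, Subgroup.relIndex]
    have hle := Subgroup.centralizer_le_normalizer ((P : Subgroup G) : Set G)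
    have h := ((Subgroup.centralizer ((P : Subgroup G) : Set G)).subgroupOf
      (Subgroup.normalizer ((P : Subgroup G) : Set G))).index_mul_card
    rw [Nat.card_congr (Subgroup.subgroupOfEquivOfLe hle).toEquiv, hN, hC] at h
    exact Nat.eq_of_mul_eq_mul_right (hC ▸ Nat.card_pos) h
  exact ⟨haut ▸ he, haut ▸ hed⟩

/-- The value at an element of order `p` lies in the `p`-th cyclotomic field. -/
theorem apply_mem_cyclotomic {H : Type*} [Group H] [Finite H] {χ : H → ℂ} (hχ : IsCharacter H χ)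
    {p : ℕ} (hp : 0 < p) {y : H} (hy : orderOf y ∣ p) :
    χ y ∈ IntermediateField.adjoin ℚ ({Complex.exp (2 * Real.pi * Complex.I / p)} : Set ℂ) := by
  obtain ⟨n, ρ, rfl⟩ := hχ
  obtain ⟨μ, hμ, hk⟩ := CfsgLib.Char.exists_eigenvalues ρ y
  have h1 := hk 1
  rw [pow_one] at h1
  rw [h1]
  refine sum_mem fun i _ => ?_
  have : NeZero p := ⟨hp.ne'⟩
  obtain ⟨j, -, hj⟩ := (Complex.isPrimitiveRoot_exp p hp.ne').eq_pow_of_pow_eq_one
    (ξ := μ i) (by obtain ⟨q, rfl⟩ := hy; rw [pow_mul, hμ, one_pow])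
  rw [pow_one, ← hj]
  exact pow_mem (IntermediateField.mem_adjoin_simple_self ℚ _) j

/-- The seven case: a character of degree three bounds the two-part. -/
theorem exponent_two_le_of_seven (hG : ¬ IsMulCommutative G) {c : ℕ} (hcard : Nat.card G = 3 * 2 ^ c * 7) :
    c ≤ 4 := by
  have : Fact (Nat.Prime 7) := ⟨by norm_num⟩
  have h7 : ¬ 7 ∣ 3 * 2 ^ c := fun h => by
    rcases (Nat.Prime.dvd_mul (by norm_num : Nat.Prime 7)).1 h with h | h
    · norm_num at h
    · have := (Nat.prime_dvd_prime_iff_eq (by norm_num : Nat.Prime 7) Nat.prime_two).1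
        ((by norm_num : Nat.Prime 7).dvd_of_dvd_pow h)
      norm_num at this
  obtain ⟨P⟩ : Nonempty (Sylow 7 G) := inferInstance
  have hP : Nat.card (P : Subgroup G) = 7 :=
    (SimpleTools.card_sylow_subgroup (k := 1) (by rw [pow_one, hcard, mul_comm]) h7 P).trans (pow_one 7)
  obtain ⟨M, hM⟩ := exists_isPModular (show Nat.Prime 7 by norm_num)
  obtain ⟨X, Y, εX, ε, hB, hdisj, hX, hY, hXp, hε, hYd, hYagree, hrel⟩ :=
    PrimeOrder.principal_block hM (by norm_num) P hP
  obtain ⟨he1, hed⟩ := exists_aut hG P hP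
  set m := TIAbelian.autCard P
  have hd1 : charDegree ((trivChar G : IrrCharacter G) : G → ℂ) = 1 := by simp [charDegree]
  have hm6 : m ≤ 6 := Nat.le_of_dvd (by norm_num) hed
  have hm : m = 2 ∨ m = 3 ∨ m = 6 := by interval_cases m <;> omega
  obtain ⟨θ₀, hθ₀⟩ : Y.Nonempty := Finset.card_pos.1 (by rw [hY]; rcases hm with e | e | e <;> rw [e] <;> norm_num)
  have hYeq : ∀ θ ∈ Y, charDegree (θ : G → ℂ) = charDegree (θ₀ : G → ℂ) := fun θ hθ =>
    Nat.cast_injective (R := ℂ) (by
      rw [← irr_one_eq, ← irr_one_eq]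
      exact hYagree θ hθ θ₀ hθ₀ 1 (by rw [orderOf_one]; norm_num))
  -- a nontrivial member of odd degree
  obtain ⟨θ, hθB, hθne, hθodd⟩ : ∃ θ, θ ∈ principalBlock M G ∧ θ ≠ trivChar G ∧ Odd (charDegree (θ : G → ℂ)) := by
    by_contra hno
    push Not at hno
    have heven : ∀ χ, χ ∈ principalBlock M G → χ ≠ trivChar G → 2 ∣ charDegree (χ : G → ℂ) := fun χ h h' =>
      even_iff_two_dvd.1 (Nat.not_odd_iff_even.1 (hno χ h h'))
    have h1 := hrel θ₀ hθ₀ 1 (by rw [orderOf_one]; norm_num)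
    simp only [irr_one_eq] at h1
    have h1' : ε * (charDegree (θ₀ : G → ℂ) : ℤ) = ∑ χ ∈ X, εX χ * (charDegree (χ : G → ℂ) : ℤ) := by
      exact_mod_cast h1
    have hsum : ∀ S : Finset (IrrCharacter G), (∀ χ ∈ S, χ ∈ X ∧ χ ≠ trivChar G) →
        (2 : ℤ) ∣ ∑ χ ∈ S, εX χ * (charDegree (χ : G → ℂ) : ℤ) := fun S hS =>
      Finset.dvd_sum fun χ hχ => dvd_mul_of_dvd_right
        (by exact_mod_cast heven χ ((hB χ).2 (.inl (hS χ hχ).1)) (hS χ hχ).2) _
    rcases (hB _).1 (trivChar_mem_principalBlock hM) with htX | htY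
    · have hθe := heven θ₀ ((hB _).2 (.inr hθ₀)) fun e => Finset.disjoint_left.1 hdisj htX (e ▸ hθ₀)
      rw [← Finset.add_sum_erase _ _ htX, hd1] at h1'
      have h2 := hsum (X.erase (trivChar G)) fun χ hχ => ⟨Finset.mem_of_mem_erase hχ, Finset.ne_of_mem_erase hχ⟩
      rcases (hXp _ htX).1 with e | e <;> rw [e] at h1' <;> rcases hε with rfl | rfl <;> omega
    · have h2 := hsum X fun χ hχ => ⟨hχ, fun e => Finset.disjoint_left.1 hdisj hχ (e ▸ htY)⟩
      rw [← hYeq _ htY, hd1] at h1'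
      rcases hε with rfl | rfl <;> omega
  -- it has degree three and is exceptional
  have hXmod : ∀ χ ∈ X, (charDegree (χ : G → ℂ) : ℤ) % 7 = 1 ∨ (charDegree (χ : G → ℂ) : ℤ) % 7 = 6 := by
    intro χ hχ
    obtain ⟨h, hmod, -⟩ := hXp χ hχ
    rcases h with e | e <;> rw [e] at hmod <;> simp only [Int.ModEq] at hmod <;> norm_num at hmod <;> omega
  have hYmod : ((charDegree (θ₀ : G → ℂ) : ℤ)) % 7 = (ε * (m : ℤ)) % 7 := hYd θ₀ hθ₀
  have hθ3 : charDegree (θ : G → ℂ) = 3 := by
    have h0 : ¬ 7 ∣ charDegree (θ : G → ℂ) := by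
      intro h
      rcases (hB θ).1 hθB with hx | hy
      · have := hXmod θ hx; omega
      · rw [hYeq θ hy] at h
        rcases hε with rfl | rfl <;> rcases hm with e | e | e <;> rw [e] at hYmod <;> omega
    have h2 := charDegree_dvd θ
    rw [hcard] at h2
    have h3 := (((Nat.Prime.coprime_iff_not_dvd (by norm_num : Nat.Prime 7)).2 h0).symm).dvd_of_dvd_mul_right h2
    have h4 := (Nat.Coprime.pow_right c (Nat.coprime_two_right.2 hθodd)).dvd_of_dvd_mul_right h3
    rcases Nat.prime_three.eq_one_or_self_of_dvd _ h4 with h | h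
    · exact absurd (BlockDegrees.eq_trivChar hG θ h) hθne
    · exact h
  have hθY : θ ∈ Y := ((hB θ).1 hθB).resolve_left fun h => by have := hXmod θ h; omega
  -- regular values are rational
  have hreg : ∀ g : G, ¬ 7 ∣ orderOf g → ∃ k : ℤ, (θ : G → ℂ) g = k := fun g hg =>
    CfsgLib.DegreeTools.Rationality.exists_int_of_fixed (irr_isIntegral θ g) fun σ => by
      have hmem := CfsgLib.DegreeTools.Rationality.galIrr_mem_principalBlock hM σ hθB
      have hdeg : charDegree ((CfsgLib.DegreeTools.Rationality.galIrr σ θ : IrrCharacter G) : G → ℂ) = 3 :=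
        Nat.cast_injective (R := ℂ) (by
          rw [← irr_one_eq, CfsgLib.DegreeTools.Rationality.galIrr_apply, irr_one_eq, hθ3, map_natCast])
      have hin := ((hB _).1 hmem).resolve_left fun h => by have := hXmod _ h; omega
      have := hYagree _ hin θ hθY g hg
      rwa [CfsgLib.DegreeTools.Rationality.galIrr_apply] at this
  have hfac : (Nat.card G).factorization 2 = c := by
    rw [hcard, mul_assoc, mul_comm (2 ^ c), ← mul_assoc]
    simpa using factorization_order (u := 3) (p := 7) (r := 2) (a := 1) (b := c) (by norm_num) (by norm_num)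
      Nat.prime_two (by norm_num) (by norm_num)
  have hbound := Cfsg.Agent.S4488.result 2 Nat.prime_two _ (CfsgLib.Char.isCharacter_irr θ) (faithful hθne)
    ⟨7, by norm_num, by norm_num, fun g => ?_⟩ 3 hθ3
  · rw [hfac] at hbound
    norm_num [Finset.sum_range_succ] at hbound
    exact hbound
  · by_cases hg : 7 ∣ orderOf g
    swap
    · obtain ⟨k, hk⟩ := hreg g hg
      rw [hk]
      exact intCast_mem _ k
    obtain ⟨u, y, ⟨s, hys, hcomm, -, hs7⟩, hy1⟩ := PrimeOrder.exists_conj_singular P hg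
    have hyo : orderOf (y : G) = 7 := by
      rw [← Nat.card_zpowers, PrimeOrder.zpowers_eq P hP y.2 hy1]
      exact hP
    obtain ⟨K0, hK0, hK0n, hK0p, -⟩ := PrimeOrder.exists_complement P hP y.2 hyo
    set N := K0.subgroupOf (Subgroup.centralizer ({(y : G)} : Set G)) with hNdef
    have hK0le : K0 ≤ Subgroup.centralizer ({(y : G)} : Set G) := fun w hw =>
      Subgroup.mem_centralizer_singleton_iff.2 ((hK0 w).1 hw).1.eq
    have hN : N.Normal := ⟨fun w hw v => by
      refine hK0n (v : G) (Subgroup.centralizer_le_normalizer _ ?_) (w : G) hw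
      refine Subgroup.mem_centralizer_iff.2 fun z hz => ?_
      obtain ⟨k, rfl⟩ := Subgroup.mem_zpowers_iff.1 hz
      exact ((show Commute (y : G) (v : G) from
        (Subgroup.mem_centralizer_singleton_iff.1 v.2).symm).zpow_left k).eq⟩
    have hNp : ¬ 7 ∣ Nat.card N := by
      rwa [hNdef, Nat.card_congr (Subgroup.subgroupOfEquivOfLe hK0le).toEquiv]
    have hval := CfsgLib.Involution.ZStar.apply_section hM hθB (w := (y : G)) ⟨1, by rw [hyo, pow_one]⟩ hN hNp
      (r := ⟨s, Subgroup.mem_centralizer_singleton_iff.2 hcomm.eq.symm⟩)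
      (show s ∈ K0 from (hK0 s).2 ⟨hcomm.symm, hs7⟩)
    rw [← irr_conj_apply θ g u, ← hys]
    erw [hval]
    exact apply_mem_cyclotomic (CfsgLib.Char.isCharacter_irr θ) (by norm_num) (dvd_of_eq hyo)

/-- A nonabelian simple group of order `3 * 2 ^ c * r ^ d` with a small exponent has order at most
336. -/
theorem order_three (hG : ¬ IsMulCommutative G) {r c d : ℕ} (hr : r.Prime) (hr2 : r ≠ 2) (hr3 : r ≠ 3)
    (hd : 1 ≤ d) (hor : c ≤ 2 ∨ d ≤ 2) (hcard : Nat.card G = 3 * 2 ^ c * r ^ d) :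
    Nat.card G ≤ 336 := by
  have h3' : ¬ 3 ∣ 2 ^ c * r ^ d := fun h => by
    rcases (Nat.Prime.dvd_mul Nat.prime_three).1 h with h | h
    · have := (Nat.prime_dvd_prime_iff_eq Nat.prime_three Nat.prime_two).1 (Nat.prime_three.dvd_of_dvd_pow h)
      norm_num at this
    · exact hr3 ((Nat.prime_dvd_prime_iff_eq Nat.prime_three hr).1 (Nat.prime_three.dvd_of_dvd_pow h)).symm
  -- a character of degree three
  obtain ⟨χ, hχne, k, hk⟩ : ∃ χ : IrrCharacter G, χ ≠ trivChar G ∧ ∃ k, charDegree (χ : G → ℂ) = 3 ^ k := by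
    rcases hor with h | h
    · obtain ⟨χ, hχ, k, hk⟩ := (Cfsg.Agent.S4500.result 2 3 r c 1 d Nat.prime_two Nat.prime_three hr (by norm_num)
        (Ne.symm hr2) (Ne.symm hr3) h (by rw [hcard]; ring)).1
      exact ⟨χ, fun e => hχ (by rw [e]; rfl), k, hk⟩
    · obtain ⟨χ, hχ, k, hk⟩ := (Cfsg.Agent.S4500.result r 3 2 d 1 c hr Nat.prime_three Nat.prime_two hr3
        hr2 (by norm_num) h (by rw [hcard]; ring)).1
      exact ⟨χ, fun e => hχ (by rw [e]; rfl), k, hk⟩
  have hk3 : charDegree (χ : G → ℂ) ≤ 3 := by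
    have h := charDegree_dvd χ
    rw [hcard, mul_assoc, hk] at h
    rw [hk]
    exact Nat.le_of_dvd (by norm_num)
      ((((Nat.Prime.coprime_iff_not_dvd Nat.prime_three).2 h3').pow_left k).dvd_of_dvd_mul_right h)
  have hr7 := prime_le_degree hG hχne hr (hcard ▸ dvd_mul_of_dvd_right (dvd_pow_self r (by omega)) _)
  have hr' : r = 5 ∨ r = 7 := by
    have := hr.two_le
    have h7 : r ≤ 7 := by omega
    interval_cases r <;> first | omega | norm_num at hr
  -- the principal block for the prime three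
  have : Fact (Nat.Prime 3) := ⟨Nat.prime_three⟩
  obtain ⟨P⟩ : Nonempty (Sylow 3 G) := inferInstance
  have hP : Nat.card (P : Subgroup G) = 3 :=
    (SimpleTools.card_sylow_subgroup (k := 1) (by rw [pow_one, hcard, mul_assoc]) h3' P).trans (pow_one 3)
  obtain ⟨M, hM⟩ := exists_isPModular Nat.prime_three
  obtain ⟨X, Y, εX, ε, hB, hdisj, hX, hY, hXp, hε, hYd, -, hrel⟩ :=
    PrimeOrder.principal_block hM (by norm_num) P hP
  obtain ⟨he1, hed⟩ := exists_aut hG P hP
  have hm : TIAbelian.autCard P = 2 := by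
    rcases (Nat.dvd_prime Nat.prime_two).1 hed with h | h
    exacts [absurd h he1, h]
  rw [hm] at hX hY hYd
  obtain ⟨θ, hYθ⟩ := Finset.card_eq_one.1 (hY.trans (by norm_num))
  set f : IrrCharacter G → ℤ := fun φ =>
    (if φ ∈ Y then -ε else εX φ) * (charDegree (φ : G → ℂ) : ℤ) with hf
  have hsum : ∑ φ ∈ X ∪ Y, f φ = 0 := by
    have h1 := hrel θ (by rw [hYθ]; exact Finset.mem_singleton_self θ) 1 (by rw [orderOf_one]; norm_num)
    simp only [irr_one_eq] at h1
    have h1' : ε * (charDegree (θ : G → ℂ) : ℤ) = ∑ χ ∈ X, εX χ * (charDegree (χ : G → ℂ) : ℤ) := by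
      exact_mod_cast h1
    rw [Finset.sum_union hdisj, hYθ, Finset.sum_singleton,
      Finset.sum_congr rfl (g := fun χ => εX χ * (charDegree (χ : G → ℂ) : ℤ)) fun φ hφ => by
        rw [hf]; simp only [if_neg (Finset.disjoint_left.1 hdisj hφ)]]
    rw [hf]
    simp only [hYθ, Finset.mem_singleton, if_true]
    linarith
  have hmem : ∀ φ ∈ X ∪ Y, (f φ).natAbs = charDegree (φ : G → ℂ) ∧ φ ∈ principalBlock M G ∧
      ¬ (3 : ℤ) ∣ (charDegree (φ : G → ℂ) : ℤ) := by
    intro φ hφ
    rcases Finset.mem_union.1 hφ with h | h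
    · obtain ⟨hs, hmod, -⟩ := hXp φ h
      refine ⟨?_, (hB φ).2 (.inl h), ?_⟩
      · simp only [hf, if_neg (Finset.disjoint_left.1 hdisj h)]
        rcases hs with e | e <;> simp [e]
      · simp only [Int.ModEq] at hmod
        rcases hs with e | e <;> rw [e] at hmod <;> norm_num at hmod <;> omega
    · have hmod : (charDegree (φ : G → ℂ) : ℤ) % 3 = (ε * ((2 : ℕ) : ℤ)) % 3 := hYd φ h
      refine ⟨?_, (hB φ).2 (.inr h), ?_⟩
      · simp only [hf, if_pos h]
        rcases hε with e | e <;> simp [e]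
      · rcases hε with e | e <;> rw [e] at hmod <;> norm_num at hmod <;> omega
  have htriv : trivChar G ∈ X ∪ Y := Finset.mem_union.2 ((hB _).1 (trivChar_mem_principalBlock hM))
  have hcard2 : ((X ∪ Y).erase (trivChar G)).card = 2 := by
    rw [Finset.card_erase_of_mem htriv, Finset.card_union_of_disjoint hdisj, hX, hY]
  obtain ⟨α, β, hαβ, hE⟩ := Finset.card_eq_two.1 hcard2
  have hα : α ∈ (X ∪ Y).erase (trivChar G) := by rw [hE]; simp
  have hβ : β ∈ (X ∪ Y).erase (trivChar G) := by rw [hE]; simp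
  rw [← Finset.add_sum_erase _ _ htriv, hE, Finset.sum_pair hαβ] at hsum
  have hd1 : charDegree ((trivChar G : IrrCharacter G) : G → ℂ) = 1 := by simp [charDegree]
  obtain ⟨hαa, hαB, hα3⟩ := hmem α (Finset.mem_of_mem_erase hα)
  obtain ⟨hβa, hβB, hβ3⟩ := hmem β (Finset.mem_of_mem_erase hβ)
  have ht1 : (f (trivChar G)).natAbs = 1 := (hmem _ htriv).1.trans hd1
  have two_le : ∀ {ζ : IrrCharacter G}, ζ ≠ trivChar G → 2 ≤ charDegree (ζ : G → ℂ) := fun {ζ} h => by
    have := charDegree_pos ζ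
    have : charDegree (ζ : G → ℂ) ≠ 1 := fun h' => h (BlockDegrees.eq_trivChar hG ζ h')
    omega
  have hα2 := two_le (Finset.ne_of_mem_erase hα)
  have hβ2 := two_le (Finset.ne_of_mem_erase hβ)
  have form : ∀ ζ : IrrCharacter G, ¬ (3 : ℤ) ∣ (charDegree (ζ : G → ℂ) : ℤ) →
      ∃ i j, i ≤ c ∧ j ≤ d ∧ charDegree (ζ : G → ℂ) = 2 ^ i * r ^ j := fun ζ h =>
    exists_exponents Nat.prime_two hr (hcard ▸ charDegree_dvd ζ)
      ((Nat.Prime.coprime_iff_not_dvd Nat.prime_three).2 fun h' => h (by exact_mod_cast h')).symm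
  have hnb := neighbours hr' hor (form α hα3) (form β hβ3) hα2 hβ2 (by omega)
  obtain ⟨ψ, hψne, hψmem, hψr, hψu⟩ : ∃ ψ : IrrCharacter G, ψ ≠ trivChar G ∧ ψ ∈ principalBlock M G ∧
      charDegree (ψ : G → ℂ) = r ∧
      ∀ φ ∈ principalBlock M G, charDegree (φ : G → ℂ) = charDegree (ψ : G → ℂ) → φ = ψ := by
    have mem : ∀ φ : IrrCharacter G, φ ∈ principalBlock M G → φ = trivChar G ∨ φ = α ∨ φ = β := fun φ h => by
      by_cases ht : φ = trivChar G
      · exact .inl ht
      · have : φ ∈ (X ∪ Y).erase (trivChar G) := Finset.mem_erase.2 ⟨ht, Finset.mem_union.2 ((hB φ).1 h)⟩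
        rw [hE] at this
        simp only [Finset.mem_insert, Finset.mem_singleton] at this
        exact .inr this
    rcases hnb with ⟨h1, h2⟩ | ⟨h1, h2⟩
    · refine ⟨α, Finset.ne_of_mem_erase hα, hαB, h1, fun φ hφ h => ?_⟩
      rcases mem φ hφ with rfl | rfl | rfl <;> first | rfl | (exfalso; omega)
    · refine ⟨β, Finset.ne_of_mem_erase hβ, hβB, h1, fun φ hφ h => ?_⟩
      rcases mem φ hφ with rfl | rfl | rfl <;> first | rfl | (exfalso; omega)
  have hrat := rational_of_unique hM hψmem hψu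
  have hdfac : (Nat.card G).factorization r = d := by
    rw [hcard]
    exact factorization_order (by norm_num) Nat.prime_two hr (Ne.symm hr2) (fun h => by
      have := Nat.le_of_dvd (by norm_num) h; omega)
  have hexp := exponent_le hψne hrat hr hψr
  rw [hdfac] at hexp
  rcases hr' with rfl | rfl
  · norm_num [Finset.sum_range_succ] at hexp
    obtain rfl : d = 1 := by omega
    rw [pow_one] at hcard
    by_contra hbig
    have : Fact (Nat.Prime 2) := ⟨Nat.prime_two⟩
    have hc4 : 5 ≤ c := by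
      by_contra h
      have : 2 ^ c ≤ 2 ^ 4 := Nat.pow_le_pow_right (by norm_num) (by omega)
      omega
    have hc15 : Nat.card G = 2 ^ c * 15 := by rw [hcard]; ring
    have hn := OrdersBelow1092.sylow_count hG (p := 2) hc15 (by norm_num) (by omega)
    have hb : ¬ 2 * Nat.card G ∣ (5 : ℕ).factorial := fun h => by
      have := Nat.le_of_dvd (by decide) h
      rw [show (5 : ℕ).factorial = 120 by decide] at this
      omega
    have h4 : Nat.card (Sylow 2 G) ≡ 1 [MOD 2 ^ 2] := by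
      by_contra h4
      exact OrdersBelow1092.false_of_big hG hc15 (by norm_num) (by omega) h4 hb (by norm_num)
    have he : 2 * Nat.card G ∣ (Nat.card (Sylow 2 G)).factorial :=
      OrdersBelow1092.embeds hG (p := 2) (by rw [hc15]; exact dvd_mul_of_dvd_left (dvd_pow_self 2 (by omega)) _)
    rw [show ((15 : ℕ).divisors.filter (fun n => n % 2 = 1)).erase 1 = {3, 5, 15} by decide +kernel] at hn
    simp only [Finset.mem_insert, Finset.mem_singleton] at hn
    rcases hn with h | h | h <;> rw [h] at h4 he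
    · exact absurd h4 (by decide)
    · exact hb he
    · exact absurd h4 (by decide)
  · norm_num [Finset.sum_range_succ] at hexp
    obtain rfl : d = 1 := by omega
    rw [pow_one] at hcard
    have hc : 2 ^ c ≤ 2 ^ 4 := Nat.pow_le_pow_right (by norm_num) (exponent_two_le_of_seven hG hcard)
    omega

end CfsgLib.SmallGroups.Cofactor
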