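import Cfsg.Agent.Lib.Blocks.PrimeOrderBlock
import Cfsg.Agent.Lib.DegreeTools.TISum
import Cfsg.Agent.Lib.Char.Linear
import Cfsg.Agent.Lib.SmallGroups.LocalTools

/-!
# Degrees in the principal block of a simple group for a Sylow subgroup of prime order

Signed by their values at the singular elements, the nonexceptional degrees are `1` modulo `p`,
the exceptional one is the automiser order modulo `p`, and the latter is the sum of the former.
-/

set_option autoImplicit false

namespace CfsgLib.SmallGroups.BlockDegrees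

open Cfsg CfsgLib.Blocks
open scoped Classical

variable {G : Type*} [Group G] [Fintype G]

theorem eq_trivChar [IsSimpleGroup G] (hG : ¬ IsMulCommutative G) (χ : IrrCharacter G)
    (h : charDegree (χ : G → ℂ) = 1) : χ = trivChar G := by
  have h1 : (χ : G → ℂ) 1 = 1 := by rw [irr_one_eq, h, Nat.cast_one]
  obtain ⟨φ, hφ⟩ := CfsgLib.Char.exists_hom_of_apply_one_eq_one (Char.isCharacter_irr χ) h1
  have hker : φ.ker = ⊤ := by
    refine ((inferInstance : φ.ker.Normal).eq_bot_or_eq_top).resolve_left fun hb => hG ⟨⟨fun a b => ?_⟩⟩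
    exact (MonoidHom.ker_eq_bot_iff _).1 hb (by rw [map_mul, map_mul, mul_comm])
  refine Subtype.ext (funext fun g => ?_)
  have hg : φ g = 1 := MonoidHom.mem_ker.1 (hker ▸ Subgroup.mem_top g)
  simp [congrFun hφ g, hg]

theorem degree_relation [IsSimpleGroup G] (hG : ¬ IsMulCommutative G) {p : ℕ} [Fact p.Prime] (hodd : p ≠ 2)
    (P : Sylow p G) (hP : Nat.card P = p) {e : ℕ}
    (hN : Nat.card (Subgroup.normalizer ((P : Subgroup G) : Set G)) =
      e * Nat.card (Subgroup.centralizer ((P : Subgroup G) : Set G))) (he : e + 1 < p) :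
    ∃ (l : List ℤ) (x : ℤ), l.length + 1 = e ∧
      (∀ a ∈ l, a.natAbs ∣ Nat.card G ∧ 2 ≤ a.natAbs ∧ a ≡ 1 [ZMOD p]) ∧
      x.natAbs ∣ Nat.card G ∧ x ≡ e [ZMOD p] ∧ x = 1 + l.sum := by
  have hp : p.Prime := Fact.out
  obtain ⟨M, hM⟩ := DegreeTools.TISum.exists_pmodular hp
  obtain ⟨X, Y, εX, ε, hB, hdisj, hX, hY, hXp, hε, hYd, -, hrel⟩ := PrimeOrder.principal_block hM hodd P hP
  have haut : TIAbelian.autCard P = e := by
    rw [TIAbelian.autCard_eq, Subgroup.relIndex]
    have hle := Subgroup.centralizer_le_normalizer ((P : Subgroup G) : Set G)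
    have h := ((Subgroup.centralizer ((P : Subgroup G) : Set G)).subgroupOf
      (Subgroup.normalizer ((P : Subgroup G) : Set G))).index_mul_card
    rw [Nat.card_congr (Subgroup.subgroupOfEquivOfLe hle).toEquiv, hN] at h
    exact Nat.eq_of_mul_eq_mul_right Nat.card_pos h
  rw [haut] at hX hY hYd
  obtain ⟨x₀, hx₀P, hx₀, -⟩ := PrimeOrder.exists_generator P hP
  have htriv : trivChar G ∈ X := by
    refine ((hB _).1 (trivChar_mem_principalBlock hM)).resolve_right fun h => ?_
    have h1 := hYd _ h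
    have hd : charDegree ((trivChar G : IrrCharacter G) : G → ℂ) = 1 := by simp [charDegree]
    rw [hd, Nat.cast_one, Int.modEq_iff_dvd] at h1
    have h2 := hp.two_le
    rcases hε with rfl | rfl
    · have e1 : (1 : ℤ) * (e : ℤ) - 1 = 0 := Int.eq_zero_of_dvd_of_natAbs_lt_natAbs h1 (by omega)
      have e1' : e = 1 := by omega
      apply SimpleTools.not_normalizer_le hG (hP ▸ (P : Subgroup G).card_subgroup_dvd_card) P
      exact (Subgroup.eq_of_le_of_card_ge (Subgroup.centralizer_le_normalizer _) (by rw [hN, e1', one_mul])).ge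
    · have e1 : (-1 : ℤ) * (e : ℤ) - 1 = 0 := Int.eq_zero_of_dvd_of_natAbs_lt_natAbs h1 (by omega)
      omega
  have hεt : εX (trivChar G) = 1 := by
    have h := (hXp _ htriv).2.2 x₀ x₀ ⟨1, mul_one _, Commute.one_right _, ⟨1, by rw [hx₀, pow_one]⟩,
      by rw [orderOf_one]; exact hp.not_dvd_one⟩ hx₀P (fun h => by rw [h, orderOf_one] at hx₀; exact hp.one_lt.ne hx₀)
    rw [trivChar_apply] at h
    exact_mod_cast h.symm
  obtain ⟨θ, hθ⟩ : Y.Nonempty := Finset.card_pos.1 (by
    rw [hY]; exact Nat.div_pos (by omega) (by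
      rcases Nat.eq_zero_or_pos e with h | h
      · rw [h, zero_mul] at hN; exact absurd hN Nat.card_pos.ne'
      · exact h))
  refine ⟨((X.erase (trivChar G)).toList.map fun χ : IrrCharacter G => εX χ * (charDegree (χ : G → ℂ) : ℤ)),
    ε * (charDegree (θ : G → ℂ) : ℤ), ?_, ?_, ?_, ?_, ?_⟩
  · rw [List.length_map, Finset.length_toList, Finset.card_erase_add_one htriv, hX]
  · intro a ha
    obtain ⟨χ, hχ, rfl⟩ := List.mem_map.1 ha
    obtain ⟨hne, hχX⟩ := Finset.mem_erase.1 (Finset.mem_toList.1 hχ)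
    obtain ⟨hs, hmod, -⟩ := hXp χ hχX
    have habs : (εX χ * (charDegree (χ : G → ℂ) : ℤ)).natAbs = charDegree (χ : G → ℂ) := by
      rcases hs with h | h <;> simp [h]
    refine ⟨by rw [habs]; exact charDegree_dvd χ, ?_, ?_⟩
    · rw [habs]
      have h0 := charDegree_pos χ
      have h1 : charDegree (χ : G → ℂ) ≠ 1 := fun h => hne (eq_trivChar hG χ h)
      omega
    · have := hmod.mul_left (εX χ)
      rcases hs with h | h <;> simpa [h] using this
  · have habs : (ε * (charDegree (θ : G → ℂ) : ℤ)).natAbs = charDegree (θ : G → ℂ) := by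
      rcases hε with rfl | rfl <;> simp
    rw [habs]
    exact charDegree_dvd θ
  · have := (hYd θ hθ).mul_left ε
    rcases hε with rfl | rfl <;> simpa using this
  · have h := hrel θ hθ 1 (by rw [orderOf_one]; exact hp.not_dvd_one)
    simp only [irr_one_eq] at h
    have h' : ε * (charDegree (θ : G → ℂ) : ℤ) = ∑ χ ∈ X, εX χ * (charDegree (χ : G → ℂ) : ℤ) := by
      exact_mod_cast h
    rw [h', ← Finset.add_sum_erase _ _ htriv, hεt, Finset.sum_map_toList]
    simp [charDegree]

end CfsgLib.SmallGroups.BlockDegrees
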