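import Mathlib

/-!
# Simplicity criteria for permutation groups

A group with a Sylow subgroup of order `p` of prime index in its normaliser whose non-trivial
normal subgroups all have order divisible by `p`; transitive groups of prime degree; doubly
transitive groups with simple point stabiliser and degree not a prime power.
-/

set_option autoImplicit false

namespace CfsgLib.SmallGroups.Simplicity

open Subgroup

/-- A `p`-divisibility criterion for simplicity. -/
theorem isSimple_of_normalizer {G : Type*} [Group G] [Finite G] {p : ℕ} [Fact p.Prime]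
    (P : Sylow p G) (hP : Nat.card (P : Subgroup G) = p) (hnn : ¬ (P : Subgroup G).Normal)
    (hN : ∀ H : Subgroup G, (P : Subgroup G) ≤ H → H ≤ normalizer ((P : Subgroup G) : Set G) →
      H = P ∨ H = normalizer ((P : Subgroup G) : Set G))
    (hdvd : ∀ N : Subgroup G, N.Normal → N ≠ ⊥ → p ∣ Nat.card N) : IsSimpleGroup G := by
  have hp : p.Prime := Fact.out
  have : Nontrivial G := Finite.one_lt_card_iff_nontrivial.mp
    (lt_of_lt_of_le hp.one_lt (hP ▸ Subgroup.card_le_card_group _))
  refine ⟨fun N hNn => ?_⟩
  by_contra hcon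
  simp only [not_or] at hcon
  obtain ⟨hbot, htop⟩ := hcon
  -- every Sylow subgroup lies in `N`
  obtain ⟨x, hx⟩ := exists_prime_orderOf_dvd_card' p (hdvd N hNn hbot)
  have hxc : Nat.card (zpowers (x : G)) = p := by rw [Nat.card_zpowers, Subgroup.orderOf_coe, hx]
  obtain ⟨Q, hQ⟩ := (IsPGroup.of_card (n := 1) (by rw [hxc, pow_one])).exists_le_sylow
  have hQN : (Q : Subgroup G) ≤ N := by
    have e : zpowers (x : G) = Q := Subgroup.eq_of_le_of_card_ge hQ
      (by rw [hxc, Sylow.card_eq_multiplicity, ← P.card_eq_multiplicity, hP])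
    rw [← e, zpowers_le]
    exact x.2
  have hPN : (P : Subgroup G) ≤ N := by
    obtain ⟨g, hg⟩ := MulAction.exists_smul_eq G Q P
    intro y hy
    rw [← hg, Sylow.coe_subgroup_smul, mem_pointwise_smul_iff_inv_smul_mem] at hy
    have := hNn.conj_mem _ (hQN hy) g
    rw [← map_inv, MulAut.smul_def, MulAut.conj_apply] at this
    simpa [mul_assoc] using this
  rcases hN (N ⊓ normalizer ((P : Subgroup G) : Set G)) (le_inf hPN le_normalizer) inf_le_right with
    h | h
  · -- Burnside transfer inside `N`
    let P' : Sylow p N := P.subtype hPN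
    have hcomm : IsMulCommutative (P' : Subgroup N) := by
      have hc : IsCyclic (P' : Subgroup N) := isCyclic_of_prime_card (p := p) (by
        rw [Sylow.coe_subtype, Nat.card_congr (subgroupOfEquivOfLe hPN).toEquiv, hP])
      exact ⟨⟨fun a b => hc.commGroup.mul_comm a b⟩⟩
    have hle : normalizer ((P' : Subgroup N) : Set N) ≤ centralizer ((P' : Subgroup N) : Set N) := by
      refine le_trans (fun y hy => ?_) (le_centralizer (P' : Subgroup N))
      rw [Sylow.coe_subtype, Subgroup.mem_subgroupOf, ← h]
      refine ⟨y.2, mem_normalizer_iff.mpr fun z => ?_⟩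
      have key := mem_normalizer_iff.mp hy
      constructor
      · intro hz
        exact
          (key ⟨z, hPN hz⟩).mp hz
      · intro hz
        have hzN : z ∈ N := by
          have := hNn.conj_mem _ (hPN hz) (y : G)⁻¹
          simpa [mul_assoc] using this
        exact
          (key ⟨z, hzN⟩).mpr hz
    have hcompl := MonoidHom.ker_transferSylow_isComplement' P' hle
    have hpK : ¬ p ∣ Nat.card (MonoidHom.transferSylow P' hle).ker :=
      MonoidHom.not_dvd_card_ker_transferSylow P' hle
    have hchar : (MonoidHom.transferSylow P' hle).ker.Characteristic := by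
      refine characteristic_iff_map_le.mpr fun φ => ?_
      set K := (MonoidHom.transferSylow P' hle).ker
      rintro _ ⟨k, hk, rfl⟩
      have hidx : K.index = p := by
        rw [hcompl.symm.index_eq_card, Sylow.coe_subtype,
          Nat.card_congr (subgroupOfEquivOfLe hPN).toEquiv, hP]
      have ho : ¬ p ∣ orderOf (φ k) := by
        rw [MulEquiv.orderOf_eq φ k, show orderOf k = orderOf (⟨k, hk⟩ : K) from
          orderOf_injective K.subtype K.subtype_injective ⟨k, hk⟩]
        exact fun hd => hpK (hd.trans (_root_.orderOf_dvd_natCard _))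
      have hd : orderOf (QuotientGroup.mk' K (φ k)) ∣ p := by
        have := _root_.orderOf_dvd_natCard (QuotientGroup.mk' K (φ k))
        rwa [← Subgroup.index_eq_card, hidx] at this
      rcases (Nat.dvd_prime hp).mp hd with h1 | h1
      · exact (QuotientGroup.eq_one_iff _).mp (orderOf_eq_one_iff.mp h1)
      · exact absurd (h1 ▸ orderOf_map_dvd (QuotientGroup.mk' K) (φ k)) ho
    have hK : ((MonoidHom.transferSylow P' hle).ker.map N.subtype) = ⊥ := by
      by_contra hne
      refine hpK ?_
      have := hdvd _ ConjAct.normal_of_characteristic_of_normal hne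
      rwa [Nat.card_congr
        ((MonoidHom.transferSylow P' hle).ker.equivMapOfInjective _ N.subtype_injective).toEquiv.symm]
        at this
    rw [map_eq_bot_iff_of_injective _ N.subtype_injective] at hK
    rw [hK, isComplement'_bot_left, Sylow.coe_subtype, subgroupOf_eq_top] at hcompl
    exact hnn (le_antisymm hPN hcompl ▸ hNn)
  · -- Frattini
    refine htop (eq_top_iff.mpr ?_)
    have hFr := Sylow.normalizer_sup_eq_top' (N := N) P hPN
    rw [← hFr]
    exact sup_le (inf_eq_right.mp h) le_rfl

/-- Subgroups between `P` and an overgroup of index a prime. -/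
theorem between_of_prime_index {G : Type*} [Group G] [Finite G] {P M : Subgroup G} (hPM : P ≤ M)
    (hr : (P.relIndex M).Prime) (H : Subgroup G) (h1 : P ≤ H) (h2 : H ≤ M) : H = P ∨ H = M := by
  have h := relIndex_mul_relIndex _ _ _ h1 h2
  rcases (Nat.dvd_prime hr).mp ⟨_, h.symm⟩ with e | e
  · exact Or.inl (le_antisymm (relIndex_eq_one.mp e) h1)
  · refine Or.inr (le_antisymm h2 (relIndex_eq_one.mp ?_))
    rw [e] at h
    exact mul_left_cancel₀ hr.ne_zero (h.trans (mul_one _).symm)

theorem card_dvd_card_normal_of_primitive {G X : Type*} [Group G] [MulAction G X]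
    [FaithfulSMul G X] [MulAction.IsPreprimitive G X] [Finite X] (N : Subgroup G) (hN : N.Normal)
    (hne : N ≠ ⊥) : Nat.card X ∣ Nat.card N := by
  rcases isEmpty_or_nonempty X with he | ⟨⟨x⟩⟩
  · exfalso
    refine hne ((Subgroup.eq_bot_iff_forall _).mpr fun g _ => ?_)
    exact FaithfulSMul.eq_of_smul_eq_smul (α := X) fun y => (he.false y).elim
  have hfix : MulAction.fixedPoints N X ≠ .univ := by
    intro h
    refine hne ((Subgroup.eq_bot_iff_forall _).mpr fun g hg => ?_)
    refine FaithfulSMul.eq_of_smul_eq_smul (α := X) fun y => ?_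
    have hy : y ∈ MulAction.fixedPoints N X := h ▸ Set.mem_univ y
    rw [one_smul]
    exact hy ⟨g, hg⟩
  have := MulAction.IsQuasiPreprimitive.isPretransitive_of_normal (G := G) hfix
  exact (MulAction.index_stabilizer_of_transitive N x) ▸ Subgroup.index_dvd_card _

theorem isSimple_of_prime_degree {G X : Type*} [Group G] [Finite G] [MulAction G X]
    [FaithfulSMul G X] [MulAction.IsPretransitive G X] [Finite X] {p : ℕ} [Fact p.Prime]
    (hX : Nat.card X = p) (P : Sylow p G) (hP : Nat.card (P : Subgroup G) = p)
    (hnn : ¬ (P : Subgroup G).Normal)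
    (hr : ((P : Subgroup G).relIndex (normalizer ((P : Subgroup G) : Set G))).Prime) :
    IsSimpleGroup G := by
  have := MulAction.IsPreprimitive.of_prime_card (G := G) (X := X) (hX ▸ Fact.out)
  exact isSimple_of_normalizer P hP hnn (between_of_prime_index le_normalizer hr)
    fun N hN hne => hX ▸ card_dvd_card_normal_of_primitive (X := X) N hN hne

/-- A transitive group with simple point stabiliser, transitive off the point, of degree divisible
by two primes, is simple. -/
theorem isSimple_of_stabilizer {G X : Type*} [Group G] [Finite G] [MulAction G X]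
    [FaithfulSMul G X] [Finite X] [MulAction.IsPreprimitive G X] (x : X)
    (htr : ∀ y z : X, y ≠ x → z ≠ x → ∃ g : G, g • x = x ∧ g • y = z)
    (hs : IsSimpleGroup (MulAction.stabilizer G x)) {q r : ℕ} (hq : q.Prime) (hr : r.Prime)
    (hqr : q ≠ r) (hqX : q ∣ Nat.card X) (hrX : r ∣ Nat.card X) : IsSimpleGroup G := by
  have : Nontrivial G := by
    obtain ⟨⟨g, hg⟩, hne⟩ := exists_ne (1 : MulAction.stabilizer G x)
    exact ⟨⟨g, 1, fun h => hne (Subtype.ext h)⟩⟩
  refine ⟨fun N hNn => ?_⟩
  by_contra hcon
  simp only [not_or] at hcon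
  obtain ⟨hbot, htop⟩ := hcon
  have hdvd := card_dvd_card_normal_of_primitive (X := X) N hNn hbot
  have hfix : MulAction.fixedPoints N X ≠ .univ := by
    intro h
    refine hbot ((Subgroup.eq_bot_iff_forall _).mpr fun g hg => ?_)
    refine FaithfulSMul.eq_of_smul_eq_smul (α := X) fun y => ?_
    have hy : y ∈ MulAction.fixedPoints N X := h ▸ Set.mem_univ y
    rw [one_smul]
    exact hy ⟨g, hg⟩
  have htrN := MulAction.IsQuasiPreprimitive.isPretransitive_of_normal (G := G) hfix
  rcases (hNn.subgroupOf (MulAction.stabilizer G x)).eq_bot_or_eq_top with h | h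
  · -- `N` is regular
    rw [subgroupOf_eq_bot, disjoint_iff] at h
    have hinj : ∀ a b : N, (a : G) • x = (b : G) • x → a = b := fun a b e => by
      have hm : ((b : G)⁻¹ * a) ∈ N ⊓ MulAction.stabilizer G x :=
        ⟨N.mul_mem (N.inv_mem b.2) a.2, by
          show ((b : G)⁻¹ * a) • x = x
          rw [mul_smul, e, inv_smul_smul]⟩
      rw [h, mem_bot, inv_mul_eq_one] at hm
      exact Subtype.ext hm.symm
    have key : ∀ a b : N, (a : G) ≠ 1 → (b : G) ≠ 1 → orderOf (a : G) = orderOf (b : G) := by
      intro a b ha hb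
      obtain ⟨g, hgx, hg⟩ := htr ((a : G) • x) ((b : G) • x)
        (fun e => ha (by rw [hinj a 1 (by simpa using e)]; rfl))
        (fun e => hb (by rw [hinj b 1 (by simpa using e)]; rfl))
      have hc : (⟨g * a * g⁻¹, hNn.conj_mem _ a.2 g⟩ : N) = b := hinj _ _ (by
        rw [mul_smul, mul_smul, inv_smul_eq_iff.mpr hgx.symm, hg])
      rw [← hc]
      exact ((MulAut.conj g).orderOf_eq (a : G)).symm
    have := Fact.mk hq
    have := Fact.mk hr
    obtain ⟨a, ha⟩ := exists_prime_orderOf_dvd_card' q (hqX.trans hdvd)
    obtain ⟨b, hb⟩ := exists_prime_orderOf_dvd_card' r (hrX.trans hdvd)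
    rw [← Subgroup.orderOf_coe] at ha hb
    refine hqr (ha.symm.trans ((key a b ?_ ?_).trans hb))
    · intro e; rw [e, orderOf_one] at ha; exact hq.one_lt.ne ha
    · intro e; rw [e, orderOf_one] at hb; exact hr.one_lt.ne hb
  · rw [subgroupOf_eq_top] at h
    refine htop (eq_top_iff.mpr fun g _ => ?_)
    obtain ⟨a, ha⟩ := htrN.exists_smul_eq x (g • x)
    have hm : (a : G)⁻¹ * g ∈ N := h (by
      rw [MulAction.mem_stabilizer_iff, mul_smul, inv_smul_eq_iff]; exact ha.symm)
    simpa using N.mul_mem a.2 hm

end CfsgLib.SmallGroups.Simplicity
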