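import Cfsg.Agent.Lib.SmallGroups.PermChainSimple
import Cfsg.Agent.Lib.SmallGroups.HallJankoData
import Cfsg.Agent.Lib.SmallGroups.Simplicity
import Cfsg.Prelude.Def_Sporadic

/-!
# The Hall-Janko group on one hundred points

The chain gives the order 604800 and point stabilisers of orders 6048 and 168; simplicity climbs
from the group of degree seven through the group of degree 36.
-/

set_option autoImplicit false
set_option maxRecDepth 100000

namespace CfsgLib.SmallGroups.HallJanko

open CfsgLib.SmallGroups.PermChain CfsgLib.SmallGroups.HallJankoData Subgroup MulAction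

/-- The chain of the stabiliser of two points. -/
abbrev chain₂ : List Level := level3 :: [level4, level5]

/-- The chain of the stabiliser of one point. -/
abbrev chain₁ : List Level := level2 :: chain₂

theorem check_chain : check 100 (level1 :: chain₁) = true := by decide +kernel

theorem check₁ : check 100 (level2 :: chain₂) = true := by
  have h := check_chain
  rw [check, Bool.and_eq_true] at h
  exact h.2

theorem check₂ : check 100 (level3 :: [level4, level5]) = true := by
  have h := check₁
  rw [check, Bool.and_eq_true] at h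
  exact h.2

theorem lengths : level1.orb.length = 100 ∧ level2.orb.length = 36 ∧ level3.orb.length = 7 ∧
    level4.orb.length = 6 ∧ level5.orb.length = 4 := by decide +kernel

theorem conn_level2 : connOK 100 chain₁ level2 = true := by decide +kernel
theorem conn_partH : connOK 100 chain₁ partH = true := by decide +kernel
theorem conn_partK1 : connOK 100 chain₂ partK1 = true := by decide +kernel
theorem conn_partK2 : connOK 100 chain₂ partK2 = true := by decide +kernel
theorem conn_partK3 : connOK 100 chain₂ partK3 = true := by decide +kernel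
theorem union₁ : unionOK (pts level1) level1.b [level2, partH] level1.orb.length = true := by
  decide +kernel
theorem union₂ : unionOK (pts level2) level2.b [partK1, partK2, partK3] level2.orb.length = true := by
  decide +kernel
theorem bases₁ : ((level1 :: chain₁).all fun k => decide (k.b ∈ pts level1)) = true := by decide +kernel
theorem bases₂ : ((level2 :: chain₂).all fun k => decide (k.b ∈ pts level2)) = true := by decide +kernel
theorem bases₃ : ((level3 :: [level4, level5]).all fun k => decide (k.b ∈ pts level3)) = true := by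
  decide +kernel

/-- Applying a map `k` times to the points. -/
def iter (n p : ℕ) : ℕ → ℕ
  | 0 => pack (List.range n)
  | k + 1 => comp n p (iter n p k)

theorem seven_facts : (ok 100 seven = true ∧ ok 100 seven' = true) ∧
    (sift 100 chain₂ seven.1 = true ∧ sift 100 chain₂ seven'.1 = true) ∧
    (isId 100 seven.1 = false ∧ isId 100 seven'.1 = false) ∧
    same 100 (comp 100 seven.1 seven'.1) (comp 100 seven'.1 seven.1) = false ∧
    (isId 100 (iter 100 seven.1 7) = true ∧ isId 100 (iter 100 seven'.1 7) = true) := by
  decide +kernel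

theorem isId_range : isId 100 (iter 100 0 0) = true := by decide +kernel

theorem orderOf_seven {n : ℕ} (hid : ∀ q, isId n (iter n q 0) = true) {e : ℕ × ℕ} (he : ok n e = true)
    (h1 : isId n e.1 = false) (h7 : isId n (iter n e.1 7) = true) :
    orderOf (PermChain.toPerm n e) = 7 := by
  have : Fact (Nat.Prime 7) := ⟨by norm_num⟩
  refine orderOf_eq_prime ?_ fun h => ?_
  · have hr : ∀ k : ℕ, Rep (iter n e.1 k) (PermChain.toPerm n e ^ k) := by
      intro k
      induction k with
      | zero =>
        intro i
        rw [pow_zero, Equiv.Perm.one_apply]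
        exact beq_iff_eq.mp ((List.all_eq_true.mp (hid e.1)) i (List.mem_range.mpr i.isLt))
      | succ k ih =>
        rw [pow_succ', iter]
        exact rep_comp (rep_fst he) ih
    exact perm_one h7 (hr 7)
  · have : isId n e.1 = true := List.all_eq_true.mpr fun i hi => beq_iff_eq.mpr (by
      have := rep_fst he ⟨i, List.mem_range.mp hi⟩
      rw [h] at this
      exact this)
    rw [h1] at this
    exact Bool.false_ne_true this

theorem same_of_eq {n p q : ℕ} {σ : Equiv.Perm (Fin n)} (hp : Rep p σ) (hq : Rep q σ) :
    same n p q = true :=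
  List.all_eq_true.mpr fun i hi => beq_iff_eq.mpr
    ((hp ⟨i, List.mem_range.mp hi⟩).trans (hq ⟨i, List.mem_range.mp hi⟩).symm)

theorem card_G : Nat.card (grp 100 (level1 :: chain₁)) = 604800 := by
  rw [card_grp check_chain]
  obtain ⟨h1, h2, h3, h4, h5⟩ := lengths
  simp [chain₁, h1, h2, h3, h4, h5]

theorem card_H : Nat.card (grp 100 (level2 :: chain₂)) = 6048 := by
  rw [card_grp check₁]
  obtain ⟨h1, h2, h3, h4, h5⟩ := lengths
  simp [chain₂, h2, h3, h4, h5]

theorem card_K : Nat.card (grp 100 (level3 :: [level4, level5])) = 168 := by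
  rw [card_grp check₂]
  obtain ⟨h1, h2, h3, h4, h5⟩ := lengths
  simp [h3, h4, h5]

set_option maxHeartbeats 1000000 in
theorem simple_K : IsSimpleGroup (grp 100 (level3 :: [level4, level5])) := by
  obtain ⟨⟨ho, ho'⟩, ⟨hs, hs'⟩, ⟨h1, h1'⟩, hnc, h7, h7'⟩ := seven_facts
  have hid : ∀ q, isId 100 (iter 100 q 0) = true := fun _ => isId_range
  have hb := bases₃
  have hb3 : level3.b < 100 := by decide
  have := faithful_orbit check₂ hb3 hb
  have : Fact (Nat.Prime 7) := ⟨by norm_num⟩
  have hX : Nat.card (orbit (grp 100 (level3 :: [level4, level5])) (⟨level3.b, hb3⟩ : Fin 100)) = 7 :=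
    (card_orbit check₂ hb3).trans lengths.2.2.1
  set Y := grp 100 (level3 :: [level4, level5]) with hY
  let y : Y := ⟨PermChain.toPerm 100 seven, mem_grp_of_sift _ _ _ check₂ (rep_fst ho) hs⟩
  let z : Y := ⟨PermChain.toPerm 100 seven', mem_grp_of_sift _ _ _ check₂ (rep_fst ho') hs'⟩
  have hy : orderOf y = 7 := by rw [← Subgroup.orderOf_coe]; exact orderOf_seven hid ho h1 h7
  have hz : orderOf z = 7 := by rw [← Subgroup.orderOf_coe]; exact orderOf_seven hid ho' h1' h7'
  have hyz : y * z ≠ z * y := fun e => by
    have e' : PermChain.toPerm 100 seven * PermChain.toPerm 100 seven' = PermChain.toPerm 100 seven' * PermChain.toPerm 100 seven :=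
      congrArg Subtype.val e
    have := same_of_eq (e' ▸ rep_comp (rep_fst ho) (rep_fst ho')) (rep_comp (rep_fst ho') (rep_fst ho))
    rw [hnc] at this
    exact Bool.false_ne_true this
  obtain ⟨P, hyP⟩ := (IsPGroup.of_card (n := 1) (G := zpowers y) (p := 7)
    (by rw [Nat.card_zpowers, hy, pow_one])).exists_le_sylow
  have hP : Nat.card (P : Subgroup Y) = 7 := by
    have he : Nat.factorization 168 7 = 1 := by
      rw [show (168 : ℕ) = 7 * 24 from rfl, Nat.factorization_mul (by norm_num) (by norm_num),
        Finsupp.add_apply, Nat.Prime.factorization_self (by norm_num),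
        Nat.factorization_eq_zero_of_not_dvd (by norm_num)]
    rw [P.card_eq_multiplicity, (card_K : Nat.card Y = 168), he, pow_one]
  have hPy : zpowers y = P := Subgroup.eq_of_le_of_card_ge hyP (by rw [hP, Nat.card_zpowers, hy])
  have hnn : ¬ (P : Subgroup Y).Normal := fun hn => by
    obtain ⟨Q, hzQ⟩ := (IsPGroup.of_card (n := 1) (G := zpowers z) (p := 7)
      (by rw [Nat.card_zpowers, hz, pow_one])).exists_le_sylow
    have := (Sylow.unique_of_normal P hn).uniq Q
    have hzP : z ∈ zpowers y := hPy ▸ (this.trans ((Sylow.unique_of_normal P hn).uniq P).symm) ▸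
      hzQ (mem_zpowers z)
    obtain ⟨i, hi⟩ := mem_zpowers_iff.mp hzP
    exact hyz (hi ▸ ((Commute.refl y).zpow_right i).eq)
  have hn7 : (P : Subgroup Y).index = 24 := by
    have := (P : Subgroup Y).index_mul_card
    rw [hP, (card_K : Nat.card Y = 168)] at this
    omega
  have hr : ((P : Subgroup Y).relIndex (normalizer ((P : Subgroup Y) : Set Y))).Prime := by
    have h2 := card_sylow_modEq_one 7 Y
    have h3 : Nat.card (Sylow 7 Y) ∣ 24 := hn7 ▸ P.card_dvd_index
    have h4 : Nat.card (Sylow 7 Y) ≠ 1 := fun e => hnn (by
      have : Subsingleton (Sylow 7 Y) := (Nat.card_eq_one_iff_unique.mp e).1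
      exact P.normal_of_subsingleton)
    have h8 : Nat.card (Sylow 7 Y) = 8 := by
      have hle : Nat.card (Sylow 7 Y) ≤ 24 := Nat.le_of_dvd (by norm_num) h3
      rw [Nat.ModEq] at h2
      interval_cases hc : Nat.card (Sylow 7 Y) <;> omega
    have h5 : (normalizer ((P : Subgroup Y) : Set Y)).index = 8 := by
      rw [← h8, P.card_eq_index_normalizer]; rfl
    have h6 := Subgroup.relIndex_mul_index (le_normalizer (H := (P : Subgroup Y)))
    rw [h5, hn7] at h6
    rw [show (P : Subgroup Y).relIndex (normalizer ((P : Subgroup Y) : Set Y)) = 3 by omega]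
    norm_num
  exact Simplicity.isSimple_of_prime_degree hX P hP hnn hr

attribute [local irreducible] grp level1 level2 level3 level4 level5 partH partK1 partK2 partK3

set_option maxHeartbeats 1000000 in
theorem simple_H : IsSimpleGroup (grp 100 (level2 :: chain₂)) := by
  have hb := bases₂
  have hu := union₂
  have hc1 := conn_partK1
  have hc2 := conn_partK2
  have hc3 := conn_partK3
  obtain ⟨hb2, -⟩ := level_spec check₁
  have := faithful_orbit check₁ hb2 hb
  set Y := grp 100 (level2 :: chain₂) with hY
  set X := orbit Y (⟨level2.b, hb2⟩ : Fin 100) with hXdef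
  have hX : Nat.card X = 36 := (card_orbit check₁ hb2).trans lengths.2.1
  set x : X := ⟨⟨level2.b, hb2⟩, mem_orbit_self _⟩ with hx
  have hs : IsSimpleGroup (stabilizer Y x) := stabilizer_orbit_simple check₁ hb2 simple_K
  have hblock : ∀ B : Set X, x ∈ B → (∀ g ∈ stabilizer Y x, ∀ y ∈ B, g • y ∈ B) →
      B.ncard ∣ Nat.card X → B = {x} ∨ B = Set.univ := fun B h1 h2 h3 =>
    orbit_block check₁ hb2 (parts := [partK1, partK2, partK3])
      (fun P hP => by
        simp only [List.mem_cons, List.not_mem_nil, or_false] at hP
        rcases hP with rfl | rfl | rfl <;> assumption) hu B h1 h2 h3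
  refine isSimple_of_chain x hblock hs fun N hN hN36 => ?_
  rw [hX] at hN36
  have : Fact (Nat.Prime 3) := ⟨by norm_num⟩
  have hne : N ≠ ⊥ := fun e => by rw [e, Subgroup.card_bot] at hN36; omega
  obtain ⟨Q⟩ := (inferInstance : Nonempty (Sylow 3 N))
  have hQ : Nat.card (Q : Subgroup N) = 9 := by
    have he : Nat.factorization 36 3 = 2 := by
      rw [show (36 : ℕ) = 3 ^ 2 * 4 from rfl, Nat.factorization_mul (by norm_num) (by norm_num),
        Finsupp.add_apply, Nat.Prime.factorization_pow (by norm_num),
        Nat.factorization_eq_zero_of_not_dvd (by norm_num), Finsupp.single_eq_same]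
    rw [Q.card_eq_multiplicity, hN36, he]
    norm_num
  have hsub : ¬ Subsingleton (Sylow 3 N) := fun hss => by
    have hn : ((Q : Subgroup N).map N.subtype).Normal := by
      have := Sylow.characteristic_of_normal Q (Q.normal_of_subsingleton)
      exact inferInstance
    have hc : Nat.card ((Q : Subgroup N).map N.subtype) = 9 := by
      rw [← Nat.card_congr ((Q : Subgroup N).equivMapOfInjective _ N.subtype_injective).toEquiv, hQ]
    have := (dvd_of_normal x hblock ((Q : Subgroup N).map N.subtype) fun e => by
      rw [e, Subgroup.card_bot] at hc; omega).2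
    rw [hX, hc] at this
    norm_num at this
  have hidx : (Q : Subgroup N).index = 4 := by
    have := (Q : Subgroup N).index_mul_card
    rw [hQ, hN36] at this
    omega
  have hle4 : Nat.card (Sylow 3 N) ≤ 4 := Nat.le_of_dvd (by norm_num) (hidx ▸ Q.card_dvd_index)
  let φ : Y →* Equiv.Perm (Sylow 3 N) :=
    (MulAction.toPermHom (MulAut N) (Sylow 3 N)).comp MulAut.conjNormal
  have hperm : Nat.card (Equiv.Perm (Sylow 3 N)) ≤ 24 := by
    rw [Nat.card_perm]
    exact (Nat.factorial_le hle4).trans (by decide)
  have hker : φ.ker ≠ ⊥ := fun e => by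
    have := Nat.card_le_card_of_injective φ ((MonoidHom.ker_eq_bot_iff φ).mp e)
    rw [(card_H : Nat.card Y = 6048)] at this
    omega
  obtain ⟨horb, -⟩ := dvd_of_normal x hblock φ.ker hker
  have hstab : stabilizer Y x ≤ φ.ker := by
    rcases ((MonoidHom.normal_ker φ).subgroupOf (stabilizer Y x)).eq_bot_or_eq_top with h | h
    · exfalso
      have hinj : Function.Injective (φ.comp (stabilizer Y x).subtype) := by
        rw [← MonoidHom.ker_eq_bot_iff, Subgroup.eq_bot_iff_forall]
        intro g hg
        have : g ∈ φ.ker.subgroupOf (stabilizer Y x) := hg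
        rwa [h, mem_bot] at this
      have h1 := Nat.card_le_card_of_injective _ hinj
      have h2 : Nat.card (stabilizer Y x) = 168 := by
        have h3 := (stabilizer Y x).index_mul_card
        rw [index_stabilizer_of_transitive Y x, hX, (card_H : Nat.card Y = 6048)] at h3
        omega
      omega
    · exact subgroupOf_eq_top.mp h
  have htop := eq_top_of_stabilizer_le x φ.ker hstab horb
  refine hsub ⟨fun A B => ?_⟩
  obtain ⟨g, hg⟩ := exists_smul_eq N A B
  have hgk : φ (g : Y) = 1 := by
    rw [← MonoidHom.mem_ker, htop]; exact Subgroup.mem_top _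
  have := congrArg (fun σ : Equiv.Perm (Sylow 3 N) => σ A) hgk
  simp only [φ, MonoidHom.comp_apply, MulAction.toPermHom_apply, MulAction.toPerm_apply,
    Equiv.Perm.one_apply, MulAut.conjNormal_val] at this
  rw [← hg, Sylow.smul_def, this]

set_option maxHeartbeats 1000000 in
/-- The group generated by the strong generators is simple of order 604800. -/
theorem isJ2 : Cfsg.IsJ2 (grp 100 (level1 :: chain₁)) := by
  refine ⟨?_, card_G⟩
  have hb := bases₁
  have hu := union₁
  have hc1 := conn_level2
  have hc2 := conn_partH
  obtain ⟨hb1, -⟩ := level_spec check_chain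
  have := faithful_orbit check_chain hb1 hb
  set Y := grp 100 (level1 :: chain₁) with hY
  set X := orbit Y (⟨level1.b, hb1⟩ : Fin 100) with hXdef
  have hX : Nat.card X = 100 := (card_orbit check_chain hb1).trans lengths.1
  set x : X := ⟨⟨level1.b, hb1⟩, mem_orbit_self _⟩ with hx
  have hblock : ∀ B : Set X, x ∈ B → (∀ g ∈ stabilizer Y x, ∀ y ∈ B, g • y ∈ B) →
      B.ncard ∣ Nat.card X → B = {x} ∨ B = Set.univ := fun B h1 h2 h3 =>
    orbit_block check_chain hb1 (parts := [level2, partH])
      (fun P hP => by
        simp only [List.mem_cons, List.not_mem_nil, or_false] at hP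
        rcases hP with rfl | rfl <;> assumption) hu B h1 h2 h3
  refine isSimple_of_chain x hblock (stabilizer_orbit_simple check_chain hb1 simple_H) fun N hN h100 => ?_
  rw [hX] at h100
  have : Fact (Nat.Prime 5) := ⟨by norm_num⟩
  obtain ⟨Q⟩ := (inferInstance : Nonempty (Sylow 5 N))
  have hQ : Nat.card (Q : Subgroup N) = 25 := by
    have he : Nat.factorization 100 5 = 2 := by
      rw [show (100 : ℕ) = 5 ^ 2 * 4 from rfl, Nat.factorization_mul (by norm_num) (by norm_num),
        Finsupp.add_apply, Nat.Prime.factorization_pow (by norm_num),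
        Nat.factorization_eq_zero_of_not_dvd (by norm_num), Finsupp.single_eq_same]
    rw [Q.card_eq_multiplicity, h100, he]
    norm_num
  have hidx : (Q : Subgroup N).index = 4 := by
    have := (Q : Subgroup N).index_mul_card
    rw [hQ, h100] at this
    omega
  have h1 : Nat.card (Sylow 5 N) = 1 := by
    have h2 := card_sylow_modEq_one 5 N
    have hle : Nat.card (Sylow 5 N) ≤ 4 := Nat.le_of_dvd (by norm_num) (hidx ▸ Q.card_dvd_index)
    rw [Nat.ModEq] at h2
    omega
  have : Subsingleton (Sylow 5 N) := (Nat.card_eq_one_iff_unique.mp h1).1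
  have hn : ((Q : Subgroup N).map N.subtype).Normal := by
    have := Sylow.characteristic_of_normal Q (Q.normal_of_subsingleton)
    exact inferInstance
  have hc : Nat.card ((Q : Subgroup N).map N.subtype) = 25 := by
    rw [← Nat.card_congr ((Q : Subgroup N).equivMapOfInjective _ N.subtype_injective).toEquiv, hQ]
  have := (dvd_of_normal x hblock ((Q : Subgroup N).map N.subtype) fun e => by
    rw [e, Subgroup.card_bot] at hc; omega).2
  rw [hX, hc] at this
  norm_num at this

end CfsgLib.SmallGroups.HallJanko
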