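import Mathlib
import Cfsg.Prelude.Def_Sporadic_a

/-!
# The length-24 code `Cfsg.golayCode`

Bit-mask model of the code, so that everything about it is decided by the kernel in 4096 steps:
dimension, self-orthogonality, weights, numbers of octads and dodecads, and the Steiner system.
-/

set_option autoImplicit false

namespace CfsgLib.SmallGroups.Golay

open Cfsg

/-- Position of a point in a bit mask. -/
def idx : GolayPt → ℕ
  | none => 23
  | some x => x.val

/-- Point at a position. -/
def pt (i : ℕ) : GolayPt := if i < 23 then some (i : ZMod 23) else none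

theorem pt_idx : ∀ p, pt (idx p) = p := by decide +kernel

theorem idx_lt : ∀ p, idx p < 24 := by decide +kernel

theorem idx_pt {i : ℕ} (h : i < 24) : idx (pt i) = i := by
  interval_cases i <;> decide +kernel

theorem idx_injective : Function.Injective idx :=
  fun p q h => by rw [← pt_idx p, ← pt_idx q, h]

/-- The word with the given bit mask. -/
def word (n : ℕ) : GolayPt → ZMod 2 := fun p => if n.testBit (idx p) then 1 else 0

/-- The bit mask of a word. -/
def mask (w : GolayPt → ZMod 2) : ℕ := Nat.ofBits fun i : Fin 24 => decide (w (pt i) ≠ 0)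

/-- The set of points of a bit mask. -/
def toSet (n : ℕ) : Finset GolayPt := Finset.univ.filter fun p => n.testBit (idx p) = true

/-- Table of the numbers of ones of the 256 bytes, four bits each. -/
def byteTable : ℕ :=
  0x8776766576656554766565546554544376656554655454436554544354434332766565546554544365545443544343326554544354434332544343324332322176656554655454436554544354434332655454435443433254434332433232216554544354434332544343324332322154434332433232214332322132212110

/-- Number of ones of a byte. -/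
def pcByte (b : ℕ) : ℕ := (byteTable >>> (4 * b)) &&& 15

/-- Number of ones among the low 24 bits. -/
def pc (n : ℕ) : ℕ :=
  pcByte (n &&& 255) + pcByte ((n >>> 8) &&& 255) + pcByte ((n >>> 16) &&& 255)

theorem pcByte_spec : ∀ b < 256, pcByte b = (List.range 8).countP (fun i => b.testBit i) := by
  decide +kernel

theorem countP_range_byte (n s : ℕ) :
    ((List.range 8).map (s + ·)).countP (fun i => n.testBit i) = pcByte ((n >>> s) &&& 255) := by
  rw [pcByte_spec _ (Nat.lt_succ_of_le Nat.and_le_right), List.countP_map]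
  refine List.countP_congr fun i hi => ?_
  have hi' : i < 8 := List.mem_range.mp hi
  have h : (255 : ℕ).testBit i = true := by interval_cases i <;> rfl
  simp [Function.comp, h, Nat.testBit_shiftRight]

theorem pc_eq_countP (n : ℕ) : pc n = (List.range 24).countP fun i => n.testBit i := by
  have e : List.range 24 = (List.range 8).map (0 + ·) ++
      ((List.range 8).map (8 + ·) ++ (List.range 8).map (16 + ·)) := by decide
  rw [e, List.countP_append, List.countP_append, countP_range_byte, countP_range_byte,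
    countP_range_byte, Nat.shiftRight_zero, pc, Nat.add_assoc]

@[simp] theorem mem_toSet {n : ℕ} {p : GolayPt} : p ∈ toSet n ↔ n.testBit (idx p) = true := by
  simp [toSet]

theorem card_toSet (n : ℕ) : (toSet n).card = pc n := by
  have h : (toSet n).image idx = (Finset.range 24).filter fun i => n.testBit i = true := by
    ext i
    simp only [Finset.mem_image, mem_toSet, Finset.mem_filter, Finset.mem_range]
    exact ⟨fun ⟨p, hp, e⟩ => e ▸ ⟨idx_lt p, hp⟩,
      fun ⟨hi, hb⟩ => ⟨pt i, by rwa [idx_pt hi], idx_pt hi⟩⟩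
  rw [← Finset.card_image_of_injective _ idx_injective, h, pc_eq_countP]
  simp [Finset.card_def, Finset.filter_val, Finset.range_val, Multiset.range,
    List.countP_eq_length_filter]

theorem support₂_word (n : ℕ) : support₂ (word n) = toSet n := by
  ext p
  by_cases h : n.testBit (idx p) = true <;> simp [support₂, word, h]

theorem word_xor (a b : ℕ) : word (a ^^^ b) = word a + word b := by
  funext p
  simp only [word, Pi.add_apply, Nat.testBit_xor]
  cases a.testBit (idx p) <;> cases b.testBit (idx p) <;> decide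

theorem word_zero : word 0 = 0 := by
  funext p; simp [word]

theorem word_mask (w : GolayPt → ZMod 2) : word (mask w) = w := by
  funext p
  have h : (mask w).testBit (idx p) = decide (w p ≠ 0) := by
    rw [mask, Nat.testBit_ofBits_lt _ _ (idx_lt p)]
    simp only [pt_idx]
  simp only [word, h]
  generalize w p = x
  revert x; decide

theorem toSet_inter (a b : ℕ) : toSet a ∩ toSet b = toSet (a &&& b) := by
  ext p; simp

theorem toSet_union (a b : ℕ) : toSet a ∪ toSet b = toSet (a ||| b) := by
  ext p; simp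

theorem toSet_mask (w : GolayPt → ZMod 2) : toSet (mask w) = support₂ w := by
  rw [← support₂_word, word_mask]

theorem toSet_inj {a b : ℕ} (ha : a < 2 ^ 24) (hb : b < 2 ^ 24) (h : toSet a = toSet b) :
    a = b := by
  refine Nat.eq_of_testBit_eq fun i => ?_
  by_cases hi : i < 24
  · have := congrArg (fun S => pt i ∈ S) h
    simp only [mem_toSet, idx_pt hi, eq_iff_iff] at this
    exact Bool.eq_iff_iff.mpr this
  · rw [Nat.testBit_lt_two_pow, Nat.testBit_lt_two_pow]
    · exact lt_of_lt_of_le hb (Nat.pow_le_pow_right (by norm_num) (by omega))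
    · exact lt_of_lt_of_le ha (Nat.pow_le_pow_right (by norm_num) (by omega))

/-- A systematic basis of the code (low twelve bits form the identity matrix). -/
def bas : ℕ → ℕ
  | 0 => 0xc75001 | 1 => 0x49f002 | 2 => 0xd4b004 | 3 => 0x6e3008
  | 4 => 0x9b3010 | 5 => 0xb66020 | 6 => 0xecc040 | 7 => 0x1ed080
  | 8 => 0x3da100 | 9 => 0x7b4200 | 10 => 0xb1d400 | 11 => 0xe3a800
  | _ => 0

/-- The defining generators of the code, numbered. -/
def genW (k : ℕ) : GolayPt → ZMod 2 := if k < 23 then qrWord (k : ZMod 23) else 1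

/-- The expression of the basis in the defining generators. -/
def basExpr : ℕ → List ℕ
  | 0 => [0, 3, 5, 7, 9, 10, 23] | 1 => [3, 4, 8] | 2 => [0, 3, 4, 7, 10, 23]
  | 3 => [3, 4, 5, 6, 8, 10] | 4 => [1, 3, 4, 5, 7, 9, 10, 23]
  | 5 => [0, 1, 2, 4, 7, 8, 9, 10, 23] | 6 => [0, 2, 3, 6, 7, 8, 10, 23]
  | 7 => [4, 6, 7, 8, 9, 10] | 8 => [0, 1, 6, 8, 10] | 9 => [0, 2, 5, 6]
  | 10 => [0, 1, 5, 6, 9, 10, 23] | 11 => [0, 2, 5, 9, 10, 23]
  | _ => []

theorem bas_eq_expr : ∀ i < 12,
    bas i = (basExpr i).foldr (fun k acc => mask (genW k) ^^^ acc) 0 := by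
  decide +kernel

theorem genW_mem (k : ℕ) : genW k ∈ golayCode := by
  refine Submodule.subset_span ?_
  unfold genW; split
  · exact Or.inl ⟨_, rfl⟩
  · exact Or.inr rfl

theorem word_bas_mem {i : ℕ} (hi : i < 12) : word (bas i) ∈ golayCode := by
  rw [bas_eq_expr i hi]
  induction basExpr i with
  | nil => simp [word_zero]
  | cons k l ih =>
    rw [List.foldr_cons, word_xor, word_mask]
    exact add_mem (genW_mem k) ih

/-- The code word with the given twelve information bits. -/
def enc (k : ℕ) : ℕ :=
  (List.range 12).foldr (fun i acc => (if k.testBit i then bas i else 0) ^^^ acc) 0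

theorem foldr_xor_linear (f : ℕ → ℕ) (l : List ℕ) (a b : ℕ) :
    l.foldr (fun i acc => (if (a ^^^ b).testBit i then f i else 0) ^^^ acc) 0 =
      l.foldr (fun i acc => (if a.testBit i then f i else 0) ^^^ acc) 0 ^^^
        l.foldr (fun i acc => (if b.testBit i then f i else 0) ^^^ acc) 0 := by
  induction l with
  | nil => simp
  | cons i l ih =>
    have h : (if (a ^^^ b).testBit i then f i else 0) =
        (if a.testBit i then f i else 0) ^^^ (if b.testBit i then f i else 0) := by
      rw [Nat.testBit_xor]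
      cases a.testBit i <;> cases b.testBit i <;> simp
    simp only [List.foldr_cons, ih, h]
    ac_rfl

theorem enc_xor (a b : ℕ) : enc (a ^^^ b) = enc a ^^^ enc b := foldr_xor_linear bas _ a b

theorem enc_zero : enc 0 = 0 := by decide +kernel

theorem word_enc_mem (k : ℕ) : word (enc k) ∈ golayCode := by
  suffices H : ∀ l : List ℕ, (∀ i ∈ l, i < 12) →
      word (l.foldr (fun i acc => (if k.testBit i then bas i else 0) ^^^ acc) 0) ∈ golayCode from
    H _ fun i hi => List.mem_range.mp hi
  intro l
  induction l with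
  | nil => simp [word_zero]
  | cons i l ih =>
    intro h
    rw [List.foldr_cons, word_xor]
    refine add_mem ?_ (ih fun j hj => h j (List.mem_cons_of_mem _ hj))
    split
    · exact word_bas_mem (h i (List.mem_cons_self ..))
    · simp [word_zero]

/-- Membership test on masks. -/
def isCW (n : ℕ) : Bool := enc (n % 4096) == n

theorem xor_mem_lt {a b : ℕ} (ha : a < 4096) (hb : b < 4096) : a ^^^ b < 4096 :=
  Nat.xor_lt_two_pow (n := 12) ha hb

/-- The code as the image of the encoder. -/
def encSub : Submodule (ZMod 2) (GolayPt → ZMod 2) where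
  carrier := {w | ∃ k < 4096, word (enc k) = w}
  zero_mem' := ⟨0, by norm_num, by rw [enc_zero, word_zero]⟩
  add_mem' := by
    rintro _ _ ⟨a, ha, rfl⟩ ⟨b, hb, rfl⟩
    exact ⟨a ^^^ b, xor_mem_lt ha hb, by rw [enc_xor, word_xor]⟩
  smul_mem' := by
    rintro c _ ⟨a, ha, rfl⟩
    obtain rfl | rfl : c = 0 ∨ c = 1 := by revert c; decide
    · exact ⟨0, by norm_num, by rw [enc_zero, word_zero, zero_smul]⟩
    · exact ⟨a, ha, by rw [one_smul]⟩

theorem isCW_genW : ∀ k < 24, isCW (mask (genW k)) = true := by decide +kernel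

theorem mem_code_iff {w : GolayPt → ZMod 2} : w ∈ golayCode ↔ ∃ k < 4096, word (enc k) = w := by
  refine ⟨fun hw => ?_, fun ⟨k, _, e⟩ => e ▸ word_enc_mem k⟩
  have h : golayCode ≤ encSub := by
    refine Submodule.span_le.mpr ?_
    have hg : ∀ k < 24, genW k ∈ encSub := fun k hk =>
      ⟨mask (genW k) % 4096, Nat.mod_lt _ (by norm_num), by
        rw [eq_of_beq (isCW_genW k hk), word_mask]⟩
    rintro _ (⟨t, rfl⟩ | rfl)
    · have h23 : t.val < 23 := ZMod.val_lt t
      have := hg t.val (by omega)
      rwa [genW, if_pos h23, ZMod.natCast_zmod_val] at this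
    · exact hg 23 (by norm_num)
  exact h hw

theorem two_pow_xor {n k : ℕ} (hk : k < 2 ^ n) : 2 ^ n ^^^ k = 2 ^ n + k := by
  rw [← Nat.mul_one (2 ^ n), Nat.two_pow_add_eq_or_of_lt hk 1, Nat.mul_one]
  refine Nat.eq_of_testBit_eq fun i => ?_
  rcases eq_or_ne i n with rfl | h
  · simp [Nat.testBit_lt_two_pow hk]
  · simp [Nat.testBit_two_pow, Ne.symm h]

theorem enc_unit : ∀ i < 12, enc (2 ^ i) = bas i ∧ bas i % 4096 = 2 ^ i := by decide +kernel

theorem enc_low : ∀ n ≤ 12, ∀ k < 2 ^ n, enc k % 4096 = k
  | 0, _, k, hk => by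
    obtain rfl : k = 0 := by simpa using hk
    simp [enc_zero]
  | n + 1, hn, k, hk => by
    rcases lt_or_ge k (2 ^ n) with h | h
    · exact enc_low n (by omega) k h
    · have h2 : k - 2 ^ n < 2 ^ n := by rw [pow_succ] at hk; omega
      have e : k = 2 ^ n ^^^ (k - 2 ^ n) := by rw [two_pow_xor h2]; omega
      have := enc_low n (by omega) _ h2
      rw [e, enc_xor, show (4096 : ℕ) = 2 ^ 12 from rfl, Nat.xor_mod_two_pow,
        show (2 : ℕ) ^ 12 = 4096 from rfl, this, (enc_unit n (by omega)).1,
        (enc_unit n (by omega)).2, ← e]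

theorem enc_lt : ∀ k < 4096, enc k < 2 ^ 24 ∧ enc k % 4096 = k := by
  intro k hk
  have hb : ∀ i < 12, bas i < 2 ^ 24 ∧ bas i % 4096 = 2 ^ i := by decide +kernel
  have hlt : ∀ l : List ℕ, (∀ i ∈ l, i < 12) →
      l.foldr (fun i acc => (if k.testBit i then bas i else 0) ^^^ acc) 0 < 2 ^ 24 := by
    intro l
    induction l with
    | nil => simp
    | cons i l ih =>
      intro h
      rw [List.foldr_cons]
      refine Nat.xor_lt_two_pow ?_ (ih fun j hj => h j (List.mem_cons_of_mem _ hj))
      split
      · exact (hb i (h i (List.mem_cons_self ..))).1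
      · norm_num
  refine ⟨hlt _ fun i hi => List.mem_range.mp hi, ?_⟩
  exact enc_low 12 le_rfl k hk

theorem word_inj {a b : ℕ} (ha : a < 2 ^ 24) (hb : b < 2 ^ 24) (h : word a = word b) : a = b :=
  toSet_inj ha hb (by rw [← support₂_word, ← support₂_word, h])

theorem mask_word {a : ℕ} (ha : a < 2 ^ 24) : mask (word a) = a :=
  word_inj (Nat.ofBits_lt_two_pow _) ha (word_mask _)

theorem mem_code_iff_isCW {w : GolayPt → ZMod 2} : w ∈ golayCode ↔ isCW (mask w) = true := by
  rw [mem_code_iff]
  constructor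
  · rintro ⟨k, hk, rfl⟩
    simp [isCW, mask_word (enc_lt k hk).1, (enc_lt k hk).2]
  · intro h
    exact ⟨mask w % 4096, Nat.mod_lt _ (by norm_num), by rw [eq_of_beq h, word_mask]⟩

/-- The masks of the code words using only the first `i` basis vectors. -/
def cwAux : ℕ → List ℕ
  | 0 => [0]
  | i + 1 => let l := cwAux i; l ++ l.map (bas i ^^^ ·)

/-- All code word masks. -/
def cw : List ℕ := cwAux 12

theorem cwAux_eq : ∀ n ≤ 12, cwAux n = (List.range (2 ^ n)).map enc
  | 0, _ => by simp [cwAux, enc_zero]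
  | n + 1, hn => by
    simp only [cwAux, cwAux_eq n (by omega)]
    rw [pow_succ, Nat.mul_two, List.range_add, List.map_append, List.map_map, List.map_map]
    congr 1
    refine List.map_congr_left fun k hk => ?_
    simp only [Function.comp_apply, ← two_pow_xor (List.mem_range.mp hk), enc_xor,
      (enc_unit n (by omega)).1]

theorem cw_eq : cw = (List.range 4096).map enc := cwAux_eq 12 le_rfl

theorem mem_cw {n : ℕ} : n ∈ cw ↔ ∃ k < 4096, enc k = n := by
  simp [cw_eq, List.mem_map, List.mem_range]

theorem cw_nodup : cw.Nodup := by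
  rw [cw_eq]
  refine List.Nodup.map_on ?_ List.nodup_range
  intro a ha b hb h
  rw [List.mem_range] at ha hb
  rw [← (enc_lt a ha).2, h, (enc_lt b hb).2]

theorem mem_supports {S : Finset GolayPt} :
    S ∈ supports (golayCode : Set (GolayPt → ZMod 2)) ↔ ∃ n ∈ cw, toSet n = S := by
  constructor
  · rintro ⟨w, hw, rfl⟩
    obtain ⟨k, hk, rfl⟩ := mem_code_iff.mp hw
    exact ⟨enc k, mem_cw.mpr ⟨k, hk, rfl⟩, (support₂_word _).symm⟩
  · rintro ⟨n, hn, rfl⟩
    obtain ⟨k, hk, rfl⟩ := mem_cw.mp hn
    exact ⟨word (enc k), word_enc_mem k, support₂_word _⟩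

/-- Masks of the words of a given weight. -/
def cwOfWeight (m : ℕ) : List ℕ := cw.filter fun n => pc n == m

theorem mem_wordsOfWeight {m : ℕ} {S : Finset GolayPt} :
    S ∈ wordsOfWeight (golayCode : Set (GolayPt → ZMod 2)) m ↔
      ∃ n ∈ cwOfWeight m, toSet n = S := by
  simp only [wordsOfWeight, Set.mem_ofPred_eq, mem_supports, cwOfWeight, List.mem_filter, beq_iff_eq]
  constructor
  · rintro ⟨⟨n, hn, rfl⟩, hc⟩
    exact ⟨n, ⟨hn, by rw [← card_toSet, hc]⟩, rfl⟩
  · rintro ⟨n, ⟨hn, hm⟩, rfl⟩
    exact ⟨⟨n, hn, rfl⟩, by rw [card_toSet, hm]⟩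

theorem cwOfWeight_lt {m n : ℕ} (h : n ∈ cwOfWeight m) : n < 2 ^ 24 := by
  obtain ⟨k, hk, rfl⟩ := mem_cw.mp (List.mem_filter.mp h).1
  exact (enc_lt k hk).1

theorem ncard_toSet_filter (m : ℕ) (P : Finset GolayPt → Prop) (q : ℕ → Bool)
    (hq : ∀ n ∈ cwOfWeight m, (q n = true ↔ P (toSet n))) :
    {S : Finset GolayPt | S ∈ wordsOfWeight (golayCode : Set (GolayPt → ZMod 2)) m ∧ P S}.ncard =
      ((cwOfWeight m).filter q).length := by
  have e : {S : Finset GolayPt | S ∈ wordsOfWeight (golayCode : Set (GolayPt → ZMod 2)) m ∧ P S} =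
      ((((cwOfWeight m).filter q).toFinset.image toSet : Finset (Finset GolayPt)) : Set _) := by
    ext S
    simp only [Set.mem_ofPred_eq, mem_wordsOfWeight, Finset.coe_image, Set.mem_image,
      Finset.mem_coe, List.mem_toFinset, List.mem_filter]
    constructor
    · rintro ⟨⟨n, hn, rfl⟩, hP⟩
      exact ⟨n, ⟨hn, (hq n hn).mpr hP⟩, rfl⟩
    · rintro ⟨n, ⟨hn, hqn⟩, rfl⟩
      exact ⟨⟨n, hn, rfl⟩, (hq n hn).mp hqn⟩
  rw [e, Set.ncard_coe_finset, Finset.card_image_of_injOn,
    List.toFinset_card_of_nodup (l := (cwOfWeight m).filter q) ((cw_nodup.filter _).filter _)]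
  intro a ha b hb hab
  simp only [Finset.mem_coe, List.mem_toFinset, List.mem_filter] at ha hb
  exact toSet_inj (cwOfWeight_lt ha.1) (cwOfWeight_lt hb.1) hab

theorem finrank_code : Module.finrank (ZMod 2) golayCode = 12 := by
  have e : (golayCode : Set (GolayPt → ZMod 2)) =
      ((cw.toFinset.image word : Finset (GolayPt → ZMod 2)) : Set _) := by
    ext w
    simp [mem_code_iff, mem_cw]
  have hc : Nat.card golayCode = 4096 := by
    rw [← SetLike.coe_sort_coe, e, Nat.card_coe_set_eq, Set.ncard_coe_finset,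
      Finset.card_image_of_injOn, List.toFinset_card_of_nodup cw_nodup]
    · simp [cw_eq]
    · intro a ha b hb hab
      simp only [Finset.mem_coe, List.mem_toFinset, mem_cw] at ha hb
      obtain ⟨i, hi, rfl⟩ := ha
      obtain ⟨j, hj, rfl⟩ := hb
      exact word_inj (enc_lt i hi).1 (enc_lt j hj).1 hab
  have h := Module.natCard_eq_pow_finrank (K := ZMod 2) (V := golayCode)
  rw [hc, Nat.card_zmod] at h
  exact (Nat.pow_right_injective le_rfl (h.symm.trans (by norm_num : (4096 : ℕ) = 2 ^ 12)))

theorem weights : ∀ n ∈ cw, pc n = 0 ∨ pc n = 8 ∨ pc n = 12 ∨ pc n = 16 ∨ pc n = 24 := by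
  have h : cw.all (fun n => (pc n == 0 || pc n == 8 || pc n == 12 || pc n == 16 || pc n == 24)) = true := by
    decide +kernel
  intro n hn
  have := List.all_eq_true.mp h n hn
  simpa [or_assoc] using this

theorem cwOfWeight_length : (cwOfWeight 8).length = 759 ∧ (cwOfWeight 12).length = 2576 := by
  decide +kernel

theorem orth_bas : ∀ i < 12, ∀ j < 12, pc (bas i &&& bas j) % 2 = 0 := by decide +kernel

theorem weight_eq {w : GolayPt → ZMod 2} : hammingNorm w = (support₂ w).card := rfl

end CfsgLib.SmallGroups.Golay
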