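import Mathlib
import Cfsg.Prelude.Def_Sporadic_a

/-!
# Counting in Steiner systems

Blocks through a subset, the block count, and the distribution of intersections with a fixed block.
-/

set_option autoImplicit false

namespace CfsgLib.SmallGroups.Steiner

open Cfsg Finset

variable {α : Type*} [Fintype α] [DecidableEq α] {t k : ℕ} {B : Set (Finset α)}

/-- The blocks as a finset. -/
noncomputable def blocks (B : Set (Finset α)) : Finset (Finset α) := B.toFinite.toFinset

@[simp] theorem mem_blocks {b : Finset α} : b ∈ blocks B ↔ b ∈ B := Set.Finite.mem_toFinset _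

theorem ncard_sep (P : Finset α → Prop) [DecidablePred P] :
    {c : Finset α | c ∈ B ∧ P c}.ncard = ((blocks B).filter P).card := by
  rw [← Set.ncard_coe_finset]
  congr 1
  ext c; simp

theorem count_mul (hB : IsSteinerSystem t k B) (s : Finset α) (hs : s.card ≤ t) :
    ((blocks B).filter (s ⊆ ·)).card * (k - s.card).choose (t - s.card) =
      (Fintype.card α - s.card).choose (t - s.card) := by
  classical
  have e : ∀ c ∈ (blocks B).filter (s ⊆ ·),
      ((c \ s).powersetCard (t - s.card)).card = (k - s.card).choose (t - s.card) := by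
    intro c hc
    rw [mem_filter, mem_blocks] at hc
    rw [card_powersetCard, card_sdiff_of_subset hc.2, hB.1 c hc.1]
  rw [← smul_eq_mul, ← Finset.sum_const, ← Finset.sum_congr rfl e,
    show Fintype.card α - s.card = (univ \ s).card by rw [card_univ_diff],
    ← card_powersetCard, ← card_biUnion]
  · congr 1
    ext T
    simp only [mem_biUnion, mem_filter, mem_blocks, mem_powersetCard, subset_sdiff]
    constructor
    · rintro ⟨c, -, hT, hcard⟩
      exact ⟨⟨subset_univ _, hT.2⟩, hcard⟩
    · rintro ⟨⟨-, hd⟩, hcard⟩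
      obtain ⟨c, ⟨hc, hsub⟩, -⟩ := hB.2 (s ∪ T) (by
        rw [card_union_of_disjoint hd.symm, hcard]; omega)
      rw [union_subset_iff] at hsub
      exact ⟨c, ⟨hc, hsub.1⟩, ⟨hsub.2, hd⟩, hcard⟩
  · intro c hc c' hc' hne
    rw [Finset.mem_coe, mem_filter, mem_blocks] at hc hc'
    refine Finset.disjoint_left.mpr fun T hT hT' => hne ?_
    simp only [mem_powersetCard, subset_sdiff] at hT hT'
    refine (hB.2 (s ∪ T) (by rw [card_union_of_disjoint hT.1.2.symm, hT.2]; omega)).unique
      ⟨hc.1, union_subset hc.2 hT.1.1⟩ ⟨hc'.1, union_subset hc'.2 hT'.1.1⟩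

theorem card_blocks_mul (hB : IsSteinerSystem t k B) :
    (blocks B).card * k.choose t = (Fintype.card α).choose t := by
  simpa using count_mul hB ∅ (by simp)

theorem eq_of_le_inter (hB : IsSteinerSystem t k B) {b c : Finset α} (hb : b ∈ B) (hc : c ∈ B)
    (h : t ≤ (b ∩ c).card) : b = c := by
  obtain ⟨s, hs, hst⟩ := exists_subset_card_eq h
  exact (hB.2 s hst).unique ⟨hb, hs.trans inter_subset_left⟩ ⟨hc, hs.trans inter_subset_right⟩

/-- The blocks through `s`, given the number `lam`. -/
theorem count_eq (hB : IsSteinerSystem t k B) (htk : t ≤ k) {v : ℕ} (hv : Fintype.card α = v)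
    {s : Finset α} {i lam : ℕ} (hs : s.card = i) (hi : i ≤ t)
    (hl : lam * (k - i).choose (t - i) = (v - i).choose (t - i)) :
    ((blocks B).filter (s ⊆ ·)).card = lam := by
  have h := count_mul hB s (by omega)
  rw [hv, hs, ← hl] at h
  exact Nat.eq_of_mul_eq_mul_right (Nat.choose_pos (by omega)) h

theorem powerset_fiber (b s : Finset α) (hs : s ⊆ b) :
    ((blocks B).filter (s ⊆ ·)).card =
      ∑ V ∈ (b \ s).powerset, ((blocks B).filter fun c => c ∩ b = s ∪ V).card := by
  rw [Finset.card_eq_sum_card_fiberwise (f := fun c => (c ∩ b) \ s) (t := (b \ s).powerset)]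
  · refine Finset.sum_congr rfl fun V hV => ?_
    rw [mem_powerset, subset_sdiff] at hV
    congr 1
    ext c
    simp only [mem_filter, and_assoc]
    refine and_congr_right fun _ => ⟨fun h => ?_, fun h => ⟨?_, ?_⟩⟩
    · rw [← h.2, union_sdiff_of_subset (subset_inter h.1 hs)]
    · exact (subset_union_left.trans h.ge).trans inter_subset_left
    · rw [h, union_sdiff_cancel_left hV.2.symm]
  · intro c hc
    simp only [Finset.mem_coe, mem_powerset, mem_filter] at hc ⊢
    exact sdiff_subset_sdiff inter_subset_right Subset.rfl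

/-- The blocks meeting a block `b` exactly in `T` number `μ |T|`, for the solution `μ` of the
triangular system given by the numbers `lam` of blocks through `i` points. -/
theorem inter_count (hB : IsSteinerSystem t k B) (htk : t ≤ k) {v : ℕ} (hv : Fintype.card α = v)
    (lam μ : ℕ → ℕ) (hl : ∀ i ≤ t, lam i * (k - i).choose (t - i) = (v - i).choose (t - i))
    (hl' : ∀ i ≤ k, t < i → lam i = 1)
    (hμ : ∀ i ≤ k, lam i = ∑ m ∈ range (k - i + 1), (k - i).choose m * μ (i + m))
    {b : Finset α} (hb : b ∈ B) {T : Finset α} (hT : T ⊆ b) :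
    ((blocks B).filter fun c => c ∩ b = T).card = μ T.card := by
  have hbk := hB.1 b hb
  induction hn : k - T.card using Nat.strong_induction_on generalizing T with
  | _ n ih =>
    have hTk : T.card ≤ k := hbk ▸ card_le_card hT
    have h0 : ((blocks B).filter (T ⊆ ·)).card = lam T.card := by
      rcases le_or_gt T.card t with h | h
      · exact count_eq hB htk hv rfl h (hl _ h)
      · rw [hl' _ hTk h, card_eq_one]
        refine ⟨b, eq_singleton_iff_unique_mem.mpr ⟨by simp [hb, hT], fun c hc => ?_⟩⟩
        simp only [mem_filter, mem_blocks] at hc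
        exact eq_of_le_inter hB hc.1 hb (h.le.trans (card_le_card (subset_inter hc.2 hT)))
    rw [powerset_fiber b T hT, hμ _ hTk,
      ← show (∑ V ∈ (b \ T).powerset, μ (T.card + V.card)) =
          ∑ m ∈ range (k - T.card + 1), (k - T.card).choose m * μ (T.card + m) by
        rw [sum_powerset_apply_card (fun m => μ (T.card + m)), card_sdiff_of_subset hT, hbk]
        simp [smul_eq_mul],
      ← Finset.sum_erase_add _ _ (empty_mem_powerset (b \ T)),
      ← Finset.sum_erase_add _ (fun V => μ (T.card + V.card)) (empty_mem_powerset (b \ T))] at h0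
    have e : ∀ V ∈ (b \ T).powerset.erase ∅,
        ((blocks B).filter fun c => c ∩ b = T ∪ V).card = μ (T.card + V.card) := by
      intro V hV
      rw [mem_erase, mem_powerset, subset_sdiff] at hV
      have hne : 0 < V.card := card_pos.mpr (nonempty_of_ne_empty hV.1)
      rw [← card_union_of_disjoint hV.2.2.symm]
      have hc : (T ∪ V).card = T.card + V.card := card_union_of_disjoint hV.2.2.symm
      have := card_le_card (union_subset hT hV.2.1)
      exact ih _ (by omega) (union_subset hT hV.2.1) rfl
    rw [Finset.sum_congr rfl e] at h0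
    simpa using h0

/-- The blocks meeting `b` in exactly `i` points. -/
theorem inter_card_count (hB : IsSteinerSystem t k B) {μ : ℕ → ℕ} {b : Finset α} (hb : b ∈ B)
    (h : ∀ T ⊆ b, ((blocks B).filter fun c => c ∩ b = T).card = μ T.card) (i : ℕ) :
    ((blocks B).filter fun c => (c ∩ b).card = i).card = k.choose i * μ i := by
  have e : ∀ T ∈ b.powersetCard i, ((blocks B).filter fun c => c ∩ b = T).card = μ i := by
    intro T hT
    rw [mem_powersetCard] at hT
    rw [h T hT.1, hT.2]
  rw [Finset.card_eq_sum_card_fiberwise (f := (· ∩ b)) (t := b.powersetCard i)]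
  · rw [← hB.1 b hb, ← card_powersetCard, ← smul_eq_mul, ← Finset.sum_const]
    refine (Finset.sum_congr rfl fun T hT => ?_).trans (Finset.sum_congr rfl e)
    rw [filter_filter]
    congr 1
    refine filter_congr fun c _ => ⟨fun h => h.2, fun h => ⟨?_, h⟩⟩
    rw [h]; exact (mem_powersetCard.mp hT).2
  · intro c hc
    simp only [Finset.mem_coe, mem_powersetCard, mem_filter] at hc ⊢
    exact ⟨inter_subset_right, hc.2⟩

/-- No block meets another in a number of points with `μ = 0`. -/
theorem inter_card_ne (hB : IsSteinerSystem t k B) {μ : ℕ → ℕ} {b c : Finset α} (hb : b ∈ B)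
    (hc : c ∈ B) (h : ∀ T ⊆ b, ((blocks B).filter fun c => c ∩ b = T).card = μ T.card) {i : ℕ}
    (hi : μ i = 0) : (c ∩ b).card ≠ i := by
  intro e
  have h0 := inter_card_count hB hb h i
  rw [hi, Nat.mul_zero, card_eq_zero] at h0
  exact (Finset.notMem_empty c) (h0 ▸ mem_filter.mpr ⟨mem_blocks.mpr hc, e⟩)

/-- Numbers of blocks of an S(5,8,24) through `i` points. -/
def lam24 : ℕ → ℕ
  | 0 => 759 | 1 => 253 | 2 => 77 | 3 => 21 | 4 => 5 | _ => 1

/-- Intersection numbers of an S(5,8,24). -/
def mu24 : ℕ → ℕ
  | 0 => 30 | 2 => 16 | 4 => 4 | 8 => 1 | _ => 0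

/-- Numbers of blocks of an S(3,6,22) through `i` points. -/
def lam22 : ℕ → ℕ
  | 0 => 77 | 1 => 21 | 2 => 5 | _ => 1

/-- Intersection numbers of an S(3,6,22). -/
def mu22 : ℕ → ℕ
  | 0 => 16 | 2 => 4 | 6 => 1 | _ => 0

/-- Numbers of blocks of an S(4,7,23) through `i` points. -/
def lam23 : ℕ → ℕ
  | 0 => 253 | 1 => 77 | 2 => 21 | 3 => 5 | _ => 1

/-- Intersection numbers of an S(4,7,23). -/
def mu23 : ℕ → ℕ
  | 1 => 16 | 3 => 4 | 7 => 1 | _ => 0

/-- Numbers of blocks of an S(5,6,12) through `i` points. -/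
def lam12 : ℕ → ℕ
  | 0 => 132 | 1 => 66 | 2 => 30 | 3 => 12 | 4 => 4 | _ => 1

/-- Intersection numbers of an S(5,6,12). -/
def mu12 : ℕ → ℕ
  | 0 => 1 | 2 => 3 | 3 => 2 | 4 => 3 | 6 => 1 | _ => 0

theorem inter24 (hv : Fintype.card α = 24) {B : Set (Finset α)} (hB : IsSteinerSystem 5 8 B)
    {b : Finset α} (hb : b ∈ B) {T : Finset α} (hT : T ⊆ b) :
    ((blocks B).filter fun c => c ∩ b = T).card = mu24 T.card :=
  inter_count hB (by norm_num) hv lam24 mu24 (by decide) (by decide) (by decide) hb hT

theorem inter22 (hv : Fintype.card α = 22) {B : Set (Finset α)} (hB : IsSteinerSystem 3 6 B)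
    {b : Finset α} (hb : b ∈ B) {T : Finset α} (hT : T ⊆ b) :
    ((blocks B).filter fun c => c ∩ b = T).card = mu22 T.card :=
  inter_count hB (by norm_num) hv lam22 mu22 (by decide) (by decide) (by decide) hb hT

theorem inter23 (hv : Fintype.card α = 23) {B : Set (Finset α)} (hB : IsSteinerSystem 4 7 B)
    {b : Finset α} (hb : b ∈ B) {T : Finset α} (hT : T ⊆ b) :
    ((blocks B).filter fun c => c ∩ b = T).card = mu23 T.card :=
  inter_count hB (by norm_num) hv lam23 mu23 (by decide) (by decide) (by decide) hb hT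

theorem inter12 (hv : Fintype.card α = 12) {B : Set (Finset α)} (hB : IsSteinerSystem 5 6 B)
    {b : Finset α} (hb : b ∈ B) {T : Finset α} (hT : T ⊆ b) :
    ((blocks B).filter fun c => c ∩ b = T).card = mu12 T.card :=
  inter_count hB (by norm_num) hv lam12 mu12 (by decide) (by decide) (by decide) hb hT

end CfsgLib.SmallGroups.Steiner
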