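import Mathlib
import Cfsg.Agent.Lib.SmallGroups.GolayCode
import Cfsg.Agent.Lib.SmallGroups.Steiner

/-!
# Self-duality, weights and the octads as a Steiner system S(5,8,24)
-/

set_option autoImplicit false

namespace CfsgLib.SmallGroups.GolayOctads

open Cfsg CfsgLib.SmallGroups.Golay

theorem code_induction {P : (GolayPt → ZMod 2) → Prop} (h0 : P 0)
    (hbas : ∀ i < 12, P (word (bas i))) (hadd : ∀ v w, P v → P w → P (v + w))
    {w : GolayPt → ZMod 2} (hw : w ∈ golayCode) : P w := by
  obtain ⟨k, -, rfl⟩ := mem_code_iff.mp hw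
  suffices H : ∀ l : List ℕ, (∀ i ∈ l, i < 12) →
      P (word (l.foldr (fun i acc => (if k.testBit i then bas i else 0) ^^^ acc) 0)) from
    H _ fun i hi => List.mem_range.mp hi
  intro l
  induction l with
  | nil => intro _; rwa [List.foldr_nil, word_zero]
  | cons i l ih =>
    intro h
    rw [List.foldr_cons, word_xor]
    refine hadd _ _ ?_ (ih fun j hj => h j (List.mem_cons_of_mem _ hj))
    split
    · exact hbas i (h i (List.mem_cons_self ..))
    · rwa [word_zero]

theorem dot_word (a b : ℕ) : ∑ p, word a p * word b p = ((pc (a &&& b) : ℕ) : ZMod 2) := by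
  rw [← card_toSet, toSet, ← Finset.sum_boole]
  refine Finset.sum_congr rfl fun p _ => ?_
  simp only [word, Nat.testBit_and]
  cases a.testBit (idx p) <;> cases b.testBit (idx p) <;> simp

theorem dot_eq_zero {v w : GolayPt → ZMod 2} (hv : v ∈ golayCode) (hw : w ∈ golayCode) :
    ∑ p, v p * w p = 0 := by
  refine code_induction (P := fun v => ∑ p, v p * w p = 0) (by simp) (fun i hi => ?_)
    (fun v v' h h' => by simp [add_mul, Finset.sum_add_distrib, h, h']) hv
  refine code_induction (P := fun w => ∑ p, word (bas i) p * w p = 0) (by simp) (fun j hj => ?_)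
    (fun v v' h h' => by simp [mul_add, Finset.sum_add_distrib, h, h']) hw
  rw [dot_word]
  exact (ZMod.natCast_eq_zero_iff_even).mpr (Nat.even_iff.mpr (orth_bas i hi j hj))

theorem cw_xor {a b : ℕ} (ha : a ∈ cw) (hb : b ∈ cw) : a ^^^ b ∈ cw := by
  obtain ⟨i, hi, rfl⟩ := mem_cw.mp ha
  obtain ⟨j, hj, rfl⟩ := mem_cw.mp hb
  exact mem_cw.mpr ⟨i ^^^ j, xor_mem_lt hi hj, enc_xor i j⟩

theorem inter_even {a b : ℕ} (ha : a ∈ cw) (hb : b ∈ cw) : pc (a &&& b) % 2 = 0 := by
  obtain ⟨i, -, rfl⟩ := mem_cw.mp ha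
  obtain ⟨j, -, rfl⟩ := mem_cw.mp hb
  have h := dot_eq_zero (word_enc_mem i) (word_enc_mem j)
  rw [dot_word] at h
  exact Nat.even_iff.mp (ZMod.natCast_eq_zero_iff_even.mp h)

theorem toSet_xor (a b : ℕ) : toSet (a ^^^ b) = symmDiff (toSet a) (toSet b) := by
  ext p
  simp only [mem_toSet, Finset.mem_symmDiff, Nat.testBit_xor]
  cases a.testBit (idx p) <;> cases b.testBit (idx p) <;> simp

theorem card_symmDiff_add {β : Type*} [DecidableEq β] (S T : Finset β) :
    (symmDiff S T).card + 2 * (S ∩ T).card = S.card + T.card := by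
  rw [symmDiff_def, Finset.sup_eq_union,
    Finset.card_union_of_disjoint (Finset.disjoint_left.mpr fun x => by simp; tauto)]
  have h1 := Finset.card_sdiff_add_card_inter S T
  have h2 := Finset.card_sdiff_add_card_inter T S
  rw [Finset.inter_comm T S] at h2
  omega

theorem pc_xor (a b : ℕ) : pc (a ^^^ b) + 2 * pc (a &&& b) = pc a + pc b := by
  rw [← card_toSet, ← card_toSet, ← card_toSet, ← card_toSet, toSet_xor, ← toSet_inter]
  exact card_symmDiff_add _ _

theorem mem_octads {S : Finset GolayPt} : S ∈ octads ↔ ∃ n ∈ cwOfWeight 8, toSet n = S :=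
  mem_wordsOfWeight

theorem mem_dodecads {S : Finset GolayPt} : S ∈ dodecads ↔ ∃ n ∈ cwOfWeight 12, toSet n = S :=
  mem_wordsOfWeight

theorem mem_cwOfWeight {m n : ℕ} : n ∈ cwOfWeight m ↔ n ∈ cw ∧ pc n = m := by
  simp [cwOfWeight]

theorem ncard_weight (m : ℕ) :
    (wordsOfWeight (golayCode : Set (GolayPt → ZMod 2)) m).ncard = (cwOfWeight m).length := by
  have h := ncard_toSet_filter m (fun _ => True) (fun _ => true) (fun _ _ => by simp)
  simpa using h

theorem octad_eq_of_inter {o o' : Finset GolayPt} (ho : o ∈ octads) (ho' : o' ∈ octads)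
    (h : 5 ≤ (o ∩ o').card) : o = o' := by
  obtain ⟨a, ha, rfl⟩ := mem_octads.mp ho
  obtain ⟨b, hb, rfl⟩ := mem_octads.mp ho'
  rw [mem_cwOfWeight] at ha hb
  rw [toSet_inter, card_toSet] at h
  have h1 := pc_xor a b
  have h2 := weights _ (cw_xor ha.1 hb.1)
  have h0 : pc (a ^^^ b) = 0 := by omega
  rw [← card_toSet, Finset.card_eq_zero, toSet_xor] at h0
  exact symmDiff_eq_bot.mp h0

theorem octads_steiner : IsSteinerSystem 5 8 octads := by
  refine ⟨fun b hb => hb.2, fun s hs => ?_⟩
  have hex : ∃ b, b ∈ octads ∧ s ⊆ b := by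
    have hfin := (Set.toFinite octads)
    have hsub : (hfin.toFinset.biUnion fun o => o.powersetCard 5) = Finset.univ.powersetCard 5 := by
      refine Finset.eq_of_subset_of_card_le (fun T hT => ?_) ?_
      · simp only [Finset.mem_biUnion, Finset.mem_powersetCard] at hT ⊢
        obtain ⟨o, -, -, h⟩ := hT
        exact ⟨Finset.subset_univ _, h⟩
      · rw [Finset.card_biUnion]
        · rw [Finset.sum_congr rfl fun o ho => by
            rw [Finset.card_powersetCard, (hfin.mem_toFinset.mp ho).2]]
          rw [Finset.sum_const, smul_eq_mul, Finset.card_powersetCard, ← Set.ncard_eq_toFinset_card,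
            octads, ncard_weight, cwOfWeight_length.1, Finset.card_univ, Fintype.card_option,
            ZMod.card]
          decide +kernel
        · intro o ho o' ho' hne
          refine Finset.disjoint_left.mpr fun T hT hT' => hne ?_
          rw [Finset.mem_powersetCard] at hT hT'
          exact octad_eq_of_inter (hfin.mem_toFinset.mp ho) (hfin.mem_toFinset.mp ho')
            (hT.2 ▸ Finset.card_le_card (Finset.subset_inter hT.1 hT'.1))
    have hmem : s ∈ hfin.toFinset.biUnion fun o => o.powersetCard 5 := by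
      rw [hsub]; simp [hs]
    obtain ⟨o, ho, hso⟩ := Finset.mem_biUnion.mp hmem
    exact ⟨o, hfin.mem_toFinset.mp ho, (Finset.mem_powersetCard.mp hso).1⟩
  obtain ⟨b, hb⟩ := hex
  exact ⟨b, hb, fun c hc => octad_eq_of_inter hc.1 hb.1
    (hs ▸ Finset.card_le_card (Finset.subset_inter hc.2 hb.2))⟩

theorem card_golayPt : Fintype.card GolayPt = 24 := by simp [ZMod.card]

end CfsgLib.SmallGroups.GolayOctads
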