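import Mathlib
import Cfsg.Agent.Lib.SmallGroups.GolayOctads

/-!
# Orders and transitivity of the Mathieu groups inside `Cfsg.M24`

A base of seven points, strong generators given as words in the three standard permutations, and a
kernel-checked closure argument for the triviality of the stabiliser of the base.
-/

set_option autoImplicit false

namespace CfsgLib.SmallGroups.M24Group

open Cfsg CfsgLib.SmallGroups.Golay CfsgLib.SmallGroups.GolayOctads
open scoped Pointwise

/-- The three standard permutations, numbered. -/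
noncomputable def sgen : ℕ → Equiv.Perm GolayPt
  | 0 => Equiv.optionCongr (Equiv.addRight (1 : ZMod 23))
  | 1 => projInv
  | _ => cubeTwist

/-- The functions underlying `sgen`. -/
def sgenFun : ℕ → GolayPt → GolayPt
  | 0 => Option.map fun x : ZMod 23 => x + 1
  | 1 => projInvFun
  | _ => cubeTwistFun

theorem sgen_apply (k : ℕ) (p : GolayPt) : sgen k p = sgenFun k p := by
  match k with
  | 0 => cases p <;> rfl
  | 1 => rfl
  | _ + 2 => rfl

theorem support₂_comp (g : Equiv.Perm GolayPt) (w : GolayPt → ZMod 2) :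
    support₂ (fun p => w (g p)) = g⁻¹ • support₂ w := by
  ext p
  rw [Finset.mem_inv_smul_finset_iff]
  simp [support₂]

theorem supports_finite : (supports (golayCode : Set (GolayPt → ZMod 2))).Finite := Set.toFinite _

/-- Closure of the code under a permutation puts it in `M24`. -/
theorem mem_M24_of_forall {g : Equiv.Perm GolayPt}
    (h : ∀ w ∈ golayCode, (fun p => w (g p)) ∈ golayCode) : g ∈ M24 := by
  rw [← inv_mem_iff]
  refine Set.eq_of_subset_of_ncard_le ?_ (le_of_eq ?_) supports_finite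
  · rintro _ ⟨_, ⟨w, hw, rfl⟩, rfl⟩
    exact ⟨_, h w hw, support₂_comp g w⟩
  · exact (Set.ncard_image_of_injective _ (MulAction.injective g⁻¹)).symm

theorem mem_M24_of_basis {g : Equiv.Perm GolayPt} {f : GolayPt → GolayPt} (hf : ∀ p, g p = f p)
    (h : ∀ i < 12, isCW (mask fun p => word (bas i) (f p)) = true) : g ∈ M24 := by
  refine mem_M24_of_forall fun w hw => ?_
  refine code_induction (P := fun w => (fun p => w (g p)) ∈ golayCode) ?_ ?_ ?_ hw
  · exact zero_mem _
  · intro i hi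
    simp only [hf]
    exact mem_code_iff_isCW.mpr (h i hi)
  · exact fun v v' hv hv' => add_mem hv hv'

theorem sgen_mem (k : ℕ) : sgen k ∈ M24 := by
  match k with
  | 0 => exact mem_M24_of_basis (sgen_apply 0) (by decide +kernel)
  | 1 => exact mem_M24_of_basis (sgen_apply 1) (by decide +kernel)
  | _ + 2 => exact mem_M24_of_basis (f := cubeTwistFun) (fun _ => rfl) (by decide +kernel)

theorem smul_mem_supports {g : Equiv.Perm GolayPt} (hg : g ∈ M24) {S : Finset GolayPt}
    (hS : S ∈ supports (golayCode : Set (GolayPt → ZMod 2))) :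
    g • S ∈ supports (golayCode : Set (GolayPt → ZMod 2)) := by
  have h : g • supports (golayCode : Set (GolayPt → ZMod 2)) = supports _ := hg
  rw [← h]
  exact Set.smul_mem_smul_set hS

theorem smul_mem_weight {g : Equiv.Perm GolayPt} (hg : g ∈ M24) {m : ℕ} {S : Finset GolayPt}
    (hS : S ∈ wordsOfWeight (golayCode : Set (GolayPt → ZMod 2)) m) :
    g • S ∈ wordsOfWeight (golayCode : Set (GolayPt → ZMod 2)) m :=
  ⟨smul_mem_supports hg hS.1, (Finset.card_smul_finset g S).trans hS.2⟩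

/-- Tables of the three permutations on positions. -/
def sgenTbl : ℕ → List ℕ
  | 0 => [1, 2, 3, 4, 5, 6, 7, 8, 9, 10, 11, 12, 13, 14, 15, 16, 17, 18, 19, 20, 21, 22, 0, 23]
  | 1 => [23, 22, 11, 15, 17, 9, 19, 13, 20, 5, 16, 2, 21, 7, 18, 3, 10, 4, 14, 6, 8, 12, 1, 0]
  | _ => [0, 18, 6, 3, 2, 21, 1, 5, 16, 12, 7, 19, 8, 9, 17, 15, 13, 11, 4, 22, 10, 20, 14, 23]

theorem sgenTbl_spec (k : ℕ) (p : GolayPt) : idx (sgen k p) = (sgenTbl k).getD (idx p) 0 := by
  match k with
  | 0 => rw [sgen_apply]; exact (by decide +kernel : ∀ p, idx (sgenFun 0 p) = (sgenTbl 0).getD (idx p) 0) p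
  | 1 => rw [sgen_apply]; exact (by decide +kernel : ∀ p, idx (sgenFun 1 p) = (sgenTbl 1).getD (idx p) 0) p
  | _ + 2 => exact (by decide +kernel : ∀ p, idx (sgenFun 2 p) = (sgenTbl 2).getD (idx p) 0) p

/-- A word in the standard permutations: pairs (number, exponent). -/
noncomputable def elt (l : List (ℕ × ℕ)) : Equiv.Perm GolayPt := (l.map fun r => sgen r.1 ^ r.2).prod

/-- The action of a word on positions. -/
def act (l : List (ℕ × ℕ)) (i : ℕ) : ℕ :=
  l.foldr (fun r j => (fun x => (sgenTbl r.1).getD x 0)^[r.2] j) i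

theorem idx_pow (k n : ℕ) (p : GolayPt) :
    idx ((sgen k ^ n) p) = (fun x => (sgenTbl k).getD x 0)^[n] (idx p) := by
  induction n with
  | zero => simp
  | succ n ih => rw [pow_succ', Equiv.Perm.mul_apply, Function.iterate_succ_apply', sgenTbl_spec, ih]

theorem idx_elt (l : List (ℕ × ℕ)) (p : GolayPt) : idx (elt l p) = act l (idx p) := by
  induction l with
  | nil => simp [elt, act]
  | cons r l ih =>
    rw [elt, List.map_cons, List.prod_cons, Equiv.Perm.mul_apply, idx_pow, ← elt, ih]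
    rfl

theorem elt_mem {K : Subgroup (Equiv.Perm GolayPt)} (hK : ∀ k, sgen k ∈ K) (l : List (ℕ × ℕ)) :
    elt l ∈ K :=
  list_prod_mem fun x hx => by
    obtain ⟨r, -, rfl⟩ := List.mem_map.mp hx
    exact pow_mem (hK _) _

/-- Strong generators for the levels of the base, as words. -/
def words : ℕ → List (List (ℕ × ℕ))
  | 0 => [[(1, 1)],
      [(0, 1)]]
  | 1 => [[(0, 1)]]
  | 2 => [[(2, 1)],
      [(0, 2), (2, 1), (0, 1), (2, 2), (0, 1)]]
  | 3 => [[(2, 1), (0, 1), (2, 1), (0, 1), (2, 1), (0, 1), (2, 2)],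
      [(1, 1), (0, 1), (2, 1), (0, 1), (2, 1), (0, 1), (2, 1), (1, 1)]]
  | 4 => [[(2, 4), (0, 1), (2, 2), (0, 1), (2, 1), (0, 2), (2, 1), (0, 1)],
      [(2, 12), (1, 1), (0, 1), (2, 1), (0, 1), (2, 1), (0, 1), (2, 4), (1, 1)]]
  | 5 => [[(2, 4), (0, 44), (2, 1), (0, 1), (2, 3), (0, 1), (2, 1), (0, 4)]]
  | 6 => [[(2, 12), (1, 1), (0, 1), (2, 1), (0, 1), (2, 1), (0, 1), (2, 4), (1, 1)],
      [(2, 8), (0, 66), (2, 3), (0, 1), (2, 1), (0, 1), (2, 2), (0, 3)],
      [(0, 22), (2, 4), (0, 22), (2, 4), (0, 22), (2, 16), (1, 1), (0, 1), (2, 1), (0, 1), (2, 1), (0, 1), (1, 1), (0, 1), (2, 1), (0, 1), (2, 1), (0, 1)],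
      [(0, 22), (2, 4), (0, 22), (2, 4), (0, 22), (2, 16), (1, 1), (0, 22), (2, 4), (0, 22), (2, 1), (0, 1), (2, 2), (1, 1), (0, 1), (1, 1), (0, 2), (1, 1), (0, 1)]]
  | _ => []

/-- The tables of the strong generators. -/
def tables : ℕ → List (List ℕ)
  | 0 => [[23, 22, 11, 15, 17, 9, 19, 13, 20, 5, 16, 2, 21, 7, 18, 3, 10, 4, 14, 6, 8, 12, 1, 0],
      [1, 2, 3, 4, 5, 6, 7, 8, 9, 10, 11, 12, 13, 14, 15, 16, 17, 18, 19, 20, 21, 22, 0, 23]]
  | 1 => [[1, 2, 3, 4, 5, 6, 7, 8, 9, 10, 11, 12, 13, 14, 15, 16, 17, 18, 19, 20, 21, 22, 0, 23]]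
  | 2 => [[0, 18, 6, 3, 2, 21, 1, 5, 16, 12, 7, 19, 8, 9, 17, 15, 13, 11, 4, 22, 10, 20, 14, 23],
      [0, 8, 4, 7, 22, 1, 16, 19, 14, 3, 2, 13, 11, 10, 15, 9, 12, 5, 17, 18, 21, 6, 20, 23]]
  | 3 => [[0, 15, 1, 2, 6, 20, 18, 13, 21, 7, 5, 22, 12, 16, 9, 4, 11, 10, 3, 17, 8, 19, 14, 23],
      [0, 18, 8, 14, 7, 20, 6, 4, 2, 10, 9, 11, 12, 13, 3, 17, 21, 15, 1, 19, 5, 16, 22, 23]]
  | 4 => [[0, 21, 1, 18, 7, 10, 11, 5, 3, 16, 17, 22, 12, 6, 14, 20, 2, 4, 15, 13, 8, 9, 19, 23],
      [0, 13, 4, 11, 2, 8, 21, 20, 5, 10, 9, 3, 12, 1, 14, 19, 16, 17, 18, 15, 7, 6, 22, 23]]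
  | 5 => [[0, 2, 21, 11, 5, 20, 7, 19, 13, 9, 3, 10, 12, 15, 14, 8, 16, 22, 17, 6, 4, 1, 18, 23]]
  | 6 => [[0, 13, 4, 11, 2, 8, 21, 20, 5, 10, 9, 3, 12, 1, 14, 19, 16, 17, 18, 15, 7, 6, 22, 23],
      [0, 2, 1, 5, 13, 3, 10, 15, 11, 21, 6, 8, 12, 4, 14, 7, 16, 17, 18, 20, 19, 9, 22, 23],
      [0, 21, 9, 15, 10, 7, 13, 5, 20, 2, 4, 19, 12, 6, 14, 3, 16, 17, 18, 11, 8, 1, 22, 23],
      [0, 3, 5, 1, 8, 2, 19, 9, 4, 7, 20, 13, 12, 11, 14, 21, 16, 17, 18, 6, 10, 15, 22, 23]]
  | _ => []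

theorem tables_eq : ∀ l < 7, tables l = (words l).map fun w => (List.range 24).map (act w) := by
  decide +kernel

/-- The element given by word `j` of level `l`. -/
noncomputable def selt (l j : ℕ) : Equiv.Perm GolayPt := elt ((words l).getD j [])

/-- The table of `selt l j`. -/
def stbl (l j : ℕ) (i : ℕ) : ℕ := ((tables l).getD j []).getD i 0

theorem idx_selt {l j : ℕ} (hl : l < 7) (hj : j < (words l).length) (p : GolayPt) :
    idx (selt l j p) = stbl l j (idx p) := by
  rw [selt, idx_elt, stbl, tables_eq l hl]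
  simp [List.getD_eq_getElem?_getD, hj, idx_lt p]

/-- The seven base points, as positions. -/
def base : List ℕ := [23, 0, 12, 14, 16, 17, 1]

/-- The base point of level `l`. -/
def bpt (l : ℕ) : GolayPt := pt (base.getD l 0)

/-- The octad through the first five base points. -/
def octB : ℕ := 13062145

/-- The group `K` with the first `l` base points fixed. -/
def lev (K : Subgroup (Equiv.Perm GolayPt)) : ℕ → Subgroup (Equiv.Perm GolayPt)
  | 0 => K
  | l + 1 => lev K l ⊓ MulAction.stabilizer (Equiv.Perm GolayPt) (bpt l)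

theorem lev_le (K : Subgroup (Equiv.Perm GolayPt)) : ∀ l, lev K l ≤ K
  | 0 => le_rfl
  | l + 1 => inf_le_left.trans (lev_le K l)

theorem mem_lev {K : Subgroup (Equiv.Perm GolayPt)} {g : Equiv.Perm GolayPt} :
    ∀ {l : ℕ}, g ∈ lev K l ↔ g ∈ K ∧ ∀ j < l, g (bpt j) = bpt j
  | 0 => by simp [lev]
  | l + 1 => by
    rw [lev, Subgroup.mem_inf, mem_lev, MulAction.mem_stabilizer_iff, Equiv.Perm.smul_def]
    simp only [Nat.lt_succ_iff_lt_or_eq]
    constructor
    · rintro ⟨⟨h1, h2⟩, h3⟩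
      exact ⟨h1, fun j hj => hj.elim (h2 j) fun e => e ▸ h3⟩
    · exact fun h => ⟨⟨h.1, fun j hj => h.2 j (Or.inl hj)⟩, h.2 l (Or.inr rfl)⟩

theorem words_fix : ∀ l < 7, ∀ j < (words l).length, ∀ i < l,
    stbl l j (base.getD i 0) = base.getD i 0 := by
  decide +kernel

theorem base_lt : ∀ i, base.getD i 0 < 24
  | 0 | 1 | 2 | 3 | 4 | 5 | 6 => by decide
  | n + 7 => by simp [base]

theorem selt_mem_lev {K : Subgroup (Equiv.Perm GolayPt)} (hK : ∀ k, sgen k ∈ K) {l j : ℕ}
    (hl : l < 7) (hj : j < (words l).length) : selt l j ∈ lev K l :=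
  mem_lev.mpr ⟨elt_mem hK _, fun i hi => idx_injective (by
    rw [idx_selt hl hj, bpt, idx_pt (base_lt i), words_fix l hl j hj i hi])⟩

/-- Bit set of the positions reached from a position in some rounds. -/
def orbBits (l : ℕ) (start : ℕ) : ℕ → ℕ
  | 0 => 2 ^ start
  | r + 1 => let S := orbBits l start r
    (List.range 24).foldl (fun T i => if S.testBit i then
      (List.range (words l).length).foldl (fun T j => T ||| 2 ^ stbl l j i) T else T) S

/-- The group generated by the generators of level `l`. -/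
noncomputable def levGen (l : ℕ) : Subgroup (Equiv.Perm GolayPt) :=
  Subgroup.closure {g | ∃ j < (words l).length, selt l j = g}

theorem levGen_le {K : Subgroup (Equiv.Perm GolayPt)} (hK : ∀ k, sgen k ∈ K) {l : ℕ} (hl : l < 7) :
    levGen l ≤ lev K l :=
  (Subgroup.closure_le _).mpr fun _ ⟨_, hj, e⟩ => e ▸ selt_mem_lev hK hl hj

theorem foldl_bits {β : Type*} (P : ℕ → Prop) (f : ℕ → β → ℕ) (L : List β)
    (hf : ∀ T, ∀ b ∈ L, (∀ i, T.testBit i = true → P i) → ∀ i, (f T b).testBit i = true → P i)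
    (T : ℕ) (hT : ∀ i, T.testBit i = true → P i) : ∀ i, (L.foldl f T).testBit i = true → P i := by
  induction L generalizing T with
  | nil => exact hT
  | cons b L ih =>
    exact ih (fun T b' hb' => hf T b' (List.mem_cons_of_mem _ hb')) _
      (hf T b (List.mem_cons_self ..) hT)

theorem orbBits_sound {l : ℕ} (hl : l < 7) (start : ℕ) (hs : start < 24) :
    ∀ r i, (orbBits l start r).testBit i = true → ∃ g ∈ levGen l, idx (g (pt start)) = i
  | 0, i, h => by
    rw [orbBits, Nat.testBit_two_pow, decide_eq_true_iff] at h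
    exact ⟨1, one_mem _, by rw [Equiv.Perm.one_apply, idx_pt hs, h]⟩
  | r + 1, i, h => by
    refine foldl_bits (fun i => ∃ g ∈ levGen l, idx (g (pt start)) = i) _ _ (fun T a _ hT => ?_) _
      (orbBits_sound hl start hs r) i h
    split
    · next ha =>
      obtain ⟨g, hg, e⟩ := orbBits_sound hl start hs r a ha
      refine foldl_bits _ _ _ (fun T j hj hT i hi => ?_) T hT
      rw [Nat.testBit_or, Bool.or_eq_true, Nat.testBit_two_pow, decide_eq_true_iff] at hi
      rcases hi with hi | hi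
      · exact hT i hi
      · rw [List.mem_range] at hj
        refine ⟨selt l j * g, mul_mem (Subgroup.subset_closure ⟨j, hj, rfl⟩) hg, ?_⟩
        rw [Equiv.Perm.mul_apply, idx_selt hl hj, e, hi]
    · exact hT

/-- The orbit of level `l`: all positions off the prefix, then the rest of the octad, then its
outside. -/
def target : ℕ → ℕ
  | 5 => octB ^^^ (2 ^ 23 ||| 2 ^ 0 ||| 2 ^ 12 ||| 2 ^ 14 ||| 2 ^ 16)
  | 6 => (2 ^ 24 - 1) ^^^ octB
  | l => (2 ^ 24 - 1) ^^^ ((base.take l).foldl (fun T i => T ||| 2 ^ i) 0)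

theorem orbBits_eq : ∀ l < 7, orbBits l (base.getD l 0) 24 = target l := by decide +kernel

theorem octB_mem : toSet octB ∈ octads :=
  mem_octads.mpr ⟨octB, mem_cwOfWeight.mpr ⟨mem_cw.mpr ⟨octB % 4096, by decide,
    by decide +kernel⟩, by decide +kernel⟩, rfl⟩

theorem bpt_mem_octB : ∀ l < 6, bpt l ∈ toSet octB := by decide +kernel

theorem smul_octB {K : Subgroup (Equiv.Perm GolayPt)} (hle : K ≤ M24) {g : Equiv.Perm GolayPt}
    (hg : g ∈ lev K 5) : g • toSet octB = toSet octB := by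
  obtain ⟨hgK, hfix⟩ := mem_lev.mp hg
  refine octad_eq_of_inter (smul_mem_weight (hle hgK) octB_mem) octB_mem ?_
  have hc : ((Finset.range 5).image bpt).card = 5 := by decide +kernel
  rw [← hc]
  refine Finset.card_le_card fun p hp => ?_
  obtain ⟨j, hj, rfl⟩ := Finset.mem_image.mp hp
  rw [Finset.mem_range] at hj
  refine Finset.mem_inter.mpr ⟨?_, bpt_mem_octB j (by omega)⟩
  rw [← hfix j hj, ← Equiv.Perm.smul_def]
  exact Finset.smul_mem_smul_finset (bpt_mem_octB j (by omega))

theorem target_prefix : ∀ l < 5, ∀ p : GolayPt,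
    (target l).testBit (idx p) = true ∨ ∃ j < l, bpt j = p := by
  decide +kernel

theorem target_five : ∀ p : GolayPt, p ∈ toSet octB →
    (target 5).testBit (idx p) = true ∨ ∃ j < 5, bpt j = p := by
  decide +kernel

theorem target_six : ∀ p : GolayPt, p ∉ toSet octB → (target 6).testBit (idx p) = true := by
  decide +kernel

theorem bpt_inj : ∀ i < 7, ∀ j < 7, bpt i = bpt j → i = j := by decide +kernel

theorem bpt_six : bpt 6 ∉ toSet octB := by decide +kernel

theorem orbit_up {K : Subgroup (Equiv.Perm GolayPt)} (hle : K ≤ M24) {l : ℕ} (hl : l < 7)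
    {g : Equiv.Perm GolayPt} (hg : g ∈ lev K l) : g (bpt l) ∈ toSet (target l) := by
  have hne : ∀ {m}, g ∈ lev K m → m ≤ l → ∀ j < m, bpt j ≠ g (bpt l) := by
    intro m hm hml j hj e
    rw [← (mem_lev.mp hm).2 j hj] at e
    have := bpt_inj j (by omega) l hl (g.injective e)
    omega
  rw [mem_toSet]
  rcases (show l < 5 ∨ l = 5 ∨ l = 6 by omega) with h | rfl | rfl
  · exact (target_prefix l h _).resolve_right fun ⟨j, hj, e⟩ => hne hg le_rfl j hj e
  · refine (target_five _ ?_).resolve_right fun ⟨j, hj, e⟩ => hne hg le_rfl j hj e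
    rw [← smul_octB hle hg, ← Equiv.Perm.smul_def]
    exact Finset.smul_mem_smul_finset (bpt_mem_octB 5 (by norm_num))
  · refine target_six _ fun h => bpt_six ?_
    have h5 : g ∈ lev K 5 := hg.1
    rw [← smul_octB hle h5, ← Equiv.Perm.smul_def] at h
    exact (Finset.smul_mem_smul_finset_iff g).mp h

theorem orbit_low {K : Subgroup (Equiv.Perm GolayPt)} (hK : ∀ k, sgen k ∈ K) {l : ℕ} (hl : l < 7)
    {q : GolayPt} (hq : q ∈ toSet (target l)) : ∃ g ∈ lev K l, g (bpt l) = q := by
  rw [mem_toSet, ← orbBits_eq l hl] at hq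
  obtain ⟨g, hg, e⟩ := orbBits_sound hl _ (base_lt l) 24 _ hq
  exact ⟨g, levGen_le hK hl hg, idx_injective e⟩

/-- One step of a stabiliser chain. -/
theorem card_step {α : Type*} [Finite α] (K : Subgroup (Equiv.Perm α)) (p : α) (S : Finset α)
    (hup : ∀ g ∈ K, g p ∈ S) (hlow : ∀ q ∈ S, ∃ g ∈ K, g p = q) :
    Nat.card K = S.card * Nat.card ↥(K ⊓ MulAction.stabilizer (Equiv.Perm α) p) := by
  have horb : MulAction.orbit K p = (S : Set α) := by
    ext q
    simp only [MulAction.mem_orbit_iff, Finset.mem_coe]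
    exact ⟨fun ⟨g, e⟩ => e ▸ hup g g.2, fun h => let ⟨g, hg, e⟩ := hlow q h; ⟨⟨g, hg⟩, e⟩⟩
  have hstab : MulAction.stabilizer K p =
      (K ⊓ MulAction.stabilizer (Equiv.Perm α) p).subgroupOf K := by
    rw [Subgroup.inf_subgroupOf_left]
    rfl
  rw [← (MulAction.stabilizer K p).index_mul_card, MulAction.index_stabilizer, horb,
    Set.ncard_coe_finset, hstab, Nat.card_congr (Subgroup.subgroupOfEquivOfLe inf_le_left).toEquiv]

/-- The octads with five points in `F`. -/
def stableOctads (F : ℕ) : List ℕ := (cwOfWeight 8).filter fun o => decide (5 ≤ pc (o &&& F))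

/-- The points told apart from every other unfixed point by a stable octad. -/
def grow (F : ℕ) : ℕ :=
  let L := stableOctads F
  Nat.ofBits fun i : Fin 24 => F.testBit i.val ||
    (List.range 24).all fun j => j == i.val || F.testBit j || L.any fun o => o.testBit i.val != o.testBit j

theorem grow_fixed {g : Equiv.Perm GolayPt} (hg : g ∈ M24) {F : ℕ}
    (hF : ∀ p, F.testBit (idx p) = true → g p = p) :
    ∀ p, (grow F).testBit (idx p) = true → g p = p := by
  intro p hp
  rw [grow, Nat.testBit_ofBits_lt _ _ (idx_lt p)] at hp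
  rw [Bool.or_eq_true] at hp
  rcases hp with hp | hp
  · exact hF p hp
  by_contra hne
  have := List.all_eq_true.mp hp (idx (g p)) (List.mem_range.mpr (idx_lt _))
  simp only [Bool.or_eq_true, beq_iff_eq, List.any_eq_true, bne_iff_ne, ne_eq] at this
  rcases this with (h | h) | ⟨o, ho, h⟩
  · exact hne (idx_injective h)
  · exact hne (g.injective (hF _ h))
  · simp only [stableOctads, List.mem_filter, decide_eq_true_iff] at ho
    have hoct : toSet o ∈ octads := mem_octads.mpr ⟨o, ho.1, rfl⟩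
    have hst : g • toSet o = toSet o := by
      refine octad_eq_of_inter (smul_mem_weight hg hoct) hoct ?_
      refine (le_trans ho.2 (le_of_eq (card_toSet _).symm)).trans (Finset.card_le_card fun q hq => ?_)
      rw [← toSet_inter, Finset.mem_inter] at hq
      refine Finset.mem_inter.mpr ⟨?_, hq.1⟩
      rw [← hF q (mem_toSet.mp hq.2), ← Equiv.Perm.smul_def]
      exact Finset.smul_mem_smul_finset hq.1
    have hmem : g p ∈ toSet o ↔ p ∈ toSet o := by
      conv_lhs => rw [← hst, ← Equiv.Perm.smul_def]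
      exact Finset.smul_mem_smul_finset_iff g
    rw [mem_toSet, mem_toSet] at hmem
    exact h (Bool.eq_iff_iff.mpr hmem.symm)

theorem grow_base : grow (grow (base.foldl (fun T i => T ||| 2 ^ i) 0)) = 2 ^ 24 - 1 := by
  decide +kernel

theorem eq_one_of_fix_base {g : Equiv.Perm GolayPt} (hg : g ∈ M24) (h : ∀ j < 7, g (bpt j) = bpt j) :
    g = 1 := by
  have hb : ∀ p : GolayPt, (base.foldl (fun T i => T ||| 2 ^ i) 0).testBit (idx p) = true →
      ∃ j < 7, bpt j = p := by decide +kernel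
  have := grow_fixed hg (grow_fixed hg (F := base.foldl (fun T i => T ||| 2 ^ i) 0)
    fun p hp => let ⟨j, hj, e⟩ := hb p hp; e ▸ h j hj)
  refine Equiv.ext fun p => this p ?_
  rw [grow_base, Nat.testBit_two_pow_sub_one]
  simp [idx_lt p]

theorem lev_seven {K : Subgroup (Equiv.Perm GolayPt)} (hle : K ≤ M24) : lev K 7 = ⊥ :=
  (Subgroup.eq_bot_iff_forall _).mpr fun _ hg =>
    eq_one_of_fix_base (hle (lev_le K 7 hg)) (mem_lev.mp hg).2

/-- The orders along the chain. -/
def levOrder : ℕ → ℕ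
  | 0 => 244823040 | 1 => 10200960 | 2 => 443520 | 3 => 20160 | 4 => 960
  | 5 => 48 | 6 => 16 | _ => 1

theorem card_lev {K : Subgroup (Equiv.Perm GolayPt)} (hK : ∀ k, sgen k ∈ K) (hle : K ≤ M24) :
    ∀ l ≤ 7, Nat.card (lev K l) = levOrder l := by
  intro l hl
  induction h : 7 - l generalizing l with
  | zero =>
    obtain rfl : l = 7 := by omega
    rw [lev_seven hle, Subgroup.card_bot]; rfl
  | succ n ih =>
    have hl' : l < 7 := by omega
    have hnum : ∀ l < 7, pc (target l) * levOrder (l + 1) = levOrder l := by decide +kernel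
    rw [card_step (lev K l) (bpt l) (toSet (target l)) (fun g hg => orbit_up hle hl' hg)
      (fun q hq => orbit_low hK hl' hq), card_toSet, ← hnum l hl']
    congr 1
    exact ih (l + 1) (by omega) (by omega)

/-- The group generated by the three standard permutations. -/
noncomputable def genGroup : Subgroup (Equiv.Perm GolayPt) :=
  Subgroup.closure {sgen 0, sgen 1, sgen 2}

theorem sgen_mem_genGroup (k : ℕ) : sgen k ∈ genGroup := by
  refine Subgroup.subset_closure ?_
  match k with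
  | 0 => exact Or.inl rfl
  | 1 => exact Or.inr (Or.inl rfl)
  | _ + 2 => exact Or.inr (Or.inr rfl)

theorem genGroup_le : genGroup ≤ M24 := by
  refine (Subgroup.closure_le _).mpr ?_
  rintro _ (rfl | rfl | rfl) <;> exact sgen_mem _

theorem card_M24 : Nat.card M24 = 244823040 := card_lev sgen_mem le_rfl 0 (by norm_num)

theorem genGroup_eq : genGroup = M24 :=
  Subgroup.eq_of_le_of_card_ge genGroup_le
    (le_of_eq (card_M24.trans (card_lev sgen_mem_genGroup genGroup_le 0 (by norm_num)).symm))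

/-- Five distinct points can be moved onto the first five base points. -/
theorem exists_move (n : ℕ) (hn : n ≤ 5) (x : ℕ → GolayPt)
    (hx : ∀ i < n, ∀ j < n, x i = x j → i = j) : ∃ g ∈ M24, ∀ i < n, g (x i) = bpt i := by
  induction n with
  | zero => exact ⟨1, one_mem _, by simp⟩
  | succ n ih =>
    obtain ⟨g, hg, h⟩ := ih (by omega) fun i hi j hj => hx i (by omega) j (by omega)
    have hq : g (x n) ∈ toSet (target n) := by
      rw [mem_toSet]
      refine (target_prefix n (by omega) _).resolve_right fun ⟨j, hj, e⟩ => ?_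
      rw [← h j hj] at e
      have := hx j (by omega) n (by omega) (g.injective e)
      omega
    obtain ⟨k, hk, e⟩ := orbit_low sgen_mem (by omega) hq
    obtain ⟨hk', hfix⟩ := mem_lev.mp hk
    refine ⟨k⁻¹ * g, mul_mem (inv_mem hk') hg, fun i hi => ?_⟩
    rw [Equiv.Perm.mul_apply, Equiv.Perm.inv_eq_iff_eq]
    rcases Nat.lt_succ_iff_lt_or_eq.mp hi with hi | rfl
    · rw [h i hi, hfix i hi]
    · exact e.symm

theorem exists_map {n : ℕ} (hn : n ≤ 5) (x y : Fin n → GolayPt) (hx : Function.Injective x)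
    (hy : Function.Injective y) : ∃ g ∈ M24, ∀ i, g (x i) = y i := by
  have H : ∀ z : Fin n → GolayPt, Function.Injective z → ∃ g ∈ M24, ∀ i : Fin n, g (z i) = bpt i := by
    intro z hz
    obtain ⟨g, hg, h⟩ := exists_move n hn (fun i => if h : i < n then z ⟨i, h⟩ else none)
      (fun i hi j hj e => by
        rw [dif_pos hi, dif_pos hj] at e
        exact congrArg Fin.val (hz e))
    exact ⟨g, hg, fun i => by simpa using h i i.2⟩
  obtain ⟨g, hg, h⟩ := H x hx
  obtain ⟨k, hk, h'⟩ := H y hy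
  exact ⟨k⁻¹ * g, mul_mem (inv_mem hk) hg, fun i => by
    rw [Equiv.Perm.mul_apply, Equiv.Perm.inv_eq_iff_eq, h, h']⟩

theorem isMultiplyPretransitive : MulAction.IsMultiplyPretransitive M24 GolayPt 5 :=
  ⟨fun x y => let ⟨g, hg, h⟩ := exists_map le_rfl x y x.injective y.injective
    ⟨⟨g, hg⟩, Function.Embedding.ext h⟩⟩

end CfsgLib.SmallGroups.M24Group
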