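import Cfsg.Agent.Lib.SmallGroups.SimpleTools

/-!
# Simple groups of order `p ^ 2 * q * r`
-/

set_option autoImplicit false

namespace CfsgLib.SmallGroups.SimpleOrders

open Subgroup CfsgLib.SmallGroups.SimpleTools

/-- An automorphism of prime order `t > p` of a group of order `p ^ 2` forces `p = 2`, `t = 3`. -/
theorem eq_two_three_of_aut {A : Type*} [Group A] {p t : ℕ} (hp : p.Prime) [Fact t.Prime]
    (hA : Nat.card A = p ^ 2) (σ : MulAut A) (hσ : orderOf σ = t) (hpt : p < t) : p = 2 ∧ t = 3 := by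
  have ht : t.Prime := Fact.out
  have : Finite A := Nat.finite_of_card_ne_zero (by rw [hA]; exact pow_ne_zero 2 hp.ne_zero)
  have hP : IsPGroup t ↥(zpowers σ) :=
    IsPGroup.of_card (n := 1) (by rw [Nat.card_zpowers, hσ, pow_one])
  let F : Subgroup A := MonoidHom.eqLocus σ.toMonoidHom (MonoidHom.id A)
  have hfix : MulAction.fixedPoints ↥(zpowers σ) A = (F : Set A) := by
    ext a
    rw [MulAction.mem_fixedPoints]
    constructor
    · intro h
      exact h ⟨σ, mem_zpowers σ⟩
    · intro h g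
      have hmem : σ ∈ MulAction.stabilizer (MulAut A) a := h
      exact (zpowers_le.mpr hmem) g.2
  have hmod := hP.card_modEq_card_fixedPoints A
  rw [hfix, hA] at hmod
  obtain ⟨j, hj, hF⟩ := (Nat.dvd_prime_pow hp).mp (hA ▸ F.card_subgroup_dvd_card)
  rw [SetLike.coe_sort_coe, hF] at hmod
  have hlt : j ≠ 2 := by
    rintro rfl
    have htop : F = ⊤ := Subgroup.eq_top_of_card_eq F (hF.trans hA.symm)
    have : σ = 1 := MulEquiv.ext fun a => show σ a = a from (htop ▸ mem_top a : a ∈ F)
    rw [this, orderOf_one] at hσ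
    exact ht.one_lt.ne hσ
  have hdvd : t ∣ p ^ 2 - p ^ j := (Nat.modEq_iff_dvd' (Nat.pow_le_pow_right hp.pos hj)).mp hmod.symm
  obtain ⟨a, ha⟩ : ∃ a, p = a + 1 := ⟨p - 1, by have := hp.pos; omega⟩
  have hcase : t ∣ a ∨ t ∣ a + 2 ∨ t ∣ p := by
    interval_cases j
    · rw [show p ^ 2 - p ^ 0 = a * (a + 2) by rw [ha]; ring_nf; omega] at hdvd
      rcases ht.dvd_mul.mp hdvd with h | h
      · exact Or.inl h
      · exact Or.inr (Or.inl h)
    · rw [show p ^ 2 - p ^ 1 = p * a by rw [ha]; ring_nf; omega] at hdvd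
      rcases ht.dvd_mul.mp hdvd with h | h
      · exact Or.inr (Or.inr h)
      · exact Or.inl h
    · exact absurd rfl hlt
  rcases hcase with h | h | h
  · rcases Nat.eq_zero_or_pos a with rfl | hapos
    · exact absurd hp (by rw [ha]; exact Nat.not_prime_one)
    · have := Nat.le_of_dvd hapos h; omega
  · have h1 := Nat.le_of_dvd (by omega) h
    have htp : t = p + 1 := by omega
    rcases hp.eq_two_or_odd with h2 | h2
    · exact ⟨h2, by omega⟩
    · have := hp.two_le
      rcases ht.eq_two_or_odd with h3 | h3 <;> omega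
  · have := Nat.le_of_dvd hp.pos h; omega

variable {G : Type*} [Group G] [Finite G]

/-- The Sylow subgroups at the smallest prime of a non-abelian simple group are not cyclic. -/
theorem not_isCyclic_of_minFac [IsSimpleGroup G] (hG : ¬ IsMulCommutative G) {p : ℕ} [Fact p.Prime]
    (hp : (Nat.card G).minFac = p) (hd : p ∣ Nat.card G) (P : Sylow p G) : ¬ IsCyclic P := fun h =>
  not_normalizer_le hG hd P (h.normalizer_le_centralizer hp)

omit [Finite G] in
theorem minFac_eq {n p : ℕ} (hp : p.Prime) (hd : p ∣ n) (h : ∀ s, s.Prime → s ∣ n → p ≤ s) :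
    n.minFac = p := by
  refine le_antisymm (Nat.minFac_le_of_dvd hp.two_le hd) (h _ (Nat.minFac_prime ?_) n.minFac_dvd)
  rintro rfl
  exact hp.one_lt.ne' (Nat.dvd_one.mp hd)

/-- No non-abelian simple group is a `p`-group. -/
theorem not_prime_pow [IsSimpleGroup G] (hG : ¬ IsMulCommutative G) {p k : ℕ} [Fact p.Prime] :
    Nat.card G ≠ p ^ k := by
  intro h
  have hP : IsPGroup p G := IsPGroup.of_card h
  have : Nontrivial (center G) := hP.center_nontrivial
  exact (Subgroup.nontrivial_iff_ne_bot _).mp this (center_eq_bot hG)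

/-- A self-normalising abelian Sylow subgroup contradicts simplicity. -/
theorem ne_card_normalizer_eq [IsSimpleGroup G] (hG : ¬ IsMulCommutative G) {p : ℕ} [Fact p.Prime]
    (hd : p ∣ Nat.card G) (P : Sylow p G) (hab : ∀ a b : ↥(P : Subgroup G), a * b = b * a) :
    Nat.card (normalizer ((P : Subgroup G) : Set G)) ≠ Nat.card (P : Subgroup G) := by
  intro h
  refine not_normalizer_le hG hd P ?_
  rw [← Subgroup.eq_of_le_of_card_ge le_normalizer h.le]
  exact fun a ha => mem_centralizer_iff.mpr fun b hb => congrArg Subtype.val (hab ⟨b, hb⟩ ⟨a, ha⟩)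

private theorem case_cube [IsSimpleGroup G] (hG : ¬ IsMulCommutative G) {p r : ℕ} (hp : p.Prime)
    (hr : r.Prime) (hne : p ≠ r) : Nat.card G ≠ p ^ 3 * r := by
  intro h
  have := Fact.mk hp
  have := Fact.mk hr
  have hpd : p ∣ Nat.card G := h ▸ dvd_mul_of_dvd_left (dvd_pow_self p three_ne_zero) r
  have hrd : r ∣ Nat.card G := h ▸ dvd_mul_left r _
  have hnp := Finset.mem_filter.mp (card_sylow_mem (G := G) h hr.ne_zero)
  have hnp1 : Nat.card (Sylow p G) = r := by
    rcases (Nat.dvd_prime hr).mp (Nat.mem_divisors.mp hnp.1).1 with e | e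
    · exact absurd e (card_sylow_ne_one hG hpd)
    · exact e
  have hrp : p < r := by
    rw [hnp1] at hnp
    rcases lt_or_gt_of_ne hne with h' | h'
    · exact h'
    · rw [Nat.mod_eq_of_lt h'] at hnp; exact absurd hnp.2 hr.one_lt.ne'
  have hG' : Nat.card G = r ^ 1 * p ^ 3 := by rw [h, pow_one, mul_comm]
  have hrn : ¬ r ∣ p ^ 3 := fun hd =>
    hne ((Nat.prime_dvd_prime_iff_eq hr hp).mp (hr.dvd_of_dvd_pow hd)).symm
  obtain ⟨R⟩ : Nonempty (Sylow r G) := inferInstance
  have hR := card_sylow_subgroup hG' hrn R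
  have hn := Finset.mem_filter.mp (card_sylow_mem (G := G) hG' (pow_ne_zero 3 hp.ne_zero))
  obtain ⟨j, hj, hjn⟩ := (Nat.dvd_prime_pow hp).mp (Nat.mem_divisors.mp hn.1).1
  interval_cases j
  · exact card_sylow_ne_one hG hrd (by simpa using hjn)
  · rw [hjn, pow_one, Nat.mod_eq_of_lt hrp] at hn; exact hp.one_lt.ne' hn.2
  · rw [hjn] at hn
    have h1 : r ∣ p ^ 2 - 1 := (Nat.modEq_iff_dvd' (Nat.one_le_pow _ _ hp.pos)).mp
      (by rw [Nat.ModEq, Nat.mod_eq_of_lt hr.one_lt, hn.2])
    obtain ⟨a, ha⟩ : ∃ a, p = a + 1 := ⟨p - 1, by have := hp.pos; omega⟩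
    rw [show p ^ 2 - 1 = a * (a + 2) by rw [ha]; ring_nf; omega] at h1
    have htwo := hp.two_le
    rcases hr.dvd_mul.mp h1 with h2 | h2
    · have := Nat.le_of_dvd (by omega) h2; omega
    · have := Nat.le_of_dvd (by omega) h2
      have hrr : r = p + 1 := by omega
      obtain ⟨P⟩ : Nonempty (Sylow p G) := inferInstance
      have hidx : (normalizer ((P : Subgroup G) : Set G)).index = r := by
        rw [← hnp1]; exact (P.card_eq_index_normalizer).symm
      have hfac := two_mul_card_dvd_factorial hG _ (normalizer_ne_top hG hpd P)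
      rw [hidx, h] at hfac
      rcases hp.eq_two_or_odd with h2' | h2'
      · rw [hrr, h2'] at hfac; norm_num [Nat.factorial] at hfac
      · rcases hr.eq_two_or_odd with h3 | h3 <;> omega
  · refine ne_card_normalizer_eq hG hrd R (fun a b => ?_) ?_
    · have : IsCyclic ↥(R : Subgroup G) := isCyclic_of_prime_card (p := r) (by rw [hR, pow_one])
      exact this.isMulCommutative.is_comm.comm a b
    · have := card_normalizer_mul R
      rw [hjn, hG', mul_comm, mul_comm (r ^ 1)] at this
      rw [hR]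
      exact Nat.eq_of_mul_eq_mul_right (pow_pos hp.pos 3) (this.trans (mul_comm _ _))

private theorem case_squares [IsSimpleGroup G] (hG : ¬ IsMulCommutative G) {p q : ℕ} (hp : p.Prime)
    (hq : q.Prime) (hlt : p < q) : Nat.card G ≠ p ^ 2 * q ^ 2 := by
  intro h
  have := Fact.mk hq
  have hG' : Nat.card G = q ^ 2 * p ^ 2 := by rw [h, mul_comm]
  have hqd : q ∣ Nat.card G := hG' ▸ dvd_mul_of_dvd_left (dvd_pow_self q two_ne_zero) _
  have hqn : ¬ q ∣ p ^ 2 := fun hd =>
    hlt.ne' ((Nat.prime_dvd_prime_iff_eq hq hp).mp (hq.dvd_of_dvd_pow hd))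
  obtain ⟨Q⟩ : Nonempty (Sylow q G) := inferInstance
  have hQ := card_sylow_subgroup hG' hqn Q
  have hn := Finset.mem_filter.mp (card_sylow_mem (G := G) hG' (pow_ne_zero 2 hp.ne_zero))
  obtain ⟨j, hj, hjn⟩ := (Nat.dvd_prime_pow hp).mp (Nat.mem_divisors.mp hn.1).1
  interval_cases j
  · exact card_sylow_ne_one hG hqd (by simpa using hjn)
  · rw [hjn, pow_one, Nat.mod_eq_of_lt hlt] at hn; exact hp.one_lt.ne' hn.2
  · refine ne_card_normalizer_eq hG hqd Q (IsPGroup.commutative_of_card_eq_prime_sq hQ) ?_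
    have := card_normalizer_mul Q
    rw [hjn, hG'] at this
    rw [hQ]
    exact Nat.eq_of_mul_eq_mul_left (pow_pos hp.pos 2) (this.trans (mul_comm _ _))

private theorem case_distinct [IsSimpleGroup G] (hG : ¬ IsMulCommutative G) {p q r : ℕ} (hp : p.Prime)
    (hq : q.Prime) (hr : r.Prime) (hpq : p ≠ q) (hqr : q < r) (hpr : p ≠ r)
    (h : Nat.card G = p ^ 2 * q * r) : Nat.card G = 60 := by
  have := Fact.mk hp
  have := Fact.mk hq
  have := Fact.mk hr
  have hprimes : ∀ s, s.Prime → s ∣ Nat.card G → s = p ∨ s = q ∨ s = r := by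
    intro s hs hd
    rw [h, hs.dvd_mul, hs.dvd_mul] at hd
    rcases hd with (hd | hd) | hd
    · exact Or.inl ((Nat.prime_dvd_prime_iff_eq hs hp).mp (hs.dvd_of_dvd_pow hd))
    · exact Or.inr (Or.inl ((Nat.prime_dvd_prime_iff_eq hs hq).mp hd))
    · exact Or.inr (Or.inr ((Nat.prime_dvd_prime_iff_eq hs hr).mp hd))
  have hpd : p ∣ Nat.card G := ⟨p * q * r, by rw [h]; ring⟩
  have hqd : q ∣ Nat.card G := ⟨p ^ 2 * r, by rw [h]; ring⟩
  have hrd : r ∣ Nat.card G := ⟨p ^ 2 * q, by rw [h]; ring⟩
  have hlt : p < q := by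
    by_contra hle
    obtain ⟨Q⟩ : Nonempty (Sylow q G) := inferInstance
    refine not_isCyclic_of_minFac hG (minFac_eq hq hqd fun s hs hd => ?_) hqd Q ?_
    · rcases hprimes s hs hd with e | e | e <;> omega
    · refine isCyclic_of_prime_card (p := q) ?_
      have hqn : ¬ q ∣ p ^ 2 * r := by
        rw [hq.dvd_mul, not_or]
        exact ⟨fun hd => hpq ((Nat.prime_dvd_prime_iff_eq hq hp).mp (hq.dvd_of_dvd_pow hd)).symm,
          fun hd => hqr.ne ((Nat.prime_dvd_prime_iff_eq hq hr).mp hd)⟩
      rw [card_sylow_subgroup (k := 1) (m := p ^ 2 * r) (by rw [h]; ring) hqn Q, pow_one]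
  have hmin : (Nat.card G).minFac = p := minFac_eq hp hpd fun s hs hd => by
    rcases hprimes s hs hd with e | e | e <;> omega
  have hcopP : ¬ p ∣ q * r := by
    rw [hp.dvd_mul, not_or]
    exact ⟨fun hd => hpq ((Nat.prime_dvd_prime_iff_eq hp hq).mp hd),
      fun hd => hpr ((Nat.prime_dvd_prime_iff_eq hp hr).mp hd)⟩
  obtain ⟨P⟩ : Nonempty (Sylow p G) := inferInstance
  have hP : Nat.card (P : Subgroup G) = p ^ 2 :=
    card_sylow_subgroup (m := q * r) (by rw [h]; ring) hcopP P
  -- an automorphism of prime order of the Sylow `p`-subgroup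
  set φ := normalizerMonoidHom (P : Subgroup G)
  have hnk : φ.ker ≠ ⊤ := by
    intro e
    refine not_normalizer_le hG hpd P fun g hg => ?_
    have h1 : (⟨g, hg⟩ : normalizer ((P : Subgroup G) : Set G)) ∈ φ.ker := e ▸ mem_top _
    rw [normalizerMonoidHom_ker] at h1
    exact h1
  have hrange : Nat.card φ.range ≠ 1 := fun e => hnk (by
    rw [← Subgroup.index_eq_one, index_ker]; exact e)
  have hdiv : Nat.card φ.range ∣ q * r := by
    have hle : (P : Subgroup G).subgroupOf (normalizer ((P : Subgroup G) : Set G)) ≤ φ.ker := by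
      rw [normalizerMonoidHom_ker]
      intro a ha
      exact mem_centralizer_iff.mpr fun b hb =>
        congrArg Subtype.val (IsPGroup.commutative_of_card_eq_prime_sq hP ⟨b, hb⟩ ⟨a.1, ha⟩)
    have h1 : Nat.card φ.range ∣ (P : Subgroup G).index := by
      rw [← index_ker]
      exact (index_dvd_of_le hle).trans (Dvd.intro _ (relIndex_mul_index le_normalizer))
    have h2 : (P : Subgroup G).index = q * r := by
      have h3 := (P : Subgroup G).index_mul_card
      rw [hP, h] at h3
      exact Nat.eq_of_mul_eq_mul_right (pow_pos hp.pos 2) (h3.trans (by ring))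
    exact h2 ▸ h1
  obtain ⟨t, ht, htd⟩ := Nat.exists_prime_and_dvd hrange
  have := Fact.mk ht
  obtain ⟨σ, hσ⟩ := exists_prime_orderOf_dvd_card' t htd
  rw [← Subgroup.orderOf_coe] at hσ
  have hteq : t = q ∨ t = r := by
    rcases ht.dvd_mul.mp (htd.trans hdiv) with hd | hd
    · exact Or.inl ((Nat.prime_dvd_prime_iff_eq ht hq).mp hd)
    · exact Or.inr ((Nat.prime_dvd_prime_iff_eq ht hr).mp hd)
  obtain ⟨hp2, ht3⟩ := eq_two_three_of_aut hp hP _ hσ (by omega)
  have hq3 : q = 3 := by
    rcases hteq with e | e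
    · omega
    · omega
  subst hp2 hq3
  have hrn : ¬ r ∣ 12 := fun hd => by
    have := Nat.le_of_dvd (by norm_num) hd
    interval_cases r <;> norm_num at *
  have hn := Finset.mem_filter.mp (card_sylow_mem (p := r) (k := 1) (m := 12) (G := G)
    (by rw [h]; ring) (by norm_num))
  have hn1 := card_sylow_ne_one hG hrd (p := r)
  obtain ⟨R⟩ : Nonempty (Sylow r G) := inferInstance
  have hR := card_sylow_subgroup (k := 1) (m := 12) (by rw [h]; ring) hrn R
  have hmul := card_normalizer_mul R
  have hmem := hn.1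
  rw [show Nat.divisors 12 = {1, 2, 3, 4, 6, 12} by decide] at hmem
  have hr5 : 5 ≤ r := by
    rcases Nat.lt_or_ge r 5 with hr4 | hr4
    · interval_cases r <;> norm_num at *
    · exact hr4
  have hmod := hn.2
  simp only [Finset.mem_insert, Finset.mem_singleton] at hmem
  have hle13 : r ≤ 11 := by
    rcases hmem with e | e | e | e | e | e <;> rw [e] at hmod
    · exact absurd e hn1
    all_goals
      by_contra hgt
      rw [Nat.mod_eq_iff] at hmod
      rcases hmod with ⟨h0, _⟩ | ⟨_, c, hc⟩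
      · omega
      · rcases Nat.eq_zero_or_pos c with rfl | hc0
        · omega
        · nlinarith
  interval_cases r <;> first
    | (rw [h]; norm_num; done)
    | (exfalso; norm_num at hr; done)
    | (exfalso; rcases hmem with e | e | e | e | e | e <;> rw [e] at hmod <;> norm_num at hmod <;>
        first
          | exact hn1 e
          | (refine ne_card_normalizer_eq hG hrd R (fun a b => ?_) ?_
             · have : IsCyclic ↥(R : Subgroup G) := isCyclic_of_prime_card (hR.trans (pow_one _))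
               exact this.isMulCommutative.is_comm.comm a b
             · rw [e, h] at hmul; rw [hR]; norm_num at hmul ⊢; omega))

/-- A simple group of order `p ^ 2 * q * r` has order `60`. -/
theorem card_eq_sixty [IsSimpleGroup G] (p q r : ℕ) (hp : p.Prime) (hq : q.Prime) (hr : r.Prime)
    (h : Nat.card G = p ^ 2 * q * r) : Nat.card G = 60 := by
  have hG : ¬ IsMulCommutative G := not_comm_of_card fun hpr => by
    rw [h] at hpr
    exact Nat.not_prime_mul (show p ^ 2 * q ≠ 1 from (Nat.lt_of_lt_of_le hq.one_lt (Nat.le_mul_of_pos_left q (pow_pos hp.pos 2))).ne') hr.one_lt.ne' hpr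
  have := Fact.mk hp
  by_cases hpq : p = q
  · subst hpq
    by_cases hpr : p = r
    · subst hpr; exact absurd (by rw [h]; ring) (not_prime_pow hG (p := p) (k := 4))
    · exact absurd (by rw [h]; ring) (case_cube hG hp hr hpr)
  by_cases hpr : p = r
  · subst hpr; exact absurd (by rw [h]; ring) (case_cube hG hp hq hpq)
  rcases lt_trichotomy q r with hlt | heq | hgt
  · exact case_distinct hG hp hq hr hpq hlt hpr h
  · subst heq
    rcases lt_or_gt_of_ne hpq with h' | h'
    · exact absurd (by rw [h]; ring) (case_squares hG hp hq h')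
    · exact absurd (by rw [h]; ring) (case_squares hG hq hp h')
  · exact case_distinct hG hp hr hq hpr hgt hpq (by rw [h]; ring)

end CfsgLib.SmallGroups.SimpleOrders
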