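import Mathlib

/-!
# Certified stabiliser chains for permutation groups of degree at most 128

A permutation is packed into a natural number with seven binary digits per point and travels with
its inverse.  A chain consists of levels with a base point, generators and orbit representatives;
the Boolean check certifies the order and the point stabiliser of the generated group.
-/

set_option autoImplicit false

namespace CfsgLib.SmallGroups.PermChain

open Subgroup

variable {n : ℕ}

/-- The image of a point. -/
def get (p i : ℕ) : ℕ := (p >>> (7 * i)) % 128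

/-- Packing a list of points. -/
def pack : List ℕ → ℕ
  | [] => 0
  | a :: l => a + 128 * pack l

theorem get_pack : ∀ (l : List ℕ), (∀ a ∈ l, a < 128) → ∀ i, (h : i < l.length) → get (pack l) i = l[i]
  | [], _, i, h => absurd h (by simp)
  | a :: l, hl, 0, _ => by
      simp [get, pack, Nat.mod_eq_of_lt (hl a (by simp))]
  | a :: l, hl, i + 1, h => by
      have ha := hl a (by simp)
      have := get_pack l (fun b hb => hl b (by simp [hb])) i (by simpa using h)
      simp only [get, Nat.shiftRight_eq_div_pow] at this ⊢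
      rw [List.getElem_cons_succ, ← this, pack, show 7 * (i + 1) = 7 + 7 * i by ring, pow_add,
        ← Nat.div_div_eq_div_mul, show 2 ^ 7 = 128 from rfl]
      congr 2
      omega

/-- The composite of two packed maps. -/
def comp (n p q : ℕ) : ℕ := pack ((List.range n).map fun i => get p (get q i))

theorem get_comp {p q i : ℕ} (h : i < n) : get (comp n p q) i = get p (get q i) := by
  rw [comp, get_pack _ (fun a ha => ?_) i (by simpa using h)]
  · simp
  · obtain ⟨j, -, rfl⟩ := List.mem_map.mp ha
    exact Nat.mod_lt _ (by norm_num)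

/-- The packed map `p` describes the permutation `σ`. -/
def Rep (p : ℕ) (σ : Equiv.Perm (Fin n)) : Prop := ∀ i : Fin n, get p i = σ i

/-- A pair consists of two mutually inverse maps. -/
def ok (n : ℕ) (e : ℕ × ℕ) : Bool :=
  (List.range n).all fun i => decide (get e.1 i < n) && decide (get e.2 i < n) &&
    (get e.1 (get e.2 i) == i) && (get e.2 (get e.1 i) == i)

theorem ok_iff {e : ℕ × ℕ} : ok n e = true ↔ ∀ i < n, get e.1 i < n ∧ get e.2 i < n ∧
    get e.1 (get e.2 i) = i ∧ get e.2 (get e.1 i) = i := by
  simp [ok, and_assoc]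

/-- The permutation of a pair. -/
def toPerm (n : ℕ) (e : ℕ × ℕ) : Equiv.Perm (Fin n) :=
  if h : ok n e = true then
    { toFun := fun i => ⟨get e.1 i, (ok_iff.mp h i i.isLt).1⟩
      invFun := fun i => ⟨get e.2 i, (ok_iff.mp h i i.isLt).2.1⟩
      left_inv := fun i => Fin.ext (ok_iff.mp h i i.isLt).2.2.2
      right_inv := fun i => Fin.ext (ok_iff.mp h i i.isLt).2.2.1 }
  else 1

theorem rep_fst {e : ℕ × ℕ} (h : ok n e = true) : Rep e.1 (toPerm n e) := fun i => by
  rw [toPerm, dif_pos h]; rfl

theorem rep_snd {e : ℕ × ℕ} (h : ok n e = true) : Rep e.2 (toPerm n e)⁻¹ := fun i => by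
  rw [toPerm, dif_pos h]; rfl

theorem rep_comp {p q : ℕ} {σ τ : Equiv.Perm (Fin n)} (hp : Rep p σ) (hq : Rep q τ) :
    Rep (comp n p q) (σ * τ) := fun i => by
  rw [get_comp i.isLt, hq i, hp, Equiv.Perm.mul_apply]

/-- Two maps agree on all points. -/
def same (n p q : ℕ) : Bool := (List.range n).all fun i => get p i == get q i

theorem perm_eq {p q : ℕ} {σ τ : Equiv.Perm (Fin n)} (h : same n p q = true) (hp : Rep p σ)
    (hq : Rep q τ) : σ = τ := Equiv.ext fun i => Fin.ext (by
  have := (List.all_eq_true.mp h) i (List.mem_range.mpr i.isLt)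
  rw [← hp i, ← hq i]
  exact beq_iff_eq.mp this)

/-- A map fixes all points. -/
def isId (n p : ℕ) : Bool := (List.range n).all fun i => get p i == i

theorem perm_one {p : ℕ} {σ : Equiv.Perm (Fin n)} (h : isId n p = true) (hp : Rep p σ) : σ = 1 :=
  Equiv.ext fun i => Fin.ext (by
    have := (List.all_eq_true.mp h) i (List.mem_range.mpr i.isLt)
    rw [Equiv.Perm.one_apply, ← hp i]
    exact beq_iff_eq.mp this)

/-- One level of a chain: base point, generators, orbit representatives with their parents. -/
structure Level where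
  b : ℕ
  gens : List (ℕ × ℕ)
  orb : List (ℕ × ℕ)
  par : List (ℕ × ℕ)

/-- The generators of a chain. -/
def gensOf : List Level → List (ℕ × ℕ)
  | [] => []
  | l :: _ => l.gens

/-- The group of a chain. -/
def grp (n : ℕ) (L : List Level) : Subgroup (Equiv.Perm (Fin n)) :=
  closure {σ | ∃ e ∈ gensOf L, toPerm n e = σ}

/-- Sifting a map through a chain. -/
def sift (n : ℕ) : List Level → ℕ → Bool
  | [], g => isId n g
  | l :: rest, g => match l.orb.find? fun e => get e.1 l.b == get g l.b with
    | none => false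
    | some e => sift n rest (comp n e.2 g)

/-- Every representative is a generator times an earlier one. -/
def tree (n : ℕ) (S seen : List (ℕ × ℕ)) : List (ℕ × ℕ) → List (ℕ × ℕ) → Bool
  | [], _ => true
  | e :: es, (k, j) :: ps => (match S[k]?, seen[j]? with
      | some s, some u => same n e.1 (comp n s.1 u.1)
      | _, _ => false) && tree n S (seen ++ [e]) es ps
  | _ :: _, [] => false

/-- The check of a level against the rest of its chain. -/
def levelOK (n : ℕ) (l : Level) (rest : List Level) : Bool :=
  decide (l.b < n) && l.gens.all (ok n) && l.orb.all (ok n) &&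
  (gensOf rest).all (fun e => decide (e ∈ l.gens) && (get e.1 l.b == l.b)) &&
  decide ((l.orb.map fun e => get e.1 l.b).Nodup) &&
  (match l.orb with
    | [] => false
    | o :: os => isId n o.1 && tree n l.gens [o] os l.par) &&
  l.orb.all (fun u => l.gens.all fun s => sift n (l :: rest) (comp n s.1 u.1))

/-- The check of a chain. -/
def check (n : ℕ) : List Level → Bool
  | [] => true
  | l :: rest => levelOK n l rest && check n rest

theorem levelOK_iff {l : Level} {rest : List Level} : levelOK n l rest = true ↔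
    l.b < n ∧ (∀ e ∈ l.gens, ok n e = true) ∧ (∀ e ∈ l.orb, ok n e = true) ∧
    (∀ e ∈ gensOf rest, e ∈ l.gens ∧ get e.1 l.b = l.b) ∧
    (l.orb.map fun e => get e.1 l.b).Nodup ∧
    (∃ o os, l.orb = o :: os ∧ isId n o.1 = true ∧ tree n l.gens [o] os l.par = true) ∧
    (∀ u ∈ l.orb, ∀ s ∈ l.gens, sift n (l :: rest) (comp n s.1 u.1) = true) := by
  cases ho : l.orb <;> simp [levelOK, ho, and_assoc]

theorem tree_mem {S : List (ℕ × ℕ)} {H : Subgroup (Equiv.Perm (Fin n))}
    (hS : ∀ s ∈ S, ok n s = true ∧ toPerm n s ∈ H) :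
    ∀ (es ps seen : List (ℕ × ℕ)), (∀ u ∈ seen, ok n u = true ∧ toPerm n u ∈ H) →
      (∀ e ∈ es, ok n e = true) → tree n S seen es ps = true → ∀ e ∈ es, toPerm n e ∈ H
  | [], _, _, _, _, _ => by simp
  | e :: es, [], _, _, _, h => by simp [tree] at h
  | e :: es, (k, j) :: ps, seen, hseen, hok, h => by
      simp only [tree, Bool.and_eq_true] at h
      obtain ⟨h1, h2⟩ := h
      have he : toPerm n e ∈ H := by
        split at h1
        · rename_i s u hs hu
          obtain ⟨oks, hsH⟩ := hS s (List.mem_of_getElem? hs)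
          obtain ⟨oku, huH⟩ := hseen u (List.mem_of_getElem? hu)
          rw [perm_eq h1 (rep_fst (hok e (by simp))) (rep_comp (rep_fst oks) (rep_fst oku))]
          exact H.mul_mem hsH huH
        · simp at h1
      have := tree_mem hS es ps (seen ++ [e]) (fun u hu => by
        rcases List.mem_append.mp hu with hu | hu
        · exact hseen u hu
        · rw [List.mem_singleton.mp hu]; exact ⟨hok e (by simp), he⟩)
        (fun x hx => hok x (by simp [hx])) h2
      intro x hx
      rcases List.mem_cons.mp hx with rfl | hx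
      exacts [he, this x hx]

theorem mem_grp_of_sift : ∀ (L : List Level) (g : ℕ) (σ : Equiv.Perm (Fin n)),
    check n L = true → Rep g σ → sift n L g = true → σ ∈ grp n L
  | [], g, σ, _, hr, hs => by rw [perm_one hs hr]; exact one_mem _
  | l :: rest, g, σ, hc, hr, hs => by
      simp only [check, Bool.and_eq_true] at hc
      obtain ⟨hl, hrest⟩ := hc
      obtain ⟨-, hgok, hook, hsub, -, ⟨o, os, ho, hid, htree⟩, -⟩ := levelOK_iff.mp hl
      simp only [sift] at hs
      split at hs
      · simp at hs
      · rename_i e he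
        have hmem : e ∈ l.orb := List.mem_of_find?_eq_some he
        have h1 := mem_grp_of_sift rest _ _ hrest (rep_comp (rep_snd (hook e hmem)) hr) hs
        have hle : grp n rest ≤ grp n (l :: rest) := closure_mono fun x ⟨s, hs, hx⟩ =>
          ⟨s, (hsub s hs).1, hx⟩
        have hS : ∀ s ∈ l.gens, ok n s = true ∧ toPerm n s ∈ grp n (l :: rest) := fun s hs =>
          ⟨hgok s hs, subset_closure ⟨s, hs, rfl⟩⟩
        have hoo : ok n o = true := hook o (by simp [ho])
        have ho1 : toPerm n o ∈ grp n (l :: rest) := by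
          rw [perm_one hid (rep_fst hoo)]; exact one_mem _
        have he' : toPerm n e ∈ grp n (l :: rest) := by
          rw [ho] at hmem
          rcases List.mem_cons.mp hmem with rfl | hmem
          · exact ho1
          · exact tree_mem hS os l.par [o] (fun u hu => by
              rw [List.mem_singleton.mp hu]; exact ⟨hoo, ho1⟩)
              (fun x hx => hook x (by simp [ho, hx])) htree e hmem
        simpa using (grp n (l :: rest)).mul_mem he' (hle h1)

/-- What a checked level says: representatives, their images, and a unique factorisation. -/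
theorem level_spec {l : Level} {rest : List Level} (hc : check n (l :: rest) = true) :
    ∃ hb : l.b < n,
      (∀ e ∈ l.orb, toPerm n e ∈ grp n (l :: rest)) ∧
      grp n rest ≤ grp n (l :: rest) ∧
      (∀ σ ∈ grp n rest, σ ⟨l.b, hb⟩ = ⟨l.b, hb⟩) ∧
      (∀ σ ∈ grp n (l :: rest), ∃ e ∈ l.orb, ∃ τ ∈ grp n rest, σ = toPerm n e * τ) ∧
      ((l.orb.map fun e => toPerm n e ⟨l.b, hb⟩).Nodup) ∧
      ∃ e ∈ l.orb, toPerm n e = 1 := by
  simp only [check, Bool.and_eq_true] at hc
  obtain ⟨hl, hrest⟩ := hc
  obtain ⟨hb, hgok, hook, hsub, hnd, ⟨o, os, ho, hid, htree⟩, hclosed⟩ := levelOK_iff.mp hl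
  have hS : ∀ s ∈ l.gens, ok n s = true ∧ toPerm n s ∈ grp n (l :: rest) := fun s hs =>
    ⟨hgok s hs, subset_closure ⟨s, hs, rfl⟩⟩
  have hle : grp n rest ≤ grp n (l :: rest) :=
    closure_mono fun x ⟨s, hs, hx⟩ => ⟨s, (hsub s hs).1, hx⟩
  have hoo : ok n o = true := hook o (by simp [ho])
  have ho1 : toPerm n o = 1 := perm_one hid (rep_fst hoo)
  have horb : ∀ e ∈ l.orb, toPerm n e ∈ grp n (l :: rest) := by
    intro e hmem
    rw [ho] at hmem
    rcases List.mem_cons.mp hmem with rfl | hmem
    · rw [ho1]; exact one_mem _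
    · exact tree_mem hS os l.par [o] (fun u hu => by
        rw [List.mem_singleton.mp hu]; exact ⟨hoo, ho1 ▸ one_mem _⟩)
        (fun x hx => hook x (by simp [ho, hx])) htree e hmem
  have hfix : ∀ σ ∈ grp n rest, σ ⟨l.b, hb⟩ = ⟨l.b, hb⟩ := by
    intro σ hσ
    have : grp n rest ≤ MulAction.stabilizer (Equiv.Perm (Fin n)) (⟨l.b, hb⟩ : Fin n) := by
      refine (closure_le _).mpr ?_
      rintro _ ⟨s, hs, rfl⟩
      refine Fin.ext ?_
      show (toPerm n s ⟨l.b, hb⟩ : ℕ) = l.b
      rw [← rep_fst (hgok s (hsub s hs).1) ⟨l.b, hb⟩]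
      exact (hsub s hs).2
    exact this hσ
  refine ⟨hb, horb, hle, hfix, ?_, ?_, o, by simp [ho], ho1⟩
  · set T : Set (Equiv.Perm (Fin n)) :=
      {σ | ∃ e ∈ l.orb, ∃ τ ∈ grp n rest, σ = toPerm n e * τ} with hT
    have hstep : ∀ s ∈ l.gens, ∀ y ∈ T, toPerm n s * y ∈ T := by
      rintro s hs _ ⟨u, hu, τ, hτ, rfl⟩
      have h := hclosed u hu s hs
      simp only [sift] at h
      split at h
      · simp at h
      · rename_i e he
        have hmem : e ∈ l.orb := List.mem_of_find?_eq_some he
        have h1 := mem_grp_of_sift rest _ _ hrest (rep_comp (rep_snd (hook e hmem))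
          (rep_comp (rep_fst (hgok s hs)) (rep_fst (hook u hu)))) h
        exact ⟨e, hmem, _, mul_mem h1 hτ, by group⟩
    intro σ hσ
    refine closure_induction_left (p := fun x _ => x ∈ T) ⟨o, by simp [ho], 1, one_mem _, by
      rw [ho1, one_mul]⟩ ?_ ?_ hσ
    · rintro _ ⟨s, hs, rfl⟩ y _ hy
      exact hstep s hs y hy
    · rintro _ ⟨s, hs, rfl⟩ y _ hy
      have hpow : ∀ k : ℕ, toPerm n s ^ k * y ∈ T := by
        intro k
        induction k with
        | zero => simpa using hy
        | succ k ih => rw [pow_succ', mul_assoc]; exact hstep s hs _ ih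
      have := hpow (orderOf (toPerm n s) - 1)
      have he : (toPerm n s)⁻¹ = toPerm n s ^ (orderOf (toPerm n s) - 1) :=
        inv_eq_of_mul_eq_one_right (by
          rw [← pow_succ', Nat.sub_add_cancel (orderOf_pos (toPerm n s)), pow_orderOf_eq_one])
      rwa [← he] at this
  · have : (l.orb.map fun e => get e.1 l.b) =
        (l.orb.map fun e => toPerm n e ⟨l.b, hb⟩).map Fin.val := by
      rw [List.map_map]
      exact List.map_congr_left fun e he => rep_fst (hook e he) ⟨l.b, hb⟩
    rw [this] at hnd
    exact hnd.of_map _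

/-- The order of the group of a checked chain. -/
theorem card_grp : ∀ {L : List Level}, check n L = true →
    Nat.card (grp n L) = (L.map fun l => l.orb.length).prod
  | [], _ => by simp [grp, gensOf]
  | l :: rest, hc => by
      obtain ⟨hb, horb, hle, hfix, hfac, hnd, -⟩ := level_spec hc
      have hr : check n rest = true := by simp [check] at hc; exact hc.2
      rw [List.map_cons, List.prod_cons, ← card_grp hr]
      let f : Fin l.orb.length × grp n rest → grp n (l :: rest) := fun z =>
        ⟨toPerm n l.orb[z.1] * z.2, mul_mem (horb _ (List.getElem_mem _)) (hle z.2.2)⟩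
      have hf : Function.Bijective f := by
        constructor
        · rintro ⟨i, a⟩ ⟨j, b⟩ e
          have e' : toPerm n l.orb[i] * (a : Equiv.Perm (Fin n)) = toPerm n l.orb[j] * b :=
            congrArg Subtype.val e
          have h1 := congrArg (fun σ : Equiv.Perm (Fin n) => σ ⟨l.b, hb⟩) e'
          simp only [Equiv.Perm.mul_apply, hfix _ a.2, hfix _ b.2] at h1
          have hij : i = j := by
            have := (List.Nodup.getElem_inj_iff hnd (i := (i : ℕ)) (j := (j : ℕ))
              (hi := by simp) (hj := by simp)).mp (by simpa using h1)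
            exact Fin.ext this
          subst hij
          exact Prod.ext rfl (Subtype.ext (mul_left_cancel e'))
        · rintro ⟨σ, hσ⟩
          obtain ⟨e, he, τ, hτ, rfl⟩ := hfac σ hσ
          obtain ⟨i, hi, rfl⟩ := List.mem_iff_getElem.mp he
          exact ⟨(⟨i, hi⟩, ⟨τ, hτ⟩), rfl⟩
      rw [← Nat.card_eq_of_bijective f hf, Nat.card_prod, Nat.card_eq_fintype_card, Fintype.card_fin]

/-- The point stabiliser in the group of a checked chain. -/
theorem mem_rest_of_fix {l : Level} {rest : List Level} (hc : check n (l :: rest) = true)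
    {σ : Equiv.Perm (Fin n)} (hσ : σ ∈ grp n (l :: rest)) (hb : l.b < n)
    (hfx : σ ⟨l.b, hb⟩ = ⟨l.b, hb⟩) : σ ∈ grp n rest := by
  obtain ⟨hb', -, -, hfix, hfac, hnd, o, ho, ho1⟩ := level_spec hc
  obtain ⟨e, he, τ, hτ, rfl⟩ := hfac σ hσ
  rw [Equiv.Perm.mul_apply, hfix τ hτ] at hfx
  have : toPerm n e = 1 := by
    rw [← ho1]
    obtain ⟨i, hi, rfl⟩ := List.mem_iff_getElem.mp he
    obtain ⟨j, hj, rfl⟩ := List.mem_iff_getElem.mp ho
    have := (List.Nodup.getElem_inj_iff hnd (i := i) (j := j) (hi := by simpa using hi)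
      (hj := by simpa using hj)).mp (by
        simp only [List.getElem_map]
        rw [hfx, ho1, Equiv.Perm.one_apply])
    subst this
    rfl
  rwa [this, one_mul]

end CfsgLib.SmallGroups.PermChain
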