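import Cfsg.Agent.Lib.DegreeTools.Rationality
import Cfsg.Agent.Lib.CharDeep.ExactP.Main
import Cfsg.Agent.Lib.CharDeep.SmallFaithful.Main
import Cfsg.Agent.Lib.SmallGroups.BlockDegrees
import Cfsg.Agent.S4488

/-!
# Characters of small degree in a simple group

A nontrivial irreducible character of a nonabelian simple group is faithful, so its degree bounds
the prime divisors of the order; one that is alone of its degree in a principal block is rational,
so its degree bounds the order.
-/

set_option autoImplicit false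

namespace CfsgLib.SmallGroups.Cofactor

open Cfsg CfsgLib.Blocks
open scoped Classical

variable {G : Type*} [Group G] [Fintype G] [IsSimpleGroup G]

/-- A nontrivial irreducible character of a simple group is faithful. -/
theorem faithful {χ : IrrCharacter G} (hne : χ ≠ trivChar G) (g : G)
    (hg : (χ : G → ℂ) g = (χ : G → ℂ) 1) : g = 1 := by
  have hχ := CfsgLib.Char.isCharacter_irr χ
  rcases (CfsgLib.Char.charKer_normal hχ).eq_bot_or_eq_top with h | h
  · have : g ∈ CfsgLib.Char.charKer hχ := (CfsgLib.Char.mem_charKer hχ).2 hg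
    rw [h] at this
    exact Subgroup.mem_bot.1 this
  · exfalso
    have h0 := CfsgLib.Char.classInner_irr_ne χ.2 (trivChar G).2 fun h => hne (Subtype.ext h)
    have hall : ∀ x : G, (χ : G → ℂ) x = (χ : G → ℂ) 1 := fun x =>
      (CfsgLib.Char.mem_charKer hχ).1 (by rw [h]; exact Subgroup.mem_top x)
    rw [classInner] at h0
    simp only [trivChar_apply, map_one, mul_one, hall, Finset.sum_const, nsmul_eq_mul,
      irr_one_eq] at h0
    rcases mul_eq_zero.1 h0 with h1 | h1
    · simp at h1
    · rcases mul_eq_zero.1 h1 with h2 | h2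
      · simp at h2
      · exact (charDegree_pos χ).ne' (by exact_mod_cast h2)

/-- The degree of a nontrivial character bounds every prime divisor of the order. -/
theorem prime_le_degree (hG : ¬ IsMulCommutative G) {χ : IrrCharacter G} (hne : χ ≠ trivChar G) {r : ℕ}
    (hr : r.Prime) (hdiv : r ∣ Nat.card G) : r ≤ 2 * charDegree (χ : G → ℂ) + 1 := by
  by_contra hlt
  have : Fact r.Prime := ⟨hr⟩
  obtain ⟨P⟩ : Nonempty (Sylow r G) := inferInstance
  have hχ := CfsgLib.Char.isCharacter_irr χ
  have h1 := charDegree_pos χ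
  have hnormal : (P : Subgroup G).Normal :=
    CfsgLib.CharDeep.SmallFaithful.sylow_normal_aux (Nat.card G) G rfl _ hχ (faithful hne)
      (.inr ⟨by omega, fun K hK Q => CfsgLib.CharDeep.ExactP.sylow_normal_aux (Nat.card K) K rfl hK _
        (CfsgLib.Char.IsCharacter.restrict hχ K)
        (fun g e => CfsgLib.CharDeep.SmallFaithful.faithful_restrict (faithful hne) K g e)
        (by rw [CfsgLib.CharDeep.SmallFaithful.deg_restrict]; omega) Q⟩) P
  exact SimpleTools.normalizer_ne_top hG hdiv P (Subgroup.normalizer_eq_top_iff.2 hnormal)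

omit [IsSimpleGroup G] in
/-- A character of the principal block that is alone of its degree there has rational values. -/
theorem rational_of_unique {p : ℕ} {M : Ideal AlgInt} (hM : IsPModular p M) {χ : IrrCharacter G}
    (hχ : χ ∈ principalBlock M G)
    (huniq : ∀ ψ ∈ principalBlock M G, charDegree (ψ : G → ℂ) = charDegree (χ : G → ℂ) → ψ = χ) (g : G) :
    ∃ k : ℤ, (χ : G → ℂ) g = k := by
  refine CfsgLib.DegreeTools.Rationality.exists_int_of_fixed (irr_isIntegral χ g) fun σ => ?_
  have hmem := CfsgLib.DegreeTools.Rationality.galIrr_mem_principalBlock hM σ hχ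
  have hdeg : charDegree ((CfsgLib.DegreeTools.Rationality.galIrr σ χ : IrrCharacter G) : G → ℂ) =
      charDegree (χ : G → ℂ) := Nat.cast_injective (R := ℂ) (by
    rw [← irr_one_eq, ← irr_one_eq, CfsgLib.DegreeTools.Rationality.galIrr_apply, irr_one_eq, map_natCast])
  have h := congrArg (fun ψ : IrrCharacter G => (ψ : G → ℂ) g) (huniq _ hmem hdeg)
  rwa [CfsgLib.DegreeTools.Rationality.galIrr_apply] at h

/-- The exponent of a prime in the order, from a nontrivial rational character. -/
theorem exponent_le {χ : IrrCharacter G} (hne : χ ≠ trivChar G)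
    (hrat : ∀ g : G, ∃ k : ℤ, (χ : G → ℂ) g = k) {p : ℕ} (hp : p.Prime) {n : ℕ}
    (hn : charDegree (χ : G → ℂ) = n) :
    (Nat.card G).factorization p ≤ ∑ i ∈ Finset.range (n + 1), n / ((p - 1) * p ^ i) := by
  refine Cfsg.Agent.S4488.result p hp _ (CfsgLib.Char.isCharacter_irr χ) (faithful hne)
    ⟨1, one_pos, hp.not_dvd_one, fun g => ?_⟩ n hn
  obtain ⟨k, hk⟩ := hrat g
  rw [hk]
  exact intCast_mem _ k

/-- The exponents of the prime divisors of `u * p ^ a * r ^ b`. -/
theorem factorization_order {u p r a b : ℕ} (hu : u ≠ 0) (hp : p.Prime) (hr : r.Prime) (hpr : p ≠ r)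
    (hrp : ¬ r ∣ u) : (u * p ^ a * r ^ b).factorization r = b := by
  rw [Nat.factorization_mul (mul_ne_zero hu (pow_ne_zero _ hp.ne_zero)) (pow_ne_zero _ hr.ne_zero),
    Nat.factorization_mul hu (pow_ne_zero _ hp.ne_zero), Finsupp.add_apply, Finsupp.add_apply,
    Nat.factorization_eq_zero_of_not_dvd hrp, Nat.Prime.factorization_pow hp,
    Nat.Prime.factorization_pow hr]
  simp [hpr]

/-- A divisor of `u * p ^ c * r ^ d` prime to `u` is a product of powers of `p` and `r`. -/
theorem exists_exponents {u p r c d x : ℕ} (hp : p.Prime) (hr : r.Prime) (hd : x ∣ u * p ^ c * r ^ d)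
    (hu : Nat.Coprime x u) : ∃ k l : ℕ, k ≤ c ∧ l ≤ d ∧ x = p ^ k * r ^ l := by
  rw [mul_assoc] at hd
  obtain ⟨y, z, hy, hz, rfl⟩ := Nat.dvd_mul.1 (hu.dvd_of_dvd_mul_left hd)
  obtain ⟨k, hk, rfl⟩ := (Nat.dvd_prime_pow hp).1 hy
  obtain ⟨l, hl, rfl⟩ := (Nat.dvd_prime_pow hr).1 hz
  exact ⟨k, l, hk, hl, rfl⟩

end CfsgLib.SmallGroups.Cofactor
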