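import Cfsg.Agent.Lib.SmallGroups.MathieuSimple
import Cfsg.Agent.Lib.Sporadic.PlaneFourOvals
import Cfsg.Agent.Lib.Classical.SLOrders

/-!
# The stabiliser of three points of `M24` is `PSL(3, 4)`

Both groups act on a projective plane of order four, whose group has order at most six times 20160;
a simple group of order 20160 has no action on at most seven letters, so both fill the same subgroup.
-/

set_option autoImplicit false
set_option maxRecDepth 10000

namespace CfsgLib.SmallGroups.M21

open Cfsg
open scoped Pointwise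

/-- A bound for the collineations of a plane of order four. -/
theorem card_aut_le {α : Type*} [Fintype α] [DecidableEq α] (hα : Fintype.card α = 21)
    {L : Set (Finset α)} (hL : IsSteinerSystem 2 5 L) : Nat.card (setSystemAut L) ≤ 120960 := by
  classical
  set O := {H : Finset α | H.card = 6 ∧ ∀ l ∈ L, (l ∩ H).card ≤ 2} with hOdef
  have hO : O.ncard = 168 := Sporadic.PlaneFour.ncard_ovals hα hL
  obtain ⟨H₀, h6, hH₀⟩ : O.Nonempty := Set.nonempty_of_ncard_ne_zero (by rw [hO]; norm_num)
  have himg : ∀ g : setSystemAut L, H₀.image (g : Equiv.Perm α) ∈ O := fun g => by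
    refine ⟨by rw [Finset.card_image_of_injective _ (g : Equiv.Perm α).injective, h6], fun l hl => ?_⟩
    have hl' : (g : Equiv.Perm α)⁻¹ • l ∈ L :=
      (MulAction.mem_stabilizer_set.1 (inv_mem g.2) l).2 hl
    have e : l = ((g : Equiv.Perm α)⁻¹ • l).image (g : Equiv.Perm α) := by
      rw [show ((g : Equiv.Perm α)⁻¹ • l).image (g : Equiv.Perm α) =
        (g : Equiv.Perm α) • ((g : Equiv.Perm α)⁻¹ • l) from rfl, smul_inv_smul]
    rw [e, ← Finset.image_inter _ _ (g : Equiv.Perm α).injective,
      Finset.card_image_of_injective _ (g : Equiv.Perm α).injective]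
    exact hH₀ _ hl'
  let f : setSystemAut L → O × (↥H₀ → α) := fun g => (⟨_, himg g⟩, fun p => (g : Equiv.Perm α) p)
  -- the second components are bijections onto the first
  let T := Σ H : O, (↥H₀ ≃ ↥(H : Finset α))
  let F : setSystemAut L → T := fun g =>
    ⟨⟨_, himg g⟩, Equiv.ofBijective (fun p => ⟨(g : Equiv.Perm α) p, Finset.mem_image_of_mem _ p.2⟩)
      ⟨fun a b e => Subtype.ext ((g : Equiv.Perm α).injective (congrArg Subtype.val e)), fun q => by
        obtain ⟨p, hp, e⟩ := Finset.mem_image.1 q.2
        exact ⟨⟨p, hp⟩, Subtype.ext e⟩⟩⟩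
  have hf : Function.Injective f := by
    intro g g' e
    obtain ⟨u, -, huniq⟩ := Sporadic.PlaneFour.exists_unique_collineation hα hL h6 hH₀ (1 : Equiv.Perm ↥H₀)
    have h1 := huniq ((g'⁻¹ * g : setSystemAut L) : Equiv.Perm α) ⟨Subtype.prop _, fun p => by
      have := congrFun (congrArg Prod.snd e) p
      simp only [f] at this
      rw [Subgroup.coe_mul, Subgroup.coe_inv, Equiv.Perm.mul_apply, this, Equiv.Perm.coe_inv,
        Equiv.symm_apply_apply]
      rfl⟩
    have h2 := huniq (1 : Equiv.Perm α) ⟨one_mem _, fun p => rfl⟩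
    exact (inv_mul_eq_one.1 (Subtype.ext (h1.trans h2.symm))).symm
  have hF : Function.Injective F := fun g g' e => hf (by
    have h := congrArg (fun t : T => ((t.1, fun p => ((t.2 p : ↥(t.1 : Finset α)) : α)) : O × (↥H₀ → α))) e
    exact h)
  refine (Nat.card_le_card_of_injective F hF).trans ?_
  rw [Nat.card_sigma]
  have hcard : ∀ H : O, Nat.card (↥H₀ ≃ ↥(H : Finset α)) = 720 := fun H => by
    have e : ↥H₀ ≃ ↥(H : Finset α) := Finset.equivOfCardEq (h6.trans H.2.1.symm)
    rw [Nat.card_eq_fintype_card, Fintype.card_equiv e, Fintype.card_coe, h6]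
    rfl
  rw [Finset.sum_congr rfl fun H _ => hcard H, Finset.sum_const, Finset.card_univ, smul_eq_mul,
    ← Nat.card_eq_fintype_card, Nat.card_coe_set_eq, hO]

/-- A simple subgroup of order 20160 is the only subgroup of that order. -/
theorem eq_of_simple {A : Type*} [Group A] [Finite A] (hA : Nat.card A ≤ 120960) (S T : Subgroup A)
    [IsSimpleGroup S] (hS : Nat.card S = 20160) (hT : Nat.card T = 20160) : S = T := by
  classical
  have hidx : T.index ≤ 6 := by
    have h := T.index_mul_card
    rw [hT] at h
    omega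
  let φ : S →* Equiv.Perm (A ⧸ T) := (MulAction.toPermHom A (A ⧸ T)).comp S.subtype
  have hker : φ.ker = ⊤ := by
    refine (φ.normal_ker).eq_bot_or_eq_top.resolve_left fun hbot => ?_
    have h1 := Nat.card_le_card_of_injective φ ((MonoidHom.ker_eq_bot_iff φ).1 hbot)
    rw [hS, Nat.card_perm] at h1
    have h2 : (Nat.card (A ⧸ T)).factorial ≤ (6 : ℕ).factorial := Nat.factorial_le hidx
    have h3 : (6 : ℕ).factorial = 720 := rfl
    omega
  refine Subgroup.eq_of_le_of_card_ge (fun x hx => ?_) (by rw [hS, hT])
  have h1 : φ ⟨x, hx⟩ = 1 := MonoidHom.mem_ker.1 (hker ▸ Subgroup.mem_top _)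
  have h2 := congrArg (fun σ : Equiv.Perm (A ⧸ T) => σ ((1 : A) : A ⧸ T)) h1
  simp only [φ, MonoidHom.comp_apply, Subgroup.coe_subtype, MulAction.toPermHom_apply,
    MulAction.toPerm_apply, Equiv.Perm.one_apply] at h2
  rw [MulAction.Quotient.smul_coe, smul_eq_mul, mul_one, eq_comm, QuotientGroup.eq] at h2
  simpa using h2

/-! ### The plane in `M24` -/

section golay

open CfsgLib.SmallGroups.Golay CfsgLib.SmallGroups.GolayOctads

variable (T : Finset GolayPt)

/-- The points off the three. -/
abbrev Rest : Type := {x : GolayPt // x ∉ T}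

/-- The lines: traces of the octads through the three. -/
def lines : Set (Finset (Rest T)) :=
  {l | ∃ o ∈ octads, T ⊆ o ∧ l = Finset.subtype (fun x => x ∉ T) o}

variable {T}

theorem card_rest (hT : T.card = 3) : Fintype.card (Rest T) = 21 := by
  rw [Fintype.card_subtype, Finset.filter_not, Finset.filter_mem_eq_inter, Finset.univ_inter,
    ← Finset.compl_eq_univ_sdiff, Finset.card_compl, card_golayPt, hT]

theorem isSteiner (hT : T.card = 3) : IsSteinerSystem 2 5 (lines T) := by
  have hS := octads_steiner
  refine ⟨?_, fun s hs => ?_⟩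
  · rintro _ ⟨o, ho, hTo, rfl⟩
    rw [Finset.card_subtype, Finset.filter_notMem_eq_sdiff, Finset.card_sdiff_of_subset hTo, hS.1 o ho, hT]
  · have hsT : (T ∪ s.map (Function.Embedding.subtype _)).card = 5 := by
      rw [Finset.card_union_of_disjoint (Finset.disjoint_left.2 fun x hx hx' => by
        obtain ⟨y, -, rfl⟩ := Finset.mem_map.1 hx'
        exact y.2 hx), Finset.card_map, hT, hs]
    obtain ⟨o, ⟨ho, hsub⟩, huniq⟩ := hS.2 _ hsT
    refine ⟨_, ⟨⟨o, ho, Finset.union_subset_left hsub, rfl⟩, fun x hx => ?_⟩, ?_⟩
    · rw [Finset.mem_subtype]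
      exact Finset.union_subset_right hsub (Finset.mem_map_of_mem _ hx)
    · rintro _ ⟨⟨o', ho', hTo', rfl⟩, hs'⟩
      rw [huniq o' ⟨ho', Finset.union_subset hTo' fun x hx => by
        obtain ⟨y, hy, rfl⟩ := Finset.mem_map.1 hx
        exact Finset.mem_subtype.1 (hs' hy)⟩]

end golay

/-- Three points as an embedding. -/
def three (a b c : GolayPt) (hab : a ≠ b) (hac : a ≠ c) (hbc : b ≠ c) : Fin 3 ↪ GolayPt :=
  ⟨![a, b, c], fun i j e => by fin_cases i <;> fin_cases j <;> simp_all⟩

theorem card_stab_three {p q r : GolayPt} (hpq : p ≠ q) (hpr : p ≠ r) (hqr : q ≠ r) :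
    Nat.card ↥(MulAction.stabilizer M24 p ⊓ MulAction.stabilizer M24 q ⊓ MulAction.stabilizer M24 r) =
      20160 := by
  classical
  set K := MulAction.stabilizer M24 p ⊓ MulAction.stabilizer M24 q with hK
  have h := Mathieu.card_orbit_mul K r
  have e : MulAction.orbit K r = {p, q}ᶜ := by
    ext s
    constructor
    · rintro ⟨g, rfl⟩ hs
      rcases hs with hs | hs
      · exact hpr (smul_left_cancel (g : M24) (hs.trans (g.2.1 : (g : M24) • p = p).symm)).symm
      · exact hqr (smul_left_cancel (g : M24) (hs.trans (g.2.2 : (g : M24) • q = q).symm)).symm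
    · intro hs
      simp only [Set.mem_compl_iff, Set.mem_insert_iff, Set.mem_singleton_iff, not_or] at hs
      obtain ⟨g, hg⟩ := MathieuSimple.exists_map_of_le (show 3 ≤ 5 by norm_num)
        (three p q r hpq hpr hqr) (three p q s hpq (Ne.symm hs.1) (Ne.symm hs.2))
      exact ⟨⟨g, MulAction.mem_stabilizer_iff.2 (hg 0), MulAction.mem_stabilizer_iff.2 (hg 1)⟩, hg 2⟩
  rw [e, Set.ncard_compl, Set.ncard_pair hpq, Nat.card_eq_fintype_card (α := GolayPt),
    GolayOctads.card_golayPt, MathieuSimple.card_stab_two hpq] at h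
  omega

/-! ### The plane over the field of four elements -/

section projective

open Module

variable (F : Type) [Field F] [Fintype F]

/-- The points. -/
abbrev P3 : Type := Projectivization F (Fin 3 → F)

/-- The lines through two points. -/
def projLines [Fintype (P3 F)] [DecidableEq (P3 F)] : Set (Finset (P3 F)) :=
  {l | ∃ x y : P3 F, x ≠ y ∧ ∀ z, z ∈ l ↔ z.submodule ≤ x.submodule ⊔ y.submodule}

variable {F}

theorem card_points (hF : Fintype.card F = 4) : Nat.card (P3 F) = 21 := by
  rw [Projectivization.card_of_finrank F (Fin 3 → F) (Module.finrank_fin_fun F),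
    Nat.card_eq_fintype_card, hF]
  decide

theorem finrank_sup {x y : P3 F} (hxy : x ≠ y) : finrank F ↥(x.submodule ⊔ y.submodule) = 2 := by
  have h := Submodule.finrank_sup_add_finrank_inf_eq x.submodule y.submodule
  rw [x.finrank_submodule, y.finrank_submodule] at h
  have hb : x.submodule ⊓ y.submodule = ⊥ := by
    by_contra hne
    have h1 : finrank F ↥(x.submodule ⊓ y.submodule) = 1 := by
      have h2 := Submodule.finrank_mono (inf_le_left : x.submodule ⊓ y.submodule ≤ x.submodule)
      rw [x.finrank_submodule] at h2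
      have h3 : finrank F ↥(x.submodule ⊓ y.submodule) ≠ 0 := fun e => hne (Submodule.finrank_eq_zero.1 e)
      omega
    refine hxy (Projectivization.submodule_injective ?_)
    exact (Submodule.eq_of_le_of_finrank_eq inf_le_left (by rw [h1, x.finrank_submodule])).symm.trans
      (Submodule.eq_of_le_of_finrank_eq inf_le_right (by rw [h1, y.finrank_submodule]))
  rw [hb, finrank_bot] at h
  omega

theorem isSteiner_proj [Fintype (P3 F)] [DecidableEq (P3 F)] (hF : Fintype.card F = 4) :
    IsSteinerSystem 2 5 (projLines F) := by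
  classical
  refine ⟨?_, fun s hs => ?_⟩
  · rintro l ⟨x, y, hxy, hl⟩
    have hW := finrank_sup hxy
    set W := x.submodule ⊔ y.submodule
    have hcard : Nat.card (Projectivization F ↥W) = 5 := by
      rw [Projectivization.card_of_finrank_two F ↥W hW, Nat.card_eq_fintype_card, hF]
    rw [← hcard, ← Nat.card_eq_finsetCard l]
    let e : Projectivization F ↥W → ↥l := fun z =>
      ⟨z.map W.subtype W.injective_subtype, (hl _).2 (by
        induction z using Projectivization.ind with
        | h v hv => rw [Projectivization.map_mk, Projectivization.submodule_mk,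
            Submodule.span_singleton_le_iff_mem]; exact v.2)⟩
    refine (Nat.card_eq_of_bijective e ⟨fun a b h => ?_, fun z => ?_⟩).symm
    · exact Projectivization.map_injective W.subtype W.injective_subtype (congrArg Subtype.val h)
    · obtain ⟨z, hz⟩ := z
      have hz' := (hl z).1 hz
      induction z using Projectivization.ind with
      | h v hv =>
        rw [Projectivization.submodule_mk, Submodule.span_singleton_le_iff_mem] at hz'
        exact ⟨Projectivization.mk F (⟨v, hz'⟩ : W) (fun e => hv (congrArg Subtype.val e)),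
          Subtype.ext (Projectivization.map_mk W.subtype W.injective_subtype _ _)⟩
  · obtain ⟨x, y, hxy, rfl⟩ := Finset.card_eq_two.1 hs
    refine ⟨Finset.univ.filter fun z => z.submodule ≤ x.submodule ⊔ y.submodule,
      ⟨⟨x, y, hxy, fun z => by simp⟩, by simp [Finset.insert_subset_iff]⟩, ?_⟩
    rintro l ⟨⟨x', y', hxy', hl⟩, hsub⟩
    have e : x.submodule ⊔ y.submodule = x'.submodule ⊔ y'.submodule :=
      Submodule.eq_of_le_of_finrank_eq (sup_le ((hl x).1 (hsub (by simp))) ((hl y).1 (hsub (by simp))))
        (by rw [finrank_sup hxy, finrank_sup hxy'])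
    ext z
    rw [hl, Finset.mem_filter, e]
    simp

theorem submodule_smul (g : Matrix.SpecialLinearGroup (Fin 3) F) (x : P3 F) :
    (g • x).submodule =
      x.submodule.map (DistribMulAction.toModuleEnd F (Fin 3 → F) g) := by
  induction x using Projectivization.ind with
  | h v hv =>
    rw [Projectivization.smul_mk, Projectivization.submodule_mk, Projectivization.submodule_mk,
      Submodule.map_span, Set.image_singleton]
    rfl

theorem smul_projLines [Fintype (P3 F)] [DecidableEq (P3 F)]
    (g : Matrix.ProjectiveSpecialLinearGroup (Fin 3) F) :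
    MulAction.toPermHom _ (P3 F) g ∈ setSystemAut (projLines F) := by
  obtain ⟨g, rfl⟩ := QuotientGroup.mk_surjective g
  set σ := MulAction.toPermHom (Matrix.ProjectiveSpecialLinearGroup (Fin 3) F) (P3 F) (QuotientGroup.mk g)
  have hσ : ∀ x : P3 F, σ x = g • x := fun x => Matrix.ProjectiveSpecialLinearGroup.smul_proj_mk g x
  refine Set.eq_of_subset_of_ncard_le ?_ (le_of_eq ?_) (Set.toFinite _)
  · rintro _ ⟨l, ⟨x, y, hxy, hl⟩, rfl⟩
    refine ⟨g • x, g • y, fun e => hxy (smul_left_cancel g e), fun z => ?_⟩
    obtain ⟨w, rfl⟩ : ∃ w, g • w = z := ⟨g⁻¹ • z, smul_inv_smul g z⟩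
    have e : g • w ∈ σ • l ↔ w ∈ l := by rw [← hσ w]; exact Finset.smul_mem_smul_finset_iff σ
    refine e.trans ?_
    rw [hl, submodule_smul, submodule_smul, submodule_smul, ← Submodule.map_sup,
      Submodule.map_le_map_iff_of_injective]
    exact MulAction.injective g
  · exact (Set.ncard_image_of_injective _ (MulAction.injective σ)).symm

end projective

theorem card_psl (F : Type) [Field F] [Fintype F] (hF : Fintype.card F = 4) :
    Nat.card (Matrix.ProjectiveSpecialLinearGroup (Fin 3) F) = 20160 := by
  have h1 := CfsgLib.Classical.card_sl_mul hF 3 (by norm_num)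
  have h2 := CfsgLib.Classical.card_psl_mul hF 3 (by norm_num)
  rw [Fin.prod_univ_three] at h1
  norm_num at h1 h2
  omega

theorem nonempty_equiv (p q r : GolayPt) (hpq : p ≠ q) (hpr : p ≠ r) (hqr : q ≠ r)
    (F : Type) [Field F] [Fintype F] (hF : Fintype.card F = 4) :
    Nonempty (↥(MulAction.stabilizer M24 p ⊓ MulAction.stabilizer M24 q ⊓ MulAction.stabilizer M24 r) ≃*
      Matrix.ProjectiveSpecialLinearGroup (Fin 3) F) := by
  classical
  have hP := card_points hF
  have : Finite (P3 F) := Nat.finite_of_card_ne_zero (by rw [hP]; norm_num)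
  have : Fintype (P3 F) := Fintype.ofFinite _
  rw [Nat.card_eq_fintype_card] at hP
  set K := MulAction.stabilizer M24 p ⊓ MulAction.stabilizer M24 q ⊓ MulAction.stabilizer M24 r
  set T : Finset GolayPt := {p, q, r} with hTdef
  have hT : T.card = 3 := by simp [hTdef, hpq, hpr, hqr]
  have hfix : ∀ g : K, ∀ t ∈ T, ((g : M24) : Equiv.Perm GolayPt) t = t := fun g t ht => by
    simp only [hTdef, Finset.mem_insert, Finset.mem_singleton] at ht
    rcases ht with rfl | rfl | rfl
    · exact g.2.1.1
    · exact g.2.1.2
    · exact g.2.2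
  have hkeep : ∀ g : K, ∀ x, x ∉ T ↔ ((g : M24) : Equiv.Perm GolayPt) x ∉ T := fun g x => by
    constructor
    · intro hx hgx
      have e := hfix g _ hgx
      exact hx (((g : M24) : Equiv.Perm GolayPt).injective e ▸ hgx)
    · intro hgx hx
      exact hgx ((hfix g x hx).symm ▸ hx)
  let res : K →* Equiv.Perm (Rest T) :=
    { toFun := fun g => ((g : M24) : Equiv.Perm GolayPt).subtypePerm fun x => (hkeep g x).symm
      map_one' := by ext x; rfl
      map_mul' := fun a b => by ext x; rfl }
  have hres : ∀ g : K, res g ∈ setSystemAut (lines T) := fun g => by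
    refine Set.eq_of_subset_of_ncard_le ?_ (le_of_eq ?_) (Set.toFinite _)
    · rintro _ ⟨l, ⟨o, ho, hTo, rfl⟩, rfl⟩
      refine ⟨((g : M24) : Equiv.Perm GolayPt) • o, M24Group.smul_mem_weight (g : M24).2 ho,
        fun t ht => ?_, ?_⟩
      · exact Finset.mem_smul_finset.2 ⟨t, hTo ht, hfix g t ht⟩
      · ext x
        simp only [Finset.mem_smul_finset, Finset.mem_subtype]
        constructor
        · rintro ⟨y, hy, rfl⟩
          exact ⟨y.1, hy, rfl⟩
        · rintro ⟨y, hy, e⟩
          exact ⟨⟨y, (hkeep g y).2 (by rw [show ((g : M24) : Equiv.Perm GolayPt) y = x from e]; exact x.2)⟩,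
            hy, Subtype.ext e⟩
    · exact (Set.ncard_image_of_injective _ (MulAction.injective (res g))).symm
  let a : K →* setSystemAut (lines T) := res.codRestrict _ hres
  have ha : Function.Injective a := fun g h e => by
    have e' : res g = res h := congrArg Subtype.val e
    refine Subtype.ext (Subtype.ext (Equiv.ext fun x => ?_))
    by_cases hx : x ∈ T
    · rw [hfix g x hx, hfix h x hx]
    · exact congrArg Subtype.val (congrArg (fun σ : Equiv.Perm (Rest T) => σ ⟨x, hx⟩) e')
  -- transport the projective group to the same plane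
  obtain ⟨E, hE⟩ := Sporadic.PlaneFour.unique hP (card_rest hT) (isSteiner_proj hF) (isSteiner hT)
  let act : Matrix.ProjectiveSpecialLinearGroup (Fin 3) F →* Equiv.Perm (Rest T) :=
    E.permCongrHom.toMonoidHom.comp (MulAction.toPermHom _ (P3 F))
  have hact : ∀ g, act g ∈ setSystemAut (lines T) := fun g => by
    set σ := MulAction.toPermHom (Matrix.ProjectiveSpecialLinearGroup (Fin 3) F) (P3 F) g with hσdef
    have hσ : σ • projLines F = projLines F := smul_projLines g
    have key : ∀ l : Finset (P3 F), act g • l.image E = (σ • l).image E := fun l => by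
      show (l.image E).image (act g) = (l.image σ).image E
      rw [Finset.image_image, Finset.image_image]
      congr 1
      funext x
      simp [act, hσdef]
    show act g • lines T = lines T
    conv_lhs => rw [← hE]
    conv_rhs => rw [← hE, ← hσ]
    rw [← Set.image_smul, ← Set.image_smul, Set.image_image, Set.image_image]
    exact Set.image_congr' key
  have hsimple := CfsgLib.Classical.psl_fin_isSimpleGroup (F := F) (k := 3) (by norm_num) (by norm_num)
  let b : Matrix.ProjectiveSpecialLinearGroup (Fin 3) F →* setSystemAut (lines T) :=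
    act.codRestrict _ hact
  have hb : Function.Injective b := by
    rw [← MonoidHom.ker_eq_bot_iff]
    refine (b.normal_ker).eq_bot_or_eq_top.resolve_right fun htop => ?_
    obtain ⟨x, y, hxy⟩ := Fintype.exists_pair_of_one_lt_card (show 1 < Fintype.card (P3 F) by omega)
    obtain ⟨g, hg⟩ := MulAction.exists_smul_eq (Matrix.SpecialLinearGroup (Fin 3) F) x y
    have h1 : b (QuotientGroup.mk g) = 1 := MonoidHom.mem_ker.1 (htop ▸ Subgroup.mem_top _)
    have h2 : act (QuotientGroup.mk g) (E x) = E x := by
      rw [show act (QuotientGroup.mk g) = 1 from congrArg Subtype.val h1]; rfl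
    simp only [act, MonoidHom.comp_apply, MulEquiv.coe_toMonoidHom, Equiv.permCongrHom_coe,
      Equiv.permCongr_apply, Equiv.symm_apply_apply, MulAction.toPermHom_apply, MulAction.toPerm_apply,
      EmbeddingLike.apply_eq_iff_eq] at h2
    rw [Matrix.ProjectiveSpecialLinearGroup.smul_proj_mk, hg] at h2
    exact hxy h2.symm
  have hA := card_aut_le (card_rest hT) (isSteiner hT)
  have ea : Nat.card a.range = 20160 := by
    rw [← Nat.card_congr (MonoidHom.ofInjective ha).toEquiv, card_stab_three hpq hpr hqr]
  have eb : Nat.card b.range = 20160 := by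
    rw [← Nat.card_congr (MonoidHom.ofInjective hb).toEquiv, card_psl F hF]
  have : IsSimpleGroup b.range := MathieuSimple.isSimpleGroup_congr' (MonoidHom.ofInjective hb)
  exact ⟨(MonoidHom.ofInjective ha).trans ((MulEquiv.subgroupCongr (eq_of_simple hA _ _ eb ea).symm).trans
    (MonoidHom.ofInjective hb).symm)⟩

end CfsgLib.SmallGroups.M21
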