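import Mathlib

/-!
# Jordan's theorem on cycles of prime length

A primitive permutation group of degree `n` containing a cycle of prime length `p` with
`2 * p ≤ n + 1` contains the alternating group.
-/

set_option autoImplicit false

namespace CfsgLib.SmallGroups.JordanCycle

open MulAction Equiv

variable {X : Type*} [Fintype X] [DecidableEq X]

/-- The commutator of two cycles whose supports meet in one point is a 3-cycle. -/
theorem isThreeCycle_commutator {c d : Perm X} {a : X} (hca : c a ≠ a) (hda : d a ≠ a)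
    (h : ∀ z, c z ≠ z → d z ≠ z → z = a) : (c * d * c⁻¹ * d⁻¹).IsThreeCycle := by
  have hc : ∀ z, d z ≠ z → z ≠ a → c z = z := fun z h1 h2 => by
    by_contra h3; exact h2 (h z h3 h1)
  have hd : ∀ z, c z ≠ z → z ≠ a → d z = z := fun z h1 h2 => by
    by_contra h3; exact h2 (h z h1 h3)
  have hc' : ∀ z, c z = z → c⁻¹ z = z := fun z hz => Perm.inv_eq_iff_eq.mpr hz.symm
  have hd' : ∀ z, d z = z → d⁻¹ z = z := fun z hz => Perm.inv_eq_iff_eq.mpr hz.symm
  have mc : ∀ z, c z ≠ z → c (c z) ≠ c z := fun z hz e => hz (c.injective e)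
  have md : ∀ z, d z ≠ z → d (d z) ≠ d z := fun z hz e => hz (d.injective e)
  have hne1 : c a ≠ a := hca
  have hne2 : d a ≠ a := hda
  have hne3 : c a ≠ d a := fun e => hne1 (h (c a) (mc a hca) (e ▸ md a hda))
  rw [← card_support_eq_three_iff]
  suffices e : (c * d * c⁻¹ * d⁻¹).support = {a, c a, d a} by
    rw [e, Finset.card_insert_of_notMem (by simp [hne1.symm, hne2.symm]),
      Finset.card_insert_of_notMem (by simp [hne3]), Finset.card_singleton]
  ext z
  simp only [Perm.mem_support, Perm.mul_apply, Finset.mem_insert, Finset.mem_singleton]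
  constructor
  · intro hz
    by_contra hcon
    push Not at hcon
    obtain ⟨ha, hz1, hz2⟩ := hcon
    apply hz
    by_cases h1 : d z = z
    · rw [hd' z h1]
      by_cases h2 : c z = z
      · rw [hc' z h2, h1, h2]
      · have h3 : c (c⁻¹ z) ≠ c⁻¹ z := by
          intro e; rw [Perm.coe_inv, Equiv.apply_symm_apply] at e
          exact h2 (Perm.inv_eq_iff_eq.mp e.symm).symm
        have h4 : c⁻¹ z ≠ a := fun e => hz1 (by rw [← e]; simp)
        rw [hd _ h3 h4]; simp
    · have h2 : c z = z := hc z h1 ha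
      have h3 : d (d⁻¹ z) ≠ d⁻¹ z := by
        intro e; rw [Perm.coe_inv, Equiv.apply_symm_apply] at e
        exact h1 (Perm.inv_eq_iff_eq.mp e.symm).symm
      have h4 : d⁻¹ z ≠ a := fun e => hz2 (by rw [← e]; simp)
      rw [hc' _ (hc _ h3 h4)]
      simp [h2]
  · rintro (rfl | rfl | rfl)
    · have h4 : d⁻¹ z ≠ z := fun e => hda (Perm.inv_eq_iff_eq.mp e).symm
      have h3 : d (d⁻¹ z) ≠ d⁻¹ z := by
        simpa [Equiv.apply_symm_apply] using h4.symm
      rw [hc' _ (hc _ h3 h4)]
      simpa using hca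
    · have h1 : d (c a) = c a := hd _ (mc a hca) hne1
      rw [hd' _ h1]
      simpa using hne2
    · have h4 : c⁻¹ a ≠ a := fun e => hca (Perm.inv_eq_iff_eq.mp e).symm
      have h3 : c (c⁻¹ a) ≠ c⁻¹ a := by simpa using h4.symm
      have h5 : c (d (c⁻¹ (d⁻¹ (d a)))) = a := by
        rw [show d⁻¹ (d a) = a by simp, hd _ h3 h4]; simp
      rw [h5]; exact hne2.symm

/-- Jordan: a primitive group of degree `n` with a cycle of prime length `p`, `2 * p ≤ n + 1`,
contains the alternating group. -/
theorem alternatingGroup_le {G : Subgroup (Perm X)} (hG : IsPreprimitive G X) {c : Perm X} (hc : c.IsCycle)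
    (hcG : c ∈ G) (hp : c.support.card.Prime) (hn : 2 * c.support.card ≤ Fintype.card X + 1) :
    alternatingGroup X ≤ G := by
  set p := c.support.card with hpdef
  set n := Fintype.card X
  have h2 : 2 ≤ p := hp.two_le
  have hsub : (c.supportᶜ).card = n - p := Finset.card_compl _
  have hmp : IsMultiplyPreprimitive G X (n - p + 1) := by
    obtain ⟨m, hm⟩ : ∃ m, n - p = m + 1 := ⟨n - p - 1, by omega⟩
    rw [show n - p + 1 = m + 2 by omega]
    refine hG.isMultiplyPreprimitive (s := (c.support : Set X)ᶜ) ?_ ?_ ?_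
    · rw [← Finset.coe_compl, Set.ncard_coe_finset, hsub, hm]
    · rw [Nat.card_eq_fintype_card]; omega
    · have := Perm.isPretransitive_of_isCycle_mem hc hcG
      apply IsPreprimitive.of_prime_card
      convert hp using 1
      classical
      rw [Nat.card_eq_fintype_card, Fintype.card_subtype, hpdef]
      congr 1
      ext x
      simp [SubMulAction.mem_ofFixingSubgroup_iff]
  obtain ⟨a, ha⟩ := Finset.card_pos.mp (show 0 < c.support.card by omega)
  obtain ⟨k, hk⟩ : ∃ k, p = k + 1 := ⟨p - 1, by omega⟩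
  obtain ⟨T, hT, hTcard⟩ := Finset.exists_subset_card_eq (s := c.supportᶜ) (n := k) (by omega)
  have herase : (c.support.erase a).card = k := by rw [Finset.card_erase_of_mem ha]; omega
  let e1 : Fin k ↪ X :=
    ⟨fun i => (((c.support.erase a).equivFinOfCardEq herase).symm i : X), Subtype.val_injective.comp (Equiv.injective _)⟩
  let e2 : Fin k ↪ X := ⟨fun i => ((T.equivFinOfCardEq hTcard).symm i : X), Subtype.val_injective.comp (Equiv.injective _)⟩
  have hr1 : a ∉ Set.range e1 := by
    rintro ⟨i, hi⟩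
    have := (((c.support.erase a).equivFinOfCardEq herase).symm i).2
    rw [Finset.mem_erase] at this
    exact this.1 hi
  have hr2 : a ∉ Set.range e2 := by
    rintro ⟨i, hi⟩
    exact Finset.mem_compl.mp (hT (hi ▸ ((T.equivFinOfCardEq hTcard).symm i).2)) ha
  let f1 : Fin (k + 1) ↪ X := ⟨Fin.cons a e1, Fin.cons_injective_iff.mpr ⟨hr1, e1.injective⟩⟩
  let f2 : Fin (k + 1) ↪ X := ⟨Fin.cons a e2, Fin.cons_injective_iff.mpr ⟨hr2, e2.injective⟩⟩
  have : IsMultiplyPretransitive G X (k + 1) := by
    have := hmp.isMultiplyPretransitive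
    refine isMultiplyPretransitive_of_le' (n := n - p + 1) (by omega) ?_
    rw [ENat.card_eq_coe_natCard, Nat.card_eq_fintype_card]
    exact_mod_cast (by omega : n - p + 1 ≤ n)
  obtain ⟨g, hg⟩ := exists_smul_eq G f1 f2
  have hg' : ∀ i, (g : Perm X) (f1 i) = f2 i := fun i => DFunLike.congr_fun hg i
  have hga : (g : Perm X) a = a := hg' 0
  set d := (g : Perm X) * c * (g : Perm X)⁻¹
  have hdG : d ∈ G := mul_mem (mul_mem g.2 hcG) (inv_mem g.2)
  have hca : c a ≠ a := Perm.mem_support.mp ha
  have h3 : (c * d * c⁻¹ * d⁻¹).IsThreeCycle := by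
    refine isThreeCycle_commutator hca ?_ ?_ (a := a)
    · have hga' : (g : Perm X)⁻¹ a = a := Perm.inv_eq_iff_eq.mpr hga.symm
      simp only [d, Perm.mul_apply, hga']
      exact fun e => hca ((g : Perm X).injective (e.trans hga.symm))
    · intro z hz1 hz2
      by_contra hza
      have hw : c ((g : Perm X)⁻¹ z) ≠ (g : Perm X)⁻¹ z := by
        intro e
        apply hz2
        simp only [d, Perm.mul_apply, e]
        simp
      have hwa : (g : Perm X)⁻¹ z ≠ a := fun e => hza (by rw [← hga, ← e]; simp)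
      obtain ⟨i, hi⟩ : ∃ i, e1 i = (g : Perm X)⁻¹ z :=
        ⟨(c.support.erase a).equivFinOfCardEq herase ⟨_, Finset.mem_erase.mpr ⟨hwa, Perm.mem_support.mpr hw⟩⟩, by
          simp [e1]⟩
      have h5 : (g : Perm X) (e1 i) = e2 i := by simpa [f1, f2] using hg' i.succ
      rw [hi] at h5
      have hzT : z ∈ T := by
        have h6 := ((T.equivFinOfCardEq hTcard).symm i).2
        simp only [Perm.coe_inv, Equiv.apply_symm_apply] at h5
        rw [h5]; exact h6
      exact Finset.mem_compl.mp (hT hzT) (Perm.mem_support.mpr hz1)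
  exact Perm.alternatingGroup_le_of_isPreprimitive_of_isThreeCycle_mem hG h3
    (mul_mem (mul_mem (mul_mem hcG hdG) (inv_mem hcG)) (inv_mem hdG))

end CfsgLib.SmallGroups.JordanCycle
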