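import Mathlib
import Cfsg.Agent.Lib.SmallGroups.Simplicity

/-!
# Normalisers of Sylow subgroups of order `p` in groups of degree `p` and `2p`
-/

set_option autoImplicit false

namespace CfsgLib.SmallGroups.PrimeDegree

open Subgroup

theorem card_normalizer_dvd {G : Type*} [Group G] [Finite G] {p : ℕ} [Fact p.Prime] (P : Subgroup G)
    (hP : Nat.card P = p) :
    Nat.card (normalizer (P : Set G)) ∣ Nat.card (centralizer (P : Set G)) * (p - 1) := by
  have hle : centralizer (P : Set G) ≤ normalizer (P : Set G) := centralizer_le_normalizer _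
  have key : ((centralizer (P : Set G)).subgroupOf (normalizer (P : Set G))).index ∣ p - 1 := by
    rw [← normalizerMonoidHom_ker, index_ker]
    refine (card_subgroup_dvd_card _).trans ?_
    have : IsCyclic P := isCyclic_of_prime_card hP
    rw [IsCyclic.card_mulAut, hP, Nat.totient_prime Fact.out]
  rw [← ((centralizer (P : Set G)).subgroupOf (normalizer (P : Set G))).card_mul_index,
    Nat.card_congr (subgroupOfEquivOfLe hle).toEquiv]
  exact Nat.mul_dvd_mul_left _ key

/-- The centraliser of a subgroup with `k` regular orbits, sharp version for `k ≤ 2`. -/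
theorem card_centralizer_le {G X : Type*} [Group G] [MulAction G X] [FaithfulSMul G X] [Finite X]
    {p : ℕ} [Fact p.Prime] (P : Subgroup G) (hP : Nat.card P = p) (hX : Nat.card X ≤ 2 * p)
    (a : X) (hfree : ∀ g : G, g • a = a → g ^ p = 1 → g = 1)
    (hsemi : ∀ h ∈ P, ∀ y : X, h • y = y → h = 1) :
    Nat.card (centralizer (P : Set G)) ≤ Nat.card X := by
  refine Nat.card_le_card_of_injective (fun c => (c : G) • a) fun c c' h => ?_
  have hd : ((c'⁻¹ * c : centralizer (P : Set G)) : G) • a = a := by
    rw [Subgroup.coe_mul, Subgroup.coe_inv, mul_smul]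
    exact inv_smul_eq_iff.mpr h
  suffices H : ∀ d : centralizer (P : Set G), (d : G) • a = a → d = 1 from
    (inv_mul_eq_one.mp (H _ hd)).symm
  intro d hda
  have hcomm : ∀ h ∈ P, ∀ y : X, (d : G) • h • y = h • (d : G) • y := fun h hh y => by
    rw [smul_smul, smul_smul, (mem_centralizer_iff.mp d.2 h hh).symm]
  have hA : ∀ h ∈ P, (d : G) • h • a = h • a := fun h hh => by rw [hcomm h hh, hda]
  refine Subtype.ext (hfree d hda ?_)
  refine FaithfulSMul.eq_of_smul_eq_smul (α := X) fun y => ?_
  rw [one_smul]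
  by_cases hy : ∃ h ∈ P, h • a = y
  · obtain ⟨h, hh, rfl⟩ := hy
    have : ∀ n : ℕ, (d : G) ^ n • h • a = h • a := by
      intro n
      induction n with
      | zero => simp
      | succ n ih => rw [pow_succ, mul_smul, hA h hh, ih]
    exact this p
  · classical
    have hcard : Nat.card {z : X // ∃ h ∈ P, h • a = z} = p := by
      rw [← hP]
      refine (Nat.card_eq_of_bijective (fun h : P => (⟨(h : G) • a, h, h.2, rfl⟩ :
        {z : X // ∃ h ∈ P, h • a = z})) ⟨fun h h' e => ?_, ?_⟩).symm
      · have e' : (h : G) • a = (h' : G) • a := congrArg Subtype.val e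
        have := hsemi _ (P.mul_mem (P.inv_mem h'.2) h.2) a (by rw [mul_smul]; exact inv_smul_eq_iff.mpr e')
        exact Subtype.ext (inv_mul_eq_one.mp this).symm
      · rintro ⟨z, h, hh, rfl⟩; exact ⟨⟨h, hh⟩, rfl⟩
    have hB : Nat.card {z : X // ¬ ∃ h ∈ P, h • a = z} ≤ p := by
      have := Fintype.ofFinite X
      rw [Nat.card_eq_fintype_card, Fintype.card_subtype_compl, ← Nat.card_eq_fintype_card,
        ← Nat.card_eq_fintype_card, hcard]
      omega
    let φ : P → {z : X // ¬ ∃ h ∈ P, h • a = z} := fun h => ⟨(h : G) • y, fun ⟨k, hk, e⟩ =>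
      hy ⟨(h : G)⁻¹ * k, P.mul_mem (P.inv_mem h.2) hk, by rw [mul_smul, e, inv_smul_smul]⟩⟩
    have hφ : Function.Bijective φ := by
      refine (Nat.bijective_iff_injective_and_card φ).mpr ⟨fun h h' e => ?_, ?_⟩
      · have e' : (h : G) • y = (h' : G) • y := congrArg Subtype.val e
        have := hsemi _ (P.mul_mem (P.inv_mem h'.2) h.2) y (by rw [mul_smul]; exact inv_smul_eq_iff.mpr e')
        exact Subtype.ext (inv_mul_eq_one.mp this).symm
      · refine le_antisymm ?_ (hP ▸ hB)
        refine Nat.card_le_card_of_injective φ fun h h' e => ?_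
        have e' : (h : G) • y = (h' : G) • y := congrArg Subtype.val e
        have := hsemi _ (P.mul_mem (P.inv_mem h'.2) h.2) y (by rw [mul_smul]; exact inv_smul_eq_iff.mpr e')
        exact Subtype.ext (inv_mul_eq_one.mp this).symm
    have hdy : ¬ ∃ h ∈ P, h • a = (d : G) • y := fun ⟨k, hk, e⟩ => hy ⟨k, hk, by
      rw [← hA k hk] at e
      exact (smul_left_cancel_iff (d : G)).mp e⟩
    obtain ⟨h, hh⟩ := hφ.2 ⟨(d : G) • y, hdy⟩
    have e : (h : G) • y = (d : G) • y := congrArg Subtype.val hh
    have hn : ∀ n : ℕ, (d : G) ^ n • y = (h : G) ^ n • y := by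
      intro n
      induction n with
      | zero => simp
      | succ n ih =>
        rw [pow_succ', mul_smul, ih, hcomm _ (P.pow_mem h.2 n), ← e, ← mul_smul, ← pow_succ]
    rw [hn p, ← hP, ← Subgroup.coe_pow, pow_card_eq_one', Subgroup.coe_one, one_smul]

/-- Simplicity of a transitive group whose degree is `p`, or `2p`, from arithmetic. -/
theorem isSimple_of_arith {G X : Type*} [Group G] [Finite G] [MulAction G X] [FaithfulSMul G X]
    [Finite X] [MulAction.IsPreprimitive G X] (a : X) {p : ℕ} [Fact p.Prime] {m : ℕ}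
    (hG : Nat.card G = p * m) (hpm : ¬ p ∣ m) (k : ℕ) (hk : k = 1 ∨ k = 2)
    (hX : Nat.card X = k * p)
    (harith : ∀ d ∈ (k * (p - 1)).divisors, d ∣ m → (m / d) % p = 1 → d.Prime ∧ d ≠ m) :
    IsSimpleGroup G := by
  have hp : p.Prime := Fact.out
  obtain ⟨P⟩ : Nonempty (Sylow p G) := inferInstance
  have hP : Nat.card (P : Subgroup G) = p := by
    rw [P.card_eq_multiplicity, hG, Nat.factorization_mul hp.ne_zero (by rintro rfl; simp at hpm),
      Finsupp.add_apply, hp.factorization_self, Nat.factorization_eq_zero_of_not_dvd hpm, add_zero,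
      pow_one]
  -- point stabilisers have order prime to `p`
  have hstab : ∀ y : X, ¬ p ∣ Nat.card (MulAction.stabilizer G y) := by
    intro y hdvd
    have h := (MulAction.stabilizer G y).index_mul_card
    rw [MulAction.index_stabilizer_of_transitive, hX, hG] at h
    obtain ⟨c, hc⟩ := hdvd
    rw [hc] at h
    exact hpm ⟨k * c, mul_left_cancel₀ hp.ne_zero (by rw [← h]; ring)⟩
  have hfree : ∀ (y : X) (g : G), g • y = y → g ^ p = 1 → g = 1 := by
    intro y g hgy hg
    rcases (Nat.dvd_prime hp).mp (orderOf_dvd_of_pow_eq_one hg) with h | h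
    · exact orderOf_eq_one_iff.mp h
    · exact absurd (h ▸ Subgroup.orderOf_dvd_natCard _ (show g ∈ MulAction.stabilizer G y from hgy))
        (hstab y)
  have hsemi : ∀ h ∈ (P : Subgroup G), ∀ y : X, h • y = y → h = 1 := fun h hh y e => by
    refine hfree y h e ?_
    rw [← hP]
    exact congrArg Subtype.val (pow_card_eq_one' (x := (⟨h, hh⟩ : (P : Subgroup G))))
  have hC : Nat.card (centralizer ((P : Subgroup G) : Set G)) ≤ k * p := hX ▸
    card_centralizer_le (X := X) (P : Subgroup G) hP (by rw [hX]; rcases hk with rfl | rfl <;> omega) a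
      (hfree a) hsemi
  have hPC : (P : Subgroup G) ≤ centralizer ((P : Subgroup G) : Set G) := by
    have : IsCyclic (P : Subgroup G) := isCyclic_of_prime_card hP
    have : IsMulCommutative (P : Subgroup G) := ⟨⟨fun x y => IsCyclic.commGroup.mul_comm x y⟩⟩
    exact le_centralizer _
  have hCdvd : Nat.card (centralizer ((P : Subgroup G) : Set G)) ∣ k * p := by
    obtain ⟨c, hc⟩ := Subgroup.card_dvd_of_le hPC
    rw [hP] at hc
    rw [hc] at hC ⊢
    have hc2 : c ≤ k := Nat.le_of_mul_le_mul_left (by rwa [mul_comm p k]) hp.pos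
    have hc0 : c ≠ 0 := fun h => by
      rw [h, mul_zero] at hc
      exact (Nat.card_pos (α := centralizer ((P : Subgroup G) : Set G))).ne' hc
    rw [mul_comm p c]
    refine Nat.mul_dvd_mul_right ?_ p
    rcases hk with rfl | rfl
    · exact (show c = 1 by omega) ▸ dvd_rfl
    · rcases (show c = 1 ∨ c = 2 by omega) with rfl | rfl <;> norm_num
  have hNdvd := (card_normalizer_dvd (P : Subgroup G) hP).trans (Nat.mul_dvd_mul_right hCdvd _)
  set M := normalizer ((P : Subgroup G) : Set G)
  have hPM : (P : Subgroup G) ≤ M := le_normalizer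
  obtain ⟨d, hd⟩ := Subgroup.card_dvd_of_le hPM
  rw [hP] at hd
  have hdiv : d ∣ k * (p - 1) := by
    rw [hd, show k * p * (p - 1) = p * (k * (p - 1)) by ring] at hNdvd
    exact (Nat.mul_dvd_mul_iff_left hp.pos).mp hNdvd
  have hdm : d ∣ m := by
    have := M.card_subgroup_dvd_card
    rw [hd, hG] at this
    exact (Nat.mul_dvd_mul_iff_left hp.pos).mp this
  have hd0 : 0 < d := Nat.pos_of_ne_zero fun h => by
    rw [h, mul_zero] at hd
    exact (Nat.card_pos (α := M)).ne' hd
  have hn : Nat.card (Sylow p G) = m / d := by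
    have := M.index_mul_card
    rw [hd, hG, show M.index = Nat.card (Sylow p G) from P.card_eq_index_normalizer.symm] at this
    rw [show m = Nat.card (Sylow p G) * d from mul_left_cancel₀ hp.ne_zero (by rw [← this]; ring),
      Nat.mul_div_cancel _ hd0]
  have hmod : (m / d) % p = 1 := by
    rw [← hn, card_sylow_modEq_one p G, Nat.mod_eq_of_lt hp.one_lt]
  obtain ⟨hdp, hdne⟩ := harith d (Nat.mem_divisors.mpr ⟨hdiv, by
    rcases hk with rfl | rfl <;> have := hp.two_le <;> omega⟩) hdm hmod
  refine Simplicity.isSimple_of_normalizer P hP ?_ ?_ fun N hN hne =>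
    (Dvd.intro_left k hX.symm).trans (Simplicity.card_dvd_card_normal_of_primitive (X := X) N hN hne)
  · intro hnorm
    have : M = ⊤ := normalizer_eq_top_iff.mpr hnorm
    rw [this, Subgroup.card_top, hG] at hd
    exact hdne (mul_left_cancel₀ hp.ne_zero hd).symm
  · refine Simplicity.between_of_prime_index hPM ?_
    have h := Subgroup.relIndex_mul_relIndex (⊥ : Subgroup G) _ _ bot_le hPM
    rw [relIndex_bot_left, relIndex_bot_left, hP, hd] at h
    rw [mul_left_cancel₀ hp.ne_zero h]
    exact hdp

end CfsgLib.SmallGroups.PrimeDegree
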