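import Mathlib
import Cfsg.Agent.Lib.SmallGroups.M24Group
import Cfsg.Agent.Lib.SmallGroups.PrimeDegree

/-!
# Transitivity, stabiliser orders and simplicity in `Cfsg.M24`
-/

set_option autoImplicit false

namespace CfsgLib.SmallGroups.Mathieu

open Cfsg CfsgLib.SmallGroups.Golay CfsgLib.SmallGroups.GolayOctads CfsgLib.SmallGroups.M24Group
open scoped Pointwise

/-- An enumeration of five distinct points inside a set of at least five points. -/
theorem exists_five {S : Finset GolayPt} (h : 5 ≤ S.card) :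
    ∃ x : Fin 5 → GolayPt, Function.Injective x ∧ ∀ i, x i ∈ S := by
  obtain ⟨T, hT, hc⟩ := Finset.exists_subset_card_eq h
  refine ⟨fun i => ((T.equivFinOfCardEq hc).symm i : GolayPt), fun i j e => ?_, fun i => hT ?_⟩
  · exact (T.equivFinOfCardEq hc).symm.injective (Subtype.ext e)
  · exact Subtype.coe_prop _

theorem exists_to_base {x : Fin 5 → GolayPt} (hx : Function.Injective x) :
    ∃ g ∈ M24, ∀ i : Fin 5, g (x i) = bpt i :=
  exists_map le_rfl x _ hx fun i j e => Fin.ext (bpt_inj i (by omega) j (by omega) e)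

theorem base_subset_smul {x : Fin 5 → GolayPt} {S : Finset GolayPt} (hS : ∀ i, x i ∈ S)
    {g : Equiv.Perm GolayPt} (hg : ∀ i : Fin 5, g (x i) = bpt i) :
    (Finset.range 5).image bpt ⊆ g • S := by
  intro p hp
  obtain ⟨j, hj, rfl⟩ := Finset.mem_image.mp hp
  rw [Finset.mem_range] at hj
  rw [← hg ⟨j, hj⟩, ← Equiv.Perm.smul_def]
  exact Finset.smul_mem_smul_finset (hS _)

theorem exists_to_octB {o : Finset GolayPt} (ho : o ∈ octads) :
    ∃ g ∈ M24, g • o = toSet octB := by
  obtain ⟨x, hx, hxo⟩ := exists_five (show 5 ≤ o.card by rw [ho.2]; norm_num)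
  obtain ⟨g, hg, h⟩ := exists_to_base hx
  refine ⟨g, hg, octad_eq_of_inter (smul_mem_weight hg ho) octB_mem ?_⟩
  have hc : ((Finset.range 5).image bpt).card = 5 := by decide +kernel
  rw [← hc]
  refine Finset.card_le_card (Finset.subset_inter (base_subset_smul hxo h) fun p hp => ?_)
  obtain ⟨j, hj, rfl⟩ := Finset.mem_image.mp hp
  exact bpt_mem_octB j (by rw [Finset.mem_range] at hj; omega)

theorem octads_transitive {o o' : Finset GolayPt} (ho : o ∈ octads) (ho' : o' ∈ octads) :
    ∃ g : M24, g • o = o' := by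
  obtain ⟨g, hg, h⟩ := exists_to_octB ho
  obtain ⟨k, hk, h'⟩ := exists_to_octB ho'
  refine ⟨⟨k⁻¹ * g, mul_mem (inv_mem hk) hg⟩, ?_⟩
  show (k⁻¹ * g) • o = o'
  rw [mul_smul, h, ← h', inv_smul_smul]

/-! ### Dodecads through the five base points -/

/-- The image of a mask under a table. -/
def img (t : ℕ → ℕ) (m : ℕ) : ℕ :=
  (List.range 24).foldl (fun T i => if m.testBit i then T ||| 2 ^ t i else T) 0

theorem foldl_or_spec (c : ℕ → Bool) (t : ℕ → ℕ) (L : List ℕ) (T i : ℕ) :
    (L.foldl (fun T a => if c a then T ||| 2 ^ t a else T) T).testBit i = true ↔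
      T.testBit i = true ∨ ∃ a ∈ L, c a = true ∧ t a = i := by
  induction L generalizing T with
  | nil => simp
  | cons b L ih =>
    rw [List.foldl_cons, ih]
    cases hb : c b <;> simp [hb, Nat.testBit_or, Nat.testBit_two_pow, or_assoc]

theorem smul_toSet {g : Equiv.Perm GolayPt} {t : ℕ → ℕ} (ht : ∀ p, idx (g p) = t (idx p)) (m : ℕ) :
    g • toSet m = toSet (img t m) := by
  ext p
  rw [mem_toSet, img, foldl_or_spec (fun i => m.testBit i) t]
  constructor
  · intro hp
    obtain ⟨q, hq, rfl⟩ := Finset.mem_smul_finset.mp hp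
    exact Or.inr ⟨idx q, List.mem_range.mpr (idx_lt q), mem_toSet.mp hq, by
      rw [← ht, Equiv.Perm.smul_def]⟩
  · rintro (h | ⟨a, ha, hm, e⟩)
    · simp at h
    · rw [List.mem_range] at ha
      have hq : g (pt a) = p := idx_injective (by rw [ht, idx_pt ha, e])
      rw [← hq, ← Equiv.Perm.smul_def]
      exact Finset.smul_mem_smul_finset (mem_toSet.mpr (by rw [idx_pt ha, hm]))

/-- The base dodecad. -/
def dodB : ℕ := 10743859

/-- The dodecads through the five base points. -/
def dods5 : List ℕ :=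
  (cwOfWeight 12).filter fun n => (base.take 5).all fun i => n.testBit i

/-- Levels and numbers of the generators of the stabiliser of five base points. -/
def gens5 : List (ℕ × ℕ) := [(5, 0), (6, 0), (6, 1), (6, 2), (6, 3)]

/-- Dodecads reached from the base dodecad. -/
def reachDod : ℕ → List ℕ
  | 0 => [dodB]
  | r + 1 => let l := reachDod r
    (l ++ l.flatMap fun m => gens5.map fun q => img (stbl q.1 q.2) m).eraseDups

theorem lev6_le_lev5 (K : Subgroup (Equiv.Perm GolayPt)) : lev K 6 ≤ lev K 5 := inf_le_left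

theorem gens5_mem : ∀ q ∈ gens5, selt q.1 q.2 ∈ lev M24 5 ∧
    ∀ p, idx (selt q.1 q.2 p) = stbl q.1 q.2 (idx p) := by
  intro q hq
  fin_cases hq
  · exact ⟨selt_mem_lev sgen_mem (by norm_num) (by decide), idx_selt (by norm_num) (by decide)⟩
  all_goals
    exact ⟨lev6_le_lev5 _ (selt_mem_lev sgen_mem (by norm_num) (by decide)),
      idx_selt (by norm_num) (by decide)⟩

theorem reachDod_sound : ∀ r, ∀ m ∈ reachDod r,
    ∃ g ∈ lev M24 5, g • toSet dodB = toSet m
  | 0, m, hm => by
    obtain rfl : m = dodB := List.mem_singleton.mp hm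
    exact ⟨1, one_mem _, one_smul _ _⟩
  | r + 1, m, hm => by
    rw [reachDod, List.mem_eraseDups, List.mem_append] at hm
    rcases hm with hm | hm
    · exact reachDod_sound r m hm
    · obtain ⟨m', hm', hm⟩ := List.mem_flatMap.mp hm
      obtain ⟨q, hq, rfl⟩ := List.mem_map.mp hm
      obtain ⟨g, hg, e⟩ := reachDod_sound r m' hm'
      obtain ⟨hs, ht⟩ := gens5_mem q hq
      exact ⟨_, mul_mem hs hg, by rw [mul_smul, e, smul_toSet ht]⟩

theorem reachDod_all :
    (dods5.all fun m => (reachDod 5).contains m) = true ∧ dods5.length = 48 := by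
  decide +kernel

theorem dodB_mem : toSet dodB ∈ dodecads :=
  mem_dodecads.mpr ⟨dodB, mem_cwOfWeight.mpr ⟨mem_cw.mpr ⟨dodB % 4096, by decide,
    by decide +kernel⟩, by decide +kernel⟩, rfl⟩

theorem exists_dods5 {d : Finset GolayPt} (hd : d ∈ dodecads)
    (h : (Finset.range 5).image bpt ⊆ d) : ∃ m ∈ dods5, toSet m = d := by
  obtain ⟨m, hm, rfl⟩ := mem_dodecads.mp hd
  refine ⟨m, List.mem_filter.mpr ⟨hm, List.all_eq_true.mpr fun i hi => ?_⟩, rfl⟩
  have : ∀ i ∈ base.take 5, i < 24 ∧ pt i ∈ (Finset.range 5).image bpt := by decide +kernel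
  have h2 := mem_toSet.mp (h (this i hi).2)
  rwa [idx_pt (this i hi).1] at h2

theorem exists_dodB {d : Finset GolayPt} (hd : d ∈ dodecads)
    (h : (Finset.range 5).image bpt ⊆ d) : ∃ g ∈ lev M24 5, g • toSet dodB = d := by
  obtain ⟨m, hm, rfl⟩ := exists_dods5 hd h
  exact reachDod_sound 5 m (List.contains_iff_mem.mp (List.all_eq_true.mp reachDod_all.1 m hm))

theorem exists_to_dodB {d : Finset GolayPt} (hd : d ∈ dodecads) :
    ∃ g ∈ M24, g • d = toSet dodB := by
  obtain ⟨x, hx, hxd⟩ := exists_five (show 5 ≤ d.card by rw [hd.2]; norm_num)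
  obtain ⟨g, hg, h⟩ := exists_to_base hx
  obtain ⟨k, hk, e⟩ := exists_dodB (smul_mem_weight hg hd) (base_subset_smul hxd h)
  exact ⟨k⁻¹ * g, mul_mem (inv_mem (lev_le _ 5 hk)) hg, by rw [mul_smul, ← e, inv_smul_smul]⟩

theorem dodecads_transitive {d d' : Finset GolayPt} (hd : d ∈ dodecads) (hd' : d' ∈ dodecads) :
    ∃ g : M24, g • d = d' := by
  obtain ⟨g, hg, h⟩ := exists_to_dodB hd
  obtain ⟨k, hk, h'⟩ := exists_to_dodB hd'
  refine ⟨⟨k⁻¹ * g, mul_mem (inv_mem hk) hg⟩, ?_⟩
  show (k⁻¹ * g) • d = d'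
  rw [mul_smul, h, ← h', inv_smul_smul]

theorem card_orbit_mul {G X : Type*} [Group G] [MulAction G X] (H : Subgroup G) (x : X) :
    (MulAction.orbit H x).ncard * Nat.card ↥(H ⊓ MulAction.stabilizer G x) = Nat.card H := by
  have hstab : MulAction.stabilizer H x = (H ⊓ MulAction.stabilizer G x).subgroupOf H := by
    rw [Subgroup.inf_subgroupOf_left]
    rfl
  rw [← (MulAction.stabilizer H x).index_mul_card, MulAction.index_stabilizer, hstab,
    Nat.card_congr (Subgroup.subgroupOfEquivOfLe inf_le_left).toEquiv]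

/-- An element of `M24` fixing a dodecad and five of its points is trivial. -/
theorem dodecad_rigid {d : Finset GolayPt} (hd : d ∈ dodecads) {x : Fin 5 → GolayPt}
    (hx : Function.Injective x) (hxd : ∀ i, x i ∈ d) {g : Equiv.Perm GolayPt} (hg : g ∈ M24)
    (hgd : g • d = d) (hgx : ∀ i, g (x i) = x i) : g = 1 := by
  obtain ⟨h, hh, he⟩ := exists_to_base hx
  set d' := h • d
  have hd' : d' ∈ dodecads := smul_mem_weight hh hd
  have hsub : (Finset.range 5).image bpt ⊆ d' := base_subset_smul hxd he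
  have hk : h * g * h⁻¹ ∈ lev M24 5 ⊓ MulAction.stabilizer (Equiv.Perm GolayPt) d' := by
    refine ⟨mem_lev.mpr ⟨mul_mem (mul_mem hh hg) (inv_mem hh), fun j hj => ?_⟩, ?_⟩
    · have := he ⟨j, hj⟩
      simp only at this
      rw [← this, Equiv.Perm.mul_apply, Equiv.Perm.mul_apply, Equiv.Perm.coe_inv, Equiv.symm_apply_apply, hgx]
    · show (h * g * h⁻¹) • h • d = h • d
      rw [mul_smul, inv_smul_smul, mul_smul, hgd]
  have hcard : Nat.card ↥(lev M24 5 ⊓ MulAction.stabilizer (Equiv.Perm GolayPt) d') = 1 := by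
    have h1 := card_orbit_mul (lev M24 5) d'
    rw [card_lev sgen_mem le_rfl 5 (by norm_num)] at h1
    have h2 : 48 ≤ (MulAction.orbit (lev M24 5) d').ncard := by
      have e : (dods5.toFinset.image toSet).card = 48 := by
        rw [Finset.card_image_of_injOn, List.toFinset_card_of_nodup (l := dods5)
          ((cw_nodup.filter _).filter _)]
        · exact reachDod_all.2
        · intro a ha b hb hab
          simp only [Finset.mem_coe, List.mem_toFinset, dods5, List.mem_filter] at ha hb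
          exact toSet_inj (cwOfWeight_lt ha.1) (cwOfWeight_lt hb.1) hab
      rw [← e, ← Set.ncard_coe_finset]
      refine Set.ncard_le_ncard ?_ (Set.toFinite _)
      intro S hS
      simp only [Finset.coe_image, Set.mem_image, Finset.mem_coe, List.mem_toFinset] at hS
      obtain ⟨m, hm, rfl⟩ := hS
      obtain ⟨a, ha, ea⟩ := exists_dodB hd' hsub
      obtain ⟨b, hb, eb⟩ := reachDod_sound 5 m
        (List.contains_iff_mem.mp (List.all_eq_true.mp reachDod_all.1 m hm))
      exact ⟨⟨b * a⁻¹, mul_mem hb (inv_mem ha)⟩, by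
        show (b * a⁻¹) • d' = toSet m
        rw [mul_smul, ← ea, inv_smul_smul, eb]⟩
    have h3 : 0 < Nat.card ↥(lev M24 5 ⊓ MulAction.stabilizer (Equiv.Perm GolayPt) d') :=
      Nat.card_pos
    simp only [levOrder] at h1
    nlinarith
  have h1 := (Subgroup.eq_bot_iff_forall _).mp (Subgroup.card_eq_one.mp hcard) _ hk
  simpa [mul_inv_eq_one] using h1

theorem card_stab_dodecad {d : Finset GolayPt} (hd : d ∈ dodecads) :
    Nat.card (MulAction.stabilizer M24 d) = 95040 := by
  have h := (MulAction.stabilizer M24 d).index_mul_card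
  have e : MulAction.orbit M24 d = dodecads := by
    ext S
    constructor
    · rintro ⟨g, rfl⟩
      exact smul_mem_weight g.2 hd
    · exact fun hS => dodecads_transitive hd hS
  rw [MulAction.index_stabilizer, e, dodecads, ncard_weight, cwOfWeight_length.2, card_M24] at h
  omega

theorem dodecad_sharp {d : Finset GolayPt} (hd : d ∈ dodecads) (x y : Fin 5 ↪ GolayPt)
    (hx : ∀ i, x i ∈ d) (hy : ∀ i, y i ∈ d) : ∃! g : MulAction.stabilizer M24 d,
      ∀ i, ((g : M24) : Equiv.Perm GolayPt) (x i) = y i := by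
  have hst : ∀ g : MulAction.stabilizer M24 d, ∀ p ∈ d, ((g : M24) : Equiv.Perm GolayPt) p ∈ d :=
    fun g p hp => by
      have h : ((g : M24) : Equiv.Perm GolayPt) • d = d := g.2
      exact Finset.subset_of_eq h (Finset.smul_mem_smul_finset hp)
  let Φ : MulAction.stabilizer M24 d → (Fin 5 ↪ d) := fun g =>
    ⟨fun i => ⟨((g : M24) : Equiv.Perm GolayPt) (x i), hst g _ (hx i)⟩,
      fun i j e => x.injective (Equiv.injective _ (congrArg Subtype.val e))⟩
  have hinj : Function.Injective Φ := by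
    intro g g' e
    have h1 : ((g'⁻¹ * g : MulAction.stabilizer M24 d) : M24) = 1 := by
      refine Subtype.ext (dodecad_rigid hd x.injective hx (Subtype.prop _) (g'⁻¹ * g).2 fun i => ?_)
      have := congrArg (fun f : Fin 5 ↪ d => (f i : GolayPt)) e
      change ((g : M24) : Equiv.Perm GolayPt) (x i) = ((g' : M24) : Equiv.Perm GolayPt) (x i) at this
      rw [Subgroup.coe_mul, Subgroup.coe_mul, Subgroup.coe_inv, Subgroup.coe_inv,
        Equiv.Perm.mul_apply, this, Equiv.Perm.coe_inv, Equiv.symm_apply_apply]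
    exact (inv_mul_eq_one.mp (Subtype.ext h1)).symm
  have hbij : Function.Bijective Φ := by
    refine (Nat.bijective_iff_injective_and_card Φ).mpr ⟨hinj, ?_⟩
    rw [card_stab_dodecad hd, Nat.card_eq_fintype_card, Fintype.card_embedding_eq, Fintype.card_coe,
      hd.2, Fintype.card_fin]
    rfl
  obtain ⟨g, hg⟩ := hbij.2 ⟨fun i => ⟨y i, hy i⟩, fun i j e => y.injective (congrArg Subtype.val e)⟩
  refine ⟨g, fun i => congrArg (fun f : Fin 5 ↪ d => (f i : GolayPt)) hg, fun k hk => hinj ?_⟩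
  rw [hg]
  exact Function.Embedding.ext fun i => Subtype.ext (hk i)

theorem dodecad_transitive_points {d : Finset GolayPt} (hd : d ∈ dodecads) (a b : Fin 2 ↪ GolayPt)
    (ha : ∀ i, a i ∈ d) (hb : ∀ i, b i ∈ d) :
    ∃ g : MulAction.stabilizer M24 d, ∀ i, ((g : M24) : Equiv.Perm GolayPt) (a i) = b i := by
  have ext5 : ∀ a : Fin 2 ↪ GolayPt, (∀ i, a i ∈ d) → ∃ x : Fin 5 ↪ GolayPt,
      (∀ i, x i ∈ d) ∧ ∀ i : Fin 2, x (Fin.castLE (by norm_num) i) = a i := by
    intro a ha
    let a' : Fin 2 ↪ d := ⟨fun i => ⟨a i, ha i⟩, fun i j e => a.injective (congrArg Subtype.val e)⟩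
    obtain ⟨f, hf⟩ := Equiv.Perm.exists_extending_pair (β := d)
      (fun i : Fin 2 => (d.equivFinOfCardEq hd.2).symm (Fin.castLE (by norm_num) i)) a'
      (fun i j e => Fin.castLE_injective _ ((d.equivFinOfCardEq hd.2).symm.injective e)) a'.injective
    refine ⟨⟨fun i => (f ((d.equivFinOfCardEq hd.2).symm (Fin.castLE (by norm_num) i)) : GolayPt),
      fun i j e => Fin.castLE_injective _
        ((d.equivFinOfCardEq hd.2).symm.injective (f.injective (Subtype.ext e)))⟩,
      fun i => Subtype.coe_prop _, fun i => ?_⟩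
    exact congrArg Subtype.val (hf i)
  obtain ⟨x, hx, hxa⟩ := ext5 a ha
  obtain ⟨y, hy, hyb⟩ := ext5 b hb
  obtain ⟨g, hg, -⟩ := dodecad_sharp hd x y hx hy
  exact ⟨g, fun i => by rw [← hxa, ← hyb, hg]⟩

end CfsgLib.SmallGroups.Mathieu
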