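import Mathlib
import Cfsg.Agent.Lib.SmallGroups.Mathieu

/-!
# Stabiliser orders and simplicity of the five Mathieu groups inside `Cfsg.M24`
-/

set_option autoImplicit false

namespace CfsgLib.SmallGroups.MathieuSimple

open Cfsg CfsgLib.SmallGroups.Golay CfsgLib.SmallGroups.GolayOctads CfsgLib.SmallGroups.M24Group
  CfsgLib.SmallGroups.Mathieu
open scoped Pointwise

theorem exists_extend {n : ℕ} (hn : n ≤ 5) (x : Fin n ↪ GolayPt) :
    ∃ y : Fin 5 ↪ GolayPt, ∀ i, y (Fin.castLE hn i) = x i := by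
  obtain ⟨f, hf⟩ := Equiv.Perm.exists_extending_pair
    (fun i : Fin n => pt ((Fin.castLE hn i : Fin 5) : ℕ)) x
    (fun i j e => by
      refine Fin.castLE_injective hn (Fin.ext ?_)
      have h := congrArg idx e
      simp only at h
      rwa [idx_pt (by omega), idx_pt (by omega)] at h) x.injective
  refine ⟨⟨fun i => f (pt i), fun i j e => Fin.ext ?_⟩, hf⟩
  have h := congrArg idx (f.injective e)
  rwa [idx_pt (by omega), idx_pt (by omega)] at h

/-- `M24` moves any at most five distinct points anywhere. -/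
theorem exists_map_of_le {n : ℕ} (hn : n ≤ 5) (x y : Fin n ↪ GolayPt) :
    ∃ g : M24, ∀ i, g • x i = y i := by
  obtain ⟨g, hg, h⟩ := exists_map hn x y x.injective y.injective
  exact ⟨⟨g, hg⟩, h⟩

theorem orbit_univ (p : GolayPt) : MulAction.orbit M24 p = Set.univ :=
  Set.eq_univ_of_forall fun q => by
    obtain ⟨g, h⟩ := exists_map_of_le (show 1 ≤ 5 by norm_num)
      ⟨fun _ => p, Function.injective_of_subsingleton _⟩ ⟨fun _ => q, Function.injective_of_subsingleton _⟩
    exact ⟨g, h 0⟩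

/-- An embedding of two distinct points. -/
def two (p q : GolayPt) (h : p ≠ q) : Fin 2 ↪ GolayPt :=
  ⟨![p, q], fun i j e => by fin_cases i <;> fin_cases j <;> simp_all⟩

theorem exists_two {p q p' q' : GolayPt} (h : p ≠ q) (h' : p' ≠ q') :
    ∃ g : M24, g • p = p' ∧ g • q = q' := by
  obtain ⟨g, hg⟩ := exists_map_of_le (by norm_num) (two p q h) (two p' q' h')
  exact ⟨g, hg 0, hg 1⟩

theorem card_stab_point (p : GolayPt) : Nat.card (MulAction.stabilizer M24 p) = 10200960 := by
  have h := (MulAction.stabilizer M24 p).index_mul_card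
  rw [MulAction.index_stabilizer, orbit_univ, Set.ncard_univ, Nat.card_eq_fintype_card (α := GolayPt),
    card_golayPt, card_M24] at h
  omega

theorem card_stab_two {p q : GolayPt} (hpq : p ≠ q) :
    Nat.card ↥(MulAction.stabilizer M24 p ⊓ MulAction.stabilizer M24 q) = 443520 := by
  have h := card_orbit_mul (MulAction.stabilizer M24 p) q
  have e : MulAction.orbit (MulAction.stabilizer M24 p) q = {p}ᶜ := by
    ext r
    constructor
    · rintro ⟨g, rfl⟩ hr
      have : (g : M24) • q = (g : M24) • p := by rw [g.2]; exact hr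
      exact hpq (smul_left_cancel _ this).symm
    · intro hr
      obtain ⟨g, hgp, hgq⟩ := exists_two hpq (show p ≠ r from fun e => hr e.symm)
      exact ⟨⟨g, hgp⟩, hgq⟩
  rw [e, Set.ncard_compl, Set.ncard_singleton, Nat.card_eq_fintype_card (α := GolayPt), card_golayPt,
    card_stab_point] at h
  omega

/-- The points of a set invariant under a subgroup, as an action of the subgroup. -/
def subAct {G X : Type*} [Group G] [MulAction G X] (H : Subgroup G) (S : Finset X)
    (h : ∀ g ∈ H, ∀ x ∈ S, g • x ∈ S) : SubMulAction H X where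
  carrier := S
  smul_mem' g x hx := h g g.2 x hx

@[simp] theorem mem_subAct {G X : Type*} [Group G] [MulAction G X] {H : Subgroup G} {S : Finset X}
    {h : ∀ g ∈ H, ∀ x ∈ S, g • x ∈ S} {x : X} : x ∈ subAct H S h ↔ x ∈ S := Iff.rfl

theorem natCard_subAct {G X : Type*} [Group G] [MulAction G X] (H : Subgroup G) (S : Finset X)
    (h : ∀ g ∈ H, ∀ x ∈ S, g • x ∈ S) : Nat.card (subAct H S h) = S.card := by
  rw [show Nat.card (subAct H S h) = Nat.card (S : Set X) from rfl, Nat.card_coe_set_eq,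
    Set.ncard_coe_finset]

theorem primitive_of_two {G X : Type*} [Group G] [MulAction G X]
    (h : ∀ a b c d : X, a ≠ b → c ≠ d → ∃ g : G, g • a = c ∧ g • b = d) :
    MulAction.IsPreprimitive G X :=
  MulAction.isPreprimitive_of_is_two_pretransitive
    (MulAction.is_two_pretransitive_iff.mpr fun {a b c d} hab hcd => h a b c d hab hcd)

theorem isSimpleGroup_congr' {G H : Type*} [Group G] [Group H] (e : G ≃* H) [IsSimpleGroup G] :
    IsSimpleGroup H := by
  have : Nontrivial H := e.toEquiv.symm.nontrivial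
  exact IsSimpleGroup.isSimpleGroup_of_surjective e.toMonoidHom e.surjective

theorem isSimple_M23 (p : GolayPt) : IsSimpleGroup (MulAction.stabilizer M24 p) := by
  classical
  have hinv : ∀ g ∈ MulAction.stabilizer M24 p, ∀ x ∈ Finset.univ.erase p, g • x ∈ Finset.univ.erase p := by
    intro g hg x hx
    simp only [Finset.mem_erase, Finset.mem_univ, and_true] at hx ⊢
    exact fun e => hx (smul_left_cancel g (e.trans (MulAction.mem_stabilizer_iff.mp hg).symm))
  let X := subAct (MulAction.stabilizer M24 p) (Finset.univ.erase p) hinv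
  have hX : Nat.card X = 23 := by
    rw [natCard_subAct, Finset.card_erase_of_mem (Finset.mem_univ _), Finset.card_univ, card_golayPt]
  have : FaithfulSMul (MulAction.stabilizer M24 p) X := ⟨fun {g g'} h => by
    refine Subtype.ext (Subtype.ext (Equiv.ext fun x => ?_))
    rcases eq_or_ne x p with rfl | hx
    · exact (g.2 : (g : M24) • x = x).trans (g'.2 : (g' : M24) • x = x).symm
    · exact congrArg Subtype.val (h ⟨x, by simp [X, hx]⟩)⟩
  have : MulAction.IsPretransitive (MulAction.stabilizer M24 p) X := ⟨fun a b => by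
    have ha : (a : GolayPt) ≠ p := (Finset.mem_erase.mp (mem_subAct.mp a.2)).1
    have hb : (b : GolayPt) ≠ p := (Finset.mem_erase.mp (mem_subAct.mp b.2)).1
    obtain ⟨g, h1, h2⟩ := exists_two ha.symm hb.symm
    exact ⟨⟨g, h1⟩, Subtype.ext h2⟩⟩
  have := Fact.mk (show Nat.Prime 23 by norm_num)
  have := MulAction.IsPreprimitive.of_prime_card (G := MulAction.stabilizer M24 p) (X := X)
    (hX ▸ (by norm_num : Nat.Prime 23))
  have hne : Nonempty X := (Nat.card_pos_iff.mp (hX ▸ (by norm_num : 0 < 23))).1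
  exact PrimeDegree.isSimple_of_arith hne.some (p := 23) (m := 443520) (card_stab_point p)
    (by norm_num) 1 (Or.inl rfl) (by rw [hX]) (by decide +kernel)

theorem isSimple_M22 {p q : GolayPt} (hpq : p ≠ q) :
    IsSimpleGroup ↥(MulAction.stabilizer M24 p ⊓ MulAction.stabilizer M24 q) := by
  classical
  set H := MulAction.stabilizer M24 p ⊓ MulAction.stabilizer M24 q
  have hinv : ∀ g ∈ H, ∀ x ∈ ({p, q} : Finset GolayPt)ᶜ, g • x ∈ ({p, q} : Finset GolayPt)ᶜ := by
    intro g hg x hx
    simp only [Finset.mem_compl, Finset.mem_insert, Finset.mem_singleton, not_or] at hx ⊢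
    exact ⟨fun e => hx.1 (smul_left_cancel g (e.trans (MulAction.mem_stabilizer_iff.mp hg.1).symm)),
      fun e => hx.2 (smul_left_cancel g (e.trans (MulAction.mem_stabilizer_iff.mp hg.2).symm))⟩
  let X := subAct H ({p, q} : Finset GolayPt)ᶜ hinv
  have hX : Nat.card X = 2 * 11 := by
    rw [natCard_subAct, Finset.card_compl, Finset.card_pair hpq, card_golayPt]
  have : FaithfulSMul H X := ⟨fun {g g'} h => by
    refine Subtype.ext (Subtype.ext (Equiv.ext fun x => ?_))
    by_cases hx : x = p ∨ x = q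
    · rcases hx with rfl | rfl
      · exact (g.2.1 : (g : M24) • x = x).trans (g'.2.1 : (g' : M24) • x = x).symm
      · exact (g.2.2 : (g : M24) • x = x).trans (g'.2.2 : (g' : M24) • x = x).symm
    · exact congrArg Subtype.val (h ⟨x, by simpa [X] using hx⟩)⟩
  have : MulAction.IsPreprimitive H X := primitive_of_two fun a b c d hab hcd => by
    have mk : ∀ a b : X, a ≠ b → Function.Injective ![p, q, (a : GolayPt), (b : GolayPt)] := by
      intro a b hab
      have ha : (a : GolayPt) ≠ p ∧ (a : GolayPt) ≠ q := by simpa [X] using a.2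
      have hb : (b : GolayPt) ≠ p ∧ (b : GolayPt) ≠ q := by simpa [X] using b.2
      have hab' : (a : GolayPt) ≠ b := fun e => hab (Subtype.ext e)
      intro i j e
      fin_cases i <;> fin_cases j <;> first | rfl | (exfalso; simp_all [eq_comm])
    obtain ⟨g, hg⟩ := exists_map_of_le (show 4 ≤ 5 by norm_num) ⟨_, mk a b hab⟩ ⟨_, mk c d hcd⟩
    exact ⟨⟨g, hg 0, hg 1⟩, Subtype.ext (hg 2), Subtype.ext (hg 3)⟩
  have := Fact.mk (show Nat.Prime 11 by norm_num)
  have hne : Nonempty X := (Nat.card_pos_iff.mp (hX ▸ (by norm_num : 0 < 2 * 11))).1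
  exact PrimeDegree.isSimple_of_arith hne.some (p := 11) (m := 40320) (card_stab_two hpq)
    (by norm_num) 2 (Or.inr rfl) hX (by decide +kernel)

theorem isSimple_M24 : IsSimpleGroup M24 := by
  have := primitive_of_two (G := M24) (X := GolayPt) fun a b c d hab hcd => exists_two hab hcd
  refine Simplicity.isSimple_of_stabilizer (G := M24) (X := GolayPt) none
    (fun y z hy hz => exists_two hy.symm hz.symm) (isSimple_M23 none) Nat.prime_two Nat.prime_three
    (by norm_num) ?_ ?_ <;>
  · rw [Nat.card_eq_fintype_card, card_golayPt]; norm_num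

theorem smul_mem_dodecad {d : Finset GolayPt} {g : M24} (hg : g ∈ MulAction.stabilizer M24 d)
    {x : GolayPt} (hx : x ∈ d) : g • x ∈ d :=
  Finset.subset_of_eq (show (g : Equiv.Perm GolayPt) • d = d from hg)
    (Finset.smul_mem_smul_finset (a := (g : Equiv.Perm GolayPt)) hx)

theorem card_stab_dodecad_point {d : Finset GolayPt} (hd : d ∈ dodecads) {p : GolayPt} (hp : p ∈ d) :
    Nat.card ↥(MulAction.stabilizer M24 d ⊓ MulAction.stabilizer M24 p) = 7920 := by
  have h := card_orbit_mul (MulAction.stabilizer M24 d) p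
  have e : MulAction.orbit (MulAction.stabilizer M24 d) p = (d : Set GolayPt) := by
    ext r
    constructor
    · rintro ⟨g, rfl⟩
      exact smul_mem_dodecad g.2 hp
    · intro hr
      obtain ⟨a, ha, hap⟩ := Finset.exists_mem_ne (show 1 < d.card by rw [hd.2]; norm_num) p
      obtain ⟨b, hb, hbr⟩ := Finset.exists_mem_ne (show 1 < d.card by rw [hd.2]; norm_num) r
      obtain ⟨g, hg⟩ := dodecad_transitive_points hd (two p a hap.symm) (two r b hbr.symm)
        (fun i => by fin_cases i <;> assumption) (fun i => by fin_cases i <;> assumption)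
      exact ⟨g, hg 0⟩
  rw [e, Set.ncard_coe_finset, hd.2, card_stab_dodecad hd] at h
  omega

theorem eq_of_eq_on_dodecad {d : Finset GolayPt} (hd : d ∈ dodecads) {g g' : M24}
    (hg : g ∈ MulAction.stabilizer M24 d) (hg' : g' ∈ MulAction.stabilizer M24 d)
    (h : ∀ x ∈ d, g • x = g' • x) : g = g' := by
  obtain ⟨x, hx, hxd⟩ := exists_five (show 5 ≤ d.card by rw [hd.2]; norm_num)
  obtain ⟨k, -, hu⟩ := dodecad_sharp hd ⟨x, hx⟩ ⟨fun i => g • x i, fun i j e => hx (smul_left_cancel g e)⟩
    hxd fun i => smul_mem_dodecad hg (hxd i)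
  exact congrArg Subtype.val
    ((hu ⟨g, hg⟩ fun i => rfl).trans (hu ⟨g', hg'⟩ fun i => (h _ (hxd i)).symm).symm)

theorem isSimple_M11 {d : Finset GolayPt} (hd : d ∈ dodecads) {p : GolayPt} (hp : p ∈ d) :
    IsSimpleGroup ↥(MulAction.stabilizer M24 d ⊓ MulAction.stabilizer M24 p) := by
  classical
  set H := MulAction.stabilizer M24 d ⊓ MulAction.stabilizer M24 p
  have hinv : ∀ g ∈ H, ∀ x ∈ d.erase p, g • x ∈ d.erase p := by
    intro g hg x hx
    rw [Finset.mem_erase] at hx ⊢
    exact ⟨fun e => hx.1 (smul_left_cancel g (e.trans (MulAction.mem_stabilizer_iff.mp hg.2).symm)),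
      smul_mem_dodecad hg.1 hx.2⟩
  let X := subAct H (d.erase p) hinv
  have hX : Nat.card X = 11 := by
    rw [natCard_subAct, Finset.card_erase_of_mem hp, hd.2]
  have : FaithfulSMul H X := ⟨fun {g g'} h => by
    refine Subtype.ext (eq_of_eq_on_dodecad hd g.2.1 g'.2.1 fun x hx => ?_)
    rcases eq_or_ne x p with rfl | hxp
    · exact (g.2.2 : (g : M24) • x = x).trans (g'.2.2 : (g' : M24) • x = x).symm
    · exact congrArg Subtype.val (h ⟨x, by simp [X, hxp, hx]⟩)⟩
  have : MulAction.IsPretransitive H X := ⟨fun a b => by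
    have ha : (a : GolayPt) ≠ p ∧ (a : GolayPt) ∈ d := Finset.mem_erase.mp (mem_subAct.mp a.2)
    have hb : (b : GolayPt) ≠ p ∧ (b : GolayPt) ∈ d := Finset.mem_erase.mp (mem_subAct.mp b.2)
    obtain ⟨g, hg⟩ := dodecad_transitive_points hd (two p a ha.1.symm) (two p b hb.1.symm)
      (fun i => by fin_cases i <;> [exact hp; exact ha.2])
      (fun i => by fin_cases i <;> [exact hp; exact hb.2])
    exact ⟨⟨g, g.2, hg 0⟩, Subtype.ext (hg 1)⟩⟩
  have := Fact.mk (show Nat.Prime 11 by norm_num)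
  have := MulAction.IsPreprimitive.of_prime_card (G := H) (X := X)
    (hX ▸ (by norm_num : Nat.Prime 11))
  have hne : Nonempty X := (Nat.card_pos_iff.mp (hX ▸ (by norm_num : 0 < 11))).1
  exact PrimeDegree.isSimple_of_arith hne.some (p := 11) (m := 720) (card_stab_dodecad_point hd hp)
    (by norm_num) 1 (Or.inl rfl) (by rw [hX]) (by decide +kernel)

theorem isSimple_M12 {d : Finset GolayPt} (hd : d ∈ dodecads) :
    IsSimpleGroup (MulAction.stabilizer M24 d) := by
  classical
  set H := MulAction.stabilizer M24 d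
  let X := subAct H d fun g hg x hx => smul_mem_dodecad hg hx
  have hX : Nat.card X = 12 := by rw [natCard_subAct, hd.2]
  have : FaithfulSMul H X := ⟨fun {g g'} h =>
    Subtype.ext (eq_of_eq_on_dodecad hd g.2 g'.2 fun x hx => congrArg Subtype.val (h ⟨x, hx⟩))⟩
  have htwo : ∀ a b c e : X, a ≠ b → c ≠ e → ∃ g : H, g • a = c ∧ g • b = e := by
    intro a b c e hab hce
    obtain ⟨g, hg⟩ := dodecad_transitive_points hd (two a b fun h => hab (Subtype.ext h))
      (two c e fun h => hce (Subtype.ext h))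
      (fun i => by fin_cases i <;> [exact a.2; exact b.2])
      (fun i => by fin_cases i <;> [exact c.2; exact e.2])
    exact ⟨g, Subtype.ext (hg 0), Subtype.ext (hg 1)⟩
  have := primitive_of_two htwo
  have hne : Nonempty X := (Nat.card_pos_iff.mp (hX ▸ (by norm_num : 0 < 12))).1
  obtain ⟨a⟩ := hne
  have hs : IsSimpleGroup (MulAction.stabilizer H a) := by
    have := isSimple_M11 hd a.2
    have e : MulAction.stabilizer H a = (H ⊓ MulAction.stabilizer M24 (a : GolayPt)).subgroupOf H := by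
      ext g
      simp only [MulAction.mem_stabilizer_iff, Subgroup.mem_subgroupOf, Subgroup.mem_inf]
      exact ⟨fun h => ⟨g.2, congrArg Subtype.val h⟩, fun h => Subtype.ext h.2⟩
    rw [e]
    exact isSimpleGroup_congr' (Subgroup.subgroupOfEquivOfLe inf_le_left).symm
  refine Simplicity.isSimple_of_stabilizer (G := H) (X := X) a
    (fun y z hy hz => htwo a y a z hy.symm hz.symm) hs Nat.prime_two Nat.prime_three
    (by norm_num) ?_ ?_ <;>
  · rw [hX]; norm_num

/-! ### The point stabiliser of `M12` on the complementary dodecad -/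

/-- Two elements fixing three base points and the base dodecad, as words. -/
def k11 : List (List (ℕ × ℕ)) :=
  [[(1, 1), (0, 1), (2, 1), (0, 1), (2, 1), (0, 1), (2, 1), (1, 1), (2, 1), (0, 1), (2, 1), (0, 1),
    (2, 1), (0, 1), (2, 3), (0, 1), (2, 1), (0, 1), (2, 1), (0, 1), (2, 6), (0, 1), (2, 2), (0, 1),
    (2, 1), (0, 2), (2, 1), (0, 1)],
   [(2, 1), (0, 1), (2, 1), (0, 1), (2, 1), (0, 1), (2, 3), (0, 1), (2, 1), (0, 1), (2, 1), (0, 1),
    (2, 3), (0, 1), (2, 1), (0, 1), (2, 1), (0, 1), (2, 2), (1, 1), (0, 1), (2, 1), (0, 1), (2, 1),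
    (0, 1), (2, 1), (1, 1), (2, 4), (0, 1), (2, 2), (0, 1), (2, 1), (0, 2), (2, 1), (0, 1), (2, 4),
    (0, 44), (2, 1), (0, 1), (2, 3), (0, 1), (2, 1), (0, 4)]]

/-- Their tables. -/
def k11Tbl : List (List ℕ) :=
  [[0, 15, 7, 8, 21, 5, 3, 2, 18, 22, 20, 10, 12, 14, 4, 16, 17, 1, 6, 11, 19, 13, 9, 23],
   [0, 1, 8, 7, 16, 4, 19, 22, 2, 10, 6, 18, 12, 21, 15, 13, 17, 5, 11, 9, 3, 14, 20, 23]]

theorem k11Tbl_eq : k11Tbl = k11.map fun w => (List.range 24).map (act w) := by decide +kernel

/-- The table of the element number `j`. -/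
def k11Fun (j i : ℕ) : ℕ := (k11Tbl.getD j []).getD i 0

theorem idx_k11 {j : ℕ} (hj : j < 2) (p : GolayPt) :
    idx (elt (k11.getD j []) p) = k11Fun j (idx p) := by
  have hj' : j < k11.length := hj
  rw [idx_elt, k11Fun, k11Tbl_eq]
  simp [List.getD_eq_getElem?_getD, hj', idx_lt p]

/-- Bit set of the points reached by the two elements. -/
def k11Orb : ℕ → ℕ → ℕ
  | s, 0 => 2 ^ s
  | s, r + 1 => let S := k11Orb s r
    S ||| img (k11Fun 0) S ||| img (k11Fun 1) S

theorem k11_facts : (∀ j < 2, (∀ l < 3, k11Fun j (base.getD l 0) = base.getD l 0) ∧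
      img (k11Fun j) dodB = dodB) ∧
    ∀ i < 24, dodB.testBit i = false → k11Orb i 12 = 2 ^ 24 - 1 - dodB := by
  decide +kernel

/-- The elements of `M24` fixing the base dodecad and three base points. -/
noncomputable def k11Group : Subgroup (Equiv.Perm GolayPt) :=
  lev M24 3 ⊓ MulAction.stabilizer (Equiv.Perm GolayPt) (toSet dodB)

theorem k11_mem {j : ℕ} (hj : j < 2) : elt (k11.getD j []) ∈ k11Group := by
  refine ⟨mem_lev.mpr ⟨elt_mem sgen_mem _, fun l hl => idx_injective ?_⟩, ?_⟩
  · rw [idx_k11 hj, bpt, idx_pt (base_lt l), (k11_facts.1 j hj).1 l hl]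
  · show elt (k11.getD j []) • toSet dodB = toSet dodB
    rw [smul_toSet (idx_k11 hj), (k11_facts.1 j hj).2]

theorem k11Orb_sound {s : ℕ} (hs : s < 24) : ∀ r i, (k11Orb s r).testBit i = true →
    ∃ g ∈ k11Group, idx (g (pt s)) = i
  | 0, i, h => by
    rw [k11Orb, Nat.testBit_two_pow, decide_eq_true_iff] at h
    exact ⟨1, one_mem _, by rw [Equiv.Perm.one_apply, idx_pt hs, h]⟩
  | r + 1, i, h => by
    have step : ∀ j < 2, (img (k11Fun j) (k11Orb s r)).testBit i = true →
        ∃ g ∈ k11Group, idx (g (pt s)) = i := by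
      intro j hj h
      rw [img, foldl_or_spec (fun a => (k11Orb s r).testBit a) (k11Fun j)] at h
      rcases h with h | ⟨a, -, ha, e⟩
      · simp at h
      · obtain ⟨g, hg, e'⟩ := k11Orb_sound hs r a ha
        exact ⟨_, mul_mem (k11_mem hj) hg, by rw [Equiv.Perm.mul_apply, idx_k11 hj, e', e]⟩
    simp only [k11Orb, Nat.testBit_or, Bool.or_eq_true] at h
    rcases h with (h | h) | h
    · exact k11Orb_sound hs r i h
    · exact step 0 (by norm_num) h
    · exact step 1 (by norm_num) h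

theorem compl_mem {d : Finset GolayPt} (hd : d ∈ dodecads) : dᶜ ∈ dodecads := by
  obtain ⟨n, hn, rfl⟩ := mem_dodecads.mp hd
  rw [mem_cwOfWeight] at hn
  have hall : (2 ^ 24 - 1 : ℕ) ∈ cw := mem_cw.mpr ⟨4095, by norm_num, by decide +kernel⟩
  refine mem_dodecads.mpr ⟨n ^^^ (2 ^ 24 - 1), mem_cwOfWeight.mpr ⟨cw_xor hn.1 hall, ?_⟩, ?_⟩
  · have h := pc_xor n (2 ^ 24 - 1)
    have hle : pc (n &&& (2 ^ 24 - 1)) = pc n := by
      rw [← card_toSet, ← card_toSet]
      congr 1
      ext p
      have h24 : Nat.testBit 16777215 (idx p) = true := by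
        rw [show (16777215 : ℕ) = 2 ^ 24 - 1 by norm_num, Nat.testBit_two_pow_sub_one]
        simp [idx_lt p]
      simp [h24]
    rw [hle, show pc (2 ^ 24 - 1) = 24 by decide +kernel] at h
    omega
  · ext p
    have h24 : Nat.testBit 16777215 (idx p) = true := by
      rw [show (16777215 : ℕ) = 2 ^ 24 - 1 by norm_num, Nat.testBit_two_pow_sub_one]
      simp [idx_lt p]
    simp [Nat.testBit_xor, h24]

theorem exists_three_to_base {d : Finset GolayPt} (hd : d ∈ dodecads) {x : Fin 3 ↪ GolayPt}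
    (hx : ∀ i, x i ∈ d) :
    ∃ g ∈ M24, g • d = toSet dodB ∧ ∀ i : Fin 3, g (x i) = bpt i := by
  obtain ⟨h, hh, he⟩ := exists_to_dodB hd
  let z : Fin 3 ↪ GolayPt := ⟨fun i => h (x i), fun i j e => x.injective (h.injective e)⟩
  have hz : ∀ i, z i ∈ toSet dodB := fun i => he ▸ Finset.smul_mem_smul_finset (a := h) (hx i)
  obtain ⟨y, hy⟩ := exists_extend (show 3 ≤ 5 by norm_num) z
  obtain ⟨w, hw, hwd⟩ := exists_five (show 5 ≤ ((toSet dodB) \ Finset.univ.map z).card by
    rw [Finset.card_sdiff_of_subset (fun p hp => by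
      obtain ⟨i, -, rfl⟩ := Finset.mem_map.mp hp; exact hz i), Finset.card_map, Finset.card_univ,
      Fintype.card_fin, (dodB_mem).2]
    norm_num)
  let v : Fin 5 ↪ GolayPt := ⟨![z 0, z 1, z 2, w 0, w 1], by
    have hn : ∀ i k, w k ≠ z i := fun i k e =>
      (Finset.mem_sdiff.mp (hwd k)).2 (Finset.mem_map.mpr ⟨i, Finset.mem_univ _, e.symm⟩)
    have h01 : w 0 ≠ w 1 := fun e => by simpa using hw e
    intro i j e
    fin_cases i <;> fin_cases j <;> first | rfl |
      (exfalso; revert e; first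
        | exact fun e => absurd (z.injective e) (by decide)
        | exact hn _ _ | exact fun e => hn _ _ e.symm | exact h01 | exact fun e => h01 e.symm)⟩
  have hv : ∀ i, v i ∈ toSet dodB := fun i => by
    fin_cases i <;> first | exact hz _ | exact (Finset.mem_sdiff.mp (hwd _)).1
  have hb : ∀ i : Fin 5, bpt i ∈ toSet dodB := by decide +kernel
  obtain ⟨g, hg, -⟩ := dodecad_sharp dodB_mem v
    ⟨fun i => bpt i, fun i j e => Fin.ext (bpt_inj i (by omega) j (by omega) e)⟩ hv hb
  refine ⟨((g : M24) : Equiv.Perm GolayPt) * h, mul_mem (g : M24).2 hh, ?_, ?_⟩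
  · rw [mul_smul, he]; exact g.2
  · intro i
    fin_cases i
    · exact hg 0
    · exact hg 1
    · exact hg 2

theorem three_transitive_compl {d : Finset GolayPt} (hd : d ∈ dodecads) {p : GolayPt} (hp : p ∈ d)
    (x y : Fin 3 ↪ GolayPt) (hx : ∀ i, x i ∉ d) (hy : ∀ i, y i ∉ d) :
    ∃ g ∈ MulAction.stabilizer M24 d ⊓ MulAction.stabilizer M24 p,
      ∀ i, (g : Equiv.Perm GolayPt) (x i) = y i := by
  have hd' := compl_mem hd
  obtain ⟨g, hg, hgd, hgx⟩ := exists_three_to_base hd' (x := x) fun i => Finset.mem_compl.mpr (hx i)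
  obtain ⟨k, hk, hkd, hky⟩ := exists_three_to_base hd' (x := y) fun i => Finset.mem_compl.mpr (hy i)
  have hout : ∀ f : Equiv.Perm GolayPt, f • dᶜ = toSet dodB → dodB.testBit (idx (f p)) = false := by
    intro f hf
    rw [Bool.eq_false_iff]
    intro h
    have : f p ∈ f • dᶜ := hf ▸ mem_toSet.mpr h
    rw [← Equiv.Perm.smul_def, Finset.smul_mem_smul_finset_iff, Finset.mem_compl] at this
    exact this hp
  have hq : (2 ^ 24 - 1 - dodB).testBit (idx (k p)) = true := by
    have : ∀ i < 24, dodB.testBit i = false → (2 ^ 24 - 1 - dodB).testBit i = true := by decide +kernel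
    exact this _ (idx_lt _) (hout k hkd)
  rw [← k11_facts.2 _ (idx_lt _) (hout g hgd)] at hq
  obtain ⟨e, he, hep⟩ := k11Orb_sound (idx_lt _) 12 _ hq
  rw [pt_idx] at hep
  obtain ⟨he3, hed⟩ := he
  obtain ⟨he', hefix⟩ := mem_lev.mp he3
  refine ⟨⟨k⁻¹ * e * g, mul_mem (mul_mem (inv_mem hk) he') hg⟩, ⟨?_, ?_⟩, fun i => ?_⟩
  · show (k⁻¹ * e * g) • d = d
    have h1 : (k⁻¹ * e * g) • dᶜ = dᶜ := by
      rw [mul_smul, mul_smul, hgd, (hed : e • toSet dodB = toSet dodB), ← hkd, inv_smul_smul]
    ext z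
    have h2 : (k⁻¹ * e * g)⁻¹ • z ∈ dᶜ ↔ z ∈ dᶜ := by
      conv_rhs => rw [← h1]
      exact Finset.inv_smul_mem_iff
    rw [← Finset.inv_smul_mem_iff]
    simpa [not_iff_not] using h2
  · show (k⁻¹ * e * g) p = p
    rw [Equiv.Perm.mul_apply, Equiv.Perm.mul_apply, idx_injective hep, Equiv.Perm.coe_inv,
      Equiv.symm_apply_apply]
  · show (k⁻¹ * e * g) (x i) = y i
    rw [Equiv.Perm.mul_apply, Equiv.Perm.mul_apply, hgx, hefix i i.2, ← hky, Equiv.Perm.coe_inv,
      Equiv.symm_apply_apply]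

end CfsgLib.SmallGroups.MathieuSimple
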