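import Mathlib
import Cfsg.Agent.Lib.SmallGroups.MathieuSimple

/-!
# Octads as spanning set, octad pointwise stabilisers, intersection counts
-/

set_option autoImplicit false

namespace CfsgLib.SmallGroups.MathieuSets

open Cfsg CfsgLib.SmallGroups.Golay CfsgLib.SmallGroups.GolayOctads CfsgLib.SmallGroups.M24Group
  CfsgLib.SmallGroups.Mathieu CfsgLib.SmallGroups.MathieuSimple
open scoped Pointwise

theorem bas_octad (i : ℕ) (hi : i < 12) : toSet (bas i) ∈ octads := by
  have h : ∀ i < 12, pc (bas i) = 8 := by decide +kernel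
  refine ⟨⟨_, word_bas_mem hi, support₂_word _⟩, ?_⟩
  rw [card_toSet, h i hi]

theorem support₂_injective : Function.Injective (support₂ : (GolayPt → ZMod 2) → Finset GolayPt) := by
  intro v w h
  funext p
  have h2 : p ∈ support₂ v ↔ p ∈ support₂ w := by rw [h]
  simp only [support₂, Finset.mem_filter, Finset.mem_univ, true_and] at h2
  revert h2
  generalize v p = x
  generalize w p = y
  revert x y
  decide

theorem M24_eq_aut_octads : M24 = setSystemAut octads := by
  refine le_antisymm (fun g hg => ?_) fun g hg => ?_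
  · refine Set.eq_of_subset_of_ncard_le ?_ (le_of_eq ?_) (Set.toFinite _)
    · rintro _ ⟨S, hS, rfl⟩
      exact smul_mem_weight hg hS
    · exact (Set.ncard_image_of_injective _ (MulAction.injective g)).symm
  · refine mem_M24_of_forall fun w hw => ?_
    refine code_induction (P := fun w => (fun p => w (g p)) ∈ golayCode) (zero_mem _) ?_
      (fun v v' hv hv' => add_mem hv hv') hw
    intro i hi
    have h : g⁻¹ • toSet (bas i) ∈ octads := by
      have h1 : g⁻¹ • octads = octads := Subgroup.inv_mem _ hg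
      rw [← h1]
      exact Set.smul_mem_smul_set (bas_octad i hi)
    obtain ⟨⟨v, hv, e⟩, -⟩ := h
    rw [← support₂_word, ← support₂_comp] at e
    rwa [support₂_injective e] at hv

/-- Pointwise stabiliser of a set in `M24`. -/
def ptStab (o : Finset GolayPt) : Subgroup (Equiv.Perm GolayPt) :=
  M24 ⊓ fixingSubgroup (Equiv.Perm GolayPt) (o : Set GolayPt)

theorem mem_ptStab {o : Finset GolayPt} {g : Equiv.Perm GolayPt} :
    g ∈ ptStab o ↔ g ∈ M24 ∧ ∀ p ∈ o, g p = p := by
  simp [ptStab, mem_fixingSubgroup_iff]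

theorem levGen_six_facts : ∀ j < 4, (∀ i < 24, octB.testBit i = true → stbl 6 j i = i) ∧
    ∀ k < 4, ∀ i < 24, stbl 6 j (stbl 6 k i) = stbl 6 k (stbl 6 j i) ∧ stbl 6 j (stbl 6 j i) = i := by
  decide +kernel

theorem words_six : (words 6).length = 4 := rfl

theorem lev_six_eq : lev M24 6 = levGen 6 := by
  refine (Subgroup.eq_of_le_of_card_ge (levGen_le sgen_mem (by norm_num)) ?_).symm
  have h : (toSet (target 6)).card ≤ (MulAction.orbit (levGen 6) (bpt 6)).ncard := by
    rw [← Set.ncard_coe_finset]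
    refine Set.ncard_le_ncard (fun q hq => ?_) (Set.toFinite _)
    rw [Finset.mem_coe, mem_toSet, ← orbBits_eq 6 (by norm_num)] at hq
    obtain ⟨g, hg, e⟩ := orbBits_sound (by norm_num) _ (base_lt 6) 24 _ hq
    exact ⟨⟨g, hg⟩, idx_injective e⟩
  rw [card_lev sgen_mem le_rfl 6 (by norm_num), ← card_orbit_mul (levGen 6) (bpt 6)]
  have e : (toSet (target 6)).card = 16 := by rw [card_toSet]; decide +kernel
  rw [e] at h
  exact le_trans h (Nat.le_mul_of_pos_right _ Nat.card_pos)

theorem ptStab_octB : ptStab (toSet octB) = lev M24 6 := by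
  refine le_antisymm (fun g hg => ?_) ?_
  · rw [mem_ptStab] at hg
    exact mem_lev.mpr ⟨hg.1, fun j hj => hg.2 _ (bpt_mem_octB j hj)⟩
  · rw [lev_six_eq]
    refine (Subgroup.closure_le _).mpr ?_
    rintro _ ⟨j, hj, rfl⟩
    refine mem_ptStab.mpr ⟨elt_mem sgen_mem _, fun p hp => idx_injective ?_⟩
    rw [idx_selt (by norm_num) hj]
    exact (levGen_six_facts j (words_six ▸ hj)).1 _ (idx_lt p) (mem_toSet.mp hp)

theorem levGen_six_sq {g : Equiv.Perm GolayPt} (hg : g ∈ levGen 6) : g * g = 1 := by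
  have hcomm : ∀ x ∈ {g | ∃ j < (words 6).length, selt 6 j = g},
      ∀ y ∈ {g | ∃ j < (words 6).length, selt 6 j = g}, x * y = y * x ∧ x * x = 1 := by
    rintro _ ⟨j, hj, rfl⟩ _ ⟨k, hk, rfl⟩
    refine ⟨Equiv.ext fun p => idx_injective ?_, Equiv.ext fun p => idx_injective ?_⟩
    all_goals simp only [Equiv.Perm.mul_apply, Equiv.Perm.one_apply]
    · rw [idx_selt (by norm_num) hj, idx_selt (by norm_num) hk, idx_selt (by norm_num) hk,
        idx_selt (by norm_num) hj]
      exact ((levGen_six_facts j (words_six ▸ hj)).2 k (words_six ▸ hk) _ (idx_lt p)).1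
    · rw [idx_selt (by norm_num) hj, idx_selt (by norm_num) hj]
      exact ((levGen_six_facts j (words_six ▸ hj)).2 k (words_six ▸ hk) _ (idx_lt p)).2
  have hc := Subgroup.isMulCommutative_closure fun x hx y hy => (hcomm x hx y hy).1
  refine Subgroup.closure_induction (p := fun x _ => x * x = 1) (fun x hx => (hcomm x hx x hx).2)
    (one_mul 1) (fun x y hx hy h1 h2 => ?_) (fun x _ h => ?_) hg
  · have e : y * x = x * y := congrArg Subtype.val (hc.is_comm.comm ⟨y, hy⟩ ⟨x, hx⟩)
    rw [mul_assoc x y, ← mul_assoc y, e, mul_assoc x y, ← mul_assoc x, h1, one_mul, h2]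
  · rw [← mul_inv_rev, h, inv_one]

theorem ptStab_octad {o : Finset GolayPt} (ho : o ∈ octads) :
    Nat.card (ptStab o) = 16 ∧ ∀ g ∈ ptStab o, g * g = 1 := by
  obtain ⟨h, hh, he⟩ := exists_to_octB ho
  have hmap : (ptStab o).map (MulAut.conj h).toMonoidHom = ptStab (toSet octB) := by
    ext g
    simp only [Subgroup.mem_map, MulEquiv.coe_toMonoidHom, MulAut.conj_apply, mem_ptStab]
    constructor
    · rintro ⟨k, ⟨hk, hfix⟩, rfl⟩
      refine ⟨mul_mem (mul_mem hh hk) (inv_mem hh), fun p hp => ?_⟩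
      rw [← he] at hp
      obtain ⟨q, hq, rfl⟩ := Finset.mem_smul_finset.mp hp
      simp [hfix q hq]
    · rintro ⟨hg, hfix⟩
      refine ⟨h⁻¹ * g * h, ⟨mul_mem (mul_mem (inv_mem hh) hg) hh, fun q hq => ?_⟩, by group⟩
      have := hfix (h q) (he ▸ Finset.smul_mem_smul_finset (a := h) hq)
      simp [this]
  constructor
  · rw [Nat.card_congr ((ptStab o).equivMapOfInjective (MulAut.conj h).toMonoidHom (MulAut.conj h).injective).toEquiv, hmap,
      ptStab_octB]
    exact card_lev sgen_mem le_rfl 6 (by norm_num)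
  · intro g hg
    have h1 : MulAut.conj h g ∈ levGen 6 := by
      rw [← lev_six_eq, ← ptStab_octB, ← hmap]
      exact ⟨g, hg, rfl⟩
    have h2 := levGen_six_sq h1
    rwa [← map_mul, map_eq_one_iff _ (MulEquiv.injective _)] at h2

/-- Counting weight-`m` words by their intersection with a dodecad reduces to the base dodecad. -/
theorem count_inter_dodecad {d : Finset GolayPt} (hd : d ∈ dodecads) (m j : ℕ) :
    {o : Finset GolayPt | o ∈ wordsOfWeight (golayCode : Set (GolayPt → ZMod 2)) m ∧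
      (o ∩ d).card = j}.ncard =
      ((cwOfWeight m).filter fun n => pc (n &&& dodB) == j).length := by
  obtain ⟨h, hh, he⟩ := exists_to_dodB hd
  rw [← ncard_toSet_filter m (fun S => (S ∩ toSet dodB).card = j) (fun n => pc (n &&& dodB) == j)
    fun n _ => by rw [toSet_inter, card_toSet, beq_iff_eq]]
  refine Set.ncard_congr (fun o _ => h • o) ?_ (fun _ _ _ _ e => smul_left_cancel h e) ?_
  · rintro o ⟨ho, hj⟩
    refine ⟨smul_mem_weight hh ho, ?_⟩
    rw [← he, ← Finset.smul_finset_inter, Finset.card_smul_finset, hj]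
  · rintro S ⟨hS, hj⟩
    refine ⟨h⁻¹ • S, ⟨smul_mem_weight (inv_mem hh) hS, ?_⟩, smul_inv_smul h S⟩
    rw [show d = h⁻¹ • toSet dodB by rw [← he, inv_smul_smul], ← Finset.smul_finset_inter,
      Finset.card_smul_finset, hj]

theorem octad_inter_dodecad {o d : Finset GolayPt} (ho : o ∈ octads) (hd : d ∈ dodecads)
    (h : 5 ≤ (o ∩ d).card) : (o ∩ d).card = 6 := by
  obtain ⟨a, ha, rfl⟩ := mem_octads.mp ho
  obtain ⟨b, hb, rfl⟩ := mem_dodecads.mp hd
  rw [mem_cwOfWeight] at ha hb
  rw [toSet_inter, card_toSet] at h ⊢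
  have h1 := pc_xor a b
  have h2 := weights _ (cw_xor ha.1 hb.1)
  have h3 := inter_even ha.1 hb.1
  have h4 : pc (a &&& b) ≤ pc a := by
    rw [← card_toSet, ← card_toSet, ← toSet_inter]
    exact Finset.card_le_card Finset.inter_subset_left
  omega

end CfsgLib.SmallGroups.MathieuSets
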