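import Mathlib
import Cfsg.Agent.Lib.SmallGroups.MathieuSets

/-!
# The defining set of `Cfsg.leechLattice`: closure properties, norms, monomial automorphisms
-/

set_option autoImplicit false

namespace CfsgLib.SmallGroups.LeechBasic

open Cfsg CfsgLib.SmallGroups.Golay CfsgLib.SmallGroups.GolayOctads CfsgLib.SmallGroups.M24Group
open scoped Pointwise

/-- The parities of the halved deviations from `m`. -/
def wd (x : GolayPt → ℤ) (m : ℤ) : GolayPt → ZMod 2 := fun i => (((x i - m) / 2 : ℤ) : ZMod 2)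

/-- The lattice condition in linear form. -/
def Good (x : GolayPt → ℤ) : Prop :=
  ∃ m : ℤ, (∀ i, x i ≡ m [ZMOD 2]) ∧ (∑ i, x i ≡ 4 * m [ZMOD 8]) ∧ wd x m ∈ golayCode

theorem one_mem_code : (1 : GolayPt → ZMod 2) ∈ golayCode :=
  Submodule.subset_span (Or.inr rfl)

theorem cast_half {a : ℤ} (h : (2 : ℤ) ∣ a) : (((a / 2 : ℤ) : ZMod 2) = 0 ↔ (4 : ℤ) ∣ a) := by
  rw [ZMod.intCast_zmod_eq_zero_iff_dvd]
  obtain ⟨b, rfl⟩ := h
  omega

theorem mem_supports_word {w : GolayPt → ZMod 2} (hw : w ∈ golayCode) :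
    support₂ w ∈ supports (golayCode : Set (GolayPt → ZMod 2)) :=
  ⟨w, hw, rfl⟩

theorem filter_eq_support {x : GolayPt → ℤ} {m k : ℤ} (hx : ∀ i, x i ≡ m [ZMOD 2])
    (hk : (2 : ℤ) ∣ m - k) :
    (Finset.univ.filter fun i => x i ≡ k [ZMOD 4]) = support₂ (1 + wd x k) := by
  ext i
  have h2 : (2 : ℤ) ∣ x i - k := by
    have h1 := (hx i).symm.dvd
    omega
  have e := cast_half h2
  simp only [support₂, Finset.mem_filter, Finset.mem_univ, true_and]
  rw [Int.modEq_iff_dvd, show k - x i = -(x i - k) by ring, dvd_neg, ← e]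
  simp only [Pi.add_apply, Pi.one_apply, wd, Finset.mem_filter, Finset.mem_univ, true_and]
  generalize (((x i - k) / 2 : ℤ) : ZMod 2) = z
  revert z
  decide

theorem wd_shift {x : GolayPt → ℤ} {m k : ℤ} (hk : (2 : ℤ) ∣ m - k) :
    wd x k = wd x m + (((m - k) / 2 : ℤ) : ZMod 2) • (1 : GolayPt → ZMod 2) := by
  funext i
  simp only [wd, Pi.add_apply, Pi.smul_apply, Pi.one_apply, smul_eq_mul, mul_one, ← Int.cast_add]
  congr 1
  omega

theorem mem_leechSet_iff {x : GolayPt → ℤ} : x ∈ leechSet ↔ Good x := by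
  constructor
  · rintro ⟨m, h1, h2, h3⟩
    refine ⟨m, h1, h2, ?_⟩
    obtain ⟨w, hw, e⟩ := h3 m
    rw [filter_eq_support h1 (by simp)] at e
    have e' := MathieuSets.support₂_injective e
    have : wd x m = w + 1 := by
      rw [e', add_comm 1 (wd x m), add_assoc, CharTwo.add_self_eq_zero, add_zero]
    rw [this]
    exact add_mem hw one_mem_code
  · rintro ⟨m, h1, h2, h3⟩
    refine ⟨m, h1, h2, fun k => ?_⟩
    by_cases hk : (2 : ℤ) ∣ m - k
    · rw [filter_eq_support h1 hk]
      refine mem_supports_word (add_mem one_mem_code ?_)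
      rw [wd_shift hk]
      exact add_mem h3 (Submodule.smul_mem _ _ one_mem_code)
    · have : (Finset.univ.filter fun i => x i ≡ k [ZMOD 4]) = support₂ (0 : GolayPt → ZMod 2) := by
        ext i
        simp only [support₂, Finset.mem_filter, Finset.mem_univ, true_and, Pi.zero_apply, ne_eq,
          not_true, iff_false]
        intro h
        have h1' := (h1 i).dvd
        have h4 := h.dvd
        omega
      rw [this]
      exact mem_supports_word (zero_mem _)

/-- The lattice as a subgroup given by `Good`. -/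
def goodSub : AddSubgroup (GolayPt → ℤ) where
  carrier := {x | Good x}
  zero_mem' := ⟨0, fun _ => rfl, by simp, by
    have : wd (0 : GolayPt → ℤ) 0 = 0 := by funext i; simp [wd]
    rw [this]; exact zero_mem _⟩
  add_mem' := by
    rintro x y ⟨m, h1, h2, h3⟩ ⟨m', h1', h2', h3'⟩
    refine ⟨m + m', fun i => (h1 i).add (h1' i), ?_, ?_⟩
    · rw [show 4 * (m + m') = 4 * m + 4 * m' by ring]
      simp only [Pi.add_apply, Finset.sum_add_distrib]
      exact h2.add h2'
    · have : wd (x + y) (m + m') = wd x m + wd y m' := by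
        funext i
        simp only [wd, Pi.add_apply, ← Int.cast_add]
        congr 1
        have a := (h1 i).dvd
        have b := (h1' i).dvd
        omega
      rw [this]
      exact add_mem h3 h3'
  neg_mem' := by
    rintro x ⟨m, h1, h2, h3⟩
    refine ⟨-m, fun i => (h1 i).neg, ?_, ?_⟩
    · rw [show 4 * -m = -(4 * m) by ring]
      simp only [Pi.neg_apply, Finset.sum_neg_distrib]
      exact h2.neg
    · have : wd (-x) (-m) = wd x m := by
        funext i
        simp only [wd, Pi.neg_apply]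
        rw [show (-x i - -m) / 2 = -((x i - m) / 2) by have a := (h1 i).dvd; omega, Int.cast_neg,
          ZMod.neg_eq_self_mod_two]
      rw [this]
      exact h3

theorem coe_goodSub : (goodSub : Set (GolayPt → ℤ)) = leechSet :=
  Set.ext fun _ => mem_leechSet_iff.symm

theorem mem_lattice {x : GolayPt → ℤ} : x ∈ leechLattice ↔ Good x := by
  rw [leechLattice, ← coe_goodSub, AddSubgroup.closure_eq]
  rfl

/-- Normalised form: `x = m + 2 y` with `m` equal to `0` or `1`. -/
theorem exists_halves {x : GolayPt → ℤ} (hx : Good x) :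
    ∃ (m : ℤ) (y : GolayPt → ℤ), (m = 0 ∨ m = 1) ∧ (∀ i, x i = m + 2 * y i) ∧
      (4 : ℤ) ∣ ∑ i, y i - 2 * m ∧ (fun i => (y i : ZMod 2)) ∈ golayCode := by
  obtain ⟨m₀, h1, h2, h3⟩ := hx
  refine ⟨m₀ % 2, fun i => (x i - m₀ % 2) / 2, by omega, fun i => ?_, ?_, ?_⟩
  · have a := (h1 i).dvd
    dsimp only
    omega
  · dsimp only
    have e : ∑ i, x i = 24 * (m₀ % 2) + 2 * ∑ i, (x i - m₀ % 2) / 2 := by
      rw [Finset.mul_sum, show 24 * (m₀ % 2) = ∑ _i : GolayPt, m₀ % 2 by
        rw [Finset.sum_const, Finset.card_univ, card_golayPt]; simp,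
        ← Finset.sum_add_distrib]
      exact Finset.sum_congr rfl fun i _ => by have a := (h1 i).dvd; omega
    have a := h2.dvd
    omega
  · show wd x (m₀ % 2) ∈ golayCode
    rw [wd_shift (m := m₀) (by omega)]
    exact add_mem h3 (Submodule.smul_mem _ _ one_mem_code)

theorem card_support {w : GolayPt → ZMod 2} (hw : w ∈ golayCode) :
    4 ∣ (support₂ w).card ∧ (w ≠ 0 → 8 ≤ (support₂ w).card) := by
  obtain ⟨k, hk, rfl⟩ := mem_code_iff.mp hw
  rw [support₂_word, card_toSet]
  have h := weights _ (mem_cw.mpr ⟨k, hk, rfl⟩)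
  refine ⟨by omega, fun hne => ?_⟩
  by_contra hlt
  refine hne ?_
  have h0 : pc (enc k) = 0 := by omega
  rw [← card_toSet, Finset.card_eq_zero] at h0
  funext p
  have hp : p ∉ toSet (enc k) := by rw [h0]; exact Finset.notMem_empty p
  rw [mem_toSet] at hp
  simp [word, hp]

theorem cast_two_eq_ite (a : ℤ) : (a : ZMod 2) ≠ 0 ↔ a % 2 = 1 := by
  rw [ne_eq, ZMod.intCast_zmod_eq_zero_iff_dvd]; omega

theorem sq_sum_mod (y : GolayPt → ℤ) :
    (4 : ℤ) ∣ ∑ i, y i ^ 2 - ((support₂ fun i => (y i : ZMod 2)).card : ℤ) := by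
  have e : ((support₂ fun i => (y i : ZMod 2)).card : ℤ) = ∑ i, if y i % 2 = 1 then (1 : ℤ) else 0 := by
    rw [Finset.sum_boole]
    congr 2
    ext i
    simp [support₂, cast_two_eq_ite]
  rw [e, ← Finset.sum_sub_distrib]
  refine Finset.dvd_sum fun i _ => ?_
  rcases Int.even_or_odd' (y i) with ⟨b, hb | hb⟩ <;> rw [hb]
  · rw [if_neg (by omega)]; exact ⟨b ^ 2, by ring⟩
  · rw [if_pos (by omega)]; exact ⟨b ^ 2 + b, by ring⟩

theorem sqNorm_halves {x y : GolayPt → ℤ} {m : ℤ} (h : ∀ i, x i = m + 2 * y i) :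
    sqNorm x = 24 * m ^ 2 + 4 * m * ∑ i, y i + 4 * ∑ i, y i ^ 2 := by
  rw [sqNorm, Finset.mul_sum, Finset.mul_sum, show 24 * m ^ 2 = ∑ _i : GolayPt, m ^ 2 by
    rw [Finset.sum_const, Finset.card_univ, card_golayPt]; simp,
    ← Finset.sum_add_distrib, ← Finset.sum_add_distrib]
  exact Finset.sum_congr rfl fun i _ => by rw [h i]; ring

theorem sixteen_dvd {x : GolayPt → ℤ} (hx : Good x) : (16 : ℤ) ∣ sqNorm x := by
  obtain ⟨m, y, hm, hxy, hs, hc⟩ := exists_halves hx
  rw [sqNorm_halves hxy]
  have h1 := sq_sum_mod y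
  have h2 := (card_support hc).1
  rcases hm with rfl | rfl <;> omega

theorem thirtytwo_le {x : GolayPt → ℤ} (hx : Good x) (h0 : x ≠ 0) : 32 ≤ sqNorm x := by
  have h16 := sixteen_dvd hx
  obtain ⟨m, y, hm, hxy, hs, hc⟩ := exists_halves hx
  rcases hm with rfl | rfl
  · rw [sqNorm_halves hxy]
    by_cases hz : (fun i => (y i : ZMod 2)) = 0
    · have hev : ∀ i, ∃ z, y i = 2 * z := fun i => by
        have := congrFun hz i
        rw [Pi.zero_apply, ZMod.intCast_zmod_eq_zero_iff_dvd] at this
        exact this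
      choose z hz' using hev
      have hsum : ∑ i, y i = 2 * ∑ i, z i := by
        rw [Finset.mul_sum]; exact Finset.sum_congr rfl fun i _ => hz' i
      have hsq : ∑ i, y i ^ 2 = 4 * ∑ i, z i ^ 2 := by
        rw [Finset.mul_sum]; exact Finset.sum_congr rfl fun i _ => by rw [hz' i]; ring
      have hpos : 0 < ∑ i, z i ^ 2 := by
        obtain ⟨i, hi⟩ := Function.ne_iff.mp h0
        refine Finset.sum_pos' (fun j _ => sq_nonneg _) ⟨i, Finset.mem_univ i, ?_⟩
        have : z i ≠ 0 := fun e => hi (by rw [hxy i, hz' i, e]; simp)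
        positivity
      have hpar : (2 : ℤ) ∣ ∑ i, z i ^ 2 - ∑ i, z i := by
        rw [← Finset.sum_sub_distrib]
        refine Finset.dvd_sum fun i _ => ?_
        rw [show z i ^ 2 - z i = (z i - 1) * z i by ring]
        exact ((Int.even_mul_pred_self (z i)).two_dvd).trans (dvd_of_eq (mul_comm _ _))
      omega
    · have h8 := (card_support hc).2 hz
      have hle : ((support₂ fun i => (y i : ZMod 2)).card : ℤ) ≤ ∑ i, y i ^ 2 := by
        rw [Finset.cast_card]
        refine (Finset.sum_le_sum (g := fun i => y i ^ 2) fun i hi => ?_).trans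
          (Finset.sum_le_univ_sum_of_nonneg fun i => sq_nonneg _)
        have hy : y i ≠ 0 := fun e => by
          simp [support₂, e] at hi
        have := Int.one_le_abs hy
        calc ((1 : ℕ) : ℤ) = 1 := rfl
          _ ≤ |y i| ^ 2 := one_le_pow₀ this
          _ = y i ^ 2 := sq_abs _
      omega
  · have h24 : 24 ≤ sqNorm x := by
      rw [sqNorm, show (24 : ℤ) = ∑ _i : GolayPt, 1 by
        rw [Finset.sum_const, Finset.card_univ, card_golayPt]; simp]
      refine Finset.sum_le_sum fun i _ => ?_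
      have hy : x i ≠ 0 := by rw [hxy i]; omega
      have := Int.one_le_abs hy
      calc (1 : ℤ) ≤ |x i| ^ 2 := one_le_pow₀ this
        _ = x i ^ 2 := sq_abs _
    omega

theorem comp_mem_code {σ : Equiv.Perm GolayPt} (hσ : σ ∈ M24) {w : GolayPt → ZMod 2}
    (hw : w ∈ golayCode) : (fun i => w (σ i)) ∈ golayCode := by
  obtain ⟨v, hv, e⟩ := smul_mem_supports (inv_mem hσ) (mem_supports_word hw)
  rw [← support₂_comp] at e
  exact MathieuSets.support₂_injective e ▸ hv

theorem good_perm {σ : Equiv.Perm GolayPt} (hσ : σ ∈ M24) {x : GolayPt → ℤ} (hx : Good x) :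
    Good fun i => x (σ i) := by
  obtain ⟨m, h1, h2, h3⟩ := hx
  exact ⟨m, fun i => h1 _, by rwa [Equiv.sum_comp σ x], comp_mem_code hσ h3⟩

theorem good_sign {c : Finset GolayPt}
    (hc : c ∈ supports (golayCode : Set (GolayPt → ZMod 2))) {x : GolayPt → ℤ} (hx : Good x) :
    Good fun i => if i ∈ c then -x i else x i := by
  obtain ⟨w, hw, rfl⟩ := hc
  obtain ⟨m, h1, h2, h3⟩ := hx
  refine ⟨m, fun i => ?_, ?_, ?_⟩
  · dsimp only
    split
    · have a := (h1 i).dvd
      rw [Int.modEq_iff_dvd]; omega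
    · exact h1 i
  · have e : (∑ i, if i ∈ support₂ w then -x i else x i) = ∑ i, x i - 2 * ∑ i ∈ support₂ w, x i := by
      rw [Finset.mul_sum, eq_sub_iff_add_eq, show (∑ i ∈ support₂ w, 2 * x i) =
        ∑ i, if i ∈ support₂ w then 2 * x i else 0 by rw [← Finset.sum_filter]; congr 1; ext; simp,
        ← Finset.sum_add_distrib]
      refine Finset.sum_congr rfl fun i _ => ?_
      split <;> ring
    rw [e]
    -- the part of the sum over the sign set is divisible by four
    have h4 : (4 : ℤ) ∣ ∑ i ∈ support₂ w, x i := by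
      have hsplit : ∑ i ∈ support₂ w, x i =
          ((support₂ w).card : ℤ) * m + 2 * ∑ i ∈ support₂ w, (x i - m) / 2 := by
        rw [Finset.mul_sum, ← nsmul_eq_mul, ← Finset.sum_const, ← Finset.sum_add_distrib]
        exact Finset.sum_congr rfl fun i _ => by have a := (h1 i).dvd; omega
      have hev : (2 : ℤ) ∣ ∑ i ∈ support₂ w, (x i - m) / 2 := by
        refine (ZMod.intCast_zmod_eq_zero_iff_dvd _ 2).mp ?_
        have d := dot_eq_zero hw h3
        rw [Int.cast_sum, ← d, support₂, Finset.sum_filter]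
        refine Finset.sum_congr rfl fun i _ => ?_
        rcases (show w i = 0 ∨ w i = 1 by generalize w i = z; revert z; decide) with h | h <;>
          simp [h, wd]
      have hd : (4 : ℤ) ∣ ((support₂ w).card : ℤ) * m :=
        Dvd.dvd.mul_right (by exact_mod_cast (card_support hw).1) _
      omega
    rw [Int.modEq_iff_dvd] at h2 ⊢
    omega
  · have : wd (fun i => if i ∈ support₂ w then -x i else x i) m =
        wd x m + ((m : ℤ) : ZMod 2) • w := by
      funext i
      simp only [wd, Pi.add_apply, Pi.smul_apply, smul_eq_mul]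
      have a := (h1 i).dvd
      rcases (show w i = 0 ∨ w i = 1 by generalize w i = z; revert z; decide) with h | h
      · simp [support₂, h]
      · simp only [support₂, Finset.mem_filter, Finset.mem_univ, true_and, h, ne_eq, one_ne_zero,
          not_false_eq_true, if_true, mul_one, ← Int.cast_add]
        rw [ZMod.intCast_eq_intCast_iff_dvd_sub]
        omega
    rw [this]
    exact add_mem h3 (Submodule.smul_mem _ _ hw)

end CfsgLib.SmallGroups.LeechBasic
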