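import Mathlib
import Cfsg.Agent.Lib.SmallGroups.LeechBasic

/-!
# The centre of `Cfsg.Co0`
-/

set_option autoImplicit false

namespace CfsgLib.SmallGroups.LeechCenter

open Cfsg CfsgLib.SmallGroups.Golay CfsgLib.SmallGroups.GolayOctads CfsgLib.SmallGroups.M24Group
  CfsgLib.SmallGroups.LeechBasic

/-- Signed unit vectors of length eight. -/
theorem eight_single_mem (i : GolayPt) : (Pi.single i 8 : GolayPt → ℤ) ∈ leechLattice := by
  refine mem_lattice.mpr ⟨0, fun j => ?_, ?_, ?_⟩
  · rcases eq_or_ne j i with rfl | h
    · rw [Pi.single_eq_same]; rfl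
    · rw [Pi.single_eq_of_ne h]
  · rw [Finset.sum_pi_single']; simp [Int.ModEq]
  · have : wd (Pi.single i 8 : GolayPt → ℤ) 0 = 0 := by
      funext j
      rcases eq_or_ne j i with rfl | h
      · simp [wd, show (4 : ZMod 2) = 0 from rfl]
      · simp [wd, h]
    rw [this]; exact zero_mem _

/-- Negation. -/
def negLat : Equiv.Perm leechLattice := Equiv.neg _

theorem negLat_mem : negLat ∈ Co0 := by
  refine ⟨fun v w => ?_, fun v => ?_⟩
  · show -(v + w) = -v + -w
    rw [neg_add]
  · show sqNorm ((-v : leechLattice) : GolayPt → ℤ) = _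
    simp [sqNorm, AddSubgroup.coe_neg]

/-- A coordinate permutation from `M24` as an element of `Co0`. -/
noncomputable def permLat (σ : Equiv.Perm GolayPt) (hσ : σ ∈ M24) : Equiv.Perm leechLattice where
  toFun v := ⟨fun i => (v : GolayPt → ℤ) (σ i), mem_lattice.mpr (good_perm hσ (mem_lattice.mp v.2))⟩
  invFun v := ⟨fun i => (v : GolayPt → ℤ) (σ.symm i),
    mem_lattice.mpr (good_perm (inv_mem hσ) (mem_lattice.mp v.2))⟩
  left_inv v := by ext i; simp
  right_inv v := by ext i; simp

theorem permLat_mem (σ : Equiv.Perm GolayPt) (hσ : σ ∈ M24) : permLat σ hσ ∈ Co0 :=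
  ⟨fun _ _ => rfl, fun v => by
    show ∑ i, (v : GolayPt → ℤ) (σ i) ^ 2 = _
    exact Equiv.sum_comp σ fun i => (v : GolayPt → ℤ) i ^ 2⟩

/-- Sign change on the support of a code word as an element of `Co0`. -/
noncomputable def signLat (c : Finset GolayPt)
    (hc : c ∈ supports (golayCode : Set (GolayPt → ZMod 2))) : Equiv.Perm leechLattice :=
  Function.Involutive.toPerm
    (fun v => ⟨fun i => if i ∈ c then -(v : GolayPt → ℤ) i else (v : GolayPt → ℤ) i,
      mem_lattice.mpr (good_sign hc (mem_lattice.mp v.2))⟩)
    (fun v => by ext i; simp only; split <;> simp)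

theorem signLat_mem (c : Finset GolayPt)
    (hc : c ∈ supports (golayCode : Set (GolayPt → ZMod 2))) : signLat c hc ∈ Co0 := by
  refine ⟨fun v w => ?_, fun v => ?_⟩
  · ext i
    show (if i ∈ c then -((v + w : leechLattice) : GolayPt → ℤ) i
      else ((v + w : leechLattice) : GolayPt → ℤ) i) =
      (if i ∈ c then -(v : GolayPt → ℤ) i else (v : GolayPt → ℤ) i) +
        (if i ∈ c then -(w : GolayPt → ℤ) i else (w : GolayPt → ℤ) i)
    simp only [AddSubgroup.coe_add, Pi.add_apply]
    split <;> ring
  · show ∑ i, (if i ∈ c then -(v : GolayPt → ℤ) i else (v : GolayPt → ℤ) i) ^ 2 = _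
    refine Finset.sum_congr rfl fun i _ => ?_
    split <;> simp

/-- Vector `8 e_i`. -/
def unitVec (i : GolayPt) : leechLattice := ⟨Pi.single i 8, eight_single_mem i⟩

theorem separates (i j : GolayPt) (hij : i ≠ j) :
    ∃ c ∈ supports (golayCode : Set (GolayPt → ZMod 2)), j ∈ c ∧ i ∉ c := by
  have h : ∀ i j : GolayPt, i ≠ j → ((List.range 12).any fun k =>
      ((bas k).testBit (idx j) && !(bas k).testBit (idx i)) ||
        ((bas k).testBit (idx i) && !(bas k).testBit (idx j))) = true := by decide +kernel
  obtain ⟨k, hk, hb⟩ := List.any_eq_true.mp (h i j hij)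
  rw [List.mem_range] at hk
  simp only [Bool.or_eq_true, Bool.and_eq_true, Bool.not_eq_true'] at hb
  rcases hb with hb | hb
  · exact ⟨toSet (bas k), (MathieuSets.bas_octad k hk).1, by simp [hb.1], by simp [hb.2]⟩
  · refine ⟨support₂ (word (bas k) + 1), mem_supports_word (add_mem (word_bas_mem hk) one_mem_code),
      ?_, ?_⟩ <;>
      (rw [support₂, Finset.mem_filter]
       simp [word, hb.1, hb.2, show (1 : ZMod 2) + 1 = 0 from rfl])

/-- A central element is a sign. -/
theorem central_cases {g : Co0} (hg : g ∈ Subgroup.center Co0) :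
    (g : Equiv.Perm leechLattice) = 1 ∨ (g : Equiv.Perm leechLattice) = negLat := by
  rw [Subgroup.mem_center_iff] at hg
  have hcomm : ∀ (f : Equiv.Perm leechLattice) (_ : f ∈ Co0) (v : leechLattice),
      f ((g : Equiv.Perm leechLattice) v) = (g : Equiv.Perm leechLattice) (f v) := fun f hf v => by
    have := congrArg (fun k : Co0 => (k : Equiv.Perm leechLattice) v) (hg ⟨f, hf⟩)
    simpa using this
  -- the image of `8 e_i` is supported at `i`
  have hsupp : ∀ i j, j ≠ i →
      (((g : Equiv.Perm leechLattice) (unitVec i) : leechLattice) : GolayPt → ℤ) j = 0 := by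
    intro i j hji
    obtain ⟨c, hc, hjc, hic⟩ := separates i j hji.symm
    have e : signLat c hc (unitVec i) = unitVec i := by
      ext k
      show (if k ∈ c then -(Pi.single i 8 : GolayPt → ℤ) k else (Pi.single i 8 : GolayPt → ℤ) k) = _
      rcases eq_or_ne k i with rfl | hk
      · rw [if_neg hic]; rfl
      · simp [unitVec, hk]
    have h := hcomm _ (signLat_mem c hc) (unitVec i)
    rw [e] at h
    have h' := congrArg (fun v : leechLattice => (v : GolayPt → ℤ) j) h
    change (if j ∈ c then -_ else _) = _ at h'
    rw [if_pos hjc] at h'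
    omega
  -- its value there is the same sign for all `i`
  have hval : ∀ i, (((g : Equiv.Perm leechLattice) (unitVec i) : leechLattice) : GolayPt → ℤ) i =
      (((g : Equiv.Perm leechLattice) (unitVec none) : leechLattice) : GolayPt → ℤ) none := by
    intro i
    obtain ⟨σ, hσ, hσi⟩ := exists_map (n := 1) (by norm_num) (fun _ => none) (fun _ => i)
      (Function.injective_of_subsingleton _) (Function.injective_of_subsingleton _)
    have e : permLat σ hσ (unitVec i) = unitVec none := by
      ext k
      show (Pi.single i 8 : GolayPt → ℤ) (σ k) = (Pi.single none 8 : GolayPt → ℤ) k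
      rcases eq_or_ne k none with rfl | hk
      · rw [hσi 0, Pi.single_eq_same, Pi.single_eq_same]
      · rw [Pi.single_eq_of_ne hk, Pi.single_eq_of_ne]
        exact fun e => hk (σ.injective (e.trans (hσi 0).symm))
    have h := hcomm _ (permLat_mem σ hσ) (unitVec i)
    rw [e] at h
    have h' := congrArg (fun v : leechLattice => (v : GolayPt → ℤ) none) h
    change (((g : Equiv.Perm leechLattice) (unitVec i) : leechLattice) : GolayPt → ℤ) (σ none) = _ at h'
    rw [hσi 0] at h'
    exact h'
  set a := (((g : Equiv.Perm leechLattice) (unitVec none) : leechLattice) : GolayPt → ℤ) none with ha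
  have hsq : a ^ 2 = 64 := by
    have h := g.2.2 (unitVec none)
    rw [sqNorm, Finset.sum_eq_single none (fun j _ hj => by simp [hsupp none j hj])
      (by simp), ← ha, sqNorm, Finset.sum_eq_single none (fun j _ hj => by simp [unitVec, hj]) (by simp)] at h
    simpa [unitVec] using h
  -- extend by additivity
  let F : leechLattice →+ leechLattice := AddMonoidHom.mk' (g : Equiv.Perm leechLattice) g.2.1
  have hlin : ∀ v : leechLattice, ∀ i,
      8 * ((F v : leechLattice) : GolayPt → ℤ) i = a * (v : GolayPt → ℤ) i := by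
    intro v i
    have hv : (8 : ℤ) • v = ∑ j, ((v : GolayPt → ℤ) j) • unitVec j := by
      refine Subtype.ext (funext fun k => ?_)
      simp only [AddSubgroup.coe_zsmul, AddSubgroup.val_finset_sum, Finset.sum_apply, Pi.smul_apply,
        smul_eq_mul, unitVec]
      rw [Finset.sum_eq_single k (fun j _ hj => by simp [Ne.symm hj]) (by simp), Pi.single_eq_same]
      ring
    have h := congrArg (fun w : leechLattice => ((F w : leechLattice) : GolayPt → ℤ) i) hv
    simp only [map_zsmul, map_sum, AddSubgroup.coe_zsmul, AddSubgroup.val_finset_sum,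
      Finset.sum_apply, Pi.smul_apply, smul_eq_mul] at h
    rw [h, Finset.sum_eq_single i (fun j _ hj => by
      rw [show ((F (unitVec j) : leechLattice) : GolayPt → ℤ) i = 0 from hsupp j i (Ne.symm hj), mul_zero])
      (by simp), show ((F (unitVec i) : leechLattice) : GolayPt → ℤ) i = a from hval i, mul_comm]
  have h8 : a = 8 ∨ a = -8 := by
    have : (a - 8) * (a + 8) = 0 := by linear_combination hsq
    rcases mul_eq_zero.mp this with h | h <;> omega
  rcases h8 with h8 | h8
  · left
    refine Equiv.ext fun v => Subtype.ext (funext fun i => ?_)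
    have h := hlin v i
    rw [h8] at h
    change 8 * (((g : Equiv.Perm leechLattice) v : leechLattice) : GolayPt → ℤ) i = _ at h
    simp only [Equiv.Perm.one_apply]
    omega
  · right
    refine Equiv.ext fun v => Subtype.ext (funext fun i => ?_)
    have h := hlin v i
    rw [h8] at h
    change 8 * (((g : Equiv.Perm leechLattice) v : leechLattice) : GolayPt → ℤ) i = _ at h
    show _ = -((v : GolayPt → ℤ) i)
    omega

theorem card_center_Co0 : Nat.card (Subgroup.center Co0) = 2 := by
  rw [Nat.card_eq_two_iff' (1 : Subgroup.center Co0)]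
  have hc : (⟨negLat, negLat_mem⟩ : Co0) ∈ Subgroup.center Co0 := by
    rw [Subgroup.mem_center_iff]
    intro f
    refine Subtype.ext (Equiv.ext fun v => ?_)
    show (f : Equiv.Perm leechLattice) (-v) = -((f : Equiv.Perm leechLattice) v)
    exact map_neg (AddMonoidHom.mk' (f : Equiv.Perm leechLattice) f.2.1) v
  have hne : negLat ≠ 1 := fun e => by
    have h := congrArg (fun f : Equiv.Perm leechLattice => (f (unitVec none) : GolayPt → ℤ) none) e
    simp [negLat, unitVec] at h
  refine ⟨⟨_, hc⟩, fun e => hne (congrArg (fun z : Subgroup.center Co0 => ((z : Co0) : Equiv.Perm leechLattice)) e),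
    fun z hz => ?_⟩
  rcases central_cases z.2 with h | h
  · exact absurd (Subtype.ext (Subtype.ext h)) hz
  · exact Subtype.ext (Subtype.ext h)

end CfsgLib.SmallGroups.LeechCenter
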