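import Cfsg.Agent.Lib.J1.Orders
import Cfsg.Agent.Lib.Involution.Order175560
import Cfsg.Prelude.Def_Sporadic

/-!
# The group generated by Janko's two matrices is simple of order 175560

The certificates bound the order by 175560, its element orders and a four-group bound it below, and
an explicit conjugate shows that the Sylow 19-subgroup is not normal.
-/

set_option autoImplicit false
set_option maxRecDepth 100000

namespace CfsgLib.SmallGroups.J1Order

open CfsgLib.J1 Cfsg.Spor

/-- A word for an involution commuting with the cube of `word6`. -/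
def wordS : List Bool := [false, true, false, true, false, true, false, true, false, true]

theorem certs :
    (beq (mul (evalWord wordS) (evalWord wordS)) one &&
      beq (mul (evalWord (word6 ++ word6 ++ word6)) (evalWord (word6 ++ word6 ++ word6))) one &&
      beq (mul (evalWord (word6 ++ word6 ++ word6)) (evalWord wordS))
        (mul (evalWord wordS) (evalWord (word6 ++ word6 ++ word6))) &&
      !beq (evalWord wordS) one && !beq (evalWord (word6 ++ word6 ++ word6)) one &&
      !beq (evalWord wordS) (evalWord (word6 ++ word6 ++ word6)) &&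
      ((List.range 19).all fun k => !beq
        (mul (mul (evalWord [false]) (evalWord word19)) (evalWord (List.replicate 6 false)))
        (evalWord ((List.range k).flatMap fun _ => word19))) &&
      beq (mul (evalWord [false]) (evalWord (List.replicate 6 false))) one) = true := by
  decide +kernel

theorem finite_J1 : Finite J1 := Subtype.finite

theorem card_le : Nat.card J1 ≤ 175560 := by
  have h : ∀ g : J1, ∃ p : Fin 660 × Fin 266,
      ((g : GL (Fin 7) (ZMod 11)) : M7) = dec (lM p.1) * dec (tM p.2) := fun g => by
    obtain ⟨i, hi, t, ht, e⟩ := mem_cover g g.2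
    exact ⟨(⟨i, hi⟩, ⟨t, ht⟩), e⟩
  choose f hf using h
  refine (Nat.card_le_card_of_injective f fun a b e => Subtype.ext (Units.ext ?_)).trans (by simp)
  rw [hf a, hf b, e]

theorem dec_inj {A B : Mat} (hA : ok A = true) (hB : ok B = true) (h : dec A = dec B) :
    beq A B = true := by
  have hrow : ∀ i, row A i = row B i := fun i => by
    have hd : ∀ j : Fin 7, dig (row A i) j % 11 = dig (row B i) j % 11 := fun j => by
      have := congrFun (congrFun h i) j
      rw [dec_apply, dec_apply, ZMod.natCast_eq_natCast_iff'] at this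
      exact this
    rw [← ok_iff.1 hA i, ← ok_iff.1 hB i]
    simp only [red]
    rw [show dig (row A i) 0 % 11 = _ from hd 0, show dig (row A i) 1 % 11 = _ from hd 1,
      show dig (row A i) 2 % 11 = _ from hd 2, show dig (row A i) 3 % 11 = _ from hd 3,
      show dig (row A i) 4 % 11 = _ from hd 4, show dig (row A i) 5 % 11 = _ from hd 5,
      show dig (row A i) 6 % 11 = _ from hd 6]
    rfl
  have h0 := hrow 0; have h1 := hrow 1; have h2 := hrow 2; have h3 := hrow 3
  have h4 := hrow 4; have h5 := hrow 5; have h6 := hrow 6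
  simp only [row, Matrix.cons_val] at h0 h1 h2 h3 h4 h5 h6
  simp [beq, h0, h1, h2, h3, h4, h5, h6]

/-- The element of a word. -/
noncomputable def elt (l : List Bool) : J1 := (exists_word l).2.choose

theorem elt_val (l : List Bool) :
    ((elt l : GL (Fin 7) (ZMod 11)) : M7) = dec (evalWord l) := (exists_word l).2.choose_spec

theorem elt_ne {l l' : List Bool} (h : beq (evalWord l) (evalWord l') = false) : elt l ≠ elt l' := by
  intro e
  have h' := dec_inj (exists_word l).1 (exists_word l').1 (by rw [← elt_val, ← elt_val, e])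
  rw [h] at h'
  exact Bool.noConfusion h'

theorem elt_mul (l l' : List Bool) :
    ((elt l * elt l' : J1) : GL (Fin 7) (ZMod 11)).val = dec (mul (evalWord l) (evalWord l')) := by
  rw [Subgroup.coe_mul, Units.val_mul, elt_val, elt_val,
    ← dec_mul (exists_word l).1 (exists_word l').1]

theorem elt_eq {g : J1} {A : Mat} {l : List Bool}
    (hg : ((g : GL (Fin 7) (ZMod 11)) : M7) = dec A) (h : beq A (evalWord l) = true) : g = elt l :=
  Subtype.ext (Units.ext (by rw [hg, CfsgLib.J1.eq_of_beq h, elt_val]))

theorem elt_nil : elt [] = 1 := Subtype.ext (Units.ext (by rw [elt_val]; exact dec_one))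

theorem eval_nil : evalWord [] = one := rfl

theorem eval_cons (b : Bool) (l : List Bool) :
    evalWord (b :: l) = mul (if b then genY else genX) (evalWord l) := rfl

attribute [local irreducible] evalWord elt

theorem mul_eq_one {l l' : List Bool} (h : beq (mul (evalWord l) (evalWord l')) one = true) :
    elt l * elt l' = 1 := by
  rw [← elt_nil]
  exact elt_eq (elt_mul l l') (eval_nil ▸ h)

theorem four_dvd : 4 ∣ Nat.card J1 := by
  have := finite_J1
  have h := certs
  simp only [Bool.and_eq_true, Bool.not_eq_true'] at h
  obtain ⟨⟨⟨⟨⟨⟨⟨hs2, ht2⟩, hst⟩, hs1⟩, ht1⟩, hne⟩, -⟩, -⟩ := h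
  set t := elt (word6 ++ word6 ++ word6) with ht
  set s := elt wordS with hs
  have ht2' : t * t = 1 := mul_eq_one ht2
  have hs2' : s * s = 1 := mul_eq_one hs2
  have hcomm : t * s = s * t :=
    Subtype.ext (Units.ext (by rw [ht, hs, elt_mul, elt_mul, CfsgLib.J1.eq_of_beq hst]))
  have hs1' : s ≠ 1 := fun e => elt_ne (eval_nil ▸ hs1) (e.trans elt_nil.symm)
  have ht1' : t ≠ 1 := fun e => elt_ne (eval_nil ▸ ht1) (e.trans elt_nil.symm)
  have hts : s ≠ t := elt_ne hne
  have hprod : t * s ≠ 1 := fun e => hts (by
    rw [eq_comm, ← mul_left_inj s, e, hs2'])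
  let K : Subgroup J1 :=
    { carrier := {1, t, s, t * s}
      one_mem' := by simp
      inv_mem' := by
        have e1 : t⁻¹ = t := inv_eq_of_mul_eq_one_right ht2'
        have e2 : s⁻¹ = s := inv_eq_of_mul_eq_one_right hs2'
        intro x hx
        simp only [Set.mem_insert_iff, Set.mem_singleton_iff] at hx ⊢
        rcases hx with rfl | rfl | rfl | rfl <;> simp [e1, e2, hcomm, mul_inv_rev]
      mul_mem' := by
        have e2 : ∀ x, t * (t * x) = x := fun x => by rw [← mul_assoc, ht2', one_mul]
        have e3 : ∀ x, s * (s * x) = x := fun x => by rw [← mul_assoc, hs2', one_mul]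
        have e4 : ∀ x, s * (t * x) = t * (s * x) := fun x => by rw [← mul_assoc, ← hcomm, mul_assoc]
        intro x y hx hy
        simp only [Set.mem_insert_iff, Set.mem_singleton_iff] at hx hy ⊢
        rcases hx with rfl | rfl | rfl | rfl <;> rcases hy with rfl | rfl | rfl | rfl <;>
          simp [mul_assoc, ht2', hs2', ← hcomm, e2, e3, e4] }
  have hK : Nat.card K = 4 := by
    show Nat.card ({1, t, s, t * s} : Set J1) = 4
    rw [Nat.card_coe_set_eq, Set.ncard_eq_toFinset_card']
    have a1 : t * s ≠ t := fun e => hs1' (mul_left_cancel (e.trans (mul_one t).symm))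
    have a2 : t * s ≠ s := fun e => ht1' (mul_right_cancel (e.trans (one_mul s).symm))
    simp [Ne.symm hs1', Ne.symm ht1', hts.symm, Ne.symm hprod, a1.symm, a2.symm]
  exact hK ▸ K.card_subgroup_dvd_card

theorem eval_append (l m : List Bool) :
  dec (evalWord (l ++ m)) = dec (evalWord l) * dec (evalWord m) := by
  induction l with
  | nil => rw [List.nil_append, eval_nil, dec_one, one_mul]
  | cons b l ih =>
    have hb : ok (if b then genY else genX) = true := by
      cases b <;> [exact base.2.2.1; exact base.2.2.2.1]
    rw [List.cons_append, eval_cons, eval_cons, dec_mul hb (exists_word _).1, dec_mul hb (exists_word _).1, ih, mul_assoc]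

theorem not_normal (P : Sylow 19 J1) (hP : Nat.card (P : Subgroup J1) = 19) :
    ¬ (P : Subgroup J1).Normal := by
  have := finite_J1
  have : Fact (Nat.Prime 19) := ⟨by norm_num⟩
  intro hn
  have : Subsingleton (Sylow 19 J1) := (Sylow.unique_of_normal P hn).instSubsingleton
  have h := certs
  simp only [Bool.and_eq_true, Bool.not_eq_true', List.all_eq_true, List.mem_range] at h
  obtain ⟨⟨-, hk⟩, hinv⟩ := h
  set c := elt word19 with hc
  set x := elt [false]
  have hx : x⁻¹ = elt (List.replicate 6 false) := inv_eq_of_mul_eq_one_right (mul_eq_one hinv)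
  have hc19 : c ^ 19 = 1 := by
    refine Subtype.ext (Units.ext ?_)
    rw [SubmonoidClass.coe_pow, Units.val_pow_eq_pow_val, elt_val,
      ← dec_pw (exists_word word19).1 (by simp), word_checks.2.2.2.2.2.2.2.2.2.2.2.2.2.1, dec_one]
    rfl
  have hcP : Subgroup.zpowers c = P := by
    have hco : orderOf c = 19 := orderOf_eq_prime hc19 fun e => by
      have h1 : ((c : GL (Fin 7) (ZMod 11)) : M7) = 1 := by rw [e]; rfl
      rw [elt_val] at h1
      exact word_checks.2.2.2.2.2.2.2.2.2.2.2.2.2.2 h1
    obtain ⟨Q, hQ⟩ := (IsPGroup.of_card (n := 1) (by rw [Nat.card_zpowers, hco, pow_one] :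
      Nat.card (Subgroup.zpowers c) = 19 ^ 1)).exists_le_sylow
    rw [Subsingleton.elim Q P] at hQ
    exact Subgroup.eq_of_le_of_card_ge hQ (by rw [hP, Nat.card_zpowers, hco])
  have hmem := hn.conj_mem c (hcP ▸ Subgroup.mem_zpowers c) x
  rw [← hcP, mem_zpowers_iff_mem_range_orderOf] at hmem
  obtain ⟨k, hk', e⟩ := Finset.mem_image.1 hmem
  rw [Finset.mem_range] at hk'
  have hk19 : k < 19 := lt_of_lt_of_le hk' (Nat.le_of_dvd (by norm_num) (orderOf_dvd_of_pow_eq_one hc19))
  have hpow : ∀ n, ((c ^ n : J1) : GL (Fin 7) (ZMod 11)).val =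
      dec (evalWord ((List.range n).flatMap fun _ => word19)) := fun n => by
    induction n with
    | zero => rw [pow_zero, List.range_zero, List.flatMap_nil, eval_nil]; exact dec_one.symm
    | succ n ih =>
      have e : (List.range (n + 1)).flatMap (fun _ => word19) =
          word19 ++ (List.range n).flatMap fun _ => word19 := by
        rw [List.range_succ_eq_map, List.flatMap_cons, List.flatMap_map]
      rw [pow_succ', Subgroup.coe_mul, Units.val_mul, ih, elt_val, e,
        ← dec_mul (exists_word _).1 (exists_word _).1]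
      rw [dec_mul (exists_word _).1 (exists_word _).1, eval_append]
  have h1 := hk k hk19
  have h2 : beq (mul (mul (evalWord [false]) (evalWord word19)) (evalWord (List.replicate 6 false)))
      (evalWord ((List.range k).flatMap fun _ => word19)) = true := by
    refine dec_inj (ok_mul _ _) (exists_word _).1 ?_
    rw [← hpow, e, hx, dec_mul (ok_mul _ _) (exists_word _).1,
      dec_mul (exists_word _).1 (exists_word _).1, Subgroup.coe_mul, Units.val_mul, Subgroup.coe_mul,
      Units.val_mul, elt_val, elt_val, elt_val]
  rw [h1] at h2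
  exact Bool.noConfusion h2

theorem isJ1 : Cfsg.IsJ1 J1 := by
  have := finite_J1
  have : Fact (Nat.Prime 19) := ⟨by norm_num⟩
  have hdvd : ∀ n ∈ [6, 7, 10, 11, 15, 19], n ∣ Nat.card J1 := fun n hn => by
    obtain ⟨g, hg⟩ := exists_order hn
    exact hg ▸ orderOf_dvd_natCard g
  have hcases : Nat.card J1 = 87780 ∨ Nat.card J1 = 175560 := by
    have h := Nat.lcm_dvd four_dvd (Nat.lcm_dvd (Nat.lcm_dvd (hdvd 6 (by simp)) (hdvd 7 (by simp)))
      (Nat.lcm_dvd (Nat.lcm_dvd (hdvd 10 (by simp)) (hdvd 11 (by simp)))
        (Nat.lcm_dvd (hdvd 15 (by simp)) (hdvd 19 (by simp)))))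
    norm_num [Nat.lcm] at h
    have := card_le
    have : 0 < Nat.card J1 := Nat.card_pos
    omega
  obtain ⟨P⟩ : Nonempty (Sylow 19 J1) := inferInstance
  have hP : Nat.card (P : Subgroup J1) = 19 := by
    rcases hcases with h | h
    · exact (SimpleTools.card_sylow_subgroup (k := 1) (m := 4620) (h.trans (by norm_num))
        (by norm_num) P).trans (pow_one _)
    · exact (SimpleTools.card_sylow_subgroup (k := 1) (m := 9240) (h.trans (by norm_num))
        (by norm_num) P).trans (pow_one _)
  rcases hcases with h | h
  · exact absurd (CfsgLib.Involution.Order175560.normal_of_proper _ J1 h (by norm_num) (by norm_num) P)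
      (not_normal P hP)
  · exact ⟨(CfsgLib.Involution.Order175560.result h).resolve_right fun hall => not_normal P hP (hall P), h⟩

end CfsgLib.SmallGroups.J1Order
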