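import Mathlib

/-!
# An element of prime order centralising a normal subgroup for arithmetic reasons

If an element of prime order `q` normalises a subgroup `M` of order prime to `q`, and `q` does not
divide `p ^ i - p ^ k` for the prime powers `p ^ k` dividing the order of `M`, it centralises `M`.
-/

set_option autoImplicit false

namespace CfsgLib.SmallGroups.CoprimeFixed

open scoped Pointwise

/-- Version for an automorphism. -/
theorem eq_self_of_pow {M : Type*} [Group M] [Finite M] {q : ℕ} [Fact q.Prime] {f : MulAut M}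
    (hf : f ^ q = 1) (hq : ¬ q ∣ Nat.card M)
    (hp : ∀ p k : ℕ, p.Prime → p ^ k ∣ Nat.card M → ∀ i < k, p ^ i % q ≠ p ^ k % q) (m : M) :
    f m = m := by
  classical
  let C : Subgroup M := MonoidHom.eqLocus f.toMonoidHom (MonoidHom.id M)
  suffices hC : C = ⊤ by
    have : m ∈ C := hC ▸ Subgroup.mem_top m
    exact this
  refine Subgroup.eq_top_of_card_eq C (Nat.dvd_antisymm (Subgroup.card_subgroup_dvd_card C) ?_)
  rw [Nat.dvd_iff_prime_pow_dvd_dvd]
  intro p k hpp hk
  have := Fact.mk hpp
  have := Fintype.ofFinite M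
  have := Fintype.ofFinite (Sylow p M)
  let σ : Equiv.Perm (Sylow p M) := MulAction.toPermHom (MulAut M) (Sylow p M) f
  have hσ : σ ^ q ^ 1 = 1 := by
    rw [pow_one, ← map_pow, hf, map_one]
  have hn : ¬ q ∣ Fintype.card (Sylow p M) := fun h => hq (h.trans (by
    rw [← Nat.card_eq_fintype_card]
    exact (Sylow.card_dvd_index (default : Sylow p M)).trans (Subgroup.index_dvd_card _)))
  obtain ⟨P, hP⟩ := Equiv.Perm.exists_fixed_point_of_prime hn hσ
  have hP' : f • (P : Subgroup M) = P := congrArg Sylow.toSubgroup hP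
  let τ : Equiv.Perm (P : Subgroup M) :=
    { toFun := fun x => ⟨f x, by
        have h := Subgroup.smul_mem_pointwise_smul (x : M) f _ x.2
        rwa [hP'] at h⟩
      invFun := fun x => ⟨f⁻¹ x, by
        have : f • ((f⁻¹ : MulAut M) (x : M)) = (x : M) := smul_inv_smul f (x : M)
        rw [← Subgroup.smul_mem_pointwise_smul_iff (a := f), hP', this]
        exact x.2⟩
      left_inv := fun x => Subtype.ext (f.symm_apply_apply (x : M))
      right_inv := fun x => Subtype.ext (f.apply_symm_apply (x : M)) }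
  have hτ : τ ^ q ^ 1 = 1 := by
    have key : ∀ (n : ℕ) (x : (P : Subgroup M)), (((τ ^ n) x : (P : Subgroup M)) : M) = (f ^ n) x := by
      intro n
      induction n with
      | zero => exact fun x => rfl
      | succ n ih =>
        intro x
        rw [pow_succ', Equiv.Perm.mul_apply, pow_succ', MulAut.mul_apply, ← ih x]
        rfl
    refine Equiv.ext fun x => Subtype.ext ?_
    rw [pow_one, key, hf]
    rfl
  obtain ⟨K, hK⟩ := IsPGroup.iff_card.1 P.isPGroup'
  have hkK : k ≤ K := by
    rw [P.card_eq_multiplicity] at hK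
    have h1 := Nat.pow_right_injective hpp.two_le hK
    rw [← h1]
    exact (hpp.pow_dvd_iff_le_factorization Nat.card_pos.ne').1 hk
  have hKM : p ^ K ∣ Nat.card M := hK ▸ Subgroup.card_subgroup_dvd_card _
  have hfix : Nat.card {x : (P : Subgroup M) // τ x = x} = Nat.card ↥(C ⊓ P) :=
    Nat.card_congr
      { toFun := fun x => ⟨x.1.1, congrArg Subtype.val x.2, x.1.2⟩
        invFun := fun x => ⟨⟨x.1, x.2.2⟩, Subtype.ext x.2.1⟩
        left_inv := fun _ => rfl
        right_inv := fun _ => rfl }
  obtain ⟨i, hi, hci⟩ := (Nat.dvd_prime_pow hpp).1 (hK ▸ Subgroup.card_dvd_of_le inf_le_right :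
    Nat.card ↥(C ⊓ (P : Subgroup M)) ∣ p ^ K)
  have hmod := Equiv.Perm.card_compl_support_modEq hτ
  have hcs : τ.supportᶜ.card = p ^ i := by
    rw [← hci, ← hfix, Nat.card_eq_fintype_card, Fintype.card_subtype]
    congr 1
    ext x
    simp
  rw [hcs, ← Nat.card_eq_fintype_card, hK] at hmod
  have hiK : i = K := by
    by_contra hne
    exact hp p K hpp hKM i (lt_of_le_of_ne hi hne) hmod
  refine (pow_dvd_pow p hkK).trans ?_
  rw [← hiK, ← hci]
  exact Subgroup.card_dvd_of_le inf_le_left

/-- An element whose `q`-th power is trivial centralises a normal subgroup under the hypothesis. -/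
theorem commute_of_normal {G : Type*} [Group G] [Finite G] {q : ℕ} [Fact q.Prime] {x : G}
    (hx : x ^ q = 1) (M : Subgroup G) [M.Normal] (hq : ¬ q ∣ Nat.card M)
    (hp : ∀ p k : ℕ, p.Prime → p ^ k ∣ Nat.card M → ∀ i < k, p ^ i % q ≠ p ^ k % q) :
    x ∈ Subgroup.centralizer (M : Set G) := by
  rw [Subgroup.mem_centralizer_iff]
  intro m hm
  have h := eq_self_of_pow (f := MulAut.conjNormal (H := M) x)
    (by rw [← map_pow, hx, map_one]) hq hp ⟨m, hm⟩
  have h' := congrArg Subtype.val h
  rw [MulAut.conjNormal_apply, mul_inv_eq_iff_eq_mul] at h'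
  exact h'.symm

end CfsgLib.SmallGroups.CoprimeFixed
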