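import Cfsg.Agent.Lib.SmallGroups.Steiner12
import Cfsg.Agent.Lib.SmallGroups.MathieuSimple
import Cfsg.Agent.S0385
import Cfsg.Prelude.Def_Sporadic

/-!
# Automorphisms of `S(5,6,12)`; the systems `S(4,5,11)`
-/

set_option autoImplicit false

namespace CfsgLib.SmallGroups.Steiner12

open Cfsg Finset
open CfsgLib.SmallGroups.Steiner CfsgLib.SmallGroups.Golay CfsgLib.SmallGroups.GolayOctads
open CfsgLib.SmallGroups.Mathieu CfsgLib.SmallGroups.MathieuSimple
open scoped Pointwise

/-- The system on the points of a fixed dodecad. -/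
def dodSystem (d : Finset GolayPt) : Set (Finset {p : GolayPt // p ∈ d}) :=
  {h | ∃ o ∈ octads, (o ∩ d).card = 6 ∧ h = Finset.subtype (fun p => p ∈ d) o}

variable {α : Type*} [Fintype α] [DecidableEq α]

theorem smul_image {B : Set (Finset α)} {g : Equiv.Perm α} (hg : g ∈ setSystemAut B) :
    ∀ S ∈ B, S.image g ∈ B := fun S hS => by
  have h : g • B = B := hg
  rw [← h]
  exact Set.smul_mem_smul_set hS

theorem mem_aut {B : Set (Finset α)} {g : Equiv.Perm α} (hg : ∀ S ∈ B, S.image g ∈ B) :
    g ∈ setSystemAut B := by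
  refine Set.eq_of_subset_of_ncard_le ?_ (le_of_eq ?_) (Set.toFinite _)
  · rintro _ ⟨S, hS, rfl⟩
    exact hg S hS
  · exact (Set.ncard_image_of_injective _ (MulAction.injective g)).symm

theorem card_aut_le (hα : Fintype.card α = 12) {B : Set (Finset α)} (hB : IsSteinerSystem 5 6 B) :
    Nat.card (setSystemAut B) ≤ 95040 := by
  obtain ⟨x⟩ : Nonempty (Fin 5 ↪ α) := Function.Embedding.nonempty_of_card_le (by simp [hα])
  let Φ : setSystemAut B → (Fin 5 ↪ α) := fun g => x.trans (g : Equiv.Perm α).toEmbedding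
  have hinj : Function.Injective Φ := by
    intro g g' e
    have h1 : ((g'⁻¹ * g : setSystemAut B) : Equiv.Perm α) = 1 := by
      refine rigid12 hα hB (smul_image (Subtype.prop _)) (s := univ.map x) (by simp) ?_
      intro p hp
      obtain ⟨i, -, rfl⟩ := mem_map.mp hp
      have h2 : (g : Equiv.Perm α) (x i) = (g' : Equiv.Perm α) (x i) :=
        congrArg (fun f : Fin 5 ↪ α => f i) e
      rw [Subgroup.coe_mul, Subgroup.coe_inv, Equiv.Perm.mul_apply, h2, Equiv.Perm.coe_inv, Equiv.symm_apply_apply]
    exact (inv_mul_eq_one.mp (Subtype.ext h1)).symm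
  refine (Nat.card_le_card_of_injective Φ hinj).trans (le_of_eq ?_)
  rw [Nat.card_eq_fintype_card, Fintype.card_embedding_eq, hα, Fintype.card_fin]
  rfl

/-- The automorphism group is the stabiliser of a dodecad, for suitable coordinates. -/
theorem exists_equiv_dodecad (hα : Fintype.card α = 12) {B : Set (Finset α)} (hB : IsSteinerSystem 5 6 B) :
    ∃ (f : α ≃ {p : GolayPt // p ∈ toSet dodB}) (E : ↥(MulAction.stabilizer M24 (toSet dodB)) ≃* setSystemAut B),
      ∀ g p, ((f ((E g : Equiv.Perm α) p) : GolayPt)) = ((g : M24) : Equiv.Perm GolayPt) (f p : GolayPt) := by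
  classical
  set d := toSet dodB
  have hd : d ∈ dodecads := dodB_mem
  have hcard : Fintype.card {p : GolayPt // p ∈ d} = 12 := by rw [Fintype.card_coe, hd.2]
  have hH : IsSteinerSystem 5 6 (dodSystem d) := Cfsg.Agent.S0385.result d hd
  obtain ⟨f, hf⟩ := iso12 hα hcard hB hH
  set S := MulAction.stabilizer M24 d
  have hinv : ∀ g : S, ∀ p : GolayPt, p ∈ d → ((g : M24) : Equiv.Perm GolayPt) p ∈ d := fun g p hp =>
    smul_mem_dodecad g.2 hp
  have hinv' : ∀ g : S, ∀ p : GolayPt, ((g : M24) : Equiv.Perm GolayPt) p ∈ d ↔ p ∈ d := fun g p =>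
    ⟨fun h => by
      have := hinv g⁻¹ _ h
      simpa using this, hinv g p⟩
  let ψ : S →* Equiv.Perm α :=
    { toFun := fun g => f.symm.permCongr (((g : M24) : Equiv.Perm GolayPt).subtypePerm (hinv' g))
      map_one' := by ext p; simp
      map_mul' := fun a b => by ext p; simp }
  have hψ : ∀ g p, ((f (ψ g p) : GolayPt)) = ((g : M24) : Equiv.Perm GolayPt) (f p : GolayPt) := fun g p => by
    simp [ψ]
  have hinj : Function.Injective ψ := by
    intro a b e
    refine Subtype.ext (eq_of_eq_on_dodecad hd a.2 b.2 fun x hx => ?_)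
    show ((a : M24) : Equiv.Perm GolayPt) x = ((b : M24) : Equiv.Perm GolayPt) x
    have h := hψ a (f.symm ⟨x, hx⟩)
    rw [e, hψ, Equiv.apply_symm_apply] at h
    exact h.symm
  have hle : ψ.range ≤ setSystemAut B := by
    rintro _ ⟨g, rfl⟩
    refine mem_aut fun T hT => ?_
    obtain ⟨o, ho, ho6, he⟩ : T.image f ∈ dodSystem d := hf ▸ ⟨T, hT, rfl⟩
    have hmem : (T.image (ψ g)).image f ∈ dodSystem d := by
      refine ⟨((g : M24) : Equiv.Perm GolayPt) • o, M24Group.smul_mem_weight (g : M24).2 ho, ?_, ?_⟩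
      · have hgd : ((g : M24) : Equiv.Perm GolayPt) • d = d := g.2
        rw [← ho6]
        conv_lhs => rw [← hgd]
        rw [← Finset.smul_finset_inter, Finset.card_smul_finset]
      · ext ⟨q, hq⟩
        rw [mem_subtype, mem_smul_finset]
        simp only [mem_image, exists_exists_and_eq_and]
        constructor
        · rintro ⟨t, ht, e⟩
          refine ⟨(f t : GolayPt), mem_subtype.mp (he ▸ mem_image_of_mem f ht), ?_⟩
          have := congrArg Subtype.val e
          rw [hψ] at this
          exact this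
        · rintro ⟨z, hz, rfl⟩
          have hzd : z ∈ d := (hinv' g z).mp hq
          obtain ⟨t, ht, e⟩ := mem_image.mp (he.ge (mem_subtype.mpr hz : (⟨z, hzd⟩ : {p // p ∈ d}) ∈ _))
          refine ⟨t, ht, Subtype.ext ?_⟩
          rw [hψ, e]
          rfl
    rw [← hf] at hmem
    obtain ⟨T', hT', e'⟩ := hmem
    exact image_injective f.injective e' ▸ hT'
  have heq : ψ.range = setSystemAut B := by
    refine Subgroup.eq_of_le_of_card_ge hle ?_
    rw [Nat.card_congr (MonoidHom.ofInjective hinj).toEquiv.symm, card_stab_dodecad hd]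
    exact card_aut_le hα hB
  exact ⟨f, (MonoidHom.ofInjective hinj).trans (MulEquiv.subgroupCongr heq), hψ⟩

theorem aut12 (hα : Fintype.card α = 12) {B : Set (Finset α)} (hB : IsSteinerSystem 5 6 B) :
    IsM12 (setSystemAut B) ∧ MulAction.IsMultiplyPretransitive (setSystemAut B) α 5 ∧
      ∀ x : Fin 5 ↪ α, MulAction.stabilizer (setSystemAut B) x = ⊥ := by
  obtain ⟨f, E, hE⟩ := exists_equiv_dodecad hα hB
  have := isSimple_M12 dodB_mem
  refine ⟨⟨isSimpleGroup_congr' E, (Nat.card_congr E.toEquiv).symm.trans (card_stab_dodecad dodB_mem)⟩,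
    ⟨fun x y => ?_⟩, fun x => ?_⟩
  · let lift : (Fin 5 ↪ α) → (Fin 5 ↪ GolayPt) := fun x =>
      (x.trans f.toEmbedding).trans (Function.Embedding.subtype _)
    obtain ⟨g, hg, -⟩ := dodecad_sharp dodB_mem (lift x) (lift y) (fun i => (f (x i)).2) (fun i => (f (y i)).2)
    refine ⟨E g, ?_⟩
    ext i
    show (E g : Equiv.Perm α) (x i) = y i
    apply f.injective
    exact Subtype.ext ((hE g (x i)).trans (hg i))
  · rw [Subgroup.eq_bot_iff_forall]
    intro g hg
    refine Subtype.ext (rigid12 hα hB (smul_image g.2) (s := univ.map x) (by simp) fun p hp => ?_)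
    obtain ⟨i, -, rfl⟩ := mem_map.mp hp
    exact congrArg (fun f : Fin 5 ↪ α => f i) hg

/-! ### Extension of an `S(4,5,11)` -/

/-- The one-point extension. -/
def ext11 (B : Set (Finset α)) : Set (Finset (Option α)) :=
  {S | ∃ b ∈ B, S = Finset.insertNone b ∨ S = (Finset.insertNone b)ᶜ}

theorem sum_choose_inter {t k v : ℕ} {B : Set (Finset α)} (hB : IsSteinerSystem t k B) (htk : t ≤ k)
    (hv : Fintype.card α = v) (T : Finset α) {i : ℕ} (hi : i ≤ t) {lam : ℕ}
    (hl : lam * (k - i).choose (t - i) = (v - i).choose (t - i)) :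
    ∑ b ∈ blocks B, (T ∩ b).card.choose i = lam * T.card.choose i := by
  have h1 : ∀ b ∈ blocks B, (T ∩ b).card.choose i = ((T.powersetCard i).filter (· ⊆ b)).card := by
    intro b _
    rw [← card_powersetCard]
    congr 1
    ext U
    simp only [mem_powersetCard, mem_filter, subset_inter_iff]
    tauto
  have h2 : ∀ U ∈ T.powersetCard i, ((blocks B).filter (U ⊆ ·)).card = lam := fun U hU =>
    count_eq hB htk hv (mem_powersetCard.mp hU).2 hi hl
  rw [Finset.sum_congr rfl h1]
  simp only [Finset.card_filter]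
  rw [Finset.sum_comm]
  simp only [← Finset.card_filter]
  rw [Finset.sum_congr rfl h2, Finset.sum_const, card_powersetCard, smul_eq_mul, mul_comm]

omit [Fintype α] in
theorem eq_insertNone {S : Finset (Option α)} (h : none ∈ S) : Finset.insertNone (Finset.eraseNone S) = S := by
  rw [Finset.insertNone_eraseNone, insert_eq_of_mem h]

theorem none_mem_ext11 {B : Set (Finset α)} {S : Finset (Option α)} (hS : S ∈ ext11 B) (h : none ∈ S) :
    Finset.eraseNone S ∈ B ∧ S = Finset.insertNone (Finset.eraseNone S) := by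
  obtain ⟨b, hb, rfl | rfl⟩ := hS
  · rw [Finset.eraseNone_insertNone]; exact ⟨hb, rfl⟩
  · simp at h

theorem ext11_steiner (hα : Fintype.card α = 11) {B : Set (Finset α)} (hB : IsSteinerSystem 4 5 B) :
    IsSteinerSystem 5 6 (ext11 B) := by
  classical
  refine ⟨?_, fun s hs => ?_⟩
  · rintro S ⟨b, hb, rfl | rfl⟩
    · rw [Finset.card_insertNone, hB.1 b hb]
    · rw [card_compl, Finset.card_insertNone, hB.1 b hb, Fintype.card_option, hα]
  by_cases hn : none ∈ s
  · have hc : (Finset.eraseNone s).card = 4 := by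
      have := Finset.card_insertNone (Finset.eraseNone s)
      rw [eq_insertNone hn, hs] at this
      omega
    obtain ⟨b, ⟨hb, hsb⟩, huniq⟩ := hB.2 _ hc
    refine ⟨Finset.insertNone b, ⟨⟨b, hb, Or.inl rfl⟩, fun x hx => ?_⟩, ?_⟩
    · cases x with
      | none => simp
      | some a => simpa using hsb (Finset.mem_eraseNone.mpr hx)
    · rintro S ⟨hS, hsS⟩
      obtain ⟨h1, h2⟩ := none_mem_ext11 hS (hsS hn)
      rw [h2, huniq _ ⟨h1, fun a ha => Finset.mem_eraseNone.mpr (hsS (Finset.mem_eraseNone.mp ha))⟩]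
  · have hc : (Finset.eraseNone s).card = 5 := by
      rw [Finset.card_eraseNone_eq_card_erase, erase_eq_of_notMem hn, hs]
    set T := Finset.eraseNone s
    have e0 := sum_choose_inter hB (by norm_num) hα T (i := 0) (by norm_num) (lam := 66) (by decide)
    have e1 := sum_choose_inter hB (by norm_num) hα T (i := 1) (by norm_num) (lam := 30) (by decide)
    have e2 := sum_choose_inter hB (by norm_num) hα T (i := 2) (by norm_num) (lam := 12) (by decide)
    have e3 := sum_choose_inter hB (by norm_num) hα T (i := 3) (by norm_num) (lam := 4) (by decide)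
    have e4 := sum_choose_inter hB (by norm_num) hα T (i := 4) le_rfl (lam := 1) (by decide)
    have hm : ∀ b ∈ blocks B, (if (T ∩ b).card = 0 then 1 else 0) + (T ∩ b).card.choose 1 +
        (T ∩ b).card.choose 3 + (if (T ∩ b).card = 5 then 1 else 0) =
        (T ∩ b).card.choose 0 + (T ∩ b).card.choose 2 + (T ∩ b).card.choose 4 := by
      intro b _
      have h2 := card_le_card (inter_subset_left : T ∩ b ⊆ T)
      rw [hc] at h2
      generalize (T ∩ b).card = m at *
      interval_cases m <;> decide
    have hsum := Finset.sum_congr rfl hm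
    simp only [Finset.sum_add_distrib] at hsum
    rw [e0, e1, e2, e3, e4, hc] at hsum
    simp only [Finset.sum_boole, Nat.cast_id] at hsum
    norm_num [Nat.choose] at hsum
    set A := (blocks B).filter fun b => T ∩ b = ∅
    set A' := (blocks B).filter fun b => (T ∩ b).card = 5
    have hone : A.card + A'.card = 1 := by omega
    have hA : ∀ b, b ∈ A ↔ b ∈ B ∧ s ⊆ (Finset.insertNone b)ᶜ := by
      intro b
      rw [mem_filter, mem_blocks, ← disjoint_iff_inter_eq_empty, disjoint_left]
      refine and_congr_right fun _ => ⟨fun h x hx => ?_, fun h a ha hab => ?_⟩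
      · cases x with
        | none => exact absurd hx hn
        | some a => simpa using h (Finset.mem_eraseNone.mpr hx)
      · have := h (Finset.mem_eraseNone.mp ha)
        simp [hab] at this
    have hA' : ∀ b, b ∈ A' ↔ b ∈ B ∧ s ⊆ Finset.insertNone b := by
      intro b
      rw [mem_filter, mem_blocks]
      refine and_congr_right fun _ => ⟨fun h x hx => ?_, fun h => ?_⟩
      · cases x with
        | none => simp
        | some a =>
          have e := eq_of_subset_of_card_le (inter_subset_left : T ∩ b ⊆ T) (by omega)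
          simpa using (mem_inter.mp (e.ge (Finset.mem_eraseNone.mpr hx))).2
      · rw [← hc]
        congr 1
        exact inter_eq_left.mpr fun a ha => by simpa using h (Finset.mem_eraseNone.mp ha)
    rcases (show A.card = 1 ∧ A'.card = 0 ∨ A.card = 0 ∧ A'.card = 1 by omega) with ⟨h1, h0⟩ | ⟨h0, h1⟩
    · obtain ⟨b, hb⟩ := card_eq_one.mp h1
      obtain ⟨hbB, hbs⟩ := (hA b).mp (by rw [hb]; simp)
      refine ⟨(Finset.insertNone b)ᶜ, ⟨⟨b, hbB, Or.inr rfl⟩, hbs⟩, ?_⟩
      rintro S ⟨⟨c, hcB, rfl | rfl⟩, hS⟩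
      · exact absurd ((hA' c).mpr ⟨hcB, hS⟩) (by rw [card_eq_zero.mp h0]; simp)
      · have : c ∈ A := (hA c).mpr ⟨hcB, hS⟩
        rw [hb, mem_singleton] at this
        rw [this]
    · obtain ⟨b, hb⟩ := card_eq_one.mp h1
      obtain ⟨hbB, hbs⟩ := (hA' b).mp (by rw [hb]; simp)
      refine ⟨Finset.insertNone b, ⟨⟨b, hbB, Or.inl rfl⟩, hbs⟩, ?_⟩
      rintro S ⟨⟨c, hcB, rfl | rfl⟩, hS⟩
      · have : c ∈ A' := (hA' c).mpr ⟨hcB, hS⟩
        rw [hb, mem_singleton] at this
        rw [this]
      · exact absurd ((hA c).mpr ⟨hcB, hS⟩) (by rw [card_eq_zero.mp h0]; simp)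

theorem ext11_iff {B : Set (Finset α)} (b : Finset α) : Finset.insertNone b ∈ ext11 B ↔ b ∈ B := by
  refine ⟨fun h => ?_, fun h => ⟨b, h, Or.inl rfl⟩⟩
  have := (none_mem_ext11 h (by simp)).1
  rwa [Finset.eraseNone_insertNone] at this

theorem image_optionCongr {β : Type*} [DecidableEq β] (f : α ≃ β) (b : Finset α) :
    (Finset.insertNone b).image (Equiv.optionCongr f) = Finset.insertNone (b.image f) := by
  ext x
  cases x <;> simp

theorem optionCongr_removeNone' {β : Type*} (h : Option α ≃ Option β) (h0 : h none = none) :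
    Equiv.optionCongr (Equiv.removeNone h) = h := by
  ext1 x
  cases x with
  | none => simp [h0]
  | some a =>
    simp only [Equiv.optionCongr_apply, Option.map_some]
    refine Equiv.removeNone_some _ ?_
    cases hh : h (some a) with
    | none => exact absurd (h.injective (hh.trans h0.symm)) (Option.some_ne_none a)
    | some x => exact ⟨x, rfl⟩

theorem iso11 (hα : Fintype.card α = 11) {β : Type*} [Fintype β] [DecidableEq β] (hβ : Fintype.card β = 11)
    {B : Set (Finset α)} {B' : Set (Finset β)} (hB : IsSteinerSystem 4 5 B) (hB' : IsSteinerSystem 4 5 B') :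
    SetSystemIso B B' := by
  have hα' : Fintype.card (Option α) = 12 := by rw [Fintype.card_option, hα]
  have hβ' : Fintype.card (Option β) = 12 := by rw [Fintype.card_option, hβ]
  have hX := ext11_steiner hβ hB'
  obtain ⟨F, hF⟩ := iso12 hα' hβ' (ext11_steiner hα hB) hX
  have htr : ∃ g ∈ setSystemAut (ext11 B'), g (F none) = none := by
    obtain ⟨h1, h2, -⟩ := aut12 hβ' hX
    haveI := h2
    have : MulAction.IsPretransitive (setSystemAut (ext11 B')) (Option β) :=
      MulAction.is_one_pretransitive_iff.mp (MulAction.isMultiplyPretransitive_of_le' (n := 5) (by norm_num)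
        (by rw [ENat.card_eq_coe_natCard, Nat.card_eq_fintype_card, hβ']; norm_num))
    obtain ⟨g, hg⟩ := MulAction.exists_smul_eq (setSystemAut (ext11 B')) (F none) none
    exact ⟨g, g.2, hg⟩
  obtain ⟨g, hg, hg0⟩ := htr
  set h := F.trans g
  have hh : ∀ S, S ∈ ext11 B → S.image h ∈ ext11 B' := fun S hS => by
    have h1 : S.image F ∈ ext11 B' := hF ▸ ⟨S, hS, rfl⟩
    have h2 := smul_image hg _ h1
    rwa [image_image] at h2
  have hopt := optionCongr_removeNone' h hg0
  refine ⟨Equiv.removeNone h, Set.eq_of_subset_of_ncard_le ?_ ?_ (Set.toFinite _)⟩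
  · rintro _ ⟨b, hb, rfl⟩
    rw [← ext11_iff, ← image_optionCongr, hopt]
    exact hh _ ((ext11_iff b).mpr hb)
  · rw [Set.ncard_image_of_injective _ (image_injective (Equiv.removeNone h).injective)]
    have h1 := card_blocks_mul hB
    have h2 := card_blocks_mul hB'
    rw [hα] at h1
    rw [hβ] at h2
    have e1 : B.ncard = (blocks B).card := by rw [← Set.ncard_coe_finset]; congr 1; ext; simp
    have e2 : B'.ncard = (blocks B').card := by rw [← Set.ncard_coe_finset]; congr 1; ext; simp
    rw [e1, e2]
    norm_num [Nat.choose] at h1 h2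
    omega

theorem aut11 (hα : Fintype.card α = 11) {B : Set (Finset α)} (hB : IsSteinerSystem 4 5 B) :
    IsM11 (setSystemAut B) ∧ MulAction.IsMultiplyPretransitive (setSystemAut B) α 4 ∧
      ∀ x : Fin 4 ↪ α, MulAction.stabilizer (setSystemAut B) x = ⊥ := by
  classical
  have hα' : Fintype.card (Option α) = 12 := by rw [Fintype.card_option, hα]
  have hX := ext11_steiner hα hB
  set A := setSystemAut (ext11 B)
  obtain ⟨-, htrans, hrig⟩ := aut12 hα' hX
  have hup : ∀ g ∈ setSystemAut B, Equiv.optionCongr g ∈ A := by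
    intro g hg
    refine mem_aut ?_
    rintro S ⟨b, hb, rfl | rfl⟩
    · rw [image_optionCongr, ext11_iff]
      exact smul_image hg b hb
    · refine ⟨b.image g, smul_image hg b hb, Or.inr ?_⟩
      rw [← image_optionCongr, compl_eq_univ_sdiff, compl_eq_univ_sdiff,
        image_sdiff _ _ (Equiv.injective _), image_univ_of_surjective (Equiv.surjective _)]
  let Φ : setSystemAut B →* MulAction.stabilizer A (none : Option α) :=
    { toFun := fun g => ⟨⟨Equiv.optionCongr (g : Equiv.Perm α), hup _ g.2⟩, rfl⟩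
      map_one' := Subtype.ext (Subtype.ext (by ext x; simp))
      map_mul' := fun a b => Subtype.ext (Subtype.ext (by ext x; cases x <;> simp)) }
  have hΦ : Function.Bijective Φ := by
    constructor
    · intro a b e
      have h : Equiv.optionCongr (a : Equiv.Perm α) = Equiv.optionCongr (b : Equiv.Perm α) :=
        congrArg (fun z : MulAction.stabilizer A (none : Option α) => ((z : A) : Equiv.Perm (Option α))) e
      exact Subtype.ext (Equiv.optionCongr_injective h)
    · rintro ⟨⟨h, hh⟩, hn⟩
      have hn' : h none = none := hn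
      refine ⟨⟨Equiv.removeNone h, mem_aut fun b hb => ?_⟩, Subtype.ext (Subtype.ext (optionCongr_removeNone' h hn'))⟩
      rw [← ext11_iff, ← image_optionCongr, optionCongr_removeNone' h hn']
      exact smul_image hh _ ((ext11_iff b).mpr hb)
  obtain ⟨f, E, hE⟩ := exists_equiv_dodecad hα' hX
  set p : GolayPt := (f none : GolayPt)
  let R : ↥(MulAction.stabilizer M24 (toSet dodB) ⊓ MulAction.stabilizer M24 p) →*
      MulAction.stabilizer A (none : Option α) :=
    { toFun := fun g => ⟨E ⟨g.1, g.2.1⟩, by
        show (E ⟨g.1, g.2.1⟩ : Equiv.Perm (Option α)) none = none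
        apply f.injective
        exact Subtype.ext ((hE _ _).trans g.2.2)⟩
      map_one' := Subtype.ext (map_one E)
      map_mul' := fun a b => Subtype.ext (map_mul E ⟨a.1, a.2.1⟩ ⟨b.1, b.2.1⟩) }
  have hR : Function.Bijective R := by
    constructor
    · intro a b e
      have h := E.injective (congrArg Subtype.val e)
      have h2 : a.1 = b.1 := congrArg (fun z : ↥(MulAction.stabilizer M24 (toSet dodB)) => (z : M24)) h
      exact Subtype.ext h2
    · rintro ⟨h, hn⟩
      obtain ⟨⟨g, hg⟩, rfl⟩ := E.surjective h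
      refine ⟨⟨g, hg, ?_⟩, rfl⟩
      show (g : Equiv.Perm GolayPt) p = p
      refine (hE ⟨g, hg⟩ none).symm.trans ?_
      exact congrArg (fun z => (f z : GolayPt)) hn
  let I := (MulEquiv.ofBijective R hR).trans (MulEquiv.ofBijective Φ hΦ).symm
  have := isSimple_M11 dodB_mem (f none).2
  refine ⟨⟨isSimpleGroup_congr' I, (Nat.card_congr I.toEquiv).symm.trans
    (card_stab_dodecad_point dodB_mem (f none).2)⟩, ⟨fun x y => ?_⟩, fun x => ?_⟩
  all_goals
    let lift : (Fin 4 ↪ α) → (Fin 5 ↪ Option α) := fun x =>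
      ⟨(Fin.cons none (fun j => some (x j)) : Fin 5 → Option α), Fin.cons_injective_iff.mpr
        ⟨by simp, (Option.some_injective _).comp x.injective⟩⟩
  · haveI := htrans
    obtain ⟨g, hg⟩ := MulAction.exists_smul_eq A (lift x) (lift y)
    have h0 : (g : Equiv.Perm (Option α)) none = none := by
      simpa [lift, Subgroup.smul_def] using congrArg (fun f : Fin 5 ↪ Option α => f 0) hg
    obtain ⟨k, hk⟩ := hΦ.2 ⟨g, h0⟩
    refine ⟨k, ?_⟩
    ext i
    show (k : Equiv.Perm α) (x i) = y i
    apply Option.some_injective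
    have e1 : Equiv.optionCongr (k : Equiv.Perm α) = (g : Equiv.Perm (Option α)) :=
      congrArg (fun z : MulAction.stabilizer A (none : Option α) => ((z : A) : Equiv.Perm (Option α))) hk
    have e2 : (g : Equiv.Perm (Option α)) (lift x i.succ) = lift y i.succ :=
      congrArg (fun f : Fin 5 ↪ Option α => f i.succ) hg
    rw [← e1] at e2
    simpa [lift] using e2
  · rw [Subgroup.eq_bot_iff_forall]
    intro g hg
    have h1 : (Φ g : A) ∈ MulAction.stabilizer A (lift x) := by
      rw [MulAction.mem_stabilizer_iff]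
      refine Function.Embedding.ext fun i => ?_
      show Equiv.optionCongr (g : Equiv.Perm α) (lift x i) = lift x i
      cases i using Fin.cases with
      | zero => simp [lift]
      | succ j =>
        have := congrArg (fun f : Fin 4 ↪ α => f j) hg
        simp only [lift, Function.Embedding.coeFn_mk, Fin.cons_succ, Equiv.optionCongr_apply, Option.map_some]
        exact congrArg some this
    rw [hrig, Subgroup.mem_bot] at h1
    exact hΦ.1 ((Subtype.ext h1).trans (map_one Φ).symm)

end CfsgLib.SmallGroups.Steiner12
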