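import Cfsg.Agent.Lib.SmallGroups.SteinerCode23

/-!
# Uniqueness and automorphisms of `S(3,6,22)`
-/

set_option autoImplicit false

namespace CfsgLib.SmallGroups.SteinerCode

open Cfsg Finset Submodule
open CfsgLib.SmallGroups.CodeUnique CfsgLib.SmallGroups.GolayUnique CfsgLib.SmallGroups.Steiner
open scoped Pointwise

variable {α : Type*} [Fintype α] [DecidableEq α]

/-- A block with two further points. -/
def ext (b : Finset α) : Finset (α ⊕ Bool) := b.disjSum univ

/-- The pair of further points. -/
def extra : Finset (α ⊕ Bool) := (∅ : Finset α).disjSum univ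

/-- The extended blocks. -/
def ext22 (B : Set (Finset α)) : Set (Finset (α ⊕ Bool)) := ext '' B

omit [Fintype α] in
theorem inter_ext (S : Finset (α ⊕ Bool)) (b : Finset α) :
    (S ∩ ext b).card = (S.toLeft ∩ b).card + S.toRight.card := by
  have e : S ∩ ext b = (S.toLeft ∩ b).disjSum S.toRight := by
    ext x; cases x <;> simp [ext]
  rw [e, card_disjSum]

omit [Fintype α] in
theorem inter_extra (S : Finset (α ⊕ Bool)) : (S ∩ extra).card = S.toRight.card := by
  have e : S ∩ extra = (∅ : Finset α).disjSum S.toRight := by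
    ext x; cases x <;> simp [extra]
  rw [e, card_disjSum]; simp

omit [Fintype α] [DecidableEq α] in
theorem card_ext (b : Finset α) : (ext b).card = b.card + 2 := by simp [ext]

omit [Fintype α] [DecidableEq α] in
theorem toLeft_ext (b : Finset α) : (ext b).toLeft = b := by simp [ext]

omit [Fintype α] [DecidableEq α] in
theorem toRight_ext (b : Finset α) : (ext b).toRight = univ := by simp [ext]

theorem dot_ind_ind (S T : Finset α) : ∑ i, ind S i * ind T i = ((S ∩ T).card : ZMod 2) := by
  rw [dot_ind, supp_ind]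

theorem mem_code_perp {G : Set (Finset α)} {v : α → ZMod 2} (h : ∀ S ∈ G, ∑ i, v i * ind S i = 0) :
    v ∈ (pairing (code G)).ker := by
  refine mem_perp.mpr fun c hc => ?_
  induction hc using Submodule.span_induction with
  | mem x hx => obtain ⟨T, hT, rfl⟩ := hx; exact h T hT
  | zero => simp
  | add x y _ _ hx hy => simp [mul_add, Finset.sum_add_distrib, hx, hy]
  | smul a x _ hx => simp [mul_left_comm _ a, ← Finset.mul_sum, hx]

section S22

variable (hα : Fintype.card α = 22) {B : Set (Finset α)} (hB : IsSteinerSystem 3 6 B)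

include hα hB

theorem inter22' {b c : Finset α} (hb : b ∈ B) (hc : c ∈ B) (hne : b ≠ c) : (b ∩ c).card % 2 = 0 := by
  have h1 : ∀ i, mu22 i = 0 → (b ∩ c).card ≠ i := fun i hi =>
    inter_card_ne hB hc hb (fun U hU => inter22 hα hB hc hU) hi
  have h8 : (b ∩ c).card < 3 := by
    by_contra h
    exact hne (eq_of_le_inter hB hb hc (by omega))
  have := h1 1 rfl
  omega

theorem exists_odd_inter {T : Finset α} (hne : T.Nonempty) (h5 : T.card ≤ 5) :
    ∃ b ∈ B, (T ∩ b).card % 2 = 1 := by
  obtain ⟨p, hp⟩ := hne
  obtain ⟨c, hc, e⟩ := exists_inter hB (by norm_num) hα (singleton_subset_iff.mpr hp) 21 5 (by simp)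
    (by rw [card_singleton]; decide) (by rw [card_singleton]; decide) (by rw [card_singleton]; omega)
  exact ⟨c, hc, by rw [e, card_singleton]⟩

theorem exists_even_inter {T : Finset α} (h6 : T.card ≤ 6) : ∃ b ∈ B, (T ∩ b).card % 2 = 0 := by
  by_cases h2 : 2 ≤ T.card
  · obtain ⟨s, hs, hs2⟩ := exists_subset_card_eq h2
    obtain ⟨c, hc, e⟩ := exists_inter hB (by norm_num) hα hs 5 1 (by omega) (by rw [hs2]; decide)
      (by rw [hs2]; decide) (by omega)
    exact ⟨c, hc, by rw [e, hs2]⟩
  · obtain ⟨c, hc, e⟩ := exists_inter hB (by norm_num) hα (empty_subset T) 77 21 (by simp)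
      (by rw [card_empty]; decide) (by rw [card_empty]; decide) (by rw [card_empty]; omega)
    exact ⟨c, hc, by rw [e, card_empty]⟩

theorem six {T : Finset α} (h6 : T.card = 6) (h : ∀ b ∈ B, (T ∩ b).card % 2 = 0) : T ∈ B := by
  obtain ⟨s, hs, hs3⟩ := exists_subset_card_eq (show 3 ≤ T.card by omega)
  obtain ⟨b, ⟨hb, hsb⟩, -⟩ := hB.2 s hs3
  have h1 := card_le_card (subset_inter hs hsb)
  have h2 := card_le_card (inter_subset_left : T ∩ b ⊆ T)
  have h3 := h b hb
  have hb6 := hB.1 b hb
  by_cases h4 : (T ∩ b).card = 6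
  · have e1 := eq_of_subset_of_card_le (inter_subset_left : T ∩ b ⊆ T) (by omega)
    have e2 := eq_of_subset_of_card_le (inter_subset_right : T ∩ b ⊆ b) (by omega)
    rw [e1] at e2
    exact e2 ▸ hb
  · exfalso
    have h5 := card_symmDiff' T b
    obtain ⟨c, hc, hodd⟩ := exists_odd_inter hα hB
      (T := symmDiff T b) (card_pos.mp (by omega)) (by omega)
    have h6' := h c hc
    have h7 : (b ∩ c).card % 2 = 0 := by
      by_cases e : b = c
      · subst e; rw [inter_self]; omega
      · exact inter22' hα hB hb hc e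
    have h8 : symmDiff T b ∩ c = symmDiff (T ∩ c) (b ∩ c) := by
      ext x; simp [Finset.mem_symmDiff]; tauto
    rw [h8] at hodd
    have := card_symmDiff' (T ∩ c) (b ∩ c)
    omega

theorem odd_set_card {T : Finset α} (h : ∀ b ∈ B, (T ∩ b).card % 2 = 1) : T.card % 4 = 3 := by
  have key : ∀ i ≤ 3, ∀ lam, lam * (6 - i).choose (3 - i) = (22 - i).choose (3 - i) →
      ∑ b ∈ blocks B, (T ∩ b).card.choose i = lam * T.card.choose i := by
    intro i hi lam hl
    have h1 : ∀ b ∈ blocks B, (T ∩ b).card.choose i = ((T.powersetCard i).filter (· ⊆ b)).card := by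
      intro b _
      rw [← card_powersetCard]
      congr 1
      ext U
      simp only [mem_powersetCard, mem_filter, subset_inter_iff]
      tauto
    have h2 : ∀ U ∈ T.powersetCard i, ((blocks B).filter (U ⊆ ·)).card = lam := fun U hU =>
      count_eq hB (by norm_num) hα (mem_powersetCard.mp hU).2 hi hl
    rw [Finset.sum_congr rfl h1]
    simp only [Finset.card_filter]
    rw [Finset.sum_comm]
    simp only [← Finset.card_filter]
    rw [Finset.sum_congr rfl h2, Finset.sum_const, card_powersetCard, smul_eq_mul, mul_comm]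
  have e0 := key 0 (by norm_num) 77 (by decide)
  have e1 := key 1 (by norm_num) 21 (by decide)
  have e2 := key 2 (by norm_num) 5 (by decide)
  have e3 := key 3 le_rfl 1 (by decide)
  have hm : ∀ b ∈ blocks B, 6 * (T ∩ b).card.choose 3 + 15 * (T ∩ b).card.choose 1 =
      12 * (T ∩ b).card.choose 2 + 15 * (T ∩ b).card.choose 0 := by
    intro b hb
    have h1 := h b (mem_blocks.mp hb)
    have h2 := card_le_card (inter_subset_right : T ∩ b ⊆ b)
    rw [hB.1 b (mem_blocks.mp hb)] at h2
    generalize (T ∩ b).card = m at *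
    have h3 : ∀ m < 7, m % 2 = 1 → 6 * m.choose 3 + 15 * m.choose 1 = 12 * m.choose 2 + 15 * m.choose 0 := by
      decide
    exact h3 m (by omega) h1
  have hsum := Finset.sum_congr rfl hm
  rw [Finset.sum_add_distrib, Finset.sum_add_distrib, ← Finset.mul_sum, ← Finset.mul_sum, ← Finset.mul_sum,
    ← Finset.mul_sum, e0, e1, e2, e3] at hsum
  have hk : T.card < 23 := by have := card_le_univ T; omega
  generalize T.card = k at *
  have h4 : ∀ k < 23, 6 * (1 * k.choose 3) + 15 * (21 * k.choose 1) =
      12 * (5 * k.choose 2) + 15 * (77 * k.choose 0) → k % 4 = 3 := by decide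
  exact h4 k hk hsum

theorem ext22_four : ∀ S ∈ ext22 B, S.card % 4 = 0 := by
  rintro _ ⟨b, hb, rfl⟩
  rw [card_ext, hB.1 b hb]

theorem ext22_pair : ∀ S ∈ ext22 B, ∀ T ∈ ext22 B, S ≠ T → (S ∩ T).card % 2 = 0 := by
  rintro _ ⟨b, hb, rfl⟩ _ ⟨c, hc, rfl⟩ hne
  rw [inter_ext, toLeft_ext, toRight_ext, card_univ, Fintype.card_bool]
  have := inter22' hα hB hb hc fun e => hne (congrArg _ e)
  omega

theorem exists_odd_word : ∃ S : Finset (α ⊕ Bool), S.toRight = {true} ∧
    ∀ b ∈ B, (S.toLeft ∩ b).card % 2 = 1 := by
  classical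
  set D := code (ext22 B)
  have hcard : Fintype.card (α ⊕ Bool) = 24 := by rw [Fintype.card_sum, hα, Fintype.card_bool]
  have huD : ind (extra : Finset (α ⊕ Bool)) ∉ D := by
    intro h
    have := code_four (ext22_four hα hB) (ext22_pair hα hB) _ h
    rw [supp_ind, extra, card_disjSum] at this
    simp at this
  have hex : ∃ x ∈ (pairing D).ker, (supp x).toRight.card % 2 = 1 := by
    by_contra hh
    push Not at hh
    apply huD
    have hle : D ≤ (pairing (pairing D).ker).ker := fun d hd => mem_perp.mpr fun x hx => by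
      rw [← mem_perp.mp hx d hd]
      exact Finset.sum_congr rfl fun i _ => mul_comm _ _
    have h1 := finrank_perp D
    have h2 := finrank_perp (pairing D).ker
    have he : D = (pairing (pairing D).ker).ker := Submodule.eq_of_le_of_finrank_le hle (by omega)
    rw [he]
    refine mem_perp.mpr fun x hx => ?_
    rw [show ∑ i, ind (extra : Finset (α ⊕ Bool)) i * x i = ∑ i, x i * ind (extra : Finset (α ⊕ Bool)) i from
      Finset.sum_congr rfl fun i _ => mul_comm _ _, dot_ind, inter_extra, ZMod.natCast_eq_zero_iff_even,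
      Nat.even_iff]
    have := hh x hx
    omega
  obtain ⟨x, hx, hodd⟩ := hex
  have hprop : ∀ b ∈ B, ((supp x).toLeft ∩ b).card % 2 = 1 := by
    intro b hb
    have h1 := mem_perp.mp hx _ (ind_mem_code (G := ext22 B) ⟨b, hb, rfl⟩)
    rw [dot_ind, inter_ext, ZMod.natCast_eq_zero_iff_even, Nat.even_iff] at h1
    omega
  refine ⟨(supp x).toLeft.disjSum {true}, by simp, fun b hb => ?_⟩
  rw [toLeft_disjSum]
  exact hprop b hb

theorem exists_coord22 : ∃ (v : Finset (α ⊕ Bool)) (e : α ⊕ Bool ≃ GolayPt),
    v.toRight = {true} ∧ (∀ b ∈ B, (v.toLeft ∩ b).card % 2 = 1) ∧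
    e (.inr true) = none ∧ e (.inr false) = some 0 ∧
    IsDE (code (insert v (ext22 B))) ∧
    (∀ w, w ∈ golayCode ↔ (fun p => w (e p)) ∈ code (insert v (ext22 B))) ∧
    ∀ b : Finset α, (ext b).image e ∈ octads ↔ b ∈ B := by
  classical
  obtain ⟨v, hv, hvodd⟩ := exists_odd_word hα hB
  have hvcard : v.card % 4 = 0 := by
    rw [← card_toLeft_add_card_toRight, hv, card_singleton]
    have := odd_set_card hα hB hvodd
    omega
  have hvext : ∀ b ∈ B, (v ∩ ext b).card % 2 = 0 := fun b hb => by
    rw [inter_ext, hv, card_singleton]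
    have := hvodd b hb
    omega
  have hDE : IsDE (code (insert v (ext22 B))) := by
    refine isDE_code (by rw [Fintype.card_sum, hα, Fintype.card_bool]) ?_ ?_ ?_
    · rintro S (rfl | hS)
      · exact hvcard
      · exact ext22_four hα hB S hS
    · rintro S (rfl | hS) T (rfl | hT) hne
      · exact absurd rfl hne
      · obtain ⟨b, hb, rfl⟩ := hT; exact hvext b hb
      · obtain ⟨b, hb, rfl⟩ := hS; rw [inter_comm]; exact hvext b hb
      · exact ext22_pair hα hB S hS T hT hne
    · intro S hne h6
      have hc := card_toLeft_add_card_toRight (u := S)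
      have hr : S.toRight.card ≤ 2 := (card_le_univ _).trans (by rw [Fintype.card_bool])
      by_cases hodd : S.toRight.card % 2 = 1
      · obtain ⟨b, hb, h⟩ := exists_even_inter hα hB (T := S.toLeft) (by omega)
        exact ⟨_, Set.mem_insert_of_mem _ ⟨b, hb, rfl⟩, by rw [inter_ext]; omega⟩
      by_cases hex : ∃ b ∈ B, (S.toLeft ∩ b).card % 2 = 1
      · obtain ⟨b, hb, h⟩ := hex
        exact ⟨_, Set.mem_insert_of_mem _ ⟨b, hb, rfl⟩, by rw [inter_ext]; omega⟩
      push Not at hex
      refine ⟨v, Set.mem_insert _ _, ?_⟩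
      have e : S ∩ v = (S.toLeft ∩ v.toLeft).disjSum (S.toRight ∩ v.toRight) := by
        ext x; cases x <;> simp
      rw [e, card_disjSum, hv]
      by_cases h0 : S.toLeft = ∅
      · rw [h0] at hc ⊢
        have := hne.card_pos
        have hu : S.toRight = univ := eq_univ_of_card _ (by
          rw [Fintype.card_bool]; simp only [card_empty] at hc; omega)
        simp [hu]
      · have h6' : S.toLeft.card = 6 := by
          by_contra hne6
          obtain ⟨b, hb, h⟩ := exists_odd_inter hα hB (nonempty_of_ne_empty h0) (by omega)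
          exact hex b hb h
        have hblock := six hα hB h6' fun b hb => by have := hex b hb; omega
        have hr0 : S.toRight = ∅ := card_eq_zero.mp (by omega)
        rw [hr0, empty_inter, card_empty, add_zero, inter_comm]
        exact hvodd _ hblock
  obtain ⟨e, he⟩ := exists_equiv_golay hDE
  obtain ⟨g, hg1, hg2⟩ := MathieuSimple.exists_two (p := e (.inr true)) (q := e (.inr false))
    (p' := none) (q' := some 0) (fun h => by simpa using e.injective h) (by simp)
  refine ⟨v, e.trans (g : Equiv.Perm GolayPt), hv, hvodd, hg1, hg2, hDE, coord_smul he g.2, fun b => ?_⟩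
  rw [image_octad_iff (coord_smul he g.2), card_ext]
  refine ⟨fun ⟨h8, h⟩ => six hα hB (by omega) fun c hc => ?_,
    fun h => ⟨by rw [hB.1 b h], ind_mem_code (Set.mem_insert_of_mem _ ⟨b, h, rfl⟩)⟩⟩
  have h1 := hDE.orth _ h _ (ind_mem_code (Set.mem_insert_of_mem v ⟨c, hc, rfl⟩))
  rw [dot_ind_ind, inter_ext, toLeft_ext, toRight_ext, card_univ, Fintype.card_bool,
    ZMod.natCast_eq_zero_iff_even, Nat.even_iff] at h1
  omega

end S22

theorem iso22 (hα : Fintype.card α = 22) {β : Type*} [Fintype β] [DecidableEq β] (hβ : Fintype.card β = 22)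
    {B : Set (Finset α)} {B' : Set (Finset β)} (hB : IsSteinerSystem 3 6 B) (hB' : IsSteinerSystem 3 6 B') :
    SetSystemIso B B' := by
  obtain ⟨-, e, -, -, et, ef, -, -, he⟩ := exists_coord22 hα hB
  obtain ⟨-, e', -, -, et', ef', -, -, he'⟩ := exists_coord22 hβ hB'
  set h := e.trans e'.symm
  have hr : ∀ z : Bool, h (.inr z) = .inr z := by
    intro z
    cases z
    · simp [h, ef, ← ef']
    · simp [h, et, ← et']
  have hl : ∀ a : α, ∃ c : β, h (.inl a) = .inl c := by
    intro a
    cases hh : h (.inl a) with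
    | inl c => exact ⟨c, rfl⟩
    | inr z => exact absurd (h.injective (hh.trans (hr z).symm)) (by simp)
  choose f hf using hl
  have hfb : Function.Bijective f := by
    refine (Fintype.bijective_iff_injective_and_card f).mpr ⟨fun a b e => ?_, hα.trans hβ.symm⟩
    exact Sum.inl_injective (h.injective ((hf a).trans ((congrArg Sum.inl e).trans (hf b).symm)))
  set F := Equiv.ofBijective f hfb
  have key : ∀ b : Finset α, (ext (b.image F)).image e' = (ext b).image e := by
    intro b
    have e1 : ext (b.image F) = (ext b).image h := by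
      ext x
      cases x with
      | inl y =>
        simp only [ext, inl_mem_disjSum, mem_image]
        constructor
        · rintro ⟨a, ha, rfl⟩
          exact ⟨.inl a, by simpa using ha, hf a⟩
        · rintro ⟨a, ha, hay⟩
          cases a with
          | inr z => rw [hr] at hay; simp at hay
          | inl a =>
            rw [hf a] at hay
            exact ⟨a, by simpa using ha, Sum.inl_injective hay⟩
      | inr z => simp only [ext, inr_mem_disjSum, mem_univ, mem_image, true_iff]; exact ⟨.inr z, by simp, hr z⟩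
    rw [e1, image_image]
    congr 1
    funext p; simp [h]
  refine ⟨F, Set.ext fun T => ⟨?_, fun hT => ⟨T.image F.symm, ?_, ?_⟩⟩⟩
  · rintro ⟨b, hb, rfl⟩
    rw [← he', key]
    exact (he b).mpr hb
  · rw [← he, ← key, image_image, show (F : α → β) ∘ F.symm = id from funext fun p => by simp, image_id]
    exact (he' T).mpr hT
  · show (T.image F.symm).image F = T
    rw [image_image, show (F : α → β) ∘ F.symm = id from funext fun p => by simp, image_id]

theorem aut22 (hα : Fintype.card α = 22) {B : Set (Finset α)} (hB : IsSteinerSystem 3 6 B) :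
    Nat.card (setSystemAut B) = 887040 ∧ MulAction.IsMultiplyPretransitive (setSystemAut B) α 3 ∧
      ∃ H : Subgroup (setSystemAut B), H.index = 2 ∧ IsM22 H := by
  classical
  obtain ⟨v, e, hv, hvodd, et, ef, hDE, he, heB⟩ := exists_coord22 hα hB
  let Φ : Equiv.Perm α × Equiv.Perm Bool →* Equiv.Perm GolayPt :=
    e.permCongrHom.toMonoidHom.comp (Equiv.Perm.sumCongrHom α Bool)
  have hΦl : ∀ k a, Φ k (e (.inl a)) = e (.inl (k.1 a)) := fun k a => by simp [Φ]
  have hΦr : ∀ k z, Φ k (e (.inr z)) = e (.inr (k.2 z)) := fun k z => by simp [Φ]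
  have himg : ∀ (g : Equiv.Perm α) (τ : Equiv.Perm Bool) (b : Finset α),
      (ext b).image (Equiv.sumCongr g τ) = ext (b.image g) := by
    intro g τ b
    ext x
    cases x with
    | inl a => simp [ext]
    | inr z =>
      simp only [ext, inr_mem_disjSum, mem_univ, iff_true, mem_image]
      exact ⟨.inr (τ.symm z), by simp, by simp⟩
  set K : Subgroup (Equiv.Perm α × Equiv.Perm Bool) := M24.comap Φ
  have hfst : ∀ k ∈ K, k.1 ∈ setSystemAut B := by
    intro k hk
    refine mem_aut_of_forall fun b hb => ?_
    rw [← heB, ← himg k.1 k.2, image_image]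
    have e1 : (e : α ⊕ Bool → GolayPt) ∘ (Equiv.sumCongr k.1 k.2 : α ⊕ Bool → α ⊕ Bool) =
        (Φ k : GolayPt → GolayPt) ∘ e := funext fun p => by
      cases p with
      | inl a => simp [hΦl]
      | inr z => simp [hΦr]
    rw [e1, ← image_image]
    exact M24Group.smul_mem_weight hk ((heB b).mpr hb)
  let π : K →* setSystemAut B :=
    { toFun := fun k => ⟨k.1.1, hfst _ k.2⟩
      map_one' := rfl
      map_mul' := fun _ _ => rfl }
  have hinj : Function.Injective π := by
    rw [injective_iff_map_eq_one]
    rintro ⟨⟨g, τ⟩, hk⟩ h1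
    have hg : g = 1 := congrArg Subtype.val h1
    subst hg
    suffices τ = 1 by subst this; rfl
    by_contra hτ
    have hτ' : τ true = false := by
      cases ht : τ true
      · rfl
      · exfalso
        apply hτ
        ext z
        cases z
        · cases hf : τ false
          · rfl
          · exact absurd (τ.injective (ht.trans hf.symm)) (by simp)
        · exact ht
    have h2 := golay_comp hk ((he (fun q => ind v (e.symm q))).mpr (by simpa using ind_mem_code (Set.mem_insert v _)))
    rw [he] at h2
    have h3 := add_mem h2 (ind_mem_code (G := insert v (ext22 B)) (Set.mem_insert v _))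
    have hτt : τ false = true := by
      cases hf : τ false
      · exact absurd (τ.injective (hτ'.trans hf.symm)) (by simp)
      · rfl
    have e2 : (fun p => ind v (e.symm (Φ (1, τ) (e p)))) + ind v = ind (extra : Finset (α ⊕ Bool)) := by
      funext p
      cases p with
      | inl a => simp [hΦl, ind, extra, CharTwo.add_self_eq_zero]
      | inr z =>
        have hm : ∀ z : Bool, (Sum.inr z ∈ v ↔ z = true) := fun z => by rw [← mem_toRight, hv, mem_singleton]
        cases z <;> simp [hΦr, ind, extra, hm, hτ', hτt]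
    rw [e2] at h3
    have h4 := hDE.eq_zero h3 (by rw [hammingNorm_eq, supp_ind, extra, card_disjSum]; simp)
    have h5 := congrFun h4 (.inr true)
    simp [ind, extra] at h5
  have hsurj : Function.Surjective π := by
    rintro ⟨g, hg⟩
    have hgen : ∀ τ : Equiv.Perm Bool, ind (v.image (Equiv.sumCongr g.symm τ)) ∈ code (insert v (ext22 B)) →
        Φ (g, τ.symm) ∈ M24 := by
      intro τ hτ
      refine permCongr_mem_M24 he ?_
      have e1 : (Equiv.Perm.sumCongrHom α Bool (g, τ.symm)).symm = Equiv.sumCongr g.symm τ := by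
        ext x; cases x <;> rfl
      rintro S (rfl | ⟨b, hb, rfl⟩) <;> rw [e1]
      · exact hτ
      · rw [himg]
        exact ind_mem_code (Set.mem_insert_of_mem _ ⟨_, aut_symm hg hb, rfl⟩)
    set x := v.image (Equiv.sumCongr g.symm (1 : Equiv.Perm Bool)) with hx
    by_cases hpar : ∑ i, ind x i * ind v i = 0
    · have hmem : ind x ∈ code (insert v (ext22 B)) := hDE.mem_of_perp (mem_perp.mp (mem_code_perp (by
        rintro S (rfl | ⟨b, hb, rfl⟩)
        · exact hpar
        · rw [dot_ind_ind, ZMod.natCast_eq_zero_iff_even, Nat.even_iff, hx,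
            ← show (ext (b.image g)).image (Equiv.sumCongr g.symm (1 : Equiv.Perm Bool)) = ext b by
              rw [himg, image_image, show (g.symm : α → α) ∘ g = id from funext fun p => by simp, image_id],
            ← image_inter _ _ (Equiv.injective _), card_image_of_injective _ (Equiv.injective _), inter_ext,
            hv, card_singleton]
          have := hvodd _ (aut_image hg hb)
          omega)))
      exact ⟨⟨(g, (1 : Equiv.Perm Bool).symm), hgen 1 hmem⟩, rfl⟩
    · set τ : Equiv.Perm Bool := Equiv.swap true false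
      have hτx : v.image (Equiv.sumCongr g.symm τ) = symmDiff x extra := by
        ext p
        have hm : ∀ z : Bool, (Sum.inr z ∈ v ↔ z = true) := fun z => by rw [← mem_toRight, hv, mem_singleton]
        cases p with
        | inl a => simp [hx, extra, Finset.mem_symmDiff]
        | inr z => cases z <;> simp [hx, extra, Finset.mem_symmDiff, hm, τ]
      have hmem : ind (v.image (Equiv.sumCongr g.symm τ)) ∈ code (insert v (ext22 B)) :=
        hDE.mem_of_perp (mem_perp.mp (mem_code_perp (by
        rw [hτx]
        rintro S (rfl | ⟨b, hb, rfl⟩)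
        · rw [← ind_add]
          simp only [Pi.add_apply, add_mul, Finset.sum_add_distrib]
          rw [z2_ne_zero hpar, dot_ind_ind, inter_comm, inter_extra, hv, card_singleton]
          decide
        · rw [← hτx, dot_ind_ind, ZMod.natCast_eq_zero_iff_even, Nat.even_iff,
            ← show (ext (b.image g)).image (Equiv.sumCongr g.symm τ) = ext b by
              rw [himg, image_image, show (g.symm : α → α) ∘ g = id from funext fun p => by simp, image_id],
            ← image_inter _ _ (Equiv.injective _), card_image_of_injective _ (Equiv.injective _), inter_ext,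
            hv, card_singleton]
          have := hvodd _ (aut_image hg hb)
          omega)))
      exact ⟨⟨(g, τ.symm), hgen τ hmem⟩, rfl⟩
  let E : K ≃* setSystemAut B := MulEquiv.ofBijective π ⟨hinj, hsurj⟩
  let δ : K →* Equiv.Perm Bool := (MonoidHom.snd _ _).comp K.subtype
  -- lifting elements of `M24` which permute the two extra points
  have hlift : ∀ h ∈ M24, (∀ z, ∃ z', h (e (.inr z)) = e (.inr z')) → ∃ k : K, Φ (k : Equiv.Perm α × Equiv.Perm Bool) = h := by
    intro h hh hz
    set h' := e.symm.permCongr h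
    have hmaps : Set.MapsTo h' (Set.range Sum.inl) (Set.range Sum.inl) := by
      rintro _ ⟨a, rfl⟩
      cases hh' : h' (.inl a) with
      | inl c => exact ⟨c, rfl⟩
      | inr z =>
        exfalso
        have hrng : ∀ z, h' (.inr z) ∈ Set.range (Sum.inr : Bool → α ⊕ Bool) := fun z => by
          obtain ⟨z', hz'⟩ := hz z
          exact ⟨z', by simp [h', hz']⟩
        choose zf hzf using hrng
        have hzi : Function.Injective zf := fun a b e => Sum.inr_injective (h'.injective (by rw [← hzf, ← hzf, e]))
        obtain ⟨z0, hz0⟩ := (Finite.injective_iff_surjective.mp hzi) z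
        exact absurd (h'.injective (hh'.trans (((congrArg Sum.inr hz0).symm.trans (hzf z0))))) (by simp)
    obtain ⟨k, hk⟩ := Equiv.Perm.mem_sumCongrHom_range_of_perm_mapsTo_inl hmaps
    have e1 : Φ k = h := by
      show e.permCongr (Equiv.Perm.sumCongrHom α Bool k) = h
      rw [hk]; ext p; simp [h']
    exact ⟨⟨k, show Φ k ∈ M24 by rw [e1]; exact hh⟩, e1⟩
  have hne : e (.inr true) ≠ e (.inr false) := fun h => by simpa using e.injective h
  have hδ : Function.Surjective δ := by
    intro τ
    obtain ⟨g, hg1, hg2⟩ := MathieuSimple.exists_two hne (p' := e (.inr (τ true))) (q' := e (.inr (τ false)))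
      (fun h => by simpa using τ.injective (Sum.inr_injective (e.injective h)))
    obtain ⟨k, hk⟩ := hlift g g.2 (fun z => by cases z; exacts [⟨_, hg2⟩, ⟨_, hg1⟩])
    refine ⟨k, Equiv.ext fun z => ?_⟩
    apply Sum.inr_injective (α := α)
    apply e.injective
    show e (.inr ((k : Equiv.Perm α × Equiv.Perm Bool).2 z)) = _
    rw [← hΦr, hk]
    cases z
    · exact hg2
    · exact hg1
  have hidx : δ.ker.index = 2 := by
    rw [Subgroup.index_ker, MonoidHom.range_eq_top.mpr hδ, Nat.card_congr Subgroup.topEquiv.toEquiv,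
      Nat.card_perm, Nat.card_eq_fintype_card, Fintype.card_bool]
    rfl
  set S22 := MulAction.stabilizer M24 (e (.inr true)) ⊓ MulAction.stabilizer M24 (e (.inr false))
  let ρ : δ.ker →* S22 :=
    { toFun := fun k => ⟨⟨Φ k.1.1, k.1.2⟩, by
        have h1 : (k.1.1 : Equiv.Perm α × Equiv.Perm Bool).2 = 1 := MonoidHom.mem_ker.mp k.2
        constructor
        · show Φ k.1.1 (e (.inr true)) = e (.inr true)
          rw [hΦr, h1]; rfl
        · show Φ k.1.1 (e (.inr false)) = e (.inr false)
          rw [hΦr, h1]; rfl⟩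
      map_one' := Subtype.ext (Subtype.ext (map_one Φ))
      map_mul' := fun a b => Subtype.ext (Subtype.ext (map_mul Φ _ _)) }
  have hρ : Function.Bijective ρ := by
    constructor
    · intro a b h
      have h1 : Φ a.1.1 = Φ b.1.1 := congrArg (fun z : S22 => ((z : M24) : Equiv.Perm GolayPt)) h
      exact Subtype.ext (Subtype.ext (Equiv.Perm.sumCongrHom_injective (e.permCongrHom.injective h1)))
    · rintro ⟨g, hg1, hg2⟩
      have hg1' : (g : Equiv.Perm GolayPt) (e (.inr true)) = e (.inr true) := hg1
      have hg2' : (g : Equiv.Perm GolayPt) (e (.inr false)) = e (.inr false) := hg2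
      obtain ⟨k, hk⟩ := hlift g g.2 (fun z => by cases z; exacts [⟨_, hg2'⟩, ⟨_, hg1'⟩])
      refine ⟨⟨k, MonoidHom.mem_ker.mpr (Equiv.ext fun z => ?_)⟩, Subtype.ext (Subtype.ext hk)⟩
      apply Sum.inr_injective (α := α)
      apply e.injective
      show e (.inr ((k : Equiv.Perm α × Equiv.Perm Bool).2 z)) = _
      rw [← hΦr, hk]
      cases z
      · exact hg2'
      · exact hg1'
  let R : δ.ker ≃* S22 := MulEquiv.ofBijective ρ hρ
  have hcard22 : Nat.card S22 = 443520 := MathieuSimple.card_stab_two hne
  refine ⟨?_, ⟨fun x y => ?_⟩, δ.ker.map E.toMonoidHom, ?_, ?_⟩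
  · rw [← Nat.card_congr E.toEquiv, ← δ.ker.index_mul_card, hidx, Nat.card_congr R.toEquiv, hcard22]
  · let lift : (Fin 3 ↪ α) → (Fin 5 ↪ GolayPt) := fun x =>
      ⟨fun i => e ((Fin.cons (Sum.inr true) (Fin.cons (Sum.inr false) (fun j => Sum.inl (x j))) :
          Fin 5 → α ⊕ Bool) i), e.injective.comp (Fin.cons_injective_iff.mpr
        ⟨by rintro ⟨i, hi⟩; cases i using Fin.cases <;> simp at hi,
         Fin.cons_injective_iff.mpr ⟨by simp, Sum.inl_injective.comp x.injective⟩⟩)⟩
    obtain ⟨g, hg⟩ := MathieuSimple.exists_map_of_le le_rfl (lift x) (lift y)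
    have h0 : (g : Equiv.Perm GolayPt) (e (.inr true)) = e (.inr true) := by
      have := hg 0
      simpa [lift, Subgroup.smul_def] using this
    have h1 : (g : Equiv.Perm GolayPt) (e (.inr false)) = e (.inr false) := by
      have := hg 1
      simpa [lift, Subgroup.smul_def] using this
    obtain ⟨k, hk⟩ := hlift g g.2 (fun z => by cases z; exacts [⟨_, h1⟩, ⟨_, h0⟩])
    refine ⟨E k, ?_⟩
    ext i
    show (k : Equiv.Perm α × Equiv.Perm Bool).1 (x i) = y i
    apply Sum.inl_injective (β := Bool)
    apply e.injective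
    rw [← hΦl, hk]
    have := hg i.succ.succ
    simpa [lift, Subgroup.smul_def] using this
  · exact (Subgroup.index_map_equiv δ.ker E).trans hidx
  · have hs := MathieuSimple.isSimple_M22 hne
    have E' : S22 ≃* ↥(δ.ker.map E.toMonoidHom) :=
      R.symm.trans (Subgroup.equivMapOfInjective _ E.toMonoidHom E.injective)
    exact ⟨MathieuSimple.isSimpleGroup_congr' E', (Nat.card_congr E'.toEquiv).symm.trans hcard22⟩

end CfsgLib.SmallGroups.SteinerCode
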