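import Mathlib

/-!
# Normal subgroups of a group with a simple subgroup containing a small Sylow normaliser

If `S` is simple and contains the normaliser of a Sylow subgroup of prime order `q`, a proper
normal subgroup is acted on without fixed points by that Sylow subgroup, so each of its Sylow orders
is congruent to one modulo `q`.
-/

set_option autoImplicit false

namespace CfsgLib.SmallGroups.SelfNormalFixed

open scoped Pointwise

/-- Sylow orders of a finite group with a fixed-point-free automorphism of prime order. -/
theorem sylow_mod {M : Type*} [Group M] [Finite M] {q : ℕ} [Fact q.Prime] {f : MulAut M}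
    (hf : f ^ q = 1) (hfix : ∀ m, f m = m → m = 1) {p : ℕ} (hp : p.Prime) :
    p ^ (Nat.card M).factorization p % q = 1 := by
  classical
  have := Fact.mk hp
  have := Fintype.ofFinite M
  have := Fintype.ofFinite (Sylow p M)
  have hone : 1 % q = 1 := Nat.one_mod_eq_one.2 (Fact.out : q.Prime).ne_one
  have hM : Fintype.card M % q = 1 := by
    let e : Equiv.Perm M := f.toEquiv
    have he : e ^ q ^ 1 = 1 := by
      have key : ∀ (n : ℕ) (x : M), (e ^ n) x = (f ^ n) x := by
        intro n
        induction n with
        | zero => exact fun x => rfl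
        | succ n ih => intro x; rw [pow_succ', Equiv.Perm.mul_apply, ih, pow_succ', MulAut.mul_apply]; rfl
      refine Equiv.ext fun x => ?_
      rw [pow_one, key, hf]
      rfl
    have h := Equiv.Perm.card_compl_support_modEq he
    have hs : e.supportᶜ = {1} := by
      ext x
      simp only [Finset.mem_compl, Equiv.Perm.mem_support, not_not, Finset.mem_singleton]
      exact ⟨hfix x, fun hx => hx ▸ map_one f⟩
    rw [hs, Finset.card_singleton] at h
    exact (Eq.trans h.symm hone)
  have hq : ¬ q ∣ Fintype.card M := fun h => by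
    rw [Nat.mod_eq_zero_of_dvd h] at hM
    omega
  let σ : Equiv.Perm (Sylow p M) := MulAction.toPermHom (MulAut M) (Sylow p M) f
  have hσ : σ ^ q ^ 1 = 1 := by rw [pow_one, ← map_pow, hf, map_one]
  have hn : ¬ q ∣ Fintype.card (Sylow p M) := fun h => hq (h.trans (by
    rw [← Nat.card_eq_fintype_card, ← Nat.card_eq_fintype_card]
    exact (Sylow.card_dvd_index (default : Sylow p M)).trans (Subgroup.index_dvd_card _)))
  obtain ⟨P, hP⟩ := Equiv.Perm.exists_fixed_point_of_prime hn hσ
  have hP' : f • (P : Subgroup M) = P := congrArg Sylow.toSubgroup hP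
  let τ : Equiv.Perm (P : Subgroup M) :=
    { toFun := fun x => ⟨f x, by
        have h := Subgroup.smul_mem_pointwise_smul (x : M) f _ x.2
        rwa [hP'] at h⟩
      invFun := fun x => ⟨f⁻¹ x, by
        have : f • ((f⁻¹ : MulAut M) (x : M)) = (x : M) := smul_inv_smul f (x : M)
        rw [← Subgroup.smul_mem_pointwise_smul_iff (a := f), hP', this]
        exact x.2⟩
      left_inv := fun x => Subtype.ext (f.symm_apply_apply (x : M))
      right_inv := fun x => Subtype.ext (f.apply_symm_apply (x : M)) }
  have hτ : τ ^ q ^ 1 = 1 := by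
    have key : ∀ (n : ℕ) (x : (P : Subgroup M)), (((τ ^ n) x : (P : Subgroup M)) : M) = (f ^ n) x := by
      intro n
      induction n with
      | zero => exact fun x => rfl
      | succ n ih =>
        intro x
        rw [pow_succ', Equiv.Perm.mul_apply, pow_succ', MulAut.mul_apply, ← ih x]
        rfl
    refine Equiv.ext fun x => Subtype.ext ?_
    rw [pow_one, key, hf]
    rfl
  have h := Equiv.Perm.card_compl_support_modEq hτ
  have hs : τ.supportᶜ = {1} := by
    ext x
    simp only [Finset.mem_compl, Equiv.Perm.mem_support, not_not, Finset.mem_singleton]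
    exact ⟨fun hx => Subtype.ext (hfix x (congrArg Subtype.val hx)),
      fun hx => hx ▸ Subtype.ext (map_one f)⟩
  rw [hs, Finset.card_singleton, ← Nat.card_eq_fintype_card, P.card_eq_multiplicity] at h
  exact (Eq.trans h.symm hone)

/-- The alternative for a normal subgroup. -/
theorem eq_top_or_mod {G : Type*} [Group G] [Finite G] {q : ℕ} [Fact q.Prime]
    (hq2 : ¬ q ^ 2 ∣ Nat.card G) {s : G} (hs : orderOf s = q) (S : Subgroup G) [IsSimpleGroup S]
    (hN : Subgroup.normalizer (Subgroup.zpowers s : Set G) ≤ S) (N : Subgroup G) [N.Normal] :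
    N = ⊤ ∨ ∀ p, p.Prime → p ^ (Nat.card N).factorization p % q = 1 := by
  have hsS : Subgroup.zpowers s ≤ S := Subgroup.le_normalizer.trans hN
  rcases ((inferInstance : (N.subgroupOf S).Normal)).eq_bot_or_eq_top with h | h
  · right
    intro p hp
    refine sylow_mod (f := MulAut.conjNormal (H := N) s)
      (by rw [← map_pow, ← hs, pow_orderOf_eq_one, map_one]) (fun m hm => ?_) hp
    have hm' := congrArg Subtype.val hm
    rw [MulAut.conjNormal_apply, mul_inv_eq_iff_eq_mul] at hm'
    have hmS : (m : G) ∈ S := hN ((Subgroup.centralizer_le_normalizer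
      (s := (Subgroup.zpowers s : Set G))) (by
      rw [Subgroup.mem_centralizer_iff]
      intro y hy
      obtain ⟨k, rfl⟩ := Subgroup.mem_zpowers_iff.1 hy
      exact (Commute.zpow_left (show Commute s (m : G) from hm') k)))
    have hmem : (⟨m, hmS⟩ : S) ∈ N.subgroupOf S := m.2
    rw [h, Subgroup.mem_bot] at hmem
    exact Subtype.ext (show (m : G) = 1 from congrArg Subtype.val hmem)
  · left
    rw [Subgroup.subgroupOf_eq_top] at h
    obtain ⟨P, hP⟩ := (IsPGroup.of_card (n := 1) (show Nat.card (Subgroup.zpowers s) = q ^ 1 by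
      rw [Nat.card_zpowers, hs, pow_one])).exists_le_sylow
    obtain ⟨K, hK⟩ := IsPGroup.iff_card.1 P.isPGroup'
    have hK1 : K ≤ 1 := by
      by_contra hK1
      refine hq2 ((pow_dvd_pow q (show 2 ≤ K by omega)).trans ?_)
      rw [← hK]
      exact Subgroup.card_subgroup_dvd_card _
    have hPe : Subgroup.zpowers s = (P : Subgroup G) := by
      refine Subgroup.eq_of_le_of_card_ge hP ?_
      rw [Nat.card_zpowers, hs, hK]
      exact (Nat.pow_le_pow_right (Fact.out : q.Prime).pos hK1).trans (pow_one q).le
    have hPN : (P : Subgroup G) ≤ N := hPe ▸ (hsS.trans h)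
    have hF := Sylow.normalizer_sup_eq_top' P hPN
    have hN' : Subgroup.normalizer ((P : Subgroup G) : Set G) ≤ S := by rw [← hPe]; exact hN
    rw [eq_top_iff, ← hF]
    exact sup_le (hN'.trans h) le_rfl

end CfsgLib.SmallGroups.SelfNormalFixed
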