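import Cfsg.Agent.S0732
import Cfsg.Agent.Lib.SmallGroups.SimpleTools
import Cfsg.Agent.Lib.Classical.Dickson.PSL

/-!
# Simple groups of order `(q + 1) q (q - 1) / 2` with `q + 1` Sylow `q`-subgroups
-/

set_option autoImplicit false

namespace CfsgLib.SmallGroups.PSLPrime

open CfsgLib.SmallGroups.SimpleTools CfsgLib.Classical.Dickson

theorem psl {G : Type*} [Group G] [Finite G] [IsSimpleGroup G] (q d : ℕ) [Fact q.Prime]
    (hG : Nat.card G = (q + 1) * q * d) (hd : 2 * d = q - 1) (hq5 : 5 ≤ q)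
    (hn : Nat.card (Sylow q G) = q + 1) (hnp : ∀ k, q + 1 ≠ 2 ^ k)
    {F : Type*} [Field F] [Fintype F] (hF : Fintype.card F = q) :
    Nonempty (G ≃* Matrix.ProjectiveSpecialLinearGroup (Fin 2) F) := by
  classical
  have hp : q.Prime := Fact.out
  have hd0 : 0 < d := by omega
  have hcomm : ¬ IsMulCommutative G := not_comm_of_card fun h => by
    rcases h.eq_one_or_self_of_dvd q (by rw [hG]; exact (Dvd.intro_left _ rfl).mul_right _) with e | e
    · omega
    · have : q * 2 ≤ Nat.card G := by
        rw [hG, mul_comm (q + 1) q, mul_assoc]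
        exact Nat.mul_le_mul_left _ (le_trans (by omega) (Nat.le_mul_of_pos_right _ hd0))
      omega
  have := Fintype.ofFinite (Sylow q G)
  let φ := MulAction.toPermHom G (Sylow q G)
  have hinj : Function.Injective φ := by
    rw [← MonoidHom.ker_eq_bot_iff]
    refine ((inferInstance : φ.ker.Normal).eq_bot_or_eq_top).resolve_right fun h => ?_
    obtain ⟨P, R, hne⟩ : ∃ P R : Sylow q G, P ≠ R := by
      have : Nontrivial (Sylow q G) := Finite.one_lt_card_iff_nontrivial.1 (by omega)
      exact exists_pair_ne _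
    obtain ⟨g, hg⟩ := MulAction.exists_smul_eq G P R
    have h1 : φ g = 1 := MonoidHom.mem_ker.1 (h ▸ Subgroup.mem_top g)
    exact hne (((congrArg (fun e : Equiv.Perm (Sylow q G) => e P) h1).symm.trans hg))
  have : MulAction.IsPretransitive φ.range (Sylow q G) := ⟨fun P R => by
    obtain ⟨g, hg⟩ := MulAction.exists_smul_eq G P R
    exact ⟨⟨φ g, g, rfl⟩, hg⟩⟩
  have hα : Fintype.card (Sylow q G) = q + 1 := by rw [← Nat.card_eq_fintype_card, hn]
  have hc : Nat.card φ.range = (q + 1) * q * d := by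
    rw [← Nat.card_congr (MonoidHom.ofInjective hinj).toEquiv, hG]
  rcases Cfsg.Agent.S0732.result hp hα φ.range hc (by omega) with h | h | h
  · omega
  · obtain ⟨e⟩ := h.2
    obtain ⟨j⟩ := psl_congr (RingEquiv.refl (ZMod q))
    obtain ⟨i⟩ := psl_congr (FiniteField.ringEquivOfCardEq
      (show Fintype.card (ZMod q) = Fintype.card F by rw [ZMod.card, hF]) : ZMod q ≃+* F)
    exact ⟨((MonoidHom.ofInjective hinj).trans e).trans (j.symm.trans i)⟩
  · obtain ⟨k, -, hk, -⟩ := h
    exact absurd hk (hnp k)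

end CfsgLib.SmallGroups.PSLPrime
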