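import Cfsg.Agent.Lib.DegreeTools.Rationality
import Cfsg.Agent.Lib.Blocks.Basic
import Cfsg.Agent.Lib.Char.Orth

/-!
# The column of a Sylow element all of whose powers are conjugate

Its values are rational integers congruent to the degrees.
-/

set_option autoImplicit false

open scoped BigOperators
open scoped ComplexConjugate

namespace CfsgLib.SmallGroups.RationalColumn

open Cfsg CfsgLib.Char CfsgLib.Blocks

variable {G : Type*} [Group G] [Fintype G] {p : ℕ} [Fact p.Prime] {P : Subgroup G}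

/-- All nontrivial elements are conjugate when the normaliser is as large as possible. -/
theorem isConj_of_card_normalizer (hP : Nat.card P = p) (hcent : Subgroup.centralizer (P : Set G) = P)
    (hN : Nat.card (Subgroup.normalizer (P : Set G)) = (p - 1) * p) {x y : G} (hx : x ∈ P) (hx1 : x ≠ 1)
    (hy : y ∈ P) (hy1 : y ≠ 1) : IsConj x y := by
  classical
  have hp : p.Prime := Fact.out
  have hzg : Subgroup.zpowers x = P := Subgroup.eq_of_le_of_card_ge (Subgroup.zpowers_le.mpr hx) (by
    rw [hP, Nat.card_zpowers, ((Nat.dvd_prime hp).mp ((P.orderOf_dvd_natCard hx).trans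
      (dvd_of_eq hP))).resolve_left (orderOf_eq_one_iff.not.mpr hx1)])
  set N := Subgroup.normalizer (P : Set G)
  set S : Finset G := Finset.univ.filter fun g => g ∈ N
  set f : G → G := fun g => g * x * g⁻¹
  have hS : S.card = (p - 1) * p := by
    rw [← hN, Nat.card_eq_fintype_card, Fintype.card_subtype]
  have hfib : ∀ b ∈ S.image f, (S.filter fun g => f g = b).card ≤ p := by
    intro b hb
    obtain ⟨g₀, -, rfl⟩ := Finset.mem_image.mp hb
    calc (S.filter fun g => f g = f g₀).card ≤ ((Finset.univ.filter fun c => c ∈ P).image fun c => g₀ * c).card := by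
          refine Finset.card_le_card fun g hg => Finset.mem_image.mpr ⟨g₀⁻¹ * g, ?_, by group⟩
          refine Finset.mem_filter.mpr ⟨Finset.mem_univ _, ?_⟩
          have e : g * x * g⁻¹ = g₀ * x * g₀⁻¹ := (Finset.mem_filter.mp hg).2
          rw [← hcent, Subgroup.mem_centralizer_iff]
          intro w hw
          rw [← hzg] at hw
          obtain ⟨k, rfl⟩ := Subgroup.mem_zpowers_iff.mp hw
          refine ((show Commute x (g₀⁻¹ * g) from ?_).zpow_left k).eq
          show x * (g₀⁻¹ * g) = g₀⁻¹ * g * x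
          calc x * (g₀⁻¹ * g) = g₀⁻¹ * (g₀ * x * g₀⁻¹) * g := by group
            _ = g₀⁻¹ * (g * x * g⁻¹) * g := by rw [e]
            _ = g₀⁻¹ * g * x := by group
      _ ≤ (Finset.univ.filter fun c => c ∈ P).card := Finset.card_image_le
      _ = p := by rw [← Fintype.card_subtype, ← Nat.card_eq_fintype_card, hP]
  have himg : p - 1 ≤ (S.image f).card := by
    have h1 := Finset.card_le_mul_card_image S p hfib
    rw [hS, mul_comm p] at h1
    exact Nat.le_of_mul_le_mul_right h1 hp.pos
  have hsub : S.image f ⊆ (Finset.univ.filter fun c => c ∈ P).erase 1 := by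
    intro b hb
    obtain ⟨g, hg, rfl⟩ := Finset.mem_image.mp hb
    refine Finset.mem_erase.mpr ⟨fun e => hx1 ?_, Finset.mem_filter.mpr ⟨Finset.mem_univ _, ?_⟩⟩
    · calc x = g⁻¹ * (g * x * g⁻¹) * g := by group
        _ = 1 := by rw [show g * x * g⁻¹ = 1 from e]; group
    · exact (Subgroup.mem_normalizer_iff.mp (Finset.mem_filter.mp hg).2 x).mp hx
  have heq : S.image f = (Finset.univ.filter fun c => c ∈ P).erase 1 := Finset.eq_of_subset_of_card_le hsub (by
    rw [Finset.card_erase_of_mem (Finset.mem_filter.mpr ⟨Finset.mem_univ _, P.one_mem⟩),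
      ← Fintype.card_subtype, ← Nat.card_eq_fintype_card, hP]
    exact himg)
  have : y ∈ S.image f := heq ▸ Finset.mem_erase.mpr ⟨hy1, Finset.mem_filter.mpr ⟨Finset.mem_univ _, hy⟩⟩
  obtain ⟨g, -, hg⟩ := Finset.mem_image.mp this
  exact isConj_iff.mpr ⟨g, hg⟩

/-- The value at such an element is an integer congruent to the degree. -/
theorem exists_int_value (hP : Nat.card P = p) {x : G} (hx : x ∈ P) (hx1 : x ≠ 1)
    (hconj : ∀ y ∈ P, y ≠ 1 → IsConj x y) (χ : IrrCharacter G) :
    ∃ v : ℤ, (χ : G → ℂ) x = v ∧ v ≡ charDegree (χ : G → ℂ) [ZMOD p] := by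
  classical
  have hp : p.Prime := Fact.out
  have hone : Cfsg.IsCharacter ↥P (fun _ => (1 : ℂ)) := isCharacter_one
  obtain ⟨m, hm⟩ := IsCharacter.classInner_nat hone (IsCharacter.restrict (isCharacter_irr χ) P)
  have hsum : ∑ g : ↥P, (χ : G → ℂ) g = (charDegree (χ : G → ℂ) : ℂ) + ((p - 1 : ℕ) : ℂ) * (χ : G → ℂ) x := by
    rw [← Finset.add_sum_erase _ _ (Finset.mem_univ (1 : ↥P)), Subgroup.coe_one, irr_one_eq]
    congr 1
    rw [Finset.sum_congr rfl (g := fun _ => (χ : G → ℂ) x) fun g hg => ?_, Finset.sum_const,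
      Finset.card_erase_of_mem (Finset.mem_univ _), Finset.card_univ, ← Nat.card_eq_fintype_card, hP, nsmul_eq_mul]
    exact (IsClassFunction.apply_eq_of_isConj (IsIrrCharacter.isClassFunction χ.2)
      (hconj g g.2 fun e => (Finset.mem_erase.mp hg).1 (Subtype.ext e))).symm
  have hm' : ∑ g : ↥P, (χ : G → ℂ) g = (p : ℂ) * m := by
    rw [Cfsg.classInner] at hm
    simp only [one_mul] at hm
    rw [hP, inv_mul_eq_iff_eq_mul₀ (by exact_mod_cast hp.ne_zero)] at hm
    have := congrArg conj hm
    rw [map_sum, map_mul, map_natCast, map_natCast] at this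
    simpa only [Complex.conj_conj] using this
  have hq : ((p - 1 : ℕ) : ℂ) ≠ 0 := by
    have := hp.two_le
    exact_mod_cast (show p - 1 ≠ 0 by omega)
  have hval : (χ : G → ℂ) x = ((p : ℂ) * m - (charDegree (χ : G → ℂ) : ℂ)) / ((p - 1 : ℕ) : ℂ) := by
    rw [eq_div_iff hq, ← hm', hsum]; ring
  obtain ⟨v, hv⟩ := CfsgLib.DegreeTools.Rationality.exists_int_of_fixed (irr_isIntegral χ x) fun σ => by
    rw [hval, map_div₀, map_sub, map_mul, map_natCast, map_natCast, map_natCast, map_natCast]
  refine ⟨v, hv, ?_⟩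
  have h1 : ((p : ℤ) * m : ℤ) = charDegree (χ : G → ℂ) + ((p - 1 : ℕ) : ℤ) * v := by
    have h2 : ((p : ℂ) * m) = (charDegree (χ : G → ℂ) : ℂ) + ((p - 1 : ℕ) : ℂ) * v := by rw [← hm', hsum, hv]
    exact_mod_cast h2
  rw [Int.modEq_iff_dvd]
  refine ⟨m - v, ?_⟩
  rw [Nat.cast_sub hp.one_lt.le] at h1
  push_cast at h1
  linarith

end CfsgLib.SmallGroups.RationalColumn
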