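import Cfsg.Agent.Lib.SmallGroups.CodeUnique
import Cfsg.Agent.Lib.SmallGroups.GolayOctads

/-!
# The extended code is the self-dual doubly even code of length 24
-/

set_option autoImplicit false

namespace CfsgLib.SmallGroups.GolayUnique

open Cfsg Finset
open CfsgLib.SmallGroups.Golay CfsgLib.SmallGroups.GolayOctads CfsgLib.SmallGroups.CodeUnique

theorem golay_weight {w : GolayPt → ZMod 2} (hw : w ∈ golayCode) :
    hammingNorm w = 0 ∨ hammingNorm w = 8 ∨ hammingNorm w = 12 ∨ hammingNorm w = 16 ∨ hammingNorm w = 24 := by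
  obtain ⟨k, hk, rfl⟩ := mem_code_iff.mp hw
  rw [weight_eq, support₂_word, card_toSet]
  exact weights _ (mem_cw.mpr ⟨k, hk, rfl⟩)

theorem golay_isDE : IsDE golayCode where
  card := card_golayPt
  rank := finrank_code
  orth v hv w hw := dot_eq_zero hv hw
  four w hw := by rcases golay_weight hw with h | h | h | h | h <;> simp [h]
  no_four w hw := by rcases golay_weight hw with h | h | h | h | h <;> simp [h]

theorem exists_equiv_golay {α : Type*} [Fintype α] [DecidableEq α] {C : Submodule (ZMod 2) (α → ZMod 2)}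
    (hC : IsDE C) : ∃ e : α ≃ GolayPt, ∀ w, w ∈ golayCode ↔ (fun p => w (e p)) ∈ C :=
  exists_equiv hC golay_isDE

theorem supp_eq_support₂ (w : GolayPt → ZMod 2) : supp w = support₂ w := rfl

theorem ind_mem_iff {S : Finset GolayPt} (h8 : S.card = 8) : ind S ∈ golayCode ↔ S ∈ octads := by
  rw [mem_octads]
  constructor
  · intro h
    obtain ⟨k, hk, e⟩ := mem_code_iff.mp h
    have e' : toSet (enc k) = S := by rw [← support₂_word, e, ← supp_eq_support₂, supp_ind]
    refine ⟨enc k, mem_cwOfWeight.mpr ⟨mem_cw.mpr ⟨k, hk, rfl⟩, ?_⟩, e'⟩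
    rw [← card_toSet, e', h8]
  · rintro ⟨n, hn, rfl⟩
    obtain ⟨k, hk, rfl⟩ := mem_cw.mp (mem_cwOfWeight.mp hn).1
    rw [← support₂_word, ← supp_eq_support₂, ind_supp]
    exact word_enc_mem k

end CfsgLib.SmallGroups.GolayUnique
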