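import Cfsg.Agent.Lib.Sporadic.LeechMonomial
import Cfsg.Agent.Lib.Sporadic.M24Config
import Cfsg.Agent.Lib.SmallGroups.GolayUnique
import Cfsg.Agent.Lib.ThreeTransp.LeechXi

/-!
# Moving vectors of the lattice by automorphisms

`Reach x T` says that an automorphism generated by the monomial maps and the non-monomial
involution carries `x` to `T`.  The monomial maps permute the points by
an element of `M24` and change signs on a code word; a vector is determined up to a sign change by
its absolute values and the inner products of the difference of the signs with the code words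
inside its support.
-/

set_option autoImplicit false
set_option maxRecDepth 10000

namespace CfsgLib.SmallGroups.LeechReach

open Cfsg CfsgLib.SmallGroups.Golay CfsgLib.SmallGroups.GolayOctads CfsgLib.SmallGroups.M24Group
  CfsgLib.SmallGroups.LeechBasic CfsgLib.Sporadic CfsgLib.ThreeTransp
open scoped Pointwise

/-- The group generated by the monomial maps and the non-monomial involution. -/
noncomputable def gen : Subgroup Co0 :=
  Subgroup.closure (Set.range LeechMonomial.mono ∪ {LeechXi.xi})

/-- An element of `gen` carries `x` to `T`. -/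
def Reach (x T : GolayPt → ℤ) : Prop :=
  ∀ hx : x ∈ leechLattice,
    ∃ g ∈ gen, ((g • (⟨x, hx⟩ : leechLattice) : leechLattice) : GolayPt → ℤ) = T

theorem Reach.refl (x : GolayPt → ℤ) : Reach x x := fun _ => ⟨1, one_mem _, rfl⟩

theorem Reach.trans {x y z : GolayPt → ℤ} (h : Reach x y) (h' : Reach y z) : Reach x z := by
  intro hx
  obtain ⟨g, hgm, hg⟩ := h hx
  obtain ⟨g', hgm', hg'⟩ := h' (hg ▸ SetLike.coe_mem _)
  refine ⟨g' * g, mul_mem hgm' hgm, ?_⟩
  rw [← hg', mul_smul]
  congr 2
  exact Subtype.ext hg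

theorem Reach.mem {x T : GolayPt → ℤ} (h : Reach x T) (hx : x ∈ leechLattice) : T ∈ leechLattice := by
  obtain ⟨g, -, hg⟩ := h hx
  exact hg ▸ SetLike.coe_mem _

theorem Reach.good {x T : GolayPt → ℤ} (h : Reach x T) (hx : Good x) : Good T :=
  mem_lattice.1 (h.mem (mem_lattice.2 hx))

theorem Reach.of_good {x T : GolayPt → ℤ} (h : Good x → Reach x T) : Reach x T :=
  fun hx => h (mem_lattice.1 hx) hx

theorem Reach.symm {x T : GolayPt → ℤ} (h : Reach x T) (hx : x ∈ leechLattice) : Reach T x := by
  intro hT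
  obtain ⟨g, hgm, hg⟩ := h hx
  refine ⟨g⁻¹, inv_mem hgm, ?_⟩
  have e : g • (⟨x, hx⟩ : leechLattice) = ⟨T, hT⟩ := Subtype.ext hg
  rw [← e, inv_smul_smul]

theorem reach_mono {σ : Equiv.Perm GolayPt} (hσ : σ ∈ M24) {c : Finset GolayPt}
    (hc : c ∈ LeechMonomial.CS) {x T : GolayPt → ℤ} (h : signedPerm σ c x = T) : Reach x T :=
  fun _ => ⟨LeechMonomial.mono (⟨σ, hσ⟩, ⟨c, hc⟩), Subgroup.subset_closure (Or.inl ⟨_, rfl⟩),
    (LeechMonomial.mono_apply _ _).trans h⟩

theorem empty_mem_CS : (∅ : Finset GolayPt) ∈ LeechMonomial.CS :=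
  ⟨0, zero_mem _, by ext; simp [support₂]⟩

theorem reach_perm {σ : Equiv.Perm GolayPt} (hσ : σ ∈ M24) (x : GolayPt → ℤ) :
    Reach x fun q => x (σ.symm q) :=
  reach_mono hσ empty_mem_CS (funext fun _ => by simp [signedPerm])

theorem reach_sign {c : Finset GolayPt} (hc : c ∈ LeechMonomial.CS) (x : GolayPt → ℤ) :
    Reach x fun q => if q ∈ c then -x q else x q :=
  reach_mono (one_mem _) hc rfl

theorem reach_xi {x y : GolayPt → ℤ} (h : LeechXi.dblHom x = (2 : ℤ) • y) : Reach x y := fun hx =>
  ⟨LeechXi.xi, Subgroup.subset_closure (Or.inr rfl), smul_right_injective (GolayPt → ℤ) (two_ne_zero : (2 : ℤ) ≠ 0)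
    ((LeechXi.two_xi ⟨x, hx⟩).trans h)⟩

/-! ### Signs -/

/-- The positions where `x` and `T` differ. -/
def flip (x T : GolayPt → ℤ) : GolayPt → ZMod 2 := fun i => if x i = T i then 0 else 1

/-- All sums of the given masks. -/
def spans : List ℕ → List ℕ
  | [] => [0]
  | a :: l => spans l ++ (spans l).map (a ^^^ ·)

theorem dot_spans (v : GolayPt → ZMod 2) :
    ∀ gens : List ℕ, (∀ g ∈ gens, ∑ i, v i * word g i = 0) →
      ∀ n ∈ spans gens, ∑ i, v i * word n i = 0
  | [], _, n, hn => by
    obtain rfl : n = 0 := List.mem_singleton.1 hn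
    simp [word_zero]
  | a :: l, h, n, hn => by
    have ih := dot_spans v l fun g hg => h g (List.mem_cons_of_mem _ hg)
    rcases List.mem_append.1 hn with hn | hn
    · exact ih n hn
    · obtain ⟨m, hm, rfl⟩ := List.mem_map.1 hn
      simp only [word_xor, Pi.add_apply, mul_add, Finset.sum_add_distrib,
        h a List.mem_cons_self, ih m hm, add_zero]

/-- The code words inside `S` are sums of the given masks. -/
def insideOK (S : ℕ) (gens : List ℕ) : Bool :=
  cw.all fun n => n &&& S != n || (spans gens).contains n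

theorem reach_signs {x T : GolayPt → ℤ} (h : ∀ i, |x i| = |T i|) (S : ℕ) (gens : List ℕ)
    (hS : ∀ i, T i ≠ 0 → S.testBit (idx i) = true) (hok : insideOK S gens = true)
    (hdot : ∀ g ∈ gens, ∑ i, flip x T i * word g i = 0) : Reach x T := by
  obtain ⟨c, hc, hcv⟩ := GolayUnique.golay_isDE.extend (toSet S)ᶜ (flip x T) fun d hd hd0 => by
    obtain ⟨k, hk, rfl⟩ := mem_code_iff.1 hd
    have hsub : toSet (enc k) ⊆ toSet S := fun p hp => by
      by_contra hne
      have := hd0 p (Finset.mem_compl.2 hne)
      rw [mem_toSet] at hp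
      simp [word, hp] at this
    rw [M24Config.subset_iff (enc_lt k hk).1, Nat.and_comm] at hsub
    have := List.all_eq_true.1 hok _ (mem_cw.2 ⟨k, hk, rfl⟩)
    rw [Bool.or_eq_true, bne_iff_ne, List.contains_iff_mem] at this
    exact dot_spans _ gens hdot _ (this.resolve_left fun hne => hne hsub)
  refine reach_mono (one_mem _) (c := support₂ c) (mem_supports_word hc) (funext fun i => ?_)
  show (if i ∈ support₂ c then -x i else x i) = T i
  by_cases hT : T i = 0
  · have : x i = 0 := by simpa [hT] using h i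
    simp [hT, this]
  · have hi : i ∉ (toSet S)ᶜ := by simpa using hS i hT
    have e := hcv i hi
    simp only [support₂, Finset.mem_filter, Finset.mem_univ, true_and, e, flip]
    rcases abs_eq_abs.1 (h i) with he | he
    · simp [he]
    · have hne : x i ≠ T i := by omega
      simp [hne, he]

/-- Membership test for explicit vectors. -/
def okGood (m : ℤ) (T : GolayPt → ℤ) : Bool :=
  decide (∀ i, T i % 2 = m % 2) && decide ((∑ i, T i - 4 * m) % 8 = 0) && isCW (mask (wd T m))

theorem good_of_ok {m : ℤ} {T : GolayPt → ℤ} (h : okGood m T = true) : Good T := by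
  simp only [okGood, Bool.and_eq_true, decide_eq_true_eq] at h
  refine ⟨m, h.1.1, ?_, mem_code_iff_isCW.2 h.2⟩
  rw [Int.modEq_iff_dvd]
  have := h.1.2
  omega

/-- The sum of the signed halves over the changed positions is even. -/
theorem dot_flip {x T : GolayPt → ℤ} (hx : Good x) (hT : Good T) (hev : ∀ i, (2 : ℤ) ∣ T i)
    (h : ∀ i, |x i| = |T i|) {o : ℕ} (ho : ∀ i, ((T i / 2 : ℤ) : ZMod 2) = word o i) :
    ∑ i, flip x T i * word o i = 0 := by
  obtain ⟨m, h1, h2, -⟩ := hx
  obtain ⟨m', h1', h2', -⟩ := hT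
  have hxev : (2 : ℤ) ∣ x none := by
    rw [← dvd_abs, h none, dvd_abs]
    exact hev none
  have hm : (2 : ℤ) ∣ m := by have := (h1 none).dvd; omega
  have hm' : (2 : ℤ) ∣ m' := by have := (h1' none).dvd; have := hev none; omega
  have e : ∑ i, T i - ∑ i, x i = 4 * ∑ i, if x i = T i then 0 else T i / 2 := by
    rw [← Finset.sum_sub_distrib, Finset.mul_sum]
    refine Finset.sum_congr rfl fun i _ => ?_
    have := hev i
    rcases abs_eq_abs.1 (h i) with he | he <;> split_ifs <;> omega
  have h2e : (2 : ℤ) ∣ ∑ i, if x i = T i then 0 else T i / 2 := by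
    have := h2.dvd
    have := h2'.dvd
    omega
  rw [← (ZMod.intCast_zmod_eq_zero_iff_dvd _ 2).2 h2e, Int.cast_sum]
  refine Finset.sum_congr rfl fun i _ => ?_
  rw [← ho i, flip]
  split_ifs <;> simp

/-! ### Vectors with few exceptional positions -/

/-- The vector with the given values on the first base points and `c` elsewhere. -/
def pv (c : ℤ) (l : List ℤ) : GolayPt → ℤ := fun q => l.getD (base.idxOf (idx q)) c

theorem pos_bpt : ∀ i < 7, base.idxOf (idx (bpt i)) = i := by decide +kernel

theorem bpt_pos : ∀ q, base.idxOf (idx q) < 7 → bpt (base.idxOf (idx q)) = q := by decide +kernel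

/-- The first five base points as a mask. -/
def five : ℕ := 1 + 4096 + 16384 + 65536 + 8388608

theorem five_spec : ∀ q, base.idxOf (idx q) < 5 → five.testBit (idx q) = true := by decide +kernel

theorem five_inside : insideOK five [] = true := by decide +kernel

theorem reach_list (x : GolayPt → ℤ) (c : ℤ) (l : List GolayPt) (hnd : l.Nodup) (hlen : l.length ≤ 5)
    (hoff : ∀ q, q ∉ l → x q = c) : Reach x (pv c (l.map x)) := by
  obtain ⟨a, ha, hax⟩ := M24Config.exists_to_points hlen l.get hnd.injective_get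
  refine (reach_perm ha x).trans ?_
  convert Reach.refl _ using 1
  funext q
  simp only [pv, List.getD_eq_getElem?_getD, List.getElem?_map]
  by_cases hj : base.idxOf (idx q) < l.length
  · have e : a.symm q = l.get ⟨_, hj⟩ := by
      rw [Equiv.symm_apply_eq, hax]
      exact (bpt_pos q (by omega)).symm
    simp [hj, e]
  · rw [List.getElem?_eq_none (by omega)]
    refine (hoff _ fun hmem => ?_).symm
    obtain ⟨i, hi⟩ := List.get_of_mem hmem
    have := hax i
    rw [hi, Equiv.apply_symm_apply] at this
    have h7 : (i : ℕ) < 7 := by have := i.2; omega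
    rw [this, pos_bpt _ h7] at hj
    exact hj i.2

theorem reach_pv_abs {L L' : List ℤ} (h : L.map (|·|) = L'.map (|·|)) (hlen : L'.length ≤ 5) :
    Reach (pv 0 L) (pv 0 L') := by
  refine reach_signs (fun q => ?_) five [] (fun q hq => five_spec q ?_) five_inside (by simp)
  · simp only [pv]
    have e := fun l : List ℤ => List.getD_map (l := l) (d := 0) (n := base.idxOf (idx q)) (|·|)
    simp only [abs_zero] at e
    rw [← e, ← e, h]
  · by_contra hge
    exact hq (by simp [pv, List.getD_eq_getElem?_getD, List.getElem?_eq_none (show L'.length ≤ base.idxOf (idx q) by omega)])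

theorem reach_levels {x : GolayPt → ℤ} {c u v : ℤ} {A B : Finset GolayPt} (hd : Disjoint A B)
    (hA : ∀ q ∈ A, x q = u) (hB : ∀ q ∈ B, x q = v) (hoff : ∀ q, q ∉ A → q ∉ B → x q = c)
    (hlen : A.card + B.card ≤ 5) :
    Reach x (pv c (List.replicate A.card u ++ List.replicate B.card v)) := by
  have h := reach_list x c (A.toList ++ B.toList)
    (List.nodup_append'.2 ⟨A.nodup_toList, B.nodup_toList, fun q hq hq' =>
      Finset.disjoint_left.1 hd (Finset.mem_toList.1 hq) (Finset.mem_toList.1 hq')⟩)
    (by simpa using hlen) (fun q hq => by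
      simp only [List.mem_append, Finset.mem_toList, not_or] at hq
      exact hoff q hq.1 hq.2)
  convert h using 2
  rw [List.map_append]
  congr 1 <;> refine (List.eq_replicate_iff.2 ⟨by simp, ?_⟩).symm <;> simp only [List.mem_map, Finset.mem_toList] <;> rintro _ ⟨q, hq, rfl⟩
  · exact hA q hq
  · exact hB q hq

theorem reach_levels_abs {x : GolayPt → ℤ} {u v : ℤ} (hu : 0 ≤ u) (hv : 0 ≤ v) {A B : Finset GolayPt}
    (hd : Disjoint A B) (hA : ∀ q ∈ A, |x q| = u) (hB : ∀ q ∈ B, |x q| = v)
    (hoff : ∀ q, q ∉ A → q ∉ B → x q = 0) (hlen : A.card + B.card ≤ 5) :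
    Reach x (pv 0 (List.replicate A.card u ++ List.replicate B.card v)) := by
  refine (reach_list x 0 (A.toList ++ B.toList)
    (List.nodup_append'.2 ⟨A.nodup_toList, B.nodup_toList, fun q hq hq' =>
      Finset.disjoint_left.1 hd (Finset.mem_toList.1 hq) (Finset.mem_toList.1 hq')⟩)
    (by simpa using hlen) (fun q hq => by
      simp only [List.mem_append, Finset.mem_toList, not_or] at hq
      exact hoff q hq.1 hq.2)).trans (reach_pv_abs ?_ (by simpa using hlen))
  simp only [List.map_append, List.map_map, List.map_replicate, abs_of_nonneg hu, abs_of_nonneg hv]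
  congr 1 <;> refine List.eq_replicate_iff.2 ⟨by simp, ?_⟩ <;> simp only [List.mem_map, Finset.mem_toList, Function.comp_apply] <;> rintro _ ⟨q, hq, rfl⟩
  · exact hA q hq
  · exact hB q hq

end CfsgLib.SmallGroups.LeechReach
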