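import Mathlib
import Cfsg.Agent.Lib.SmallGroups.LeechBasic

/-!
# Counting short vectors of `Cfsg.leechLattice`

The vectors with given parity `m` and given code word are counted by a product of generating
functions, evaluated by Kronecker substitution as one natural number.
-/

set_option autoImplicit false

namespace CfsgLib.SmallGroups.LeechCount

open Cfsg CfsgLib.SmallGroups.Golay CfsgLib.SmallGroups.GolayOctads CfsgLib.SmallGroups.LeechBasic

/-- The base of the substitution. -/
def base : ℕ := 2 ^ 100

/-- The scale of the squares for the parity `m`. -/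
def scale (m : ℕ) : ℤ := if m = 0 then 4 else 8

/-- The exponent of a coordinate value. -/
def expo (m : ℕ) (a : ℤ) : ℕ :=
  ((a ^ 2 - m) / scale m).toNat * 128 + (((a - m) / 2) % 4).toNat

/-- The values allowed at a position with the given parity bit. -/
def opts (ok : ℤ → Bool) (m : ℕ) (bit : Bool) : List ℤ :=
  ((List.range 17).map fun j : ℕ => (j : ℤ) - 8).filter fun a =>
    ok a && ((a - m - if bit then 2 else 0) % 4 == 0)

/-- The generating number of one position. -/
def poly (ok : ℤ → Bool) (m : ℕ) (bit : Bool) : ℕ :=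
  ((opts ok m bit).map fun a => base ^ expo m a).sum

/-- Powers modulo `M`. -/
def powMod (M P : ℕ) : ℕ → ℕ
  | 0 => 1 % M
  | k + 1 => powMod M P k * P % M

theorem powMod_eq (M P : ℕ) : ∀ k, powMod M P k = P ^ k % M
  | 0 => rfl
  | k + 1 => by rw [powMod, powMod_eq M P k, pow_succ, Nat.mod_mul_mod]

/-- The number of vectors over one code word of weight `w`, with value `Q` of the scaled norm. -/
def cellCount (ok : ℤ → Bool) (m w Q : ℕ) : ℕ :=
  let M := base ^ ((Q + 1) * 128)
  let T := powMod M (poly ok m true) w * powMod M (poly ok m false) (24 - w) % M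
  (((List.range 128).filter fun R => R % 4 == 2 * m % 4).map
    fun R => T / base ^ (Q * 128 + R) % base).sum

attribute [local irreducible] base powMod poly cw cwOfWeight

theorem digit_sum {ι : Type*} (S : Finset ι) (E : ι → ℕ) (B j : ℕ) (hB : S.card < B) :
    (∑ x ∈ S, B ^ E x) / B ^ j % B = (S.filter fun x => E x = j).card := by
  classical
  have hpos : 0 < B := by omega
  set lo := ∑ x ∈ S.filter (fun x => E x < j), B ^ E x
  set k := (S.filter fun x => E x = j).card
  have hhi : B ^ (j + 1) ∣ ∑ x ∈ S.filter (fun x => j < E x), B ^ E x :=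
    Finset.dvd_sum fun x hx => pow_dvd_pow B (Finset.mem_filter.mp hx).2
  obtain ⟨h, hh⟩ := hhi
  have e : ∑ x ∈ S, B ^ E x = lo + B ^ j * (k + B * h) := by
    rw [← Finset.sum_filter_add_sum_filter_not S (fun x => E x < j),
      ← Finset.sum_filter_add_sum_filter_not (S.filter fun x => ¬ E x < j) (fun x => E x = j),
      Finset.filter_filter, Finset.filter_filter, Nat.mul_add]
    congr 2
    · rw [Finset.sum_congr rfl (g := fun _ => B ^ j) fun x hx => by
        rw [(Finset.mem_filter.mp hx).2.2], Finset.sum_const, smul_eq_mul, mul_comm]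
      congr 2
      exact Finset.filter_congr fun x _ => ⟨fun h => h.2, fun h => ⟨by omega, h⟩⟩
    · rw [← mul_assoc, ← pow_succ, ← hh]
      refine Finset.sum_congr (Finset.filter_congr fun x _ => ?_) fun _ _ => rfl
      omega
  have hlo : lo < B ^ j := by
    rcases j with _ | j
    · simp [lo]
    · calc lo ≤ (S.filter fun x => E x < j + 1).card * B ^ j := by
            rw [← smul_eq_mul]
            exact Finset.sum_le_card_nsmul _ _ _ fun x hx =>
              Nat.pow_le_pow_right hpos (by have := (Finset.mem_filter.mp hx).2; omega)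
        _ < B * B ^ j :=
            Nat.mul_lt_mul_of_pos_right (lt_of_le_of_lt (Finset.card_filter_le _ _) hB) (pow_pos hpos _)
        _ = B ^ (j + 1) := by rw [pow_succ, mul_comm]
  rw [e, Nat.add_mul_div_left _ _ (pow_pos hpos j), Nat.div_eq_of_lt hlo, zero_add,
    Nat.add_mul_mod_self_left, Nat.mod_eq_of_lt (lt_of_le_of_lt (Finset.card_filter_le _ _) hB)]

theorem digit_mod {B j J N : ℕ} (hj : j < J) : N % B ^ J / B ^ j % B = N / B ^ j % B := by
  rw [show J = j + (J - j) by omega, pow_add, Nat.mod_mul_right_div_self,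
    Nat.mod_mod_of_dvd _ (dvd_pow_self B (by omega))]

theorem opts_nodup (ok : ℤ → Bool) (m : ℕ) (b : Bool) : (opts ok m b).Nodup :=
  (List.nodup_range.map fun _ _ h => by simpa using h).filter _

theorem mem_opts {ok : ℤ → Bool} {m : ℕ} {b : Bool} {a : ℤ} :
    a ∈ opts ok m b ↔ (-8 ≤ a ∧ a ≤ 8) ∧ ok a = true ∧ (a - m - if b then 2 else 0) % 4 = 0 := by
  simp only [opts, List.mem_filter, List.mem_map, List.mem_range, Bool.and_eq_true, beq_iff_eq]
  refine and_congr_left fun _ => ⟨?_, fun h => ⟨(a + 8).toNat, by omega, by omega⟩⟩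
  rintro ⟨j, hj, rfl⟩
  omega

/-- The finset of candidate vectors over one code word. -/
def cell (ok : ℤ → Bool) (m : ℕ) (n : ℕ) : Finset (GolayPt → ℤ) :=
  Fintype.piFinset fun i => (opts ok m (n.testBit (idx i))).toFinset

/-- The candidates with the right norm and sum. -/
def cellOk (ok : ℤ → Bool) (m Q n : ℕ) : Finset (GolayPt → ℤ) :=
  (cell ok m n).filter fun x => (∑ i, expo m (x i)) / 128 = Q ∧ (∑ i, expo m (x i)) % 4 = 2 * m % 4

theorem card_cell_lt (ok : ℤ → Bool) (m n : ℕ) : (cell ok m n).card < base := by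
  rw [cell, Fintype.card_piFinset]
  refine lt_of_le_of_lt (Finset.prod_le_pow_card _ _ 17 fun i _ => ?_) ?_
  · refine (List.toFinset_card_le _).trans ((List.length_filter_le _ _).trans ?_)
    simp
  · rw [Finset.card_univ, card_golayPt]; unfold base; norm_num

theorem prod_poly (ok : ℤ → Bool) (m n : ℕ) :
    ∏ i : GolayPt, poly ok m (n.testBit (idx i)) = ∑ x ∈ cell ok m n, base ^ ∑ i, expo m (x i) := by
  rw [cell, ← Finset.prod_univ_sum (fun i : GolayPt => (opts ok m (n.testBit (idx i))).toFinset)
    (fun _ a => base ^ expo m a) |>.trans (Finset.sum_congr rfl fun x _ =>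
      Finset.prod_pow_eq_pow_sum _ _ _)]
  exact Finset.prod_congr rfl fun i _ => by unfold poly; exact (List.sum_toFinset _ (opts_nodup _ _ _)).symm

attribute [local irreducible] cell in
theorem cellCount_eq (ok : ℤ → Bool) (m Q n : ℕ) :
    (cellOk ok m Q n).card = cellCount ok m (pc n) Q := by
  have hprod : ∏ i : GolayPt, poly ok m (n.testBit (idx i)) =
      poly ok m true ^ pc n * poly ok m false ^ (24 - pc n) := by
    rw [Finset.prod_congr rfl (g := fun i : GolayPt =>
      if n.testBit (idx i) = true then poly ok m true else poly ok m false) fun i _ => by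
        cases n.testBit (idx i) <;> rfl,
      Finset.prod_ite, Finset.prod_const, Finset.prod_const]
    have h1 : (Finset.univ.filter fun i : GolayPt => n.testBit (idx i) = true).card = pc n :=
      card_toSet n
    have h2 := Finset.card_filter_add_card_filter_not (s := (Finset.univ : Finset GolayPt))
      (fun i => n.testBit (idx i) = true)
    rw [h1, Finset.card_univ, card_golayPt] at h2
    rw [h1, show (Finset.univ.filter fun i : GolayPt => ¬ n.testBit (idx i) = true).card =
      24 - pc n by omega]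
  have hd : ∀ R < 128,
      powMod (base ^ ((Q + 1) * 128)) (poly ok m true) (pc n) *
          powMod (base ^ ((Q + 1) * 128)) (poly ok m false) (24 - pc n) % base ^ ((Q + 1) * 128) /
        base ^ (Q * 128 + R) % base =
      ((cell ok m n).filter fun x => ∑ i, expo m (x i) = Q * 128 + R).card := by
    intro R hR
    rw [powMod_eq, powMod_eq, ← Nat.mul_mod, ← hprod, digit_mod (by omega), prod_poly,
      digit_sum _ _ _ _ (card_cell_lt ok m n)]
  unfold cellCount
  simp only []
  rw [List.map_congr_left fun R hR => hd R (List.mem_range.mp (List.mem_filter.mp hR).1),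
    ← List.sum_toFinset _ (List.nodup_range.filter _), cellOk,
    Finset.card_eq_sum_card_fiberwise (f := fun x => (∑ i, expo m (x i)) % 128)
      (t := ((List.range 128).filter fun R => R % 4 == 2 * m % 4).toFinset)]
  · refine Finset.sum_congr rfl fun R hR => ?_
    simp only [List.mem_toFinset, List.mem_filter, List.mem_range, beq_iff_eq] at hR
    rw [Finset.filter_filter]
    refine congrArg Finset.card (Finset.filter_congr fun x _ => ?_)
    generalize ∑ i, expo m (x i) = E
    omega
  · intro x hx
    simp only [Finset.mem_coe, Finset.mem_filter] at hx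
    simp only [Finset.mem_coe, List.mem_toFinset, List.mem_filter, List.mem_range, beq_iff_eq]
    omega

theorem scale_dvd {m : ℕ} (hm : m = 0 ∨ m = 1) {a : ℤ} (h : (2 : ℤ) ∣ a - m) :
    a ^ 2 - m = scale m * ((a ^ 2 - m) / scale m) ∧ 0 ≤ (a ^ 2 - m) / scale m := by
  obtain ⟨b, hb⟩ := h
  rcases hm with rfl | rfl
  · have hs : a ^ 2 - ((0 : ℕ) : ℤ) = 4 * (b * b) := by
      rw [show a = 2 * b by push_cast at hb ⊢; omega]; push_cast; ring
    have hn : (0 : ℤ) ≤ b * b := mul_self_nonneg b
    simp only [scale, if_true] at hs ⊢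
    omega
  · obtain ⟨c, hc⟩ := (Int.even_mul_succ_self b).two_dvd
    have hs : a ^ 2 - ((1 : ℕ) : ℤ) = 8 * c := by
      have e : a = 2 * b + 1 := by push_cast at hb ⊢; omega
      rw [e]; push_cast; linear_combination 4 * hc
    have hn : (0 : ℤ) ≤ c := by
      have : 0 ≤ b * (b + 1) := by
        rcases le_or_gt 0 b with h | h
        · positivity
        · exact mul_nonneg_of_nonpos_of_nonpos h.le (by omega)
      omega
    simp only [scale, one_ne_zero, if_false] at hs ⊢
    omega

theorem expo_sum {m : ℕ} (hm : m = 0 ∨ m = 1) {x : GolayPt → ℤ}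
    (h : ∀ i, (2 : ℤ) ∣ x i - m) :
    sqNorm x = 24 * m + scale m * (((∑ i, expo m (x i)) / 128 : ℕ) : ℤ) ∧
      ((∑ i, expo m (x i)) % 4 = 2 * m % 4 ↔ ∑ i, x i ≡ 4 * (m : ℤ) [ZMOD 8]) := by
  set q := fun i => ((x i ^ 2 - m) / scale m).toNat
  set r := fun i => (((x i - m) / 2) % 4).toNat
  have he : ∑ i, expo m (x i) = (∑ i, q i) * 128 + ∑ i, r i := by
    rw [Finset.sum_mul, ← Finset.sum_add_distrib]; rfl
  have hr : ∑ i, r i < 128 := by
    refine lt_of_le_of_lt (Finset.sum_le_card_nsmul _ _ 3 fun i _ => ?_) ?_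
    · simp only [r]; omega
    · rw [Finset.card_univ, card_golayPt]; norm_num
  have hq : ((∑ i, expo m (x i)) / 128 : ℕ) = ∑ i, q i := by omega
  constructor
  · rw [hq, Nat.cast_sum, Finset.mul_sum, sqNorm,
      show 24 * (m : ℤ) = ∑ _i : GolayPt, (m : ℤ) by
        rw [Finset.sum_const, Finset.card_univ, card_golayPt]; simp, ← Finset.sum_add_distrib]
    refine Finset.sum_congr rfl fun i _ => ?_
    obtain ⟨e, hnn⟩ := scale_dvd hm (h i)
    simp only [q, Int.toNat_of_nonneg hnn]
    omega
  · have hsum : ∑ i, x i = 24 * (m : ℤ) + 2 * ∑ i, (x i - m) / 2 := by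
      rw [Finset.mul_sum, show 24 * (m : ℤ) = ∑ _i : GolayPt, (m : ℤ) by
        rw [Finset.sum_const, Finset.card_univ, card_golayPt]; simp, ← Finset.sum_add_distrib]
      exact Finset.sum_congr rfl fun i _ => by have := h i; omega
    have hmod : (4 : ℤ) ∣ ((∑ i, r i : ℕ) : ℤ) - ∑ i, (x i - m) / 2 := by
      rw [Nat.cast_sum, ← Finset.sum_sub_distrib]
      refine Finset.dvd_sum fun i _ => ?_
      simp only [r]
      omega
    rw [Int.modEq_iff_dvd]
    omega

/-- The number of lattice vectors of norm `n` with all coordinates allowed, for one parity. -/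
def parityCount (ok : ℤ → Bool) (m Q : ℕ) : ℕ :=
  cellCount ok m 0 Q + 759 * cellCount ok m 8 Q + 2576 * cellCount ok m 12 Q +
    759 * cellCount ok m 16 Q + cellCount ok m 24 Q

theorem other_lengths : (cwOfWeight 0).length = 1 ∧ (cwOfWeight 16).length = 759 ∧
    (cwOfWeight 24).length = 1 := by
  decide +kernel

theorem sum_by_weight (f : ℕ → ℕ) :
    ∑ n ∈ cw.toFinset, f (pc n) = f 0 + 759 * f 8 + 2576 * f 12 + 759 * f 16 + f 24 := by
  rw [← Finset.sum_fiberwise_of_maps_to (g := pc) (t := {0, 8, 12, 16, 24}) fun n hn => by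
    have := weights n (List.mem_toFinset.mp hn)
    simp only [Finset.mem_insert, Finset.mem_singleton]
    exact this]
  have e : ∀ w, ∑ n ∈ cw.toFinset.filter (fun n => pc n = w), f (pc n) =
      (cwOfWeight w).length * f w := by
    intro w
    rw [Finset.sum_congr rfl (g := fun _ => f w) fun n hn => by rw [(Finset.mem_filter.mp hn).2],
      Finset.sum_const, smul_eq_mul, ← List.toFinset_card_of_nodup (l := cwOfWeight w) (by unfold cwOfWeight; exact cw_nodup.filter _)]
    congr 2
    ext n
    simp [cwOfWeight]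
  simp only [Finset.sum_insert, Finset.sum_singleton, Finset.mem_insert, Finset.mem_singleton,
    OfNat.ofNat_ne_zero, OfNat.zero_ne_ofNat, OfNat.ofNat_eq_ofNat, Nat.reduceEqDiff, or_self,
    not_false_eq_true, e, other_lengths, cwOfWeight_length]
  ring

/-- The vectors of one parity. -/
def parityVecs (ok : ℤ → Bool) (m Q : ℕ) : Finset (GolayPt → ℤ) :=
  cw.toFinset.biUnion (cellOk ok m Q)

theorem cell_congr {ok : ℤ → Bool} {m n : ℕ} {x : GolayPt → ℤ} (hx : x ∈ cell ok m n) (i : GolayPt) :
    (2 : ℤ) ∣ x i - m ∧ word n i = (((x i - m) / 2 : ℤ) : ZMod 2) ∧ ok (x i) = true := by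
  rw [cell, Fintype.mem_piFinset] at hx
  have h := List.mem_toFinset.mp (hx i)
  rw [mem_opts] at h
  refine ⟨by split at h <;> omega, ?_, h.2.1⟩
  cases hb : n.testBit (idx i)
  · rw [word, hb, if_neg (by simp), eq_comm, ZMod.intCast_zmod_eq_zero_iff_dvd]
    rw [hb] at h
    simp only [Bool.false_eq_true, if_false] at h
    push_cast
    omega
  · rw [word, hb, if_pos rfl, ← Int.cast_one, ZMod.intCast_eq_intCast_iff_dvd_sub]
    rw [hb] at h
    simp only [if_true] at h
    push_cast
    omega

theorem card_parityVecs (ok : ℤ → Bool) (m Q : ℕ) :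
    (parityVecs ok m Q).card = parityCount ok m Q := by
  rw [parityVecs, Finset.card_biUnion, Finset.sum_congr rfl fun n _ => cellCount_eq ok m Q n]
  · exact sum_by_weight fun w => cellCount ok m w Q
  · intro a ha b hb hne
    simp only [Finset.mem_coe, List.mem_toFinset] at ha hb
    refine Finset.disjoint_left.mpr fun x hxa hxb => hne ?_
    rw [cellOk, Finset.mem_filter] at hxa hxb
    obtain ⟨i, hi, rfl⟩ := mem_cw.mp ha
    obtain ⟨j, hj, rfl⟩ := mem_cw.mp hb
    refine word_inj (enc_lt i hi).1 (enc_lt j hj).1 (funext fun p => ?_)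
    rw [(cell_congr hxa.1 p).2.1, (cell_congr hxb.1 p).2.1]

theorem count (ok : ℤ → Bool) (N Q₀ Q₁ : ℕ) (hN : N ≤ 64) (h0 : N = 4 * Q₀) (h1 : N = 24 + 8 * Q₁) :
    {x : GolayPt → ℤ | x ∈ leechLattice ∧ sqNorm x = (N : ℤ) ∧ ∀ i, ok (x i) = true}.ncard =
      parityCount ok 0 Q₀ + parityCount ok 1 Q₁ := by
  rw [← card_parityVecs, ← card_parityVecs, ← Finset.card_union_of_disjoint, ← Set.ncard_coe_finset]
  · congr 1
    ext x
    simp only [Set.mem_ofPred_eq, Finset.coe_union, Set.mem_union, Finset.mem_coe, parityVecs,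
      Finset.mem_biUnion, List.mem_toFinset]
    constructor
    · rintro ⟨hx, hn, hok⟩
      obtain ⟨m, y, hm, hxy, hs, hc⟩ := exists_halves (mem_lattice.mp hx)
      obtain ⟨k, hk, he⟩ := mem_code_iff.mp hc
      have hbd : ∀ i, -8 ≤ x i ∧ x i ≤ 8 := fun i => by
        have h2 : x i ^ 2 ≤ 64 := le_trans (Finset.single_le_sum (fun j _ => sq_nonneg (x j))
          (Finset.mem_univ i)) (le_trans hn.le (by exact_mod_cast hN))
        constructor <;> nlinarith
      have hmem : ∀ (M : ℕ), m = (M : ℤ) → x ∈ cell ok M (enc k) := by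
        intro M hM
        rw [cell, Fintype.mem_piFinset]
        intro i
        rw [List.mem_toFinset, mem_opts]
        refine ⟨hbd i, hok i, ?_⟩
        have e := congrFun he i
        simp only [word] at e
        rw [hxy i, hM]
        cases hb : (enc k).testBit (idx i)
        · rw [hb, if_neg (by simp), eq_comm, ZMod.intCast_zmod_eq_zero_iff_dvd] at e
          simp only [Bool.false_eq_true, if_false]
          push_cast at e
          omega
        · rw [hb, if_pos rfl, eq_comm, ← Int.cast_one, ZMod.intCast_eq_intCast_iff_dvd_sub] at e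
          simp only [if_true]
          push_cast at e
          omega
      have hpar : ∀ (M : ℕ), m = (M : ℤ) → ∀ i, (2 : ℤ) ∣ x i - M := fun M hM i => by
        rw [hxy i, hM]; omega
      have hsum : ∀ (M : ℕ), m = (M : ℤ) → ∑ i, x i ≡ 4 * (M : ℤ) [ZMOD 8] := by
        intro M hM
        have e : ∑ i, x i = 24 * m + 2 * ∑ i, y i := by
          rw [Finset.mul_sum, show 24 * m = ∑ _i : GolayPt, m by
            rw [Finset.sum_const, Finset.card_univ, card_golayPt]; simp, ← Finset.sum_add_distrib]
          exact Finset.sum_congr rfl fun i _ => hxy i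
        rw [Int.modEq_iff_dvd, ← hM]
        omega
      rcases hm with rfl | rfl
      · refine Or.inl ⟨enc k, mem_cw.mpr ⟨k, hk, rfl⟩, ?_⟩
        obtain ⟨en, es⟩ := expo_sum (Or.inl rfl) (hpar 0 rfl)
        refine Finset.mem_filter.mpr ⟨hmem 0 rfl, ?_, es.mpr (hsum 0 rfl)⟩
        simp only [scale, if_true] at en
        generalize ∑ i, expo 0 (x i) = E at en ⊢
        push_cast at en
        omega
      · refine Or.inr ⟨enc k, mem_cw.mpr ⟨k, hk, rfl⟩, ?_⟩
        obtain ⟨en, es⟩ := expo_sum (Or.inr rfl) (hpar 1 rfl)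
        refine Finset.mem_filter.mpr ⟨hmem 1 rfl, ?_, es.mpr (hsum 1 rfl)⟩
        simp only [scale, one_ne_zero, if_false] at en
        generalize ∑ i, expo 1 (x i) = E at en ⊢
        push_cast at en
        omega
    · have back : ∀ m Q n, m = 0 ∨ m = 1 → n ∈ cw → x ∈ cellOk ok m Q n →
          x ∈ leechLattice ∧ sqNorm x = 24 * m + scale m * Q ∧ ∀ i, ok (x i) = true := by
        intro m Q n hm hn hx
        rw [cellOk, Finset.mem_filter] at hx
        obtain ⟨en, es⟩ := expo_sum hm fun i => (cell_congr hx.1 i).1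
        refine ⟨mem_lattice.mpr ⟨m, fun i => ?_, es.mp hx.2.2, ?_⟩, by rw [en, hx.2.1],
          fun i => (cell_congr hx.1 i).2.2⟩
        · rw [Int.modEq_iff_dvd]
          have := (cell_congr hx.1 i).1
          omega
        · obtain ⟨k, hk, rfl⟩ := mem_cw.mp hn
          rw [show wd x m = word (enc k) from funext fun i => (cell_congr hx.1 i).2.1.symm]
          exact word_enc_mem k
      rintro (⟨n, hn, hx⟩ | ⟨n, hn, hx⟩)
      · obtain ⟨a, b, c⟩ := back 0 Q₀ n (Or.inl rfl) hn hx
        simp only [scale, if_true] at b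
        exact ⟨a, by push_cast at b ⊢; omega, c⟩
      · obtain ⟨a, b, c⟩ := back 1 Q₁ n (Or.inr rfl) hn hx
        simp only [scale, one_ne_zero, if_false] at b
        exact ⟨a, by push_cast at b ⊢; omega, c⟩
  · refine Finset.disjoint_left.mpr fun x hx hx' => ?_
    simp only [parityVecs, Finset.mem_biUnion, cellOk, Finset.mem_filter] at hx hx'
    obtain ⟨a, -, hxa, -⟩ := hx
    obtain ⟨b, -, hxb, -⟩ := hx'
    have h := (cell_congr hxa none).1
    have h' := (cell_congr hxb none).1
    push_cast at h h'
    omega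


end CfsgLib.SmallGroups.LeechCount
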