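import Cfsg.Agent.Lib.SmallGroups.LeechEnum

/-!
# Certified sets of lattice vectors cut out by inner products

A certified orbit is closed in norm and inner products with the fixed vectors; a filter check shows
that it is all of a larger certified set with prescribed inner products.
-/

set_option autoImplicit false
set_option maxRecDepth 10000

namespace CfsgLib.SmallGroups.LeechLists

open Cfsg CfsgLib.SmallGroups.Golay CfsgLib.SmallGroups.LeechOrbit CfsgLib.SmallGroups.LeechEnum

/-- The inner product of two stored vectors. -/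
def dotK (a b : ℕ) : ℤ := ((List.range 24).map fun i => dig a i * dig b i).sum

theorem sum_range_eq (f : ℕ → ℤ) : ∑ q : GolayPt, f (idx q) = ((List.range 24).map f).sum := by
  rw [← List.sum_toFinset _ List.nodup_range]
  refine Finset.sum_bij (fun q _ => idx q) (fun q _ => ?_) (fun _ _ _ _ e => idx_injective e)
    (fun i hi => ?_) (fun _ _ => rfl)
  · simpa using idx_lt q
  · refine ⟨pt i, Finset.mem_univ _, idx_pt ?_⟩
    simpa using hi

theorem dotK_eq (a b : ℕ) : dotInt (Pk a) (Pk b) = dotK a b :=
  sum_range_eq fun i => dig a i * dig b i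

theorem sqNorm_eq (x : GolayPt → ℤ) : sqNorm x = dotInt x x :=
  Finset.sum_congr rfl fun _ _ => sq _

/-- All keys are the code numbers of their vectors. -/
def canon (T : VTree) : Bool := T.keys.all fun n => encK (dig n) == n

theorem Pk_inj {T : VTree} (h : canon T = true) {n m : ℕ} (hn : n ∈ T.keys) (hm : m ∈ T.keys)
    (e : Pk n = Pk m) : n = m := by
  have hn' := beq_iff_eq.1 (List.all_eq_true.1 h n hn)
  have hm' := beq_iff_eq.1 (List.all_eq_true.1 h m hm)
  rw [← hn', ← hm']
  simp only [encK]
  refine List.foldr_ext (l := List.range 24) _ _ _ fun i hi acc => ?_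
  have := congrFun e (pt i)
  simp only [Pk, idx_pt (List.mem_range.1 hi)] at this
  rw [this]

/-- The lattice vectors stored in a tree. -/
def vecs (T : VTree) : Set leechLattice := {x | ∃ n ∈ T.keys, (x : GolayPt → ℤ) = Pk n}

variable {gens : List (List Step)} {fix : List ℕ} {root : ℕ} {T : VTree}

theorem mem_lattice_keys (h : cert gens fix root T = true) (hr : Pk root ∈ leechLattice) {n : ℕ}
    (hn : n ∈ T.keys) : Pk n ∈ leechLattice := by
  obtain ⟨g, -, hg⟩ := orbit_sound h ⟨_, hr⟩ rfl hn
  exact hg ▸ SetLike.coe_mem _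

theorem norm_of_mem (h : cert gens fix root T = true) (hr : Pk root ∈ leechLattice)
    {x : leechLattice} (hx : x ∈ vecs T) {N : ℤ} (hN : dotK root root = N) :
    sqNorm (x : GolayPt → ℤ) = N := by
  obtain ⟨n, hn, e⟩ := hx
  obtain ⟨g, -, hg⟩ := orbit_sound h ⟨_, hr⟩ rfl hn
  rw [e, ← hg, norm_smul, sqNorm_eq, dotK_eq, hN]

theorem dot_of_mem (h : cert gens fix root T = true) (hr : Pk root ∈ leechLattice)
    {x : leechLattice} (hx : x ∈ vecs T) {f : ℕ} (hf : f ∈ fix) {a : leechLattice}
    (ha : (a : GolayPt → ℤ) = Pk f) {d : ℤ} (hd : dotK f root = d) :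
    dotInt (a : GolayPt → ℤ) (x : GolayPt → ℤ) = d := by
  obtain ⟨n, hn, e⟩ := hx
  obtain ⟨g, hfix, hg⟩ := orbit_sound h ⟨_, hr⟩ rfl hn
  rw [e, ← hg, ← hfix f hf a ha, dot_smul, ha, dotK_eq, hd]

theorem ncard_vecs (h : cert gens fix root T = true) (hr : Pk root ∈ leechLattice)
    (hc : canon T = true) : (vecs T).ncard = T.keys.length := by
  classical
  rw [← Set.ncard_image_of_injective _ Subtype.val_injective]
  have e : Subtype.val '' vecs T = ↑(T.keys.toFinset.image Pk) := by
    ext y
    simp only [Set.mem_image, vecs, Set.mem_ofPred_eq, Finset.coe_image, List.coe_toFinset]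
    constructor
    · rintro ⟨x, ⟨n, hn, hx⟩, rfl⟩
      exact ⟨n, hn, hx.symm⟩
    · rintro ⟨n, hn, rfl⟩
      exact ⟨⟨_, mem_lattice_keys h hr hn⟩, ⟨n, hn, rfl⟩, rfl⟩
  rw [e, Set.ncard_coe_finset, Finset.card_image_of_injOn, List.toFinset_card_of_nodup (keys_nodup h)]
  intro a ha b hb hab
  exact Pk_inj hc (List.mem_toFinset.1 ha) (List.mem_toFinset.1 hb) hab

theorem transitive_vecs (h : cert gens fix root T = true) (hr : Pk root ∈ leechLattice)
    {x y : leechLattice} (hx : x ∈ vecs T) (hy : y ∈ vecs T) :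
    ∃ g : Co0, (∀ f ∈ fix, ∀ v : leechLattice, (v : GolayPt → ℤ) = Pk f → g • v = v) ∧ g • x = y := by
  obtain ⟨n, hn, ex⟩ := hx
  obtain ⟨m, hm, ey⟩ := hy
  exact LeechOrbit.transitive h hr hn hm ex ey

/-- The vectors of `big` with the given inner products are in `small`. -/
def filterOK (big small : VTree) (conds : List (ℕ × ℤ)) : Bool :=
  big.keys.all fun n => !(conds.all fun c => dotK c.1 n == c.2) || small.has n

theorem filter_sound {big small : VTree} {conds : List (ℕ × ℤ)} (h : filterOK big small conds = true)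
    {x : leechLattice} (hx : x ∈ vecs big)
    (hd : ∀ c ∈ conds, dotInt (Pk c.1) (x : GolayPt → ℤ) = c.2) : x ∈ vecs small := by
  obtain ⟨n, hn, e⟩ := hx
  have h' := List.all_eq_true.1 h n hn
  have hc : (conds.all fun c => dotK c.1 n == c.2) = true := List.all_eq_true.2 fun c hc => by
    rw [beq_iff_eq, ← dotK_eq, ← e]
    exact hd c hc
  rw [hc, Bool.not_true, Bool.false_or] at h'
  exact ⟨n, small.find_mem n h', e⟩

end CfsgLib.SmallGroups.LeechLists
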