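import Cfsg.Agent.Lib.SmallGroups.CodeUniqueBase

/-!
# Uniqueness of the self-dual doubly even `[24,12,8]` binary code

Both codes are normalised with respect to an octad: the words vanishing on it identify the other
sixteen points with an affine space over the field with two elements, and the code then determines,
for each pair inside the octad, a pair inside the other octad; this map of pairs comes from a
bijection of points.
-/

set_option autoImplicit false

namespace CfsgLib.SmallGroups.CodeUnique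

open Finset Submodule

theorem pi_add_self {ι : Type*} (v : ι → ZMod 2) : v + v = 0 := funext fun _ => CharTwo.add_self_eq_zero _

variable {α : Type*} [Fintype α] [DecidableEq α]

namespace IsDE

variable {C : Submodule (ZMod 2) (α → ZMod 2)}

theorem exists_octad (h : IsDE C) : ∃ O : Finset α, O.card = 8 ∧ ind O ∈ C := by
  classical
  have : Finite (Module.Dual (ZMod 2) C) := Module.finite_of_finite (ZMod 2)
  have : Fintype (Module.Dual (ZMod 2) C) := Fintype.ofFinite _
  have hdual : Fintype.card (Module.Dual (ZMod 2) C) = 4096 := by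
    rw [Module.card_eq_pow_finrank (K := ZMod 2) (V := Module.Dual (ZMod 2) C), Subspace.dual_finrank_eq,
      h.rank, ZMod.card]
    norm_num
  obtain ⟨S, hS, T, hT, hne, heq⟩ := Finset.exists_ne_map_eq_of_card_lt_of_maps_to
    (s := (univ : Finset α).powersetCard 4) (t := (univ : Finset (Module.Dual (ZMod 2) C)))
    (by rw [card_powersetCard, card_univ, card_univ, h.card, hdual]; decide)
    (f := fun S => pairing C (ind S)) (fun _ _ => mem_univ _)
  rw [mem_powersetCard] at hS hT
  have hmem : ind (symmDiff S T) ∈ C := by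
    refine h.mem_of_perp (mem_perp.mp ?_)
    rw [LinearMap.mem_ker, ← ind_add, map_add]
    rw [show pairing C (ind S) = pairing C (ind T) from heq]
    refine LinearMap.ext fun c => ?_
    exact CharTwo.add_self_eq_zero _
  refine ⟨symmDiff S T, ?_, hmem⟩
  have h1 := card_symmDiff' S T
  by_contra h8
  have h0 := h.eq_zero hmem (by rw [hammingNorm_eq, supp_ind]; omega)
  apply hne
  have h2 : ind S = ind T := by
    rw [← ind_add] at h0
    calc ind S = ind S + (ind T + ind T) := by rw [pi_add_self, add_zero]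
      _ = ind T := by rw [← add_assoc, h0, zero_add]
  exact ind_inj h2

variable {O : Finset α}

theorem inter_octad (h : IsDE C) (hO : ind O ∈ C) {c : α → ZMod 2} (hc : c ∈ C) :
    (supp c ∩ O).card % 2 = 0 := by
  have := h.orth c hc (ind O) hO
  rw [dot_ind, ZMod.natCast_eq_zero_iff_even, Nat.even_iff] at this
  exact this

theorem supp_subset_cases (h : IsDE C) (hO8 : O.card = 8) {c : α → ZMod 2} (hc : c ∈ C)
    (hsub : supp c ⊆ O) : c = 0 ∨ c = ind O := by
  by_cases h8 : (supp c).card < 8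
  · exact Or.inl (h.eq_zero hc (by rwa [hammingNorm_eq]))
  · exact Or.inr (by rw [← eq_of_subset_of_card_le hsub (by omega), ind_supp])

/-- Every pair inside the octad is the trace of a code word. -/
theorem exists_pair (h : IsDE C) (hO8 : O.card = 8) {P : Finset α} (hP : P ⊆ O) (hP2 : P.card = 2) :
    ∃ c ∈ C, supp c ∩ O = P := by
  obtain ⟨c, hc, hcp⟩ := h.extend Oᶜ (ind P) fun c hc hzero => by
    have hsub : supp c ⊆ O := fun p hp => by
      by_contra hp'
      exact mem_supp.mp hp (hzero p (mem_compl.mpr hp'))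
    rcases h.supp_subset_cases hO8 hc hsub with rfl | rfl
    · simp
    · rw [dot_ind, supp_ind, inter_eq_left.mpr hP, hP2]; decide
  refine ⟨c, hc, ?_⟩
  ext p
  rw [mem_inter, mem_supp]
  constructor
  · rintro ⟨h1, h2⟩
    rw [hcp p (by simpa using h2)] at h1
    by_contra hp
    exact h1 (by simp [ind, hp])
  · intro hp
    refine ⟨?_, hP hp⟩
    rw [hcp p (by simpa using hP hp)]
    simp [ind, hp]

end IsDE

/-- Coordinates on the points outside an octad, in which the code words vanishing on the octad are the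
affine functions. -/
structure Frame (C : Submodule (ZMod 2) (α → ZMod 2)) (O : Finset α) where
  col : {p : α // p ∉ O} ≃ (Fin 4 → ZMod 2)
  sound : ∀ c ∈ C, (∀ p ∈ O, c p = 0) →
    ∃ (a : ZMod 2) (r : Fin 4 → ZMod 2), ∀ p : {p : α // p ∉ O}, c p = a + ∑ i, r i * col p i
  complete : ∀ (a : ZMod 2) (r : Fin 4 → ZMod 2),
    ∃ c ∈ C, (∀ p ∈ O, c p = 0) ∧ ∀ p : {p : α // p ∉ O}, c p = a + ∑ i, r i * col p i

namespace IsDE

variable {C : Submodule (ZMod 2) (α → ZMod 2)} {O : Finset α}

theorem separates (h : IsDE C) (hO8 : O.card = 8) (hO : ind O ∈ C) {p q : α} (hp : p ∉ O) (hq : q ∉ O)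
    (hk : ∀ c ∈ C, (∀ x ∈ O, c x = 0) → c p = c q) : p = q := by
  by_contra hne
  obtain ⟨c, hc, hcp⟩ := h.extend O (ind {p, q}) fun c hc hz => by
    have e : ∑ i, ind ({p, q} : Finset α) i * c i = c p + c q := by
      rw [← Finset.sum_subset (subset_univ ({p, q} : Finset α)) (fun x _ hx => by simp [ind, hx]),
        Finset.sum_pair hne]
      simp [ind]
    rw [e, hk c hc hz, CharTwo.add_self_eq_zero]
  have hoff : supp c \ O = {p, q} := by
    ext x
    rw [mem_sdiff, mem_supp]
    constructor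
    · rintro ⟨h1, h2⟩
      rw [hcp x h2] at h1
      by_contra hx
      exact h1 (by simp [ind, hx])
    · intro hx
      have hxO : x ∉ O := by
        rcases mem_insert.mp hx with rfl | hx
        · exact hp
        · rw [mem_singleton.mp hx]; exact hq
      exact ⟨by rw [hcp x hxO]; simp [ind, hx], hxO⟩
  have h1 := card_inter_add_card_sdiff (supp c) O
  rw [hoff, card_pair hne] at h1
  have h2 := h.inter_octad hO hc
  have h3 := card_le_card (inter_subset_right : supp c ∩ O ⊆ O)
  have h4 := h.card_supp_mod hc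
  have h5 : c + ind O ∈ C := add_mem hc hO
  have h6 := card_symmDiff' (supp c) O
  have h7 := h.eq_zero h5
  rw [hammingNorm_eq, supp_add, supp_ind] at h7
  have h8 : hammingNorm c < 8 → c = 0 := h.eq_zero hc
  rw [hammingNorm_eq] at h8
  rcases Nat.lt_or_ge (supp c).card 8 with hl | hg
  · rw [h8 hl] at hoff
    have : p ∈ supp (0 : α → ZMod 2) \ O := by rw [hoff]; simp
    simp [supp] at this
  · have e := h7 (by omega)
    have : supp c = O := by
      have e2 : supp c = supp (ind O) := by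
        congr 1
        calc c = c + (ind O + ind O) := by rw [pi_add_self, add_zero]
          _ = ind O := by rw [← add_assoc, e, zero_add]
      rwa [supp_ind] at e2
    have hp' : p ∈ supp c \ O := by rw [hoff]; simp
    rw [this, mem_sdiff] at hp'
    exact hp'.2 hp'.1

theorem nonempty_frame (h : IsDE C) (hO8 : O.card = 8) (hO : ind O ∈ C) : Nonempty (Frame C O) := by
  classical
  let res : C →ₗ[ZMod 2] (O → ZMod 2) :=
    { toFun := fun c i => (c : α → ZMod 2) i
      map_add' := fun _ _ => rfl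
      map_smul' := fun _ _ => rfl }
  let σ : (O → ZMod 2) →ₗ[ZMod 2] ZMod 2 :=
    { toFun := fun v => ∑ i, v i
      map_add' := fun a b => by simp [Finset.sum_add_distrib]
      map_smul' := fun r a => by simp [Finset.mul_sum] }
  have hσ : ∀ c : C, σ (res c) = 0 := fun c => by
    have h1 : ∑ i, (c : α → ZMod 2) i * ind O i = 0 := h.orth c c.2 _ hO
    rw [← h1, ← Finset.sum_subset (subset_univ O) (fun x _ hx => by simp [ind, hx])]
    show ∑ i : O, (c : α → ZMod 2) i = _
    rw [← Finset.sum_coe_sort O]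
    exact Finset.sum_congr rfl fun i _ => by simp [ind]
  obtain ⟨a, ha⟩ := card_pos.mp (by omega : 0 < O.card)
  have hrange : res.range = σ.ker := by
    refine le_antisymm ?_ fun v hv => ?_
    · rintro _ ⟨c, rfl⟩
      exact hσ c
    have hpair : ∀ i : O, i ≠ ⟨a, ha⟩ → Pi.single i 1 + Pi.single (⟨a, ha⟩ : O) 1 ∈ res.range := by
      intro i hi
      obtain ⟨c, hc, hcO⟩ := h.exists_pair hO8 (P := {(i : α), a})
        (insert_subset_iff.mpr ⟨i.2, singleton_subset_iff.mpr ha⟩)
        (card_pair fun e => hi (Subtype.ext e))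
      refine ⟨⟨c, hc⟩, funext fun j => ?_⟩
      show c j = _
      by_cases hj : c j = 0
      · have hj' : (j : α) ∉ ({(i : α), a} : Finset α) := by
          rw [← hcO, mem_inter, mem_supp]; exact fun h' => h'.1 hj
        simp only [mem_insert, mem_singleton, not_or] at hj'
        have e1 : j ≠ i := fun e => hj'.1 (congrArg Subtype.val e)
        have e2 : j ≠ ⟨a, ha⟩ := fun e => hj'.2 (congrArg Subtype.val e)
        simp [hj, e1, e2]
      · have hj' : (j : α) ∈ ({(i : α), a} : Finset α) := by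
          rw [← hcO]; exact mem_inter.mpr ⟨mem_supp.mpr hj, j.2⟩
        rw [z2_ne_zero hj]
        rcases mem_insert.mp hj' with e | e
        · have e1 : j = i := Subtype.ext e
          subst e1
          simp [hi]
        · have e1 : j = ⟨a, ha⟩ := Subtype.ext (mem_singleton.mp e)
          subst e1
          simp [hi.symm]
    have hv' : v = ∑ i : O, v i • (Pi.single i 1 + Pi.single (⟨a, ha⟩ : O) 1) := by
      simp_rw [smul_add, Finset.sum_add_distrib, ← Finset.sum_smul, ← pi_eq_sum_univ' v]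
      rw [show ∑ i, v i = 0 from LinearMap.mem_ker.mp hv, zero_smul, add_zero]
    rw [hv']
    refine Submodule.sum_mem _ fun i _ => ?_
    by_cases hi : i = ⟨a, ha⟩
    · rw [hi, pi_add_self, smul_zero]; exact zero_mem _
    · exact Submodule.smul_mem _ _ (hpair i hi)
  have hk5 : Module.finrank (ZMod 2) res.ker = 5 := by
    have h1 := LinearMap.finrank_range_add_finrank_ker res
    have h2 := LinearMap.finrank_range_add_finrank_ker σ
    have hs : σ.range = ⊤ := LinearMap.range_eq_top.mpr fun r => ⟨Pi.single ⟨a, ha⟩ r, by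
      show ∑ i : O, Pi.single (⟨a, ha⟩ : O) r i = r
      rw [Finset.sum_pi_single']; simp⟩
    rw [hs, finrank_top, Module.finrank_self, Module.finrank_pi, Fintype.card_coe, hO8] at h2
    rw [hrange, h.rank] at h1
    omega
  set k1 : res.ker := ⟨⟨(fun _ => 1) + ind O, add_mem h.one_mem hO⟩, by
    refine LinearMap.mem_ker.mpr (funext fun i => ?_)
    show (1 : ZMod 2) + ind O i = 0
    simp [ind, i.2]; decide⟩
  have hk1off : ∀ p ∉ O, ((k1 : C) : α → ZMod 2) p = 1 := fun p hp => by simp [k1, ind, hp]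
  obtain ⟨q, hq⟩ : ∃ q, q ∉ O := by
    by_contra hh
    push Not at hh
    have := card_le_card (show (univ : Finset α) ⊆ O from fun x _ => hh x)
    rw [card_univ, h.card] at this; omega
  have hk1 : k1 ≠ 0 := fun e => by
    have h1 := hk1off q hq
    rw [e] at h1
    exact zero_ne_one h1
  obtain ⟨W, hW⟩ := (Submodule.span (ZMod 2) {k1}).exists_isCompl
  have hW4 : Module.finrank (ZMod 2) W = 4 := by
    have := Submodule.finrank_add_eq_of_isCompl hW
    rw [finrank_span_singleton hk1, hk5] at this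
    omega
  let b : Module.Basis (Fin 4) (ZMod 2) W := Module.finBasisOfFinrankEq (ZMod 2) W hW4
  let col : {p : α // p ∉ O} → (Fin 4 → ZMod 2) := fun p i => (((b i : W) : res.ker) : C).1 p
  have hsound : ∀ c ∈ C, (∀ p ∈ O, c p = 0) →
      ∃ (x : ZMod 2) (r : Fin 4 → ZMod 2), ∀ p : {p : α // p ∉ O}, c p = x + ∑ i, r i * col p i := by
    intro c hc hz
    set k : res.ker := ⟨⟨c, hc⟩, LinearMap.mem_ker.mpr (funext fun i => hz i i.2)⟩
    obtain ⟨y, hy, w, hw, hyw⟩ := Submodule.mem_sup.mp (hW.sup_eq_top ▸ Submodule.mem_top : k ∈ _ ⊔ W)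
    obtain ⟨x, rfl⟩ := Submodule.mem_span_singleton.mp hy
    refine ⟨x, fun i => b.repr ⟨w, hw⟩ i, fun p => ?_⟩
    have e1 := congrArg (fun z : res.ker => ((z : C) : α → ZMod 2) p) hyw
    have e2 := congrArg (fun z : W => (((z : res.ker) : C) : α → ZMod 2) p) (b.sum_repr ⟨w, hw⟩)
    simp only [Submodule.coe_add, Submodule.coe_smul, Pi.add_apply, Pi.smul_apply, smul_eq_mul,
      hk1off p p.2, mul_one] at e1
    simp only [Submodule.coe_sum, Submodule.coe_smul, Finset.sum_apply, Pi.smul_apply, smul_eq_mul] at e2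
    rw [show c p = ((k : C) : α → ZMod 2) p from rfl, ← e1, ← e2]
  have hinj : Function.Injective col := by
    intro p q hpq
    refine Subtype.ext (h.separates hO8 hO p.2 q.2 fun c hc hz => ?_)
    obtain ⟨x, r, hx⟩ := hsound c hc hz
    rw [hx p, hx q, hpq]
  have hbij : Function.Bijective col := by
    refine (Fintype.bijective_iff_injective_and_card _).mpr ⟨hinj, ?_⟩
    rw [Fintype.card_subtype_compl, h.card, Fintype.card_coe, hO8, Fintype.card_fun]
    simp [ZMod.card]
  refine ⟨⟨Equiv.ofBijective col hbij, hsound, fun x r => ?_⟩⟩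
  refine ⟨((x • k1 + ((∑ i, r i • b i : W) : res.ker) : res.ker) : C), Subtype.coe_prop _, fun p hp => ?_,
    fun p => ?_⟩
  · exact congrFun (LinearMap.mem_ker.mp (x • k1 + ((∑ i, r i • b i : W) : res.ker) : res.ker).2) ⟨p, hp⟩
  · simp [hk1off p p.2, col, Equiv.ofBijective_apply]

end IsDE

section Compare

variable {β : Type*} [Fintype β] [DecidableEq β]
  {C : Submodule (ZMod 2) (α → ZMod 2)} {D : Submodule (ZMod 2) (β → ZMod 2)}

/-- `P` and `Q` are traces on the octads of words agreeing outside. -/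
def Match (C : Submodule (ZMod 2) (α → ZMod 2)) (D : Submodule (ZMod 2) (β → ZMod 2)) (O : Finset α)
    (O' : Finset β) (σ : {p : α // p ∉ O} ≃ {p : β // p ∉ O'}) (P : Finset α) (Q : Finset β) : Prop :=
  ∃ c ∈ C, ∃ d ∈ D, supp c ∩ O = P ∧ supp d ∩ O' = Q ∧ ∀ p, d (σ p) = c p

theorem card_sdiff_supp {O : Finset α} {O' : Finset β} (σ : {p : α // p ∉ O} ≃ {p : β // p ∉ O'})
    {c : α → ZMod 2} {d : β → ZMod 2} (h : ∀ p, d (σ p) = c p) : (supp c \ O).card = (supp d \ O').card := by
  refine Finset.card_bij (fun p hp => (σ ⟨p, (mem_sdiff.mp hp).2⟩ : β)) (fun p hp => ?_) (fun p hp q hq e => ?_)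
    (fun y hy => ?_)
  · refine mem_sdiff.mpr ⟨mem_supp.mpr ?_, (σ _).2⟩
    rw [h]
    exact mem_supp.mp (mem_sdiff.mp hp).1
  · exact congrArg Subtype.val (σ.injective (Subtype.ext e))
  · rw [mem_sdiff, mem_supp] at hy
    refine ⟨σ.symm ⟨y, hy.2⟩, mem_sdiff.mpr ⟨mem_supp.mpr ?_, (σ.symm _).2⟩, by simp⟩
    have := h (σ.symm ⟨y, hy.2⟩)
    rw [Equiv.apply_symm_apply] at this
    rw [← this]; exact hy.1

/-- A family of at least four pairwise meeting pairs is a star. -/
theorem exists_star {ι γ : Type*} [DecidableEq γ] (f : ι → Finset γ) (h2 : ∀ i, (f i).card = 2)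
    (hm : ∀ i j, i ≠ j → (f i ∩ f j).card = 1) [Fintype ι] (h4 : 4 ≤ Fintype.card ι) :
    ∃ a, ∀ i, a ∈ f i := by
  classical
  obtain ⟨i₀, i₁, hne⟩ := Fintype.exists_pair_of_one_lt_card (by omega : 1 < Fintype.card ι)
  obtain ⟨a, ha⟩ := card_eq_one.mp (hm i₀ i₁ hne)
  have ha0 : a ∈ f i₀ := (mem_inter.mp (ha ▸ mem_singleton_self a : a ∈ f i₀ ∩ f i₁)).1
  have ha1 : a ∈ f i₁ := (mem_inter.mp (ha ▸ mem_singleton_self a : a ∈ f i₀ ∩ f i₁)).2
  obtain ⟨b, hb0, hb⟩ : ∃ b, f i₀ = {a, b} ∧ a ≠ b := by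
    obtain ⟨x, y, hxy, e⟩ := card_eq_two.mp (h2 i₀)
    rw [e] at ha0
    rcases mem_insert.mp ha0 with rfl | h
    · exact ⟨y, e, hxy⟩
    · rw [mem_singleton] at h; subst h
      exact ⟨x, by rw [e, pair_comm], hxy.symm⟩
  obtain ⟨c, hc0, hc⟩ : ∃ c, f i₁ = {a, c} ∧ a ≠ c := by
    obtain ⟨x, y, hxy, e⟩ := card_eq_two.mp (h2 i₁)
    rw [e] at ha1
    rcases mem_insert.mp ha1 with rfl | h
    · exact ⟨y, e, hxy⟩
    · rw [mem_singleton] at h; subst h
      exact ⟨x, by rw [e, pair_comm], hxy.symm⟩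
  have hbc : b ≠ c := by
    intro e
    have h := hm i₀ i₁ hne
    rw [hb0, hc0, e, inter_self, card_pair hc] at h
    omega
  refine ⟨a, ?_⟩
  by_contra hh
  push Not at hh
  obtain ⟨j, hj⟩ := hh
  -- the odd pair is `{b, c}`
  have hsub : ∀ k, a ∉ f k → f k = {b, c} := by
    intro k hk
    have hb' : b ∈ f k := by
      obtain ⟨z, hz⟩ := card_pos.mp (show 0 < (f k ∩ f i₀).card by
        rw [hm k i₀ (fun e => hk (e ▸ ha0))]; norm_num)
      rw [mem_inter, hb0, mem_insert, mem_singleton] at hz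
      rcases hz.2 with e | e
      · exact absurd (e ▸ hz.1) hk
      · exact e ▸ hz.1
    have hc' : c ∈ f k := by
      obtain ⟨z, hz⟩ := card_pos.mp (show 0 < (f k ∩ f i₁).card by
        rw [hm k i₁ (fun e => hk (e ▸ ha1))]; norm_num)
      rw [mem_inter, hc0, mem_insert, mem_singleton] at hz
      rcases hz.2 with e | e
      · exact absurd (e ▸ hz.1) hk
      · exact e ▸ hz.1
    exact (eq_of_subset_of_card_le (insert_subset_iff.mpr ⟨hb', singleton_subset_iff.mpr hc'⟩)
      (by rw [h2, card_pair hbc])).symm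
  have hjbc := hsub j hj
  have hall : (univ : Finset ι) ⊆ {i₀, i₁, j} := by
    intro k _
    by_contra hk
    simp only [mem_insert, mem_singleton, not_or] at hk
    by_cases hak : a ∈ f k
    · obtain ⟨z, hz⟩ := card_pos.mp (show 0 < (f k ∩ f j).card by rw [hm k j hk.2.2]; norm_num)
      rw [mem_inter, hjbc, mem_insert, mem_singleton] at hz
      rcases hz.2 with rfl | rfl
      · have e : f k = f i₀ := by
          rw [hb0]
          exact (eq_of_subset_of_card_le (insert_subset_iff.mpr ⟨hak, singleton_subset_iff.mpr hz.1⟩)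
            (by rw [h2, card_pair hb])).symm
        have h := hm k i₀ hk.1
        rw [e, inter_self, h2] at h
        omega
      · have e : f k = f i₁ := by
          rw [hc0]
          exact (eq_of_subset_of_card_le (insert_subset_iff.mpr ⟨hak, singleton_subset_iff.mpr hz.1⟩)
            (by rw [h2, card_pair hc])).symm
        have h := hm k i₁ hk.2.1
        rw [e, inter_self, h2] at h
        omega
    · have h := hm k j hk.2.2
      rw [hsub k hak, hjbc, inter_self, card_pair hbc] at h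
      omega
  have hcard := card_le_card hall
  have := card_insert_le i₀ ({i₁, j} : Finset ι)
  have := card_insert_le i₁ ({j} : Finset ι)
  rw [card_univ] at hcard
  rw [card_singleton] at *
  omega

theorem exists_equiv (hC : IsDE C) (hD : IsDE D) : ∃ e : α ≃ β, ∀ w, w ∈ D ↔ (fun p => w (e p)) ∈ C := by
  classical
  obtain ⟨O, hO8, hO⟩ := hC.exists_octad
  obtain ⟨O', hO8', hO'⟩ := hD.exists_octad
  obtain ⟨F⟩ := hC.nonempty_frame hO8 hO
  obtain ⟨F'⟩ := hD.nonempty_frame hO8' hO'
  set σ : {p : α // p ∉ O} ≃ {p : β // p ∉ O'} := F.col.trans F'.col.symm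
  have hker : ∀ c ∈ C, (∀ p ∈ O, c p = 0) → ∃ d ∈ D, (∀ q ∈ O', d q = 0) ∧ ∀ p, d (σ p) = c p := by
    intro c hc hz
    obtain ⟨a, r, ha⟩ := F.sound c hc hz
    obtain ⟨d, hd, hd0, hd1⟩ := F'.complete a r
    refine ⟨d, hd, hd0, fun p => ?_⟩
    rw [ha, hd1]
    simp [σ]
  have hker' : ∀ d ∈ D, (∀ q ∈ O', d q = 0) → ∃ c ∈ C, (∀ p ∈ O, c p = 0) ∧ ∀ p, d (σ p) = c p := by
    intro d hd hz
    obtain ⟨a, r, ha⟩ := F'.sound d hd hz
    obtain ⟨c, hc, hc0, hc1⟩ := F.complete a r
    refine ⟨c, hc, hc0, fun p => ?_⟩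
    rw [ha, hc1]
    simp [σ]
  have hmatch : ∀ P ⊆ O, P.card = 2 → ∃ Q, Q.card = 2 ∧ Q ⊆ O' ∧ Match C D O O' σ P Q := by
    intro P hP hP2
    obtain ⟨c, hc, hcP⟩ := hC.exists_pair hO8 hP hP2
    let v : β → ZMod 2 := fun q => if hq : q ∈ O' then 0 else c (σ.symm ⟨q, hq⟩)
    obtain ⟨d, hd, hdv⟩ := hD.extend O' v fun d hd hz => by
      obtain ⟨k, hk, hk0, hkd⟩ := hker' d hd hz
      rw [← hC.orth c hc k hk, ← Finset.sum_subset (subset_univ O'ᶜ) (fun q _ hq => by
          rw [mem_compl, not_not] at hq; simp [v, hq]),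
        ← Finset.sum_subset (subset_univ Oᶜ) (fun p _ hp => by
          rw [mem_compl, not_not] at hp; simp [hk0 p hp])]
      refine Finset.sum_bij (fun q hq => ((σ.symm ⟨q, mem_compl.mp hq⟩ : {p : α // p ∉ O}) : α))
        (fun q hq => mem_compl.mpr (σ.symm _).2)
        (fun q hq q' hq' e => congrArg Subtype.val (σ.symm.injective (Subtype.ext e)))
        (fun p hp => ⟨σ ⟨p, mem_compl.mp hp⟩, mem_compl.mpr (σ _).2, by simp⟩) (fun q hq => ?_)
      have hq' := mem_compl.mp hq
      rw [show v q = c (σ.symm ⟨q, hq'⟩) from dif_neg hq']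
      congr 1
      rw [← hkd, Equiv.apply_symm_apply]
    have hagree : ∀ p, d (σ p) = c p := fun p => by
      rw [hdv _ (σ p).2, show v (σ p) = c (σ.symm (σ p)) from dif_neg (σ p).2, Equiv.symm_apply_apply]
    have h1 := card_inter_add_card_sdiff (supp c) O
    have h2 := card_inter_add_card_sdiff (supp d) O'
    rw [hcP, hP2, card_sdiff_supp σ hagree] at h1
    have h3 := hD.inter_octad hO' hd
    have h4 := hC.card_supp_mod hc
    have h5 := hD.card_supp_mod hd
    have h6 := card_le_card (inter_subset_right : supp d ∩ O' ⊆ O')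
    rcases (show (supp d ∩ O').card = 2 ∨ (supp d ∩ O').card = 6 by omega) with hm | hm
    · exact ⟨_, hm, inter_subset_right, c, hc, d, hd, hcP, rfl, hagree⟩
    · refine ⟨_, ?_, inter_subset_right, c, hc, d + ind O', add_mem hd hO', hcP, rfl, fun p => ?_⟩
      · have e : supp (d + ind O') ∩ O' = O' \ supp d := by
          rw [supp_add, supp_ind]
          ext q; simp [Finset.mem_symmDiff]; tauto
        rw [e]
        have := card_inter_add_card_sdiff O' (supp d)
        rw [inter_comm] at hm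
        omega
      · rw [Pi.add_apply, hagree]
        simp [ind, (σ p).2]
  choose! f hf2 hfO hfM using hmatch
  have hmeet : ∀ P₁ ⊆ O, ∀ P₂ ⊆ O, P₁.card = 2 → P₂.card = 2 → (P₁ ∩ P₂).card = 1 →
      (f P₁ ∩ f P₂).card = 1 := by
    intro P₁ hP₁ P₂ hP₂ h1 h2 hi
    obtain ⟨c₁, hc₁, d₁, hd₁, e₁, e₁', a₁⟩ := hfM P₁ hP₁ h1
    obtain ⟨c₂, hc₂, d₂, hd₂, e₂, e₂', a₂⟩ := hfM P₂ hP₂ h2
    have hag : ∀ p, (d₁ + d₂) (σ p) = (c₁ + c₂) p := fun p => by simp [a₁, a₂]
    have g1 := card_inter_add_card_sdiff (supp (c₁ + c₂)) O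
    have g2 := card_inter_add_card_sdiff (supp (d₁ + d₂)) O'
    rw [card_sdiff_supp σ hag] at g1
    have eS : supp (c₁ + c₂) ∩ O = symmDiff P₁ P₂ := by
      rw [supp_add, ← e₁, ← e₂]
      ext q; simp [Finset.mem_symmDiff]; tauto
    have eS' : supp (d₁ + d₂) ∩ O' = symmDiff (f P₁) (f P₂) := by
      rw [supp_add, ← e₁', ← e₂']
      ext q; simp [Finset.mem_symmDiff]; tauto
    rw [eS] at g1
    rw [eS'] at g2
    have g3 := card_symmDiff' P₁ P₂
    have g4 := card_symmDiff' (f P₁) (f P₂)
    rw [h1, h2, hi] at g3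
    rw [hf2 P₁ hP₁ h1, hf2 P₂ hP₂ h2] at g4
    have g5 := hC.card_supp_mod (add_mem hc₁ hc₂)
    have g6 := hD.card_supp_mod (add_mem hd₁ hd₂)
    omega
  obtain ⟨a, ha⟩ := card_pos.mp (by omega : 0 < O.card)
  set ι := {i // i ∈ O.erase a}
  have hiota : Fintype.card ι = 7 := by rw [Fintype.card_coe, card_erase_of_mem ha, hO8]
  have hne : ∀ i : ι, a ≠ (i : α) := fun i => (ne_of_mem_erase i.2).symm
  have hsub : ∀ i : ι, ({a, (i : α)} : Finset α) ⊆ O := fun i =>
    insert_subset_iff.mpr ⟨ha, singleton_subset_iff.mpr (mem_of_mem_erase i.2)⟩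
  have hpc : ∀ i : ι, ({a, (i : α)} : Finset α).card = 2 := fun i => card_pair (hne i)
  have hgm : ∀ i j : ι, i ≠ j → (f {a, (i : α)} ∩ f {a, (j : α)}).card = 1 := by
    intro i j hij
    refine hmeet _ (hsub i) _ (hsub j) (hpc i) (hpc j) ?_
    rw [card_eq_one]
    refine ⟨a, ?_⟩
    ext q
    simp only [mem_inter, mem_insert, mem_singleton]
    constructor
    · rintro ⟨rfl | rfl, h | h⟩
      · rfl
      · rfl
      · exact h
      · exact absurd (Subtype.ext h) hij
    · rintro rfl; simp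
  obtain ⟨a', ha'⟩ := exists_star (fun i : ι => f {a, (i : α)}) (fun i => hf2 _ (hsub i) (hpc i)) hgm
    (by omega)
  have hoth : ∀ i : ι, ∃ b ∈ O', b ≠ a' ∧ f {a, (i : α)} = {a', b} := by
    intro i
    obtain ⟨x, y, hxy, e⟩ := card_eq_two.mp (hf2 _ (hsub i) (hpc i))
    have hm := ha' i
    have hs := hfO _ (hsub i) (hpc i)
    rw [e] at hm hs
    rcases mem_insert.mp hm with rfl | hm
    · exact ⟨y, hs (by simp), hxy.symm, e⟩
    · rw [mem_singleton] at hm; subst hm
      exact ⟨x, hs (by simp), hxy, by rw [e, pair_comm]⟩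
  choose g hgO hga hgf using hoth
  have ha'O : a' ∈ O' := by
    obtain ⟨i⟩ : Nonempty ι := Fintype.card_pos_iff.mp (by omega)
    exact hfO _ (hsub i) (hpc i) (ha' i)
  let π : {p // p ∈ O} → {q // q ∈ O'} := fun p =>
    if hp : (p : α) = a then ⟨a', ha'O⟩ else ⟨g ⟨p, mem_erase.mpr ⟨hp, p.2⟩⟩, hgO _⟩
  have hπinj : Function.Injective π := by
    intro p q e
    by_cases hp : (p : α) = a <;> by_cases hq : (q : α) = a
    · exact Subtype.ext (hp.trans hq.symm)
    · simp only [π, dif_pos hp, dif_neg hq, Subtype.mk.injEq] at e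
      exact absurd e.symm (hga _)
    · simp only [π, dif_neg hp, dif_pos hq, Subtype.mk.injEq] at e
      exact absurd e (hga _)
    · simp only [π, dif_neg hp, dif_neg hq, Subtype.mk.injEq] at e
      by_contra hpq
      have h := hgm ⟨p, mem_erase.mpr ⟨hp, p.2⟩⟩ ⟨q, mem_erase.mpr ⟨hq, q.2⟩⟩
        (fun e' => hpq (Subtype.ext (congrArg (fun z : ι => (z : α)) e')))
      rw [hgf, hgf, e, inter_self, card_pair (hga _).symm] at h
      omega
  have hπ : Function.Bijective π :=
    (Fintype.bijective_iff_injective_and_card _).mpr ⟨hπinj, by rw [Fintype.card_coe, Fintype.card_coe, hO8, hO8']⟩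
  let e : α ≃ β := (Equiv.sumCompl (· ∈ O)).symm.trans
    (((Equiv.ofBijective π hπ).sumCongr σ).trans (Equiv.sumCompl (· ∈ O')))
  have eO : ∀ (p : α) (hp : p ∈ O), e p = π ⟨p, hp⟩ := fun p hp => by
    simp [e, Equiv.sumCompl_symm_apply_of_pos hp]
  have eOff : ∀ (p : α) (hp : p ∉ O), e p = σ ⟨p, hp⟩ := fun p hp => by
    simp [e, Equiv.sumCompl_symm_apply_of_neg hp]
  let M : (α → ZMod 2) ≃ₗ[ZMod 2] (β → ZMod 2) := LinearEquiv.funCongrLeft (ZMod 2) (ZMod 2) e.symm
  have hM : ∀ (c : α → ZMod 2) (q : β), M c q = c (e.symm q) := fun _ _ => rfl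
  have hgen : ∀ i : ι, ∃ c ∈ C, supp c ∩ O = {a, (i : α)} ∧ M c ∈ D := by
    intro i
    obtain ⟨c, hc, d, hd, ec, ed, hag⟩ := hfM _ (hsub i) (hpc i)
    refine ⟨c, hc, ec, ?_⟩
    suffices M c = d by rw [this]; exact hd
    funext q
    rw [hM]
    obtain ⟨p, rfl⟩ := e.surjective q
    rw [Equiv.symm_apply_apply]
    by_cases hp : p ∈ O
    · rw [eO p hp]
      have key : c p ≠ 0 ↔ d (π ⟨p, hp⟩) ≠ 0 := by
        have k1 : c p ≠ 0 ↔ p ∈ ({a, (i : α)} : Finset α) := by
          rw [← ec, mem_inter, mem_supp]; exact ⟨fun h => ⟨h, hp⟩, fun h => h.1⟩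
        have k2 : d (π ⟨p, hp⟩) ≠ 0 ↔ ((π ⟨p, hp⟩ : {q // q ∈ O'}) : β) ∈ ({a', g i} : Finset β) := by
          rw [← hgf i, ← ed, mem_inter, mem_supp]
          exact ⟨fun h => ⟨h, (π _).2⟩, fun h => h.1⟩
        rw [k1, k2]
        simp only [mem_insert, mem_singleton]
        by_cases hpa : p = a
        · simp [π, hpa]
        · simp only [π, dif_neg hpa, hpa, false_or]
          constructor
          · intro h
            refine Or.inr (congrArg g (Subtype.ext ?_))
            exact h
          · rintro (h | h)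
            · exact absurd h (hga _)
            · have h1 : π ⟨p, hp⟩ = π ⟨i, mem_of_mem_erase i.2⟩ := by
                simp only [π, dif_neg hpa, dif_neg (ne_of_mem_erase i.2)]
                exact Subtype.ext h
              exact congrArg Subtype.val (hπinj h1)
      rcases z2_cases (c p) with h0 | h0
      · rw [h0]
        by_contra h
        exact key.mpr (Ne.symm h) h0
      · rw [h0, z2_ne_zero (key.mp (by rw [h0]; exact one_ne_zero))]
    · rw [eOff p hp, hag]
  choose cg hcgC hcgO hcgM using hgen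
  have hinto : ∀ c ∈ C, M c ∈ D := by
    intro c hc
    set s : α → ZMod 2 := ∑ i : ι, c i • cg i with hs
    have hsC : s ∈ C := Submodule.sum_mem _ fun i _ => Submodule.smul_mem _ _ (hcgC i)
    have hsD : M s ∈ D := by
      rw [hs, map_sum]
      exact Submodule.sum_mem _ fun i _ => by rw [map_smul]; exact Submodule.smul_mem _ _ (hcgM i)
    have hcgval : ∀ (i : ι) (p : α), p ∈ O → cg i p = ind {a, (i : α)} p := fun i p hp => by
      rw [← hcgO i]
      rcases z2_cases (cg i p) with h0 | h0 <;> simp [ind, mem_supp, hp, h0]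
    have hz : ∀ p ∈ O, (c + s) p = 0 := by
      intro p hp
      have hsp : s p = ∑ i : ι, c i * ind {a, (i : α)} p := by
        rw [hs, Finset.sum_apply]
        exact Finset.sum_congr rfl fun i _ => by rw [Pi.smul_apply, smul_eq_mul, hcgval i p hp]
      by_cases hpa : p = a
      · subst hpa
        have h1 : ∑ i, c i * ind O i = 0 := hC.orth c hc _ hO
        rw [← Finset.sum_subset (subset_univ O) (fun x _ hx => by simp [ind, hx]),
          ← Finset.add_sum_erase O _ ha, ← Finset.sum_coe_sort (O.erase p)] at h1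
        rw [Pi.add_apply, hsp, ← h1]
        congr 1
        · simp [ind, ha]
        · exact Finset.sum_congr rfl fun i _ => by simp [ind, mem_of_mem_erase i.2]
      · rw [Pi.add_apply, hsp, Finset.sum_eq_single (⟨p, mem_erase.mpr ⟨hpa, hp⟩⟩ : ι)
          (fun j _ hj => by
            have : p ∉ ({a, (j : α)} : Finset α) := by
              simp only [mem_insert, mem_singleton, not_or]
              exact ⟨hpa, fun e => hj (Subtype.ext e.symm)⟩
            simp [ind, this])
          (fun h => absurd (mem_univ _) h)]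
        simp [ind, CharTwo.add_self_eq_zero]
    obtain ⟨d, hd, hd0, hd1⟩ := hker _ (add_mem hc hsC) hz
    have e2 : M (c + s) = d := by
      funext q
      rw [hM]
      obtain ⟨p, rfl⟩ := e.surjective q
      rw [Equiv.symm_apply_apply]
      by_cases hp : p ∈ O
      · rw [hz p hp, eO p hp, hd0 _ (π _).2]
      · rw [eOff p hp, hd1]
    have e3 : c = c + s + s := by rw [add_assoc, pi_add_self, add_zero]
    rw [e3, map_add, e2]
    exact add_mem hd hsD
  have heq : C.map (M : (α → ZMod 2) →ₗ[ZMod 2] (β → ZMod 2)) = D := by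
    refine Submodule.eq_of_le_of_finrank_le ?_ ?_
    · rintro _ ⟨c, hc, rfl⟩
      exact hinto c hc
    · rw [hD.rank, LinearEquiv.finrank_map_eq, hC.rank]
  refine ⟨e, fun w => ⟨fun hw => ?_, fun hw => ?_⟩⟩
  · rw [← heq] at hw
    obtain ⟨c, hc, rfl⟩ := hw
    have e4 : (fun p => M c (e p)) = c := funext fun p => by rw [hM, Equiv.symm_apply_apply]
    exact e4.symm ▸ hc
  · rw [← heq]
    exact ⟨_, hw, funext fun q => by show M _ q = w q; rw [hM, Equiv.apply_symm_apply]⟩

end Compare

end CfsgLib.SmallGroups.CodeUnique
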