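import Mathlib

/-!
# Self-dual doubly even binary codes of length 24 without words of weight 4: basic facts
-/

set_option autoImplicit false

namespace CfsgLib.SmallGroups.CodeUnique

open Finset Submodule

variable {α : Type*} [Fintype α]

/-- A self-dual doubly even `[24,12,8]` binary code. -/
structure IsDE (C : Submodule (ZMod 2) (α → ZMod 2)) : Prop where
  card : Fintype.card α = 24
  rank : Module.finrank (ZMod 2) C = 12
  orth : ∀ v ∈ C, ∀ w ∈ C, ∑ i, v i * w i = 0
  four : ∀ w ∈ C, 4 ∣ hammingNorm w
  no_four : ∀ w ∈ C, hammingNorm w ≠ 4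

theorem z2_cases : ∀ x : ZMod 2, x = 0 ∨ x = 1 := by decide

theorem z2_ne_zero : ∀ {x : ZMod 2}, x ≠ 0 → x = 1 := by decide

/-- The functionals given by the inner product. -/
noncomputable def pairing (C : Submodule (ZMod 2) (α → ZMod 2)) :
    (α → ZMod 2) →ₗ[ZMod 2] Module.Dual (ZMod 2) C where
  toFun v :=
    { toFun := fun c => ∑ i, v i * (c : α → ZMod 2) i
      map_add' := fun a b => by simp [mul_add, Finset.sum_add_distrib]
      map_smul' := fun r a => by simp [Finset.mul_sum, mul_left_comm] }
  map_add' a b := LinearMap.ext fun c => by simp [add_mul, Finset.sum_add_distrib]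
  map_smul' r a := LinearMap.ext fun c => by simp [Finset.mul_sum, mul_assoc]

theorem pairing_apply (C : Submodule (ZMod 2) (α → ZMod 2)) (v : α → ZMod 2) (c : C) :
    pairing C v c = ∑ i, v i * (c : α → ZMod 2) i := rfl

theorem pairing_surjective (C : Submodule (ZMod 2) (α → ZMod 2)) : Function.Surjective (pairing C) := by
  classical
  intro f
  obtain ⟨g, hg⟩ := LinearMap.exists_extend f
  refine ⟨fun i => g (Pi.single i 1), LinearMap.ext fun c => ?_⟩
  rw [← hg, pairing_apply, LinearMap.comp_apply, Submodule.subtype_apply]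
  conv_rhs => rw [pi_eq_sum_univ' (c : α → ZMod 2), map_sum]
  refine Finset.sum_congr rfl fun i _ => ?_
  rw [map_smul, smul_eq_mul, mul_comm]

theorem finrank_perp (C : Submodule (ZMod 2) (α → ZMod 2)) :
    Module.finrank (ZMod 2) (pairing C).ker + Module.finrank (ZMod 2) C = Fintype.card α := by
  have h := LinearMap.finrank_range_add_finrank_ker (pairing C)
  rw [LinearMap.range_eq_top.mpr (pairing_surjective C), finrank_top, Subspace.dual_finrank_eq,
    Module.finrank_pi] at h
  omega

theorem mem_perp {C : Submodule (ZMod 2) (α → ZMod 2)} {v : α → ZMod 2} :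
    v ∈ (pairing C).ker ↔ ∀ c ∈ C, ∑ i, v i * c i = 0 :=
  ⟨fun h c hc => LinearMap.congr_fun h ⟨c, hc⟩, fun h => LinearMap.ext fun c => h c c.2⟩

variable [DecidableEq α]

/-- The word with a given support. -/
def ind (S : Finset α) : α → ZMod 2 := fun p => if p ∈ S then 1 else 0

/-- The support of a word. -/
def supp (v : α → ZMod 2) : Finset α := univ.filter fun p => v p ≠ 0

omit [DecidableEq α] in
theorem mem_supp {v : α → ZMod 2} {p : α} : p ∈ supp v ↔ v p ≠ 0 := by simp [supp]

omit [DecidableEq α] in
theorem hammingNorm_eq (v : α → ZMod 2) : hammingNorm v = (supp v).card := rfl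

theorem supp_ind (S : Finset α) : supp (ind S) = S := by
  ext p; simp [supp, ind]

theorem ind_supp (v : α → ZMod 2) : ind (supp v) = v := by
  funext p
  by_cases h : v p = 0
  · simp [ind, supp, h]
  · simp [ind, supp, z2_ne_zero h]

omit [Fintype α] in
theorem ind_inj {S T : Finset α} (h : ind S = ind T) : S = T := by
  ext p
  have := congrFun h p
  by_cases h1 : p ∈ S <;> by_cases h2 : p ∈ T <;> simp_all [ind]

theorem ind_add (S T : Finset α) : ind S + ind T = ind (symmDiff S T) := by
  funext p
  by_cases h1 : p ∈ S <;> by_cases h2 : p ∈ T <;> simp [ind, Finset.mem_symmDiff, h1, h2] <;> decide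

theorem supp_add (v w : α → ZMod 2) : supp (v + w) = symmDiff (supp v) (supp w) := by
  conv_lhs => rw [← ind_supp v, ← ind_supp w, ind_add, supp_ind]

theorem dot_eq (v w : α → ZMod 2) : ∑ i, v i * w i = (((supp v) ∩ (supp w)).card : ZMod 2) := by
  rw [← Finset.sum_subset (subset_univ (supp v ∩ supp w)) (fun p _ hp => by
      rw [mem_inter, mem_supp, mem_supp] at hp
      by_cases h : v p = 0
      · simp [h]
      · simp [not_not.mp (fun h' => hp ⟨h, h'⟩)]),
    Finset.card_eq_sum_ones, Nat.cast_sum]
  refine Finset.sum_congr rfl fun p hp => ?_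
  rw [mem_inter, mem_supp, mem_supp] at hp
  rw [z2_ne_zero hp.1, z2_ne_zero hp.2, mul_one, Nat.cast_one]

theorem dot_ind (v : α → ZMod 2) (S : Finset α) : ∑ i, v i * ind S i = ((supp v ∩ S).card : ZMod 2) := by
  rw [dot_eq, supp_ind]

theorem card_symmDiff' (S T : Finset α) : (symmDiff S T).card + 2 * (S ∩ T).card = S.card + T.card := by
  have h1 := card_union_add_card_inter S T
  have h2 : symmDiff S T = (S ∪ T) \ (S ∩ T) := by
    ext p; simp [Finset.mem_symmDiff]; tauto
  rw [h2, card_sdiff_of_subset (inter_subset_union)]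
  have := card_le_card (inter_subset_union (s := S) (t := T))
  omega

namespace IsDE

variable {C : Submodule (ZMod 2) (α → ZMod 2)}

omit [DecidableEq α] in
theorem mem_of_perp (h : IsDE C) {v : α → ZMod 2} (hv : ∀ c ∈ C, ∑ i, v i * c i = 0) : v ∈ C := by
  have hle : C ≤ (pairing C).ker := fun c hc => mem_perp.mpr fun d hd => h.orth c hc d hd
  have hr := finrank_perp C
  rw [h.rank, h.card] at hr
  have he : C = (pairing C).ker := Submodule.eq_of_le_of_finrank_le hle (by rw [h.rank]; omega)
  rw [he]
  exact mem_perp.mpr hv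

omit [DecidableEq α] in
theorem eq_zero (h : IsDE C) {w : α → ZMod 2} (hw : w ∈ C) (hlt : hammingNorm w < 8) : w = 0 := by
  obtain ⟨k, hk⟩ := h.four w hw
  have h4 := h.no_four w hw
  exact hammingNorm_eq_zero.mp (by omega)

theorem card_supp_mod (h : IsDE C) {w : α → ZMod 2} (hw : w ∈ C) : (supp w).card % 4 = 0 := by
  rw [← hammingNorm_eq]; exact Nat.mod_eq_zero_of_dvd (h.four w hw)

theorem one_mem (h : IsDE C) : (fun _ => 1) ∈ C := by
  refine h.mem_of_perp fun c hc => ?_
  rw [Finset.sum_congr rfl (fun i _ => mul_comm (1 : ZMod 2) (c i))]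
  have e : ∑ i, c i * (1 : ZMod 2) = ((supp c ∩ univ).card : ZMod 2) := by
    rw [← dot_ind]; simp [ind]
  rw [e, Finset.inter_univ, ZMod.natCast_eq_zero_iff_even, Nat.even_iff]
  have := h.card_supp_mod hc
  omega

/-- A word orthogonal to all code words vanishing on `S` agrees outside `S` with a code word. -/
theorem extend (h : IsDE C) (S : Finset α) (v : α → ZMod 2)
    (hv : ∀ c ∈ C, (∀ p ∈ S, c p = 0) → ∑ i, v i * c i = 0) : ∃ c ∈ C, ∀ p ∉ S, c p = v p := by
  let L : S → Module.Dual (ZMod 2) C := fun i => pairing C (Pi.single (i : α) 1)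
  have hL : ∀ (i : S) (c : C), L i c = (c : α → ZMod 2) i := fun i c => by
    simp only [L, pairing_apply]
    rw [Finset.sum_eq_single (i : α) (fun j _ hj => by simp [hj]) (fun hi => absurd (mem_univ _) hi)]
    simp
  have hspan : pairing C v ∈ Submodule.span (ZMod 2) (Set.range L) := by
    refine mem_span_of_iInf_ker_le_ker fun c hc => ?_
    rw [Submodule.mem_iInf] at hc
    refine hv c c.2 fun p hp => ?_
    have := hc ⟨p, hp⟩
    rw [LinearMap.mem_ker, hL] at this
    exact this
  obtain ⟨u, hu⟩ := (Submodule.mem_span_range_iff_exists_fun _).mp hspan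
  set u' : α → ZMod 2 := ∑ i, u i • Pi.single (i : α) (1 : ZMod 2) with hu'
  have e : pairing C u' = pairing C v := by
    rw [← hu, hu', map_sum]
    exact Finset.sum_congr rfl fun i _ => map_smul _ _ _
  refine ⟨v - u', h.mem_of_perp (mem_perp.mp (by rw [LinearMap.mem_ker, map_sub, e, sub_self])), fun p hp => ?_⟩
  have : u' p = 0 := by
    rw [hu', Finset.sum_apply]
    refine Finset.sum_eq_zero fun i _ => ?_
    simp [show p ≠ (i : α) from fun e => hp (e ▸ i.2)]
  simp [this]

end IsDE

end CfsgLib.SmallGroups.CodeUnique
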