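import Mathlib

/-!
# No nontrivial four-dimensional representation of a perfect group containing `5 : 4`

An element of order four cycling the four nontrivial eigenspaces of an element of order five
has determinant `-1`.
-/

set_option autoImplicit false

namespace CfsgLib.SmallGroups.CyclicShiftDet

open Module

variable {V : Type*} [AddCommGroup V] [Module ℂ V] [FiniteDimensional ℂ V]

/-- The determinant is `-1` once a primitive fifth root of unity is an eigenvalue. -/
theorem det_eq_neg_one (h4 : finrank ℂ V = 4) {T S : End ℂ V} (hST : T * S = S * T ^ 3)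
    (hS : S ^ 4 = 1) {ζ : ℂ} (hζ : IsPrimitiveRoot ζ 5) (hev : T.HasEigenvalue ζ) :
    LinearMap.det S = -1 := by
  obtain ⟨v, hv⟩ := hev.exists_hasEigenvector
  have hpow : ∀ (w : V) (c : ℂ), T w = c • w → ∀ n : ℕ, (T ^ n) w = c ^ n • w := by
    intro w c hw n
    induction n with
    | zero => simp
    | succ n ih => rw [pow_succ', Module.End.mul_apply, ih, map_smul, hw, smul_smul, pow_succ]
  have hstep : ∀ i : ℕ, T ((S ^ i) v) = ζ ^ (3 ^ i) • (S ^ i) v := by
    intro i
    induction i with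
    | zero => simpa using hv.apply_eq_smul
    | succ i ih =>
      rw [pow_succ' S, Module.End.mul_apply, ← Module.End.mul_apply T, hST, Module.End.mul_apply,
        hpow _ _ ih, map_smul, ← pow_mul, ← pow_succ]
  have hne : ∀ i : ℕ, i ≤ 4 → (S ^ i) v ≠ 0 := by
    intro i hi e
    apply hv.2
    have : (S ^ (4 - i)) ((S ^ i) v) = v := by
      rw [← Module.End.mul_apply, ← pow_add, Nat.sub_add_cancel hi, hS, Module.End.one_apply]
    rw [← this, e, map_zero]
  have hdist : Function.Injective (fun i : Fin 4 => ζ ^ (3 ^ (i : ℕ))) := by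
    intro i j h
    simp only at h
    have hi : ζ ^ ((3 : ℕ) ^ (i : ℕ) % 5) = ζ ^ ((3 : ℕ) ^ (j : ℕ) % 5) := by
      rw [pow_eq_pow_mod ((3 : ℕ) ^ (i : ℕ)) hζ.pow_eq_one, pow_eq_pow_mod ((3 : ℕ) ^ (j : ℕ)) hζ.pow_eq_one] at h
      exact h
    have h5 : (3 : ℕ) ^ (i : ℕ) % 5 = (3 : ℕ) ^ (j : ℕ) % 5 :=
      hζ.pow_inj (Nat.mod_lt _ (by norm_num)) (Nat.mod_lt _ (by norm_num)) hi
    revert h5
    fin_cases i <;> fin_cases j <;> decide
  have hli : LinearIndependent ℂ (fun i : Fin 4 => (S ^ (i : ℕ)) v) :=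
    Module.End.eigenvectors_linearIndependent' T _ hdist _ fun i =>
      ⟨Module.End.mem_eigenspace_iff.mpr (hstep i), hne i (by omega)⟩
  let b := basisOfLinearIndependentOfCardEqFinrank hli (by rw [Fintype.card_fin, h4])
  have hb : ∀ i : Fin 4, b i = (S ^ (i : ℕ)) v := fun i =>
    congrFun (coe_basisOfLinearIndependentOfCardEqFinrank hli _) i
  have hSb : ∀ i : Fin 4, S (b i) = b (i + 1) := by
    intro i
    rw [hb, hb, ← Module.End.mul_apply, ← pow_succ']
    fin_cases i
    · rfl
    · rfl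
    · rfl
    · show (S ^ 4) v = (S ^ 0) v
      rw [hS, pow_zero]
  rw [← LinearMap.det_toMatrix b]
  have hM : LinearMap.toMatrix b b S = !![0, 0, 0, 1; 1, 0, 0, 0; 0, 1, 0, 0; 0, 0, 1, 0] := by
    ext i j
    rw [LinearMap.toMatrix_apply, hSb, Basis.repr_self]
    fin_cases i <;> fin_cases j <;> simp [Fin.ext_iff]
  rw [hM]
  simp [Matrix.det_succ_row_zero, Fin.sum_univ_succ, Matrix.submatrix]
  norm_num [Fin.succAbove, Fin.lt_def]
  rfl

/-- The representation is then trivial at the element of order five. -/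
theorem map_eq_one {G : Type*} [Group G] (ρ : Representation ℂ G V) (h4 : finrank ℂ V = 4)
    (hperf : ∀ δ : G →* ℂˣ, δ = 1) {y u : G} (hy : y ^ 5 = 1) (hu : u ^ 4 = 1)
    (hrel : y * u = u * y ^ 3) : ρ y = 1 := by
  have hT5 : ρ y ^ 5 = 1 := by rw [← map_pow, hy, map_one]
  have hnone : ∀ ζ : ℂ, IsPrimitiveRoot ζ 5 → ¬ Module.End.HasEigenvalue (ρ y) ζ := by
    intro ζ hζ hev
    have hdet := det_eq_neg_one h4 (T := ρ y) (S := ρ u)
      (by rw [← map_mul, hrel, map_mul, map_pow]) (by rw [← map_pow, hu, map_one]) hζ hev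
    let δ : G →* ℂˣ := MonoidHom.toHomUnits (LinearMap.det.comp ρ)
    have h1 : ((δ u : ℂˣ) : ℂ) = 1 := by rw [hperf δ]; simp
    have h2 : ((δ u : ℂˣ) : ℂ) = LinearMap.det (ρ u) := rfl
    rw [h2, hdet] at h1
    norm_num at h1
  -- the minimal polynomial then has the root `1` only
  set T : Module.End ℂ V := ρ y
  have hsemi : T.IsSemisimple := by
    refine Module.End.isSemisimple_of_squarefree_aeval_eq_zero (p := Polynomial.X ^ 5 - 1) ?_ ?_
    · exact ((Polynomial.separable_X_pow_sub_C (1 : ℂ) (by norm_num) one_ne_zero).squarefree)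
    · simp [hT5]
  have hsup := Module.End.iSup_maxGenEigenspace_eq_top T
  have heq : ∀ μ : ℂ, T.maxGenEigenspace μ ≤ T.eigenspace 1 := by
    intro μ
    rw [hsemi.isFinitelySemisimple.maxGenEigenspace_eq_eigenspace]
    rcases eq_or_ne (T.eigenspace μ) ⊥ with h | h
    · rw [h]; exact bot_le
    obtain ⟨w, hw⟩ := (show T.HasEigenvalue μ from h).exists_hasEigenvector
    have h5 : μ ^ 5 = 1 := by
      have h' := hw.pow_apply 5
      rw [hT5, Module.End.one_apply] at h'
      by_contra hne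
      have : (μ ^ 5 - 1) • w = 0 := by rw [sub_smul, one_smul, ← h', sub_self]
      rcases smul_eq_zero.mp this with h0 | h0
      · exact hne (sub_eq_zero.mp h0)
      · exact hw.2 h0
    rcases eq_or_ne μ 1 with rfl | hμ
    · exact le_rfl
    · refine absurd h fun h => hnone μ ?_ h
      exact IsPrimitiveRoot.iff_orderOf.mpr (orderOf_eq_prime (hp := ⟨by norm_num⟩) h5 hμ)
  have htop : T.eigenspace 1 = ⊤ := top_le_iff.mp (hsup ▸ iSup_le heq)
  refine LinearMap.ext fun w => ?_
  have hw : w ∈ T.eigenspace 1 := htop ▸ Submodule.mem_top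
  rw [Module.End.mem_eigenspace_iff, one_smul] at hw
  exact hw

end CfsgLib.SmallGroups.CyclicShiftDet
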