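import Cfsg.Agent.Lib.SmallGroups.TwoClass
import Cfsg.Agent.Lib.SmallGroups.LocalTools

/-!
# The simple group of order 4080

There are 120, 136 and 136 Sylow subgroups for 17, 5 and 3, leaving 255 nontrivial 2-elements.
-/

set_option autoImplicit false

namespace CfsgLib.SmallGroups.Order4080

open Subgroup CfsgLib.SmallGroups.TwoClass CfsgLib.SmallGroups.SimpleTools

variable {G : Type*} [Group G] [Finite G] [IsSimpleGroup G]

theorem index_ge (h : Nat.card G = 4080) (H : Subgroup G) (hH : H ≠ ⊤) : 17 ≤ H.index := by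
  have hG : ¬ IsMulCommutative G := not_comm_of_card (by rw [h]; norm_num)
  by_contra hlt
  have h2 := two_mul_card_dvd_factorial hG H hH
  rw [h] at h2
  have h3 := (show 17 ∣ 2 * 4080 by norm_num).trans (h2.trans (Nat.factorial_dvd_factorial (show H.index ≤ 16 by omega)))
  norm_num [Nat.factorial] at h3

theorem seventeen (h : Nat.card G = 4080) :
    Nat.card (Sylow 17 G) = 120 ∧ ∀ P : Sylow 17 G, Nat.card (P : Subgroup G) = 17 ∧
      Nat.card (normalizer ((P : Subgroup G) : Set G)) = 34 ∧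
      Nat.card (centralizer ((P : Subgroup G) : Set G)) = 17 := by
  have : Fact (Nat.Prime 17) := ⟨by norm_num⟩
  have hG : ¬ IsMulCommutative G := not_comm_of_card (by rw [h]; norm_num)
  have hne := card_sylow_ne_one hG (p := 17) (by rw [h]; norm_num)
  have hmem := card_sylow_mem (G := G) (p := 17) (k := 1) (m := 240) (by rw [h]; norm_num) (by norm_num)
  rw [show (Nat.divisors 240).filter (fun n => n % 17 = 1) = {1, 120} from by decide +kernel] at hmem
  simp only [Finset.mem_insert, Finset.mem_singleton] at hmem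
  have hn : Nat.card (Sylow 17 G) = 120 := by omega
  refine ⟨hn, fun P => ?_⟩
  have hP : Nat.card (P : Subgroup G) = 17 :=
    (card_sylow_subgroup (k := 1) (m := 240) (by rw [h]; norm_num) (by norm_num) P).trans (pow_one _)
  obtain ⟨e, k, he1, -, hN, hC⟩ := LocalTools.exists_e hG P hP
  have hm := card_normalizer_mul P
  rw [hn, h, hN] at hm
  have hek : e * k = 2 := by nlinarith
  have hk : k = 1 := by
    rcases (Nat.dvd_prime Nat.prime_two).1 (Dvd.intro k hek) with rfl | rfl
    · exact absurd rfl he1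
    · omega
  exact ⟨hP, by rw [hN, hk]; nlinarith, by rw [hC, hk]⟩

/-- The number of Sylow subgroups for 3 and for 5 is a multiple of 17. -/
theorem seventeen_dvd (h : Nat.card G = 4080) {p : ℕ} [Fact p.Prime] (hp : p ∣ 4080) (hpo : ¬ p ∣ 34)
    (P : Sylow p G) : 17 ∣ Nat.card (Sylow p G) := by
  have : Fact (Nat.Prime 17) := ⟨by norm_num⟩
  have hG : ¬ IsMulCommutative G := not_comm_of_card (by rw [h]; norm_num)
  have hm := card_normalizer_mul P
  rw [h] at hm
  refine ((show Nat.Prime 17 by norm_num).dvd_mul.1 (hm.symm ▸ (by norm_num : 17 ∣ 4080))).resolve_right fun hd => ?_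
  set N := normalizer ((P : Subgroup G) : Set G)
  have hN : Nat.card N ≤ 240 := by
    have hi := index_ge h N (normalizer_ne_top hG (h ▸ hp) P)
    have := N.card_mul_index
    rw [h] at this
    nlinarith
  obtain ⟨Q, -, hQ⟩ := le_normalizer_of_small (p := 17) (fun Q => ((seventeen h).2 Q).1) N hd (by omega)
  have h34 := card_dvd_of_le hQ
  rw [((seventeen h).2 Q).2.1] at h34
  exact hpo ((P.dvd_card_of_dvd_card (h ▸ hp)).trans ((card_dvd_of_le le_normalizer).trans h34))

theorem five (h : Nat.card G = 4080) :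
    (∀ P : Sylow 5 G, Nat.card (P : Subgroup G) = 5) ∧ ∃ k,
      (∀ P : Sylow 5 G, Nat.card (centralizer ((P : Subgroup G) : Set G)) = 5 * k) ∧
      ((Nat.card (Sylow 5 G) = 136 ∧ k = 3) ∨ (Nat.card (Sylow 5 G) = 51 ∧ (k = 4 ∨ k = 8))) := by
  have : Fact (Nat.Prime 5) := ⟨by norm_num⟩
  have hG : ¬ IsMulCommutative G := not_comm_of_card (by rw [h]; norm_num)
  have hP : ∀ P : Sylow 5 G, Nat.card (P : Subgroup G) = 5 := fun P =>
    (card_sylow_subgroup (k := 1) (m := 816) (by rw [h]; norm_num) (by norm_num) P).trans (pow_one _)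
  obtain ⟨P⟩ : Nonempty (Sylow 5 G) := inferInstance
  obtain ⟨e, k, he1, hed, hN, hC⟩ := LocalTools.exists_e hG P (hP P)
  refine ⟨hP, k, fun Q => (card_centralizer_sylow_eq P Q).trans hC, ?_⟩
  have hmod : Nat.card (Sylow 5 G) % 5 = 1 := card_sylow_modEq_one 5 G
  obtain ⟨j, hj⟩ := seventeen_dvd h (by norm_num) (by norm_num) P
  have hm := card_normalizer_mul P
  rw [hN, h, hj] at hm
  rw [hj] at hmod ⊢
  have he : e = 2 ∨ e = 4 := by
    have := Nat.le_of_dvd (by norm_num) hed
    interval_cases e <;> first | omega | (norm_num at hed)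
  have hjk : j * k = 24 ∧ e = 2 ∨ j * k = 12 ∧ e = 4 := by
    rcases he with rfl | rfl
    · exact Or.inl ⟨by nlinarith, rfl⟩
    · exact Or.inr ⟨by nlinarith, rfl⟩
  rcases hjk with ⟨hjk, -⟩ | ⟨hjk, -⟩
  · have hjd : j ∣ 24 := Dvd.intro _ hjk
    have := Nat.le_of_dvd (by norm_num) hjd
    interval_cases j <;> omega
  · have hjd : j ∣ 12 := Dvd.intro _ hjk
    have := Nat.le_of_dvd (by norm_num) hjd
    interval_cases j <;> omega

theorem three (h : Nat.card G = 4080) :
    (∀ P : Sylow 3 G, Nat.card (P : Subgroup G) = 3) ∧ ∃ k,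
      (∀ P : Sylow 3 G, Nat.card (centralizer ((P : Subgroup G) : Set G)) = 3 * k) ∧
      Nat.card (Sylow 3 G) * k = 680 ∧ k ∣ 40 ∧ Nat.card (Sylow 3 G) % 3 = 1 := by
  have : Fact (Nat.Prime 3) := ⟨Nat.prime_three⟩
  have hG : ¬ IsMulCommutative G := not_comm_of_card (by rw [h]; norm_num)
  have hP : ∀ P : Sylow 3 G, Nat.card (P : Subgroup G) = 3 := fun P =>
    (card_sylow_subgroup (k := 1) (m := 1360) (by rw [h]; norm_num) (by norm_num) P).trans (pow_one _)
  obtain ⟨P⟩ : Nonempty (Sylow 3 G) := inferInstance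
  obtain ⟨e, k, he1, hed, hN, hC⟩ := LocalTools.exists_e hG P (hP P)
  obtain rfl : e = 2 := ((Nat.dvd_prime Nat.prime_two).1 hed).resolve_left he1
  obtain ⟨j, hj⟩ := seventeen_dvd h (by norm_num) (by norm_num) P
  have hm := card_normalizer_mul P
  rw [hN, h] at hm
  refine ⟨hP, k, fun Q => (card_centralizer_sylow_eq P Q).trans hC, by nlinarith, ?_, card_sylow_modEq_one 3 G⟩
  rw [hj] at hm
  exact ⟨j, by nlinarith⟩

theorem dvd_centralizer {p q : ℕ} [Fact p.Prime] [Fact q.Prime] {y : G}
    (hy : orderOf y = p) {z : G} (hz : orderOf z = q) (hc : Commute y z) :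
    q ∣ Nat.card (centralizer ({y} : Set G)) :=
  hz ▸ orderOf_dvd_natCard _ (mem_centralizer_singleton_iff.2 hc.eq.symm)

theorem no_three_five {a b : ℕ} [Fact (Nat.Prime 5)]
    (hC : ∀ y : G, orderOf y = 5 → ¬ 3 ∣ Nat.card (centralizer ({y} : Set G))) {g : G}
    (h5 : 5 ∣ orderOf g) (h3 : 3 ∣ orderOf g) (ha : orderOf g = 5 * a) (hb : orderOf g = 3 * b) : False := by
  have hne : orderOf g ≠ 0 := (orderOf_pos g).ne'
  have hy : orderOf (g ^ (orderOf g / 5)) = 5 := orderOf_pow_orderOf_div hne h5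
  have hz : orderOf (g ^ (orderOf g / 3)) = 3 := orderOf_pow_orderOf_div hne h3
  have : Fact (Nat.Prime 3) := ⟨Nat.prime_three⟩
  exact hC _ hy (dvd_centralizer hy hz (Commute.pow_pow_self g _ _))

theorem psl (h : Nat.card G = 4080) {F : Type*} [Field F] [Fintype F] (hF : Fintype.card F = 16) :
    Nonempty (G ≃* Matrix.ProjectiveSpecialLinearGroup (Fin 2) F) := by
  classical
  have h17 : Fact (Nat.Prime 17) := ⟨by norm_num⟩
  have h5 : Fact (Nat.Prime 5) := ⟨by norm_num⟩
  have h3 : Fact (Nat.Prime 3) := ⟨Nat.prime_three⟩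
  have hG : ¬ IsMulCommutative G := not_comm_of_card (by rw [h]; norm_num)
  obtain ⟨n17, hC17⟩ := seventeen h
  obtain ⟨hP5, k5, hC5, hcase⟩ := five h
  obtain ⟨hP3, k3, hC3, hnk, hk40, hmod3⟩ := three h
  have c17 := count_order (p := 17) (G := G) fun Q => (hC17 Q).1
  rw [n17] at c17
  have hcop : ∀ {g : G} {q : ℕ}, q.Prime → q ≠ 2 → q ∣ orderOf g → ¬ (g ≠ 1 ∧ ∃ k, g ^ 2 ^ k = 1) := by
    rintro g q hq hq2 hd ⟨-, k, hk⟩
    exact hq2 ((Nat.prime_dvd_prime_iff_eq hq Nat.prime_two).1
      (hq.dvd_of_dvd_pow (hd.trans (orderOf_dvd_of_pow_eq_one hk))))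
  have hCy5 : ∀ y : G, orderOf y = 5 → Nat.card (centralizer ({y} : Set G)) = 5 * k5 := fun y hy =>
    card_centralizer_of_order hy hP5 hC5
  have hCy3 : ∀ y : G, orderOf y = 3 → Nat.card (centralizer ({y} : Set G)) = 3 * k3 := fun y hy =>
    card_centralizer_of_order hy hP3 hC3
  rcases hcase with ⟨n5, rfl⟩ | ⟨n5, hk5⟩
  swap
  · -- fifty-one Sylow five-subgroups: too many elements
    exfalso
    have h35 : ∀ y : G, orderOf y = 5 → ¬ 3 ∣ Nat.card (centralizer ({y} : Set G)) := fun y hy => by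
      rw [hCy5 y hy]; omega
    have hk3' : ¬ 5 ∣ k3 := by
      intro hd
      obtain ⟨Q⟩ : Nonempty (Sylow 3 G) := inferInstance
      obtain ⟨z, hz⟩ := exists_prime_orderOf_dvd_card' (G := centralizer ((Q : Subgroup G) : Set G)) 5
        (by rw [hC3]; exact hd.mul_left 3)
      obtain ⟨y, hy⟩ := exists_prime_orderOf_dvd_card' (G := (Q : Subgroup G)) 3 (by rw [hP3])
      rw [← Subgroup.orderOf_coe] at hz hy
      exact h35 _ hz (dvd_centralizer hz hy (mem_centralizer_iff.1 z.2 _ y.2).symm)
    have hk3n : ¬ 3 ∣ k3 := fun hd => by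
      have := (hd.trans hk40); norm_num at this
    have c5 := count_singular (p := 5) (k := k5) (by omega) hP5 hC5
    have c3 := count_singular (p := 3) (k := k3) hk3n hP3 hC3
    have hs := sum_card_lt (G := G) [fun g => orderOf g = 17, fun g => 5 ∣ orderOf g, fun g => 3 ∣ orderOf g]
      (by simp [orderOf_one]) (by
        simp only [List.pairwise_cons, List.mem_cons, List.not_mem_nil, or_false, forall_eq_or_imp,
          forall_eq, IsEmpty.forall_iff, implies_true, and_true, List.Pairwise.nil]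
        refine ⟨⟨fun g hg hg' => ?_, fun g hg hg' => ?_⟩, fun g hg hg' => ?_⟩
        · rw [hg] at hg'; norm_num at hg'
        · rw [hg] at hg'; norm_num at hg'
        · exact no_three_five h35 hg hg' (Nat.mul_div_cancel' hg).symm (Nat.mul_div_cancel' hg').symm)
    simp only [List.map_cons, List.map_nil, List.sum_cons, List.sum_nil, add_zero, h] at hs
    rw [n5] at c5
    have e3 : Nat.card (Sylow 3 G) * ((3 - 1) * k3) = 1360 := by
      rw [show (3 - 1) * k3 = 2 * k3 from rfl]
      nlinarith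
    omega
  -- one hundred and thirty-six
  have hk3five : 5 ∣ k3 := by
    obtain ⟨P⟩ : Nonempty (Sylow 5 G) := inferInstance
    obtain ⟨z, hz⟩ := exists_prime_orderOf_dvd_card' (G := centralizer ((P : Subgroup G) : Set G)) 3
      (by rw [hC5]; norm_num)
    obtain ⟨y, hy⟩ := exists_prime_orderOf_dvd_card' (G := (P : Subgroup G)) 5 (by rw [hP5])
    rw [← Subgroup.orderOf_coe] at hz hy
    have hd := dvd_centralizer hz hy (mem_centralizer_iff.1 z.2 _ y.2).symm
    rw [hCy3 _ hz] at hd
    exact ((Nat.Prime.dvd_mul (by norm_num)).1 hd).resolve_left (by norm_num)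
  have hk5' : k3 = 5 := by
    have hcases : k3 = 5 ∨ k3 = 20 := by
      have := Nat.le_of_dvd (by norm_num) hk40
      obtain ⟨i, rfl⟩ := hk3five
      have : i ≤ 8 := by omega
      interval_cases i <;> omega
    refine hcases.resolve_right fun e => ?_
    subst e
    -- a centraliser of order sixty would normalise a Sylow five-subgroup
    obtain ⟨Q⟩ : Nonempty (Sylow 3 G) := inferInstance
    set C := centralizer ((Q : Subgroup G) : Set G)
    have hC : Nat.card C = 60 := by rw [hC3]
    obtain ⟨y, hy⟩ := exists_prime_orderOf_dvd_card' (G := (Q : Subgroup G)) 3 (by rw [hP3])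
    obtain ⟨R⟩ : Nonempty (Sylow 5 C) := inferInstance
    have hR : Nat.card (R : Subgroup C) = 5 :=
      (card_sylow_subgroup (k := 1) (m := 12) (by rw [hC]; norm_num) (by norm_num) R).trans (pow_one _)
    obtain ⟨r, hr⟩ := exists_prime_orderOf_dvd_card' (G := (R : Subgroup C)) 5 (by rw [hR])
    have hyC : (y : G) ∈ C := by
      have : IsCyclic (Q : Subgroup G) := isCyclic_of_prime_card (hP3 Q)
      exact mem_centralizer_iff.2 fun b hb => congrArg Subtype.val
        (IsCyclic.isMulCommutative.is_comm.comm (⟨b, hb⟩ : (Q : Subgroup G)) y)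
    have hyN : (⟨(y : G), hyC⟩ : C) ∈ normalizer ((R : Subgroup C) : Set C) := by
      refine centralizer_le_normalizer _ (mem_centralizer_iff.2 fun w _ => Subtype.ext ?_)
      exact (mem_centralizer_iff.1 w.2 _ y.2).symm
    have hd3 : 3 ∣ Nat.card (normalizer ((R : Subgroup C) : Set C)) := by
      have := orderOf_dvd_natCard _ hyN
      rw [← Subgroup.orderOf_coe] at hy
      rwa [← Subgroup.orderOf_coe, show (((⟨(y : G), hyC⟩ : C)) : G) = (y : G) from rfl, hy] at this
    have hd5 : 5 ∣ Nat.card (normalizer ((R : Subgroup C) : Set C)) := dvd_trans (dvd_of_eq hR.symm) (card_dvd_of_le le_normalizer)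
    have hm := card_normalizer_mul R
    rw [hC] at hm
    have hmod : Nat.card (Sylow 5 C) % 5 = 1 := card_sylow_modEq_one 5 C
    obtain ⟨i, hi⟩ := Nat.Coprime.mul_dvd_of_dvd_of_dvd (by norm_num : Nat.Coprime 3 5) hd3 hd5
    rw [hi] at hm
    have hdvd : Nat.card (Sylow 5 C) ∣ 4 := ⟨i, by nlinarith⟩
    have := Nat.le_of_dvd (by norm_num) hdvd
    have hone : Nat.card (Sylow 5 C) = 1 := by omega
    rw [hone] at hm
    obtain ⟨P, hP⟩ := (R.isPGroup'.map C.subtype).exists_le_sylow
    have he : (R : Subgroup C).map C.subtype = (P : Subgroup G) := eq_of_le_of_card_ge hP (by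
      rw [hP5, card_map_of_injective C.subtype_injective, hR])
    have hm' := card_normalizer_mul R
    rw [hone, one_mul] at hm'
    have hn : (R : Subgroup C).Normal := normalizer_eq_top_iff.1 ((card_eq_iff_eq_top _).1 hm')
    have hCN : C ≤ normalizer ((P : Subgroup G) : Set G) := he ▸ le_normalizer_map C (R : Subgroup C) hn
    have h60 := card_dvd_of_le hCN
    have hmP := card_normalizer_mul P
    rw [n5, h] at hmP
    rw [hC] at h60
    have h30 : Nat.card (normalizer ((P : Subgroup G) : Set G)) = 30 := by omega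
    rw [h30] at h60
    norm_num at h60
  subst hk5'
  have n3 : Nat.card (Sylow 3 G) = 136 := by omega
  refine psl_of_few 4 255 (by norm_num) ⟨127, by norm_num⟩ (by norm_num) (by rw [h]; norm_num) ?_ ?_
    (hF.trans (by norm_num))
  · intro c hc hc2 hd
    have hdd := orderOf_dvd_natCard c
    rw [h, show (4080 : ℕ) = 2 ^ 4 * (3 * (5 * 17)) by norm_num] at hdd
    rcases hc.dvd_mul.1 hdd with h' | h'
    · exact hc2 ((Nat.prime_dvd_prime_iff_eq hc Nat.prime_two).1 (hc.dvd_of_dvd_pow h'))
    rcases hc.dvd_mul.1 h' with h' | h'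
    · rw [hCy3 c ((Nat.prime_dvd_prime_iff_eq hc Nat.prime_three).1 h')] at hd
      norm_num at hd
    rcases hc.dvd_mul.1 h' with h' | h'
    · rw [hCy5 c ((Nat.prime_dvd_prime_iff_eq hc (by norm_num)).1 h')] at hd
      norm_num at hd
    · rw [card_centralizer_of_order ((Nat.prime_dvd_prime_iff_eq hc (by norm_num)).1 h')
        (fun Q => (hC17 Q).1) (fun Q => (hC17 Q).2.2)] at hd
      norm_num at hd
  · have c5 := count_singular (p := 5) (k := 3) (by norm_num) hP5 hC5
    rw [n5] at c5
    have c3 := count_order (p := 3) (G := G) hP3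
    rw [n3] at c3
    have hs := sum_card_lt (G := G) [fun g => orderOf g = 17, fun g => 5 ∣ orderOf g, fun g => orderOf g = 3,
      fun g => g ≠ 1 ∧ ∃ k, g ^ 2 ^ k = 1] (by simp [orderOf_one]) (by
        simp only [List.pairwise_cons, List.mem_cons, List.not_mem_nil, or_false, forall_eq_or_imp,
          forall_eq, IsEmpty.forall_iff, implies_true, and_true, List.Pairwise.nil]
        refine ⟨⟨fun g hg hg' => ?_, fun g hg hg' => ?_, fun g hg => ?_⟩,
          ⟨fun g hg hg' => ?_, fun g hg => ?_⟩, fun g hg => ?_⟩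
        · rw [hg] at hg'; norm_num at hg'
        · rw [hg] at hg'; norm_num at hg'
        · exact hcop (by norm_num : Nat.Prime 17) (by norm_num) (dvd_of_eq hg.symm)
        · rw [hg'] at hg; norm_num at hg
        · exact hcop (by norm_num : Nat.Prime 5) (by norm_num) hg
        · exact hcop Nat.prime_three (by norm_num) (dvd_of_eq hg.symm))
    simp only [List.map_cons, List.map_nil, List.sum_cons, List.sum_nil, add_zero, h] at hs
    omega

end CfsgLib.SmallGroups.Order4080
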