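import Cfsg.Agent.Lib.SmallGroups.OrdersBelow1092Sieve

/-!
# The arithmetical sieve for orders of simple groups between 3640 and 6232
-/

set_option autoImplicit false

namespace CfsgLib.SmallGroups.OrdersMid

open CfsgLib.SmallGroups.OrdersSieve (cands)

/-- The primes below eighty. -/
def smallPrimes : List ℕ :=
  [2, 3, 5, 7, 11, 13, 17, 19, 23, 29, 31, 37, 41, 43, 47, 53, 59, 61, 67, 71, 73, 79]

/-- Primality from eighty on, below `6400`. -/
def isPLarge (q : ℕ) : Bool :=
  decide (80 ≤ q) && decide (q < 6400) && smallPrimes.all fun s => !(q % s == 0)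

/-- The prime divisors, quickly. -/
def primesMid (n : ℕ) : List ℕ :=
  (smallPrimes.filter fun p => n % p == 0) ++
    (((List.range 80).filter fun d => decide (1 ≤ d) && n % d == 0 && isPLarge (n / d)).map fun d => n / d)

theorem smallPrimes_complete : ∀ q < 80, Nat.Prime q → q ∈ smallPrimes := by decide +kernel

theorem smallPrimes_prime : ∀ q ∈ smallPrimes, Nat.Prime q := by decide +kernel

theorem prime_of_mem_mid {n p : ℕ} (h : p ∈ primesMid n) : p.Prime ∧ p ∣ n := by
  simp only [primesMid, List.mem_append, List.mem_filter, List.mem_map, List.mem_range, beq_iff_eq,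
    Bool.and_eq_true, decide_eq_true_eq] at h
  rcases h with ⟨hp, hd⟩ | ⟨d, ⟨-, ⟨-, hd⟩, hq⟩, rfl⟩
  · exact ⟨smallPrimes_prime p hp, Nat.dvd_of_mod_eq_zero hd⟩
  · simp only [isPLarge, Bool.and_eq_true, decide_eq_true_eq, List.all_eq_true, Bool.not_eq_true',
      beq_eq_false_iff_ne] at hq
    obtain ⟨⟨h80, h6400⟩, hall⟩ := hq
    refine ⟨?_, Nat.div_dvd_of_dvd (Nat.dvd_of_mod_eq_zero hd)⟩
    by_contra hnp
    have hsq := Nat.minFac_sq_le_self (by omega) hnp
    have hpr := Nat.minFac_prime (n := n / d) (by omega)
    have hlt : (n / d).minFac < 80 := by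
      by_contra hge
      have := Nat.pow_le_pow_left (Nat.le_of_not_lt hge) 2
      omega
    exact hall _ (smallPrimes_complete _ hlt hpr) (Nat.mod_eq_zero_of_dvd (Nat.minFac_dvd _))

theorem mem_primesMid {n p : ℕ} (h0 : n ≠ 0) (hn : n < 6400) (hp : p.Prime) (hd : p ∣ n) :
    p ∈ primesMid n := by
  simp only [primesMid, List.mem_append, List.mem_filter, List.mem_map, List.mem_range, beq_iff_eq,
    Bool.and_eq_true, decide_eq_true_eq]
  rcases Nat.lt_or_ge p 80 with h | h
  · exact Or.inl ⟨smallPrimes_complete p h hp, Nat.mod_eq_zero_of_dvd hd⟩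
  · obtain ⟨d, rfl⟩ := hd
    have hd0 : 0 < d := Nat.pos_of_ne_zero fun e => h0 (by rw [e, mul_zero])
    refine Or.inr ⟨d, ⟨by nlinarith, ⟨hd0, Nat.mul_mod_left _ _⟩, ?_⟩, Nat.mul_div_cancel p hd0⟩
    rw [Nat.mul_div_cancel p hd0]
    simp only [isPLarge, Bool.and_eq_true, decide_eq_true_eq, List.all_eq_true, Bool.not_eq_true',
      beq_eq_false_iff_ne]
    refine ⟨⟨h, ?_⟩, fun s hs e => ?_⟩
    · nlinarith
    · rcases (Nat.dvd_prime hp).mp (Nat.dvd_of_mod_eq_zero e) with h' | h'
      · have := (smallPrimes_prime s hs).one_lt; omega
      · have hlt : ∀ s ∈ smallPrimes, s < 80 := by decide +kernel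
        have := hlt s hs
        omega

theorem card_primeFactors_le_mid (n : ℕ) (hn : n < 6400) : n.primeFactors.card ≤ (primesMid n).length := by
  refine le_trans (Finset.card_le_card fun p hp => List.mem_toFinset.mpr ?_) (List.toFinset_card_le _)
  rw [Nat.mem_primeFactors] at hp
  exact mem_primesMid hp.2.2 hn hp.1 hp.2.1

/-- All exponents. -/
def goodMid (n p : ℕ) : Bool :=
  (List.range 13).all fun a => a == 0 || !(n % p ^ a == 0) || n % p ^ (a + 1) == 0 || cands n p a (n / p ^ a)

/-- The condition from the smallest prime divisor. -/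
def preMid (n : ℕ) : Bool :=
  if n % 2 == 0 then n % 12 == 0 || n % 16 == 0 || n % 56 == 0
  else (List.range 19).any fun d => decide (3 ≤ d) && n % (d * d * d) == 0

/-- The sieve. -/
def surviveMid (n : ℕ) : Bool :=
  preMid n && decide (3 ≤ (primesMid n).length) && (primesMid n).all (goodMid n)

/-- The orders surviving the sieve. -/
def survivors : List ℕ :=
  [3648, 3696, 3744, 3780, 3840, 3960, 4032, 4080, 4160, 4200, 4212, 4320, 4400, 4480, 4500, 4536, 4620,
   4680, 4725, 4760, 4800, 4928, 4960, 5040, 5104, 5148, 5200, 5292, 5376, 5400, 5460, 5472, 5600, 5616,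
   5724, 5760, 5880, 5940, 6000, 6048, 6072, 6160]

theorem survive_block0 : ((List.range 259).all fun i =>
    !surviveMid (3641 + i) || survivors.contains (3641 + i)) = true := by
  decide +kernel

theorem survive_block1 : ((List.range 250).all fun i =>
    !surviveMid (3900 + i) || survivors.contains (3900 + i)) = true := by
  decide +kernel

theorem survive_block2 : ((List.range 250).all fun i =>
    !surviveMid (4150 + i) || survivors.contains (4150 + i)) = true := by
  decide +kernel

theorem survive_block3 : ((List.range 250).all fun i =>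
    !surviveMid (4400 + i) || survivors.contains (4400 + i)) = true := by
  decide +kernel

theorem survive_block4 : ((List.range 250).all fun i =>
    !surviveMid (4650 + i) || survivors.contains (4650 + i)) = true := by
  decide +kernel

theorem survive_block5 : ((List.range 250).all fun i =>
    !surviveMid (4900 + i) || survivors.contains (4900 + i)) = true := by
  decide +kernel

theorem survive_block6 : ((List.range 250).all fun i =>
    !surviveMid (5150 + i) || survivors.contains (5150 + i)) = true := by
  decide +kernel

theorem survive_block7 : ((List.range 250).all fun i =>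
    !surviveMid (5400 + i) || survivors.contains (5400 + i)) = true := by
  decide +kernel

theorem survive_block8 : ((List.range 250).all fun i =>
    !surviveMid (5650 + i) || survivors.contains (5650 + i)) = true := by
  decide +kernel

theorem survive_block9 : ((List.range 333).all fun i =>
    !surviveMid (5900 + i) || survivors.contains (5900 + i)) = true := by
  decide +kernel

theorem survive_mid (n : ℕ) (h1 : 3640 < n) (h2 : n ≤ 6232) (h : surviveMid n = true) : n ∈ survivors := by
  have key : ∀ a l : ℕ, ((List.range l).all fun i => !surviveMid (a + i) || survivors.contains (a + i)) = true →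
      a ≤ n → n < a + l → n ∈ survivors := by
    intro a l hall ha hl
    rw [List.all_eq_true] at hall
    have := hall (n - a) (List.mem_range.mpr (by omega))
    rw [show a + (n - a) = n by omega, h] at this
    simpa using this
  by_cases h3 : n < 3900
  · exact key _ _ survive_block0 (by omega) (by omega)
  by_cases h4 : n < 4150
  · exact key _ _ survive_block1 (by omega) (by omega)
  by_cases h5 : n < 4400
  · exact key _ _ survive_block2 (by omega) (by omega)
  by_cases h6 : n < 4650
  · exact key _ _ survive_block3 (by omega) (by omega)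
  by_cases h7 : n < 4900
  · exact key _ _ survive_block4 (by omega) (by omega)
  by_cases h8 : n < 5150
  · exact key _ _ survive_block5 (by omega) (by omega)
  by_cases h9 : n < 5400
  · exact key _ _ survive_block6 (by omega) (by omega)
  by_cases h10 : n < 5650
  · exact key _ _ survive_block7 (by omega) (by omega)
  by_cases h11 : n < 5900
  · exact key _ _ survive_block8 (by omega) (by omega)
  exact key _ _ survive_block9 (by omega) (by omega)

end CfsgLib.SmallGroups.OrdersMid
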