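import Cfsg.Agent.Lib.SmallGroups.OrdersMidTools

/-!
# Excluded orders between 3640 and 6232 with a Sylow subgroup of prime order
-/

set_option autoImplicit false

namespace CfsgLib.SmallGroups.OrdersMid

open Subgroup CfsgLib.SmallGroups.SimpleTools CfsgLib.SmallGroups.LocalTools CfsgLib.SmallGroups.CosetFixed
  CfsgLib.SmallGroups.OrdersBelow1092

variable {G : Type*} [Group G] [Finite G]

theorem le_centralizer_self {p : ℕ} [Fact p.Prime] (P : Sylow p G) (hP : Nat.card (P : Subgroup G) = p) :
    (P : Subgroup G) ≤ centralizer ((P : Subgroup G) : Set G) := fun a ha =>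
  mem_centralizer_iff.mpr fun b hb =>
    congrArg Subtype.val ((isCyclic_of_prime_card hP).isMulCommutative.is_comm.comm
      (⟨b, hb⟩ : (P : Subgroup G)) ⟨a, ha⟩)

theorem le_centralizer_singleton {p : ℕ} [Fact p.Prime] (P : Sylow p G) {x : G}
    (hx : x ∈ centralizer ((P : Subgroup G) : Set G)) : (P : Subgroup G) ≤ centralizer ({x} : Set G) :=
  fun a ha => mem_centralizer_singleton_iff.mpr (mem_centralizer_iff.mp hx a ha)

theorem centralizer_ne_top [IsSimpleGroup G] (hG : ¬ IsMulCommutative G) {x : G} (hx : x ≠ 1) :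
    centralizer ({x} : Set G) ≠ ⊤ := fun h => by
  have hc : x ∈ center G := mem_center_iff.mpr fun g =>
    mem_centralizer_singleton_iff.mp (show g ∈ _ from h ▸ mem_top g)
  rw [center_eq_bot hG] at hc
  exact hx (mem_bot.mp hc)

/-- The shape of the centraliser of an element commuting with a Sylow subgroup of prime order. -/
theorem centralizer_shape [IsSimpleGroup G] (hG : ¬ IsMulCommutative G) {p q : ℕ} [Fact p.Prime]
    [Fact q.Prime] (hpq : p ≠ q) (P : Sylow p G) (hP : Nat.card (P : Subgroup G) = p) {x : G}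
    (hx : x ∈ centralizer ((P : Subgroup G) : Set G)) (hq : orderOf x = q) :
    ∃ n h, n % p = 1 ∧ n < Nat.card (Sylow p G) ∧
      h = Nat.card ↥(centralizer ({x} : Set G) ⊓ normalizer ((P : Subgroup G) : Set G)) ∧
      Nat.card (centralizer ({x} : Set G)) = n * h ∧ p * q ∣ h ∧
      h ∣ Nat.card (normalizer ((P : Subgroup G) : Set G)) ∧ n * h ∣ Nat.card G := by
  have hx1 : x ≠ 1 := fun e => by rw [e, orderOf_one] at hq; exact (Fact.out : q.Prime).one_lt.ne hq
  obtain ⟨n, hn, hc, hlt, -⟩ := sylow_count_le hG P (hP ▸ card_subgroup_dvd_card _)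
    (le_centralizer_singleton P hx) (centralizer_ne_top hG hx1)
  refine ⟨n, _, hn, hlt, rfl, hc, ?_, card_dvd_of_le inf_le_right, hc ▸ card_subgroup_dvd_card _⟩
  refine Nat.Coprime.mul_dvd_of_dvd_of_dvd ((Nat.coprime_primes Fact.out Fact.out).mpr hpq) ?_ ?_
  · have := card_dvd_of_le (le_inf (le_centralizer_singleton P hx)
      (le_normalizer : (P : Subgroup G) ≤ normalizer ((P : Subgroup G) : Set G)))
    rwa [hP] at this
  · rw [← hq]
    exact Subgroup.orderOf_dvd_natCard _
      ⟨mem_centralizer_singleton_iff.mpr rfl, centralizer_le_normalizer _ hx⟩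

/-- The Sylow subgroup of an element centralising another Sylow subgroup. -/
theorem exists_dvd_centralizer {p q : ℕ} [Fact p.Prime] [Fact q.Prime] (P : Sylow p G)
    (hP : Nat.card (P : Subgroup G) = p) (hq : ∀ R : Sylow q G, Nat.card (R : Subgroup G) = q) {z : G}
    (hz : z ∈ centralizer ((P : Subgroup G) : Set G)) (hzq : orderOf z = q) :
    ∃ R : Sylow q G, p ∣ Nat.card (centralizer ((R : Subgroup G) : Set G)) := by
  obtain ⟨R, hR⟩ := TwoClass.exists_zpowers hzq hq
  refine ⟨R, ?_⟩
  rw [← hR, TwoClass.centralizer_zpowers, ← hP]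
  exact card_dvd_of_le (le_centralizer_singleton P hz)

/-- A self-centralising Sylow subgroup of prime order whose automiser has order divisible by four. -/
theorem false_of_four_self [IsSimpleGroup G] (hG : ¬ IsMulCommutative G) {p m : ℕ} [Fact p.Prime]
    (hcard : Nat.card G = 2 ^ 2 * m) (hm : ¬ 2 ∣ m) (P : Sylow p G) (hP : Nat.card (P : Subgroup G) = p)
    (hodd : ¬ 2 ∣ Nat.card (centralizer ((P : Subgroup G) : Set G)))
    (h4 : 4 ∣ Nat.card (normalizer ((P : Subgroup G) : Set G))) : False := by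
  classical
  have : Fact (Nat.Prime 2) := ⟨Nat.prime_two⟩
  obtain ⟨V, hV⟩ := Sylow.exists_subgroup_card_pow_prime (G := normalizer ((P : Subgroup G) : Set G)) 2
    (n := 2) (by simpa using h4)
  set W := V.map (normalizer ((P : Subgroup G) : Set G)).subtype with hW
  have hWc : Nat.card W = 4 := by rw [hW, card_map_of_injective (subtype_injective _), hV]; norm_num
  have hinv : ∀ w ∈ W, w ≠ 1 → ∀ a ∈ (P : Subgroup G), w * a * w⁻¹ = a⁻¹ := by
    intro w hw hw1
    have h4' := (W.orderOf_dvd_natCard hw).trans (dvd_of_eq (hWc.trans (show (4 : ℕ) = 2 ^ 2 by norm_num)))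
    obtain ⟨i, hi, e⟩ := (Nat.dvd_prime_pow Nat.prime_two).mp h4'
    have hi1 : i = 1 := by
      rcases i with _ | _ | _ | i
      · exact absurd (orderOf_eq_one_iff.mp e) hw1
      · rfl
      · exact absurd e (no_order_four hG hcard hm)
      · omega
    have ho : orderOf w = 2 := by rw [e, hi1, pow_one]
    refine inverts hP (by rw [← pow_two, ← ho, pow_orderOf_eq_one]) (map_subtype_le V hw) fun hwC => hodd ?_
    rw [← ho]
    exact Subgroup.orderOf_dvd_natCard _ hwC
  have hker : ∀ w ∈ W, w ∈ centralizer ((P : Subgroup G) : Set G) → w = 1 := by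
    intro w hw hwC
    have h1 := Nat.dvd_gcd (W.orderOf_dvd_natCard hw) (Subgroup.orderOf_dvd_natCard _ hwC)
    rw [hWc] at h1
    have hcop : Nat.gcd 4 (Nat.card (centralizer ((P : Subgroup G) : Set G))) = 1 :=
      Nat.Coprime.pow_left 2 ((Nat.prime_two.coprime_iff_not_dvd).mpr hodd)
    rw [hcop, Nat.dvd_one] at h1
    exact orderOf_eq_one_iff.mp h1
  obtain ⟨v, hv, hv1⟩ : ∃ v ∈ W, v ≠ 1 := by
    by_contra hc
    simp only [not_exists, not_and, not_not] at hc
    rw [(W.eq_bot_iff_forall).mpr hc, card_bot] at hWc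
    omega
  have hsub : ∀ w ∈ W, w = 1 ∨ w = v := by
    intro w hw
    by_cases hw1 : w = 1
    · exact Or.inl hw1
    refine Or.inr ?_
    have hmem : v⁻¹ * w ∈ centralizer ((P : Subgroup G) : Set G) := mem_centralizer_iff.mpr fun a ha => by
      have e1 := hinv w hw hw1 a ha
      have e2 := hinv v hv hv1 a ha
      calc a * (v⁻¹ * w) = v⁻¹ * (v * a * v⁻¹) * w := by group
        _ = v⁻¹ * (w * a * w⁻¹) * w := by rw [e2, e1]
        _ = v⁻¹ * w * a := by group
    exact (inv_mul_eq_one.mp (hker _ (mul_mem (inv_mem hv) hw) hmem)).symm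
  have hle : Nat.card W ≤ Nat.card ({1, v} : Finset G) := by
    refine Nat.card_le_card_of_injective (fun w : W => ⟨(w : G), by
      rcases hsub w w.2 with h | h <;> simp [h]⟩) fun a b e => Subtype.ext (congrArg Subtype.val e :)
  rw [hWc, Nat.card_eq_fintype_card, Fintype.card_coe] at hle
  have := (Finset.card_insert_le (1 : G) {v})
  rw [Finset.card_singleton] at this
  omega

/-- An involution outside the centraliser in the normaliser. -/
theorem exists_inverting [IsSimpleGroup G] (hG : ¬ IsMulCommutative G) {p m : ℕ} [Fact p.Prime]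
    (hcard : Nat.card G = 2 ^ 2 * m) (hm : ¬ 2 ∣ m) (P : Sylow p G)
    (h4 : 4 ∣ Nat.card (normalizer ((P : Subgroup G) : Set G)))
    (hC : ¬ 4 ∣ Nat.card (centralizer ((P : Subgroup G) : Set G))) :
    ∃ u, orderOf u = 2 ∧ u ∈ normalizer ((P : Subgroup G) : Set G) ∧
      u ∉ centralizer ((P : Subgroup G) : Set G) := by
  have : Fact (Nat.Prime 2) := ⟨Nat.prime_two⟩
  obtain ⟨V, hV⟩ := Sylow.exists_subgroup_card_pow_prime (G := normalizer ((P : Subgroup G) : Set G)) 2
    (n := 2) (by simpa using h4)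
  set W := V.map (normalizer ((P : Subgroup G) : Set G)).subtype with hW
  have hWc : Nat.card W = 4 := by rw [hW, card_map_of_injective (subtype_injective _), hV]; norm_num
  obtain ⟨w, hw, hwC⟩ : ∃ w ∈ W, w ∉ centralizer ((P : Subgroup G) : Set G) := by
    by_contra hc
    simp only [not_exists, not_and, not_not] at hc
    exact hC (hWc ▸ card_dvd_of_le hc)
  refine ⟨w, ?_, map_subtype_le V hw, hwC⟩
  obtain ⟨i, hi, e⟩ := (Nat.dvd_prime_pow Nat.prime_two).mp
    ((W.orderOf_dvd_natCard hw).trans (dvd_of_eq (hWc.trans (show (4 : ℕ) = 2 ^ 2 by norm_num))))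
  rcases i with _ | _ | _ | i
  · exact absurd (orderOf_eq_one_iff.mp e ▸ one_mem _) hwC
  · rw [e]; norm_num
  · exact absurd e (no_order_four hG hcard hm)
  · omega

/-- The orbits of a Sylow subgroup of prime order on its conjugates. -/
theorem card_orbits {p : ℕ} [Fact p.Prime] (P : Sylow p G) (hP : Nat.card (P : Subgroup G) = p) :
    Nat.card (MulAction.orbitRel.Quotient ↥(P : Subgroup G) (G ⧸ normalizer ((P : Subgroup G) : Set G))) * p =
      Nat.card (Sylow p G) + (p - 1) := by
  classical
  set N := normalizer ((P : Subgroup G) : Set G)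
  have := Fintype.ofFinite (G ⧸ N)
  have := Fintype.ofFinite (P : Subgroup G)
  have := Fintype.ofFinite (MulAction.orbitRel.Quotient (P : Subgroup G) (G ⧸ N))
  have hB := MulAction.sum_card_fixedBy_eq_card_orbits_mul_card_group (P : Subgroup G) (G ⧸ N)
  have hterm : ∀ a : (P : Subgroup G), Fintype.card (MulAction.fixedBy (G ⧸ N) a) =
      if a = 1 then Nat.card (Sylow p G) else 1 := by
    intro a
    rw [← Nat.card_eq_fintype_card]
    split_ifs with ha
    · subst ha
      rw [P.card_eq_index_normalizer, Subgroup.index]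
      exact Nat.card_congr (Equiv.subtypeUnivEquiv fun q => by simp)
    · exact CosetFixed.card_fixedBy_eq_one P hP
        (TwoClass.zpowers_eq_sylow P hP a.2 fun e => ha (Subtype.ext e)).1
  rw [Finset.sum_congr rfl fun a _ => hterm a, Finset.sum_ite, Finset.sum_const, Finset.sum_const,
    Finset.filter_eq', if_pos (Finset.mem_univ _), Finset.card_singleton, Finset.filter_ne',
    Finset.card_erase_of_mem (Finset.mem_univ _), Finset.card_univ,
    ← Nat.card_eq_fintype_card (α := (P : Subgroup G)), hP] at hB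
  simp only [smul_eq_mul, ← Nat.card_eq_fintype_card, one_mul, mul_one] at hB
  exact hB.symm

/-- The points fixed by two commuting elements of prime order. -/
theorem card_fixed_common {q : ℕ} [Fact q.Prime] (H : Subgroup G) {x y : G} (hxy : Commute x y)
    (hy : orderOf y = q) :
    Nat.card (MulAction.fixedBy (G ⧸ H) x) % q =
      Nat.card ↥(MulAction.fixedBy (G ⧸ H) x ∩ MulAction.fixedBy (G ⧸ H) y) % q := by
  let X := MulAction.fixedBy (G ⧸ H) x
  let act : MulAction ↥(zpowers y) X :=
    { smul := fun u c => ⟨(u : G) • c.1, by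
        have hu : Commute x (u : G) := by
          obtain ⟨i, hi⟩ := mem_zpowers_iff.mp u.2
          rw [← hi]
          exact hxy.zpow_right i
        rw [MulAction.mem_fixedBy, ← mul_smul, hu.eq, mul_smul, c.2]⟩
      one_smul := fun c => Subtype.ext (one_smul G c.1)
      mul_smul := fun u v c => Subtype.ext (mul_smul (u : G) (v : G) c.1) }
  have h := (IsPGroup.of_card (n := 1) (by rw [Nat.card_zpowers, hy, pow_one]) :
    IsPGroup q ↥(zpowers y)).card_modEq_card_fixedPoints X
  refine h.trans (congrArg (· % q) (Nat.card_congr ?_))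
  exact
    { toFun := fun c => ⟨c.1.1, c.1.2, congrArg Subtype.val (c.2 ⟨y, mem_zpowers y⟩)⟩
      invFun := fun c => ⟨⟨c.1, c.2.1⟩, fun u => Subtype.ext (by
        obtain ⟨i, hi⟩ := mem_zpowers_iff.mp u.2
        show (u : G) • c.1 = c.1
        rw [← hi]
        exact MulAction.mem_fixedBy.mp (MulAction.fixedBy_subset_fixedBy_zpow (G ⧸ H) y i c.2.2))⟩
      left_inv := fun c => rfl
      right_inv := fun c => rfl }

variable [IsSimpleGroup G] (hG : ¬ IsMulCommutative G)
include hG

theorem ne_3780 (hn : Nat.card G = 3780) : False := by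
  have : Fact (Nat.Prime 7) := ⟨by norm_num⟩
  have : Fact (Nat.Prime 5) := ⟨by norm_num⟩
  have : Fact (Nat.Prime 3) := ⟨Nat.prime_three⟩
  have h1 := sylow_count hG (p := 7) (k := 1) (m := 540) (by rw [hn]; norm_num) (by norm_num) (by norm_num)
  rw [show ((Nat.divisors 540).filter (fun n => n % 7 = 1)).erase 1 = {15, 36, 540} by decide +kernel] at h1
  simp only [Finset.mem_insert, Finset.mem_singleton] at h1
  obtain ⟨P, e, k, hP, he1, hed, hek, hN, hC⟩ :=
    prime_order_setup hG (p := 7) (m := 540) (by rw [hn]) (by norm_num) rfl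
  have he6 : e ≤ 6 := Nat.le_of_dvd (by norm_num) hed
  rcases h1 with h1 | h1 | h1 <;> rw [h1] at hek
  rotate_left 2
  · interval_cases e <;> omega
  · obtain ⟨y, hy, hy3⟩ := exists_mem_of_dvd (q := 3) (centralizer ((P : Subgroup G) : Set G))
      (by rw [hC]; interval_cases e <;> omega)
    obtain ⟨f, -, h7, hlt, h3, -⟩ := exists_fixed hG P hP hy hy3
    rw [h1] at hlt h3
    omega
  · obtain ⟨z, hz, hz5⟩ := exists_mem_of_dvd (q := 5) (centralizer ((P : Subgroup G) : Set G))
      (by rw [hC]; interval_cases e <;> omega)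
    have hq : ∀ R : Sylow 5 G, Nat.card (R : Subgroup G) = 5 := fun R =>
      (card_sylow_subgroup (k := 1) (m := 756) (by rw [hn]; norm_num) (by norm_num) R).trans (pow_one 5)
    obtain ⟨R, hR⟩ := exists_dvd_centralizer P hP hq hz hz5
    obtain ⟨e', k', he1', hed', hN', hC'⟩ := exists_e hG R (hq R)
    have he4' : e' ≤ 4 := Nat.le_of_dvd (by norm_num) hed'
    rw [hC'] at hR
    obtain ⟨j, hj⟩ : 7 ∣ k' := (Nat.Coprime.dvd_of_dvd_mul_left (by norm_num) hR)
    have h2 := card_normalizer_mul R
    have h3 := sylow_count hG (p := 5) (k := 1) (m := 756) (by rw [hn]; norm_num) (by norm_num) (by norm_num)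
    rw [show ((Nat.divisors 756).filter (fun n => n % 5 = 1)).erase 1 = {6, 21, 36, 126, 756} by decide +kernel] at h3
    simp only [Finset.mem_insert, Finset.mem_singleton] at h3
    rw [hn, hN', hj, show e' * (5 * (7 * j)) = 35 * (e' * j) by ring] at h2
    rcases h3 with h3 | h3 | h3 | h3 | h3 <;> rw [h3] at h2
    · exact absurd (h3 ▸ embeds hG (p := 5) (by rw [hn]; norm_num)) (by rw [hn]; decide +kernel)
    all_goals (interval_cases e' <;> omega)

theorem ne_4200 (hn : Nat.card G = 4200) : False := by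
  have : Fact (Nat.Prime 7) := ⟨by norm_num⟩
  have : Fact (Nat.Prime 5) := ⟨by norm_num⟩
  have : Fact (Nat.Prime 2) := ⟨Nat.prime_two⟩
  have h1 := sylow_count hG (p := 7) (k := 1) (m := 600) (by rw [hn]; norm_num) (by norm_num) (by norm_num)
  rw [show ((Nat.divisors 600).filter (fun n => n % 7 = 1)).erase 1 = {8, 15, 50, 120} by decide +kernel] at h1
  simp only [Finset.mem_insert, Finset.mem_singleton] at h1
  obtain ⟨P, e, k, hP, he1, hed, hek, hN, hC⟩ :=
    prime_order_setup hG (p := 7) (m := 600) (by rw [hn]) (by norm_num) rfl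
  have he6 : e ≤ 6 := Nat.le_of_dvd (by norm_num) hed
  rcases h1 with h1 | h1 | h1 | h1 <;> rw [h1] at hek
  · exact absurd (h1 ▸ embeds hG (p := 7) (by rw [hn]; norm_num)) (by rw [hn]; decide +kernel)
  · obtain ⟨y, hy, hy5⟩ := exists_mem_of_dvd (q := 5) (centralizer ((P : Subgroup G) : Set G))
      (by rw [hC]; interval_cases e <;> omega)
    obtain ⟨f, -, h7, hlt, h5, -⟩ := exists_fixed hG P hP hy hy5
    rw [h1] at hlt h5
    omega
  · obtain ⟨t, ht, ht2⟩ := exists_mem_of_dvd (q := 2) (centralizer ((P : Subgroup G) : Set G))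
      (by rw [hC]; interval_cases e <;> omega)
    obtain ⟨n, h, hn7, hnlt, -, hH, h14, hhN, hdvd⟩ := centralizer_shape hG (by norm_num) P hP ht ht2
    rw [hN, show e * (7 * k) = 7 * (e * k) by ring, show e * k = 12 by omega] at hhN
    rw [h1] at hnlt
    rw [hn] at hdvd
    have hd : n ∣ 300 := by
      have := (Nat.mul_dvd_mul_left n h14).trans hdvd
      exact Nat.dvd_of_mul_dvd_mul_right (show 0 < 7 * 2 by norm_num) this
    have hn' : n = 1 ∨ n = 15 := by
      have key : ∀ n ∈ Nat.divisors 300, n % 7 = 1 → n < 50 → n = 1 ∨ n = 15 := by decide +kernel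
      exact key n (Nat.mem_divisors.mpr ⟨hd, by norm_num⟩) hn7 hnlt
    refine false_of_small_centralizer_eight (m := 525) (by rw [hn]; norm_num) (by norm_num) ht2 fun h8 => ?_
    rw [hH] at h8
    have h8' : 8 ∣ h := by rcases hn' with rfl | rfl <;> omega
    have := h8'.trans hhN
    norm_num at this
  · interval_cases e <;> omega

theorem ne_4212 (hn : Nat.card G = 4212) : False := by
  have : Fact (Nat.Prime 13) := ⟨by norm_num⟩
  have : Fact (Nat.Prime 3) := ⟨Nat.prime_three⟩
  have : Fact (Nat.Prime 2) := ⟨Nat.prime_two⟩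
  have h1 := sylow_count hG (p := 13) (k := 1) (m := 324) (by rw [hn]; norm_num) (by norm_num) (by norm_num)
  rw [show ((Nat.divisors 324).filter (fun n => n % 13 = 1)).erase 1 = {27} by decide +kernel] at h1
  simp only [Finset.mem_singleton] at h1
  obtain ⟨P, e, k, hP, he1, hed, hek, hN, hC⟩ :=
    prime_order_setup hG (p := 13) (m := 324) (by rw [hn]) (by norm_num) rfl
  rw [h1] at hek
  by_cases hk2 : 2 ∣ k
  · obtain ⟨t, ht, ht2⟩ := exists_mem_of_dvd (q := 2) (centralizer ((P : Subgroup G) : Set G))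
      (hC ▸ dvd_mul_of_dvd_right hk2 13)
    obtain ⟨f, -, h13, hlt, -, h4⟩ := exists_fixed hG P hP ht ht2
    have h4' := h4 rfl
    rw [h1] at hlt h4'
    omega
  by_cases hk3 : 3 ∣ k
  · obtain ⟨t, ht, ht3⟩ := exists_mem_of_dvd (q := 3) (centralizer ((P : Subgroup G) : Set G))
      (hC ▸ dvd_mul_of_dvd_right hk3 13)
    obtain ⟨f, -, h13, hlt, h3, -⟩ := exists_fixed hG P hP ht ht3
    rw [h1] at hlt h3
    omega
  have hk : k = 1 := by
    have hd : k ∣ 12 := ⟨e, by rw [mul_comm]; omega⟩
    have key : ∀ k ∈ Nat.divisors 12, ¬ 2 ∣ k → ¬ 3 ∣ k → k = 1 := by decide +kernel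
    exact key k (Nat.mem_divisors.mpr ⟨hd, by norm_num⟩) hk2 hk3
  subst hk
  exact false_of_four_self hG (m := 1053) (by rw [hn]; norm_num) (by norm_num) P hP (by rw [hC]; norm_num)
    (by rw [hN, show e = 12 by omega]; norm_num)

theorem ne_4536 (hn : Nat.card G = 4536) : False := by
  classical
  have : Fact (Nat.Prime 7) := ⟨by norm_num⟩
  have : Fact (Nat.Prime 3) := ⟨Nat.prime_three⟩
  have : Fact (Nat.Prime 2) := ⟨Nat.prime_two⟩
  have h1 := sylow_count hG (p := 7) (k := 1) (m := 648) (by rw [hn]; norm_num) (by norm_num) (by norm_num)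
  rw [show ((Nat.divisors 648).filter (fun n => n % 7 = 1)).erase 1 = {8, 36, 162} by decide +kernel] at h1
  simp only [Finset.mem_insert, Finset.mem_singleton] at h1
  obtain ⟨P, e, k, hP, he1, hed, hek, hN, hC⟩ :=
    prime_order_setup hG (p := 7) (m := 648) (by rw [hn]) (by norm_num) rfl
  have he6 : e ≤ 6 := Nat.le_of_dvd (by norm_num) hed
  rcases h1 with h1 | h1 | h1 <;> rw [h1] at hek
  · exact absurd (h1 ▸ embeds hG (p := 7) (by rw [hn]; norm_num)) (by rw [hn]; decide +kernel)
  · obtain ⟨y, hy, hy3⟩ := exists_mem_of_dvd (q := 3) (centralizer ((P : Subgroup G) : Set G))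
      (by rw [hC]; interval_cases e <;> omega)
    set N := normalizer ((P : Subgroup G) : Set G) with hNdef
    obtain ⟨n, h, hn7, hnlt, hh, hH, h21, hhN, hdvd⟩ := centralizer_shape hG (by norm_num) P hP hy hy3
    rw [h1] at hnlt
    rw [hn] at hdvd
    have hn3 : ¬ 3 ∣ n := by
      have hd : n ∣ 216 :=
        Nat.dvd_of_mul_dvd_mul_right (show 0 < 7 * 3 by norm_num) ((Nat.mul_dvd_mul_left n h21).trans hdvd)
      have key : ∀ n ∈ Nat.divisors 216, n % 7 = 1 → n < 36 → ¬ 3 ∣ n := by decide +kernel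
      exact key n (Nat.mem_divisors.mpr ⟨hd, by norm_num⟩) hn7 hnlt
    set H := centralizer ({y} : Set G)
    obtain ⟨S, hS⟩ := (IsPGroup.of_card (n := 1) (by rw [Nat.card_zpowers, hy3, pow_one]) :
      IsPGroup 3 ↥(zpowers y)).exists_le_sylow
    have hSc : Nat.card (S : Subgroup G) = 81 :=
      (card_sylow_subgroup (k := 4) (m := 56) (by rw [hn]; norm_num) (by norm_num) S).trans (by norm_num)
    have : Nontrivial (S : Subgroup G) := Finite.one_lt_card_iff_nontrivial.mp (by omega)
    have hcn : Nontrivial (center (S : Subgroup G)) := S.isPGroup'.center_nontrivial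
    obtain ⟨z₀, hz₀⟩ := exists_prime_orderOf_dvd_card' (G := center (S : Subgroup G)) 3 (by
      obtain ⟨i, hi⟩ := (S.isPGroup'.to_subgroup (center (S : Subgroup G))).exists_card_eq
      have h1' := Finite.one_lt_card (α := center (S : Subgroup G))
      rw [hi] at h1' ⊢
      rcases i with _ | i
      · norm_num at h1'
      · exact dvd_pow_self 3 (by omega))
    set z : G := ((z₀ : (S : Subgroup G)) : G) with hz
    have hz3 : orderOf z = 3 := by rw [hz, Subgroup.orderOf_coe, Subgroup.orderOf_coe, hz₀]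
    have hzS : ∀ s ∈ (S : Subgroup G), s * z = z * s := fun s hs =>
      congrArg Subtype.val (mem_center_iff.mp z₀.2 ⟨s, hs⟩)
    have h81 : 81 ∣ Nat.card (centralizer ({z} : Set G)) := hSc ▸ card_dvd_of_le
      (fun s hs => mem_centralizer_singleton_iff.mpr (hzS s hs) : (S : Subgroup G) ≤ centralizer ({z} : Set G))
    have hzH : z ∈ H := mem_centralizer_singleton_iff.mpr (hzS y (hS (mem_zpowers y))).symm
    obtain ⟨Q⟩ : Nonempty (Sylow 3 ↥(H ⊓ N)) := inferInstance
    set Q' := (Q : Subgroup ↥(H ⊓ N)).map (H ⊓ N).subtype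
    have hQH : Q' ≤ H := (map_subtype_le _).trans inf_le_left
    have hQc : Nat.card (Q'.subgroupOf H) = 3 ^ (Nat.card H).factorization 3 := by
      rw [Nat.card_congr (subgroupOfEquivOfLe hQH).toEquiv, card_map_of_injective (subtype_injective _),
        Q.card_eq_multiplicity, hH, ← hh, Nat.factorization_mul (by omega) (hh ▸ Nat.card_pos.ne'),
        Finsupp.add_apply, Nat.factorization_eq_zero_of_not_dvd hn3, zero_add]
    obtain ⟨T, hT⟩ := (IsPGroup.of_card (n := 1) (by
      rw [Nat.card_zpowers, ← Subgroup.orderOf_coe, hz3, pow_one]) :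
      IsPGroup 3 ↥(zpowers (⟨z, hzH⟩ : H))).exists_le_sylow
    obtain ⟨g, hg⟩ := MulAction.exists_smul_eq ↥H T (Sylow.ofCard (Q'.subgroupOf H) hQc)
    have hw : (g : G) * z * (g : G)⁻¹ ∈ N := by
      have h1' : g * ⟨z, hzH⟩ * g⁻¹ ∈ ((g • T : Sylow 3 H) : Subgroup H) := ⟨_, hT (mem_zpowers _), rfl⟩
      rw [hg] at h1'
      exact ((map_subtype_le _).trans inf_le_right : Q' ≤ N) (mem_subgroupOf.mp h1')
    set w := (g : G) * z * (g : G)⁻¹
    have hw3 : orderOf w = 3 := by
      rw [show w = (MulAut.conj (g : G)).toMonoidHom z from rfl,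
        orderOf_injective _ (MulAut.conj (g : G)).injective, hz3]
    have hwz : IsConj w z := (isConj_iff.mpr ⟨(g : G), rfl⟩ : IsConj z w).symm
    have hcw : Nat.card (centralizer ({w} : Set G)) = Nat.card (centralizer ({z} : Set G)) := by
      have hidx : (centralizer ({w} : Set G)).index = (centralizer ({z} : Set G)).index := by
        rw [← card_class, ← card_class]
        exact Nat.card_congr (Equiv.subtypeEquivRight fun a => ⟨hwz.symm.trans, hwz.trans⟩)
      have h1' := index_mul_card (centralizer ({w} : Set G))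
      rw [hidx, ← index_mul_card (centralizer ({z} : Set G))] at h1'
      exact Nat.eq_of_mul_eq_mul_left (Nat.pos_of_ne_zero index_ne_zero_of_finite) h1'
    have hmul := fixed_mul N w
    have hNc : Nat.card N = 126 := by rw [hN, show e * (7 * k) = 7 * (e * k) by ring]; omega
    obtain ⟨j, hj⟩ := h81
    rw [hcw, hj, hNc, mul_comm 81 j, ← mul_assoc] at hmul
    have hpos : 0 < Nat.card {a : G // IsConj w a ∧ a ∈ N} := by
      have : Nonempty {a : G // IsConj w a ∧ a ∈ N} := ⟨⟨w, IsConj.refl w, hw⟩⟩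
      exact Nat.card_pos
    have hjpos : 0 < j := by
      rcases Nat.eq_zero_or_pos j with h0 | h0
      · rw [h0, mul_zero] at hj; exact absurd hj Nat.card_pos.ne'
      · exact h0
    have hcj := Nat.mul_pos hpos hjpos
    by_cases hwC : w ∈ centralizer ((P : Subgroup G) : Set G)
    · obtain ⟨f, hf, h7, hlt, -, -⟩ := exists_fixed hG P hP hwC hw3
      rw [← hf] at hmul
      rw [h1] at hlt
      omega
    · have hle : Nat.card (MulAction.fixedBy (G ⧸ N) w) ≤ _ := card_fixedBy_le P hP hw hwC
      have horb := card_orbits P hP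
      rw [h1] at horb
      omega
  · obtain ⟨rfl, rfl⟩ : e = 2 ∧ k = 2 := by
      interval_cases e <;> omega
    obtain ⟨t, ht, hCt⟩ := card_centralizer_eq hG (p := 7) (q := 28) (n₀ := 162) P hP (by norm_num)
      (by rw [hC]; norm_num) (by rw [hN]) (by rw [hn]) (fun n hd h7 => by
        have key : ∀ n ∈ Nat.divisors 162, n % 7 = 1 → n = 1 ∨ n = 162 := by decide +kernel
        rcases key n (Nat.mem_divisors.mpr ⟨hd, by norm_num⟩) h7 with h | h
        · exact Or.inl h
        · exact Or.inr (Or.inl h))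
    exact false_of_small_centralizer_eight (m := 567) (by rw [hn]; norm_num) (by norm_num) ht
      (by rw [hCt]; norm_num)

theorem ne_4620 (hn : Nat.card G = 4620) : False := by
  classical
  have : Fact (Nat.Prime 11) := ⟨by norm_num⟩
  have : Fact (Nat.Prime 7) := ⟨by norm_num⟩
  have : Fact (Nat.Prime 5) := ⟨by norm_num⟩
  have hs11 : ∀ R : Sylow 11 G, Nat.card (R : Subgroup G) = 11 := fun R =>
    (card_sylow_subgroup (k := 1) (m := 420) (by rw [hn]; norm_num) (by norm_num) R).trans (pow_one 11)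
  have hs7 : ∀ R : Sylow 7 G, Nat.card (R : Subgroup G) = 7 := fun R =>
    (card_sylow_subgroup (k := 1) (m := 660) (by rw [hn]; norm_num) (by norm_num) R).trans (pow_one 7)
  have hs5 : ∀ R : Sylow 5 G, Nat.card (R : Subgroup G) = 5 := fun R =>
    (card_sylow_subgroup (k := 1) (m := 924) (by rw [hn]; norm_num) (by norm_num) R).trans (pow_one 5)
  have h11 := sylow_count hG (p := 11) (k := 1) (m := 420) (by rw [hn]; norm_num) (by norm_num) (by norm_num)
  rw [show ((Nat.divisors 420).filter (fun n => n % 11 = 1)).erase 1 = {12, 210} by decide +kernel] at h11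
  simp only [Finset.mem_insert, Finset.mem_singleton] at h11
  have hc11 : ∀ R : Sylow 11 G, Nat.card (centralizer ((R : Subgroup G) : Set G)) = 11 := by
    intro R
    obtain ⟨e, k, he1, hed, hN, hC⟩ := exists_e hG R (hs11 R)
    have h2 := card_normalizer_mul R
    rw [hn, hN, show e * (11 * k) = 11 * (e * k) by ring] at h2
    have he10 : e ≤ 10 := Nat.le_of_dvd (by norm_num) hed
    rcases h11 with h | h <;> rw [h] at h2
    · have h3 := card_normalizer_of_succ hG (p := 11) (by norm_num) R (hs11 R) h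
      rw [hN, show e * (11 * k) = 11 * (e * k) by ring, show e * k = 35 by omega] at h3
      norm_num at h3
    · rw [hC]
      interval_cases e <;> omega
  have h210 : Nat.card (Sylow 11 G) = 210 := by
    rcases h11 with h | h
    · obtain ⟨R⟩ : Nonempty (Sylow 11 G) := inferInstance
      have h3 := card_normalizer_of_succ hG (p := 11) (by norm_num) R (hs11 R) h
      have h2 := card_normalizer_mul R
      rw [h, hn] at h2
      rw [show Nat.card (normalizer ((R : Subgroup G) : Set G)) = 385 by omega] at h3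
      norm_num at h3
    · exact h
  have h7 := sylow_count hG (p := 7) (k := 1) (m := 660) (by rw [hn]; norm_num) (by norm_num) (by norm_num)
  rw [show ((Nat.divisors 660).filter (fun n => n % 7 = 1)).erase 1 = {15, 22, 330} by decide +kernel] at h7
  simp only [Finset.mem_insert, Finset.mem_singleton] at h7
  have hc7 : Nat.card (Sylow 7 G) = 330 ∧
      ∀ R : Sylow 7 G, Nat.card (centralizer ((R : Subgroup G) : Set G)) = 7 := by
    have hsetup : ∀ R : Sylow 7 G, Nat.card (Sylow 7 G) = 330 ∧
        Nat.card (centralizer ((R : Subgroup G) : Set G)) = 7 := by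
      intro R
      obtain ⟨e, k, he1, hed, hN, hC⟩ := exists_e hG R (hs7 R)
      have h2 := card_normalizer_mul R
      rw [hn, hN, show e * (7 * k) = 7 * (e * k) by ring] at h2
      have he6 : e ≤ 6 := Nat.le_of_dvd (by norm_num) hed
      rcases h7 with h | h | h <;> rw [h] at h2
      · obtain ⟨z, hz, hz11⟩ := exists_mem_of_dvd (q := 11) (centralizer ((R : Subgroup G) : Set G))
          (by rw [hC]; interval_cases e <;> omega)
        obtain ⟨R', hR'⟩ := exists_dvd_centralizer R (hs7 R) hs11 hz hz11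
        rw [hc11 R'] at hR'
        norm_num at hR'
      · obtain ⟨z, hz, hz5⟩ := exists_mem_of_dvd (q := 5) (centralizer ((R : Subgroup G) : Set G))
          (by rw [hC]; interval_cases e <;> omega)
        obtain ⟨f, -, hf7, hlt, hf5, -⟩ := exists_fixed hG R (hs7 R) hz hz5
        rw [h] at hlt hf5
        omega
      · refine ⟨h, ?_⟩
        rw [hC]
        interval_cases e <;> omega
    obtain ⟨R⟩ : Nonempty (Sylow 7 G) := inferInstance
    exact ⟨(hsetup R).1, fun R => (hsetup R).2⟩
  have h231 : Nat.card (Sylow 5 G) = 231 := by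
    obtain ⟨R⟩ : Nonempty (Sylow 5 G) := inferInstance
    obtain ⟨e, k, -, hed, hN, hC⟩ := exists_e hG R (hs5 R)
    have hnot : ∀ q, q.Prime → q ∣ k → (∀ Q : Sylow q G, Nat.card (Q : Subgroup G) = q) →
        (∀ Q : Sylow q G, Nat.card (centralizer ((Q : Subgroup G) : Set G)) = q) → q = 5 := by
      intro q hq hqk hsq hcq
      have := Fact.mk hq
      obtain ⟨z, hz, hzq⟩ := exists_mem_of_dvd (q := q) (centralizer ((R : Subgroup G) : Set G))
        (hC ▸ dvd_mul_of_dvd_right hqk 5)
      obtain ⟨Q, hQ⟩ := exists_dvd_centralizer R (hs5 R) hsq hz hzq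
      rw [hcq Q] at hQ
      exact ((Nat.prime_dvd_prime_iff_eq (by norm_num) hq).mp hQ).symm
    have h2 := card_normalizer_mul R
    have h5 := sylow_count hG (p := 5) (k := 1) (m := 924) (by rw [hn]; norm_num) (by norm_num) (by norm_num)
    obtain ⟨h5m, h5d⟩ := Finset.mem_erase.mp h5
    obtain ⟨hnd, h5mod⟩ := Finset.mem_filter.mp h5d
    have he4 : e ∣ 4 := hed
    have he4' := Nat.le_of_dvd (by norm_num) he4
    rw [hn, hN] at h2
    have hprod : Nat.card (Sylow 5 G) * e * k = 924 := by
      refine Nat.eq_of_mul_eq_mul_left (show 0 < 5 by norm_num) ?_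
      linarith
    have hdiv : ∀ q, q.Prime → q ∣ 924 → 4 < q → ¬ q ∣ k → q ∣ Nat.card (Sylow 5 G) := by
      intro q hq hd hq4 hk
      rw [← hprod] at hd
      rcases hq.dvd_mul.mp hd with h | h
      · rcases hq.dvd_mul.mp h with h' | h'
        · exact h'
        · have := Nat.le_of_dvd (by norm_num) (h'.trans he4)
          omega
      · exact absurd h hk
    have h7' := hdiv 7 (by norm_num) (by norm_num) (by norm_num) fun hd => by
      have := hnot 7 (by norm_num) hd hs7 hc7.2
      omega
    have h11' := hdiv 11 (by norm_num) (by norm_num) (by norm_num) fun hd => by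
      have := hnot 11 (by norm_num) hd hs11 hc11
      omega
    have key : ∀ n ∈ Nat.divisors 924, n % 5 = 1 → 7 ∣ n → 11 ∣ n → n = 231 := by decide +kernel
    exact key _ hnd h5mod h7' h11'
  have hc := TwoClass.count_order (p := 5) hs5
  have hd := TwoClass.count_order (p := 7) hs7
  have he := TwoClass.count_order (p := 11) hs11
  rw [h231] at hc
  rw [hc7.1] at hd
  rw [h210] at he
  have := Fintype.ofFinite G
  have hcount : Nat.card {g : G // orderOf g = 5} + Nat.card {g : G // orderOf g = 7} +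
      Nat.card {g : G // orderOf g = 11} ≤ Nat.card G := by
    simp only [Nat.card_eq_fintype_card, Fintype.card_subtype]
    rw [← Finset.card_union_of_disjoint (Finset.disjoint_filter.mpr fun g _ h h' => by omega),
      ← Finset.card_union_of_disjoint (Finset.disjoint_union_left.mpr
        ⟨Finset.disjoint_filter.mpr fun g _ h h' => by omega,
          Finset.disjoint_filter.mpr fun g _ h h' => by omega⟩)]
    exact Finset.card_le_univ _
  omega

theorem ne_5148 (hn : Nat.card G = 5148) : False := by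
  have : Fact (Nat.Prime 11) := ⟨by norm_num⟩
  have : Fact (Nat.Prime 3) := ⟨Nat.prime_three⟩
  have h1 := sylow_count hG (p := 11) (k := 1) (m := 468) (by rw [hn]; norm_num) (by norm_num) (by norm_num)
  rw [show ((Nat.divisors 468).filter (fun n => n % 11 = 1)).erase 1 = {12, 78} by decide +kernel] at h1
  simp only [Finset.mem_insert, Finset.mem_singleton] at h1
  obtain ⟨P, e, k, hP, he1, hed, hek, hN, hC⟩ :=
    prime_order_setup hG (p := 11) (m := 468) (by rw [hn]) (by norm_num) rfl
  have he10 : e ≤ 10 := Nat.le_of_dvd (by norm_num) hed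
  rcases h1 with h1 | h1 <;> rw [h1] at hek
  · have h3 := card_normalizer_of_succ hG (p := 11) (by norm_num) P hP h1
    rw [hN, show e * (11 * k) = 11 * (e * k) by ring, show e * k = 39 by omega] at h3
    norm_num at h3
  obtain ⟨rfl, rfl⟩ : e = 2 ∧ k = 3 := by interval_cases e <;> omega
  obtain ⟨y, hy, hy3⟩ := exists_mem_of_dvd (q := 3) (centralizer ((P : Subgroup G) : Set G))
    (by rw [hC]; norm_num)
  obtain ⟨n, h, hn11, hnlt, -, hH, h33, hhN, hdvd⟩ := centralizer_shape hG (by norm_num) P hP hy hy3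
  rw [h1] at hnlt
  rw [hn] at hdvd
  rw [hN] at hhN
  obtain ⟨S, hS⟩ := (IsPGroup.of_card (n := 1) (by rw [Nat.card_zpowers, hy3, pow_one]) :
    IsPGroup 3 ↥(zpowers y)).exists_le_sylow
  have hSc : Nat.card (S : Subgroup G) = 3 ^ 2 :=
    card_sylow_subgroup (k := 2) (m := 572) (by rw [hn]; norm_num) (by norm_num) S
  have hSab : IsMulCommutative ↥(S : Subgroup G) := IsPGroup.isMulCommutative_of_card_eq_prime_sq hSc
  have h9 : 9 ∣ Nat.card (centralizer ({y} : Set G)) := by
    have hle : (S : Subgroup G) ≤ centralizer ({y} : Set G) := fun s hs => mem_centralizer_singleton_iff.mpr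
      (congrArg Subtype.val (hSab.is_comm.comm (⟨s, hs⟩ : (S : Subgroup G)) ⟨y, hS (mem_zpowers y)⟩))
    have := card_dvd_of_le hle
    rw [hSc] at this
    simpa using this
  rw [hH] at h9
  have hd : n ∣ 156 :=
    Nat.dvd_of_mul_dvd_mul_right (show 0 < 11 * 3 by norm_num) ((Nat.mul_dvd_mul_left n h33).trans hdvd)
  have key : ∀ n ∈ Nat.divisors 156, n % 11 = 1 → n < 78 → n = 1 ∨ n = 12 := by decide +kernel
  have key2 : ∀ h ∈ Nat.divisors 66, 33 ∣ h → ∀ n ∈ ({1, 12} : Finset ℕ), 9 ∣ n * h → n * h ∣ 5148 → n * h = 396 := by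
    decide +kernel
  have h396 := key2 h (Nat.mem_divisors.mpr ⟨hhN, by norm_num⟩) h33 n
    (by simpa using key n (Nat.mem_divisors.mpr ⟨hd, by norm_num⟩) hn11 hnlt) h9 hdvd
  set H := centralizer ({y} : Set G)
  have hy1 : y ≠ 1 := fun e => by rw [e, orderOf_one] at hy3; omega
  have hidx : H.index = 13 := by
    have := H.index_mul_card
    rw [hH, h396, hn] at this
    omega
  obtain ⟨x, hxP, hx⟩ := exists_mem_of_dvd (q := 11) (P : Subgroup G) (by rw [hP])
  have hcomm : Commute x y := mem_centralizer_iff.mp hy x hxP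
  have hHtop := centralizer_ne_top hG hy1
  have hfx := card_fixedBy_modEq H hx
  have hfy := card_fixedBy_modEq H hy3
  have hltx := card_fixedBy_lt H hHtop (x := x) (fun e => by rw [e, orderOf_one] at hx; omega)
  have hlty := card_fixedBy_lt H hHtop hy1
  have hxy := card_fixed_common H hcomm hy3
  have hyx := card_fixed_common H hcomm.symm hx
  have hle : Nat.card ↥(MulAction.fixedBy (G ⧸ H) x ∩ MulAction.fixedBy (G ⧸ H) y) ≤
      Nat.card (MulAction.fixedBy (G ⧸ H) x) :=
    Nat.card_mono (Set.toFinite _) Set.inter_subset_left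
  rw [Set.inter_comm] at hyx
  rw [hidx] at hfx hfy hltx hlty
  omega

theorem ne_5376 (hn : Nat.card G = 5376) : False := by
  have : Fact (Nat.Prime 7) := ⟨by norm_num⟩
  have : Fact (Nat.Prime 2) := ⟨Nat.prime_two⟩
  have h1 := sylow_count hG (p := 7) (k := 1) (m := 768) (by rw [hn]; norm_num) (by norm_num) (by norm_num)
  rw [show ((Nat.divisors 768).filter (fun n => n % 7 = 1)).erase 1 = {8, 64} by decide +kernel] at h1
  simp only [Finset.mem_insert, Finset.mem_singleton] at h1
  obtain ⟨P, e, k, hP, he1, hed, hek, hN, hC⟩ :=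
    prime_order_setup hG (p := 7) (m := 768) (by rw [hn]) (by norm_num) rfl
  rcases h1 with h1 | h1 <;> rw [h1] at hek
  · exact absurd (h1 ▸ embeds hG (p := 7) (by rw [hn]; norm_num)) (by rw [hn]; decide +kernel)
  have he6 : e ≤ 6 := Nat.le_of_dvd (by norm_num) hed
  obtain ⟨t, ht, ht2⟩ := exists_mem_of_dvd (q := 2) (centralizer ((P : Subgroup G) : Set G))
    (by rw [hC]; interval_cases e <;> omega)
  obtain ⟨S⟩ : Nonempty (Sylow 2 G) := inferInstance
  have hS : Nat.card (S : Subgroup G) = 256 :=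
    (card_sylow_subgroup (k := 8) (m := 21) (by rw [hn]; norm_num) (by norm_num) S).trans (by norm_num)
  have h2 := sylow_count hG (p := 2) (k := 8) (m := 21) (by rw [hn]; norm_num) (by norm_num) (by norm_num)
  rw [show ((Nat.divisors 21).filter (fun n => n % 2 = 1)).erase 1 = {3, 7, 21} by decide +kernel] at h2
  simp only [Finset.mem_insert, Finset.mem_singleton] at h2
  have h21 : Nat.card (Sylow 2 G) = 21 := by
    rcases h2 with h2 | h2 | h2
    · exact absurd (h2 ▸ embeds hG (p := 2) (by rw [hn]; norm_num)) (by rw [hn]; decide +kernel)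
    · exact absurd (h2 ▸ embeds hG (p := 2) (by rw [hn]; norm_num)) (by rw [hn]; decide +kernel)
    · exact h2
  set N := normalizer ((S : Subgroup G) : Set G)
  have hidx : N.index = 21 := S.card_eq_index_normalizer.symm.trans h21
  have hNc : Nat.card N = 256 := by
    have := N.index_mul_card
    rw [hidx, hn] at this
    omega
  have ht1 : t ≠ 1 := fun e => by rw [e, orderOf_one] at ht2; omega
  have hmul := fixed_mul N t
  have h7 : 7 ∣ Nat.card (centralizer ({t} : Set G)) := hP ▸ card_dvd_of_le (le_centralizer_singleton P ht)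
  obtain ⟨j, hj⟩ := h7
  rw [hj, hNc, mul_comm 7 j, ← mul_assoc] at hmul
  have hlt := card_fixedBy_lt N (fun e => by rw [e, index_top] at hidx; omega) ht1
  have h4 := card_fixedBy_mod_four hG N (s := t) (by rw [← pow_two, ← ht2, pow_orderOf_eq_one])
  rw [hidx] at hlt h4
  omega

theorem ne_5460 (hn : Nat.card G = 5460) : False := by
  classical
  have : Fact (Nat.Prime 13) := ⟨by norm_num⟩
  have : Fact (Nat.Prime 2) := ⟨Nat.prime_two⟩
  have h1 := sylow_count hG (p := 13) (k := 1) (m := 420) (by rw [hn]; norm_num) (by norm_num) (by norm_num)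
  rw [show ((Nat.divisors 420).filter (fun n => n % 13 = 1)).erase 1 = {14, 105} by decide +kernel] at h1
  simp only [Finset.mem_insert, Finset.mem_singleton] at h1
  obtain ⟨P, e, k, hP, he1, hed, hek, hN, hC⟩ :=
    prime_order_setup hG (p := 13) (m := 420) (by rw [hn]) (by norm_num) rfl
  have he12 : e ≤ 12 := Nat.le_of_dvd (by norm_num) hed
  rcases h1 with h1 | h1 <;> rw [h1] at hek
  · have h3 := card_normalizer_of_succ hG (p := 13) (by norm_num) P hP h1
    rw [hN, show e * (13 * k) = 13 * (e * k) by ring, show e * k = 30 by omega] at h3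
    norm_num at h3
  have hcases : (e = 2 ∧ k = 2) ∨ (e = 4 ∧ k = 1) := by interval_cases e <;> omega
  rcases hcases with ⟨rfl, rfl⟩ | ⟨rfl, rfl⟩
  swap
  · exact false_of_four_self hG (m := 1365) (by rw [hn]; norm_num) (by norm_num) P hP (by rw [hC]; norm_num)
      (by rw [hN]; norm_num)
  obtain ⟨t, ht, ht2⟩ := exists_mem_of_dvd (q := 2) (centralizer ((P : Subgroup G) : Set G))
    (by rw [hC]; norm_num)
  obtain ⟨u, hu2, huN, huC⟩ := exists_inverting hG (m := 1365) (by rw [hn]; norm_num) (by norm_num) P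
    (by rw [hN]; norm_num) (by rw [hC]; norm_num)
  have hc := le_card_conj_in_normalizer P hP huN huC
    (isConj_involution (m := 1365) (by rw [hn]; norm_num) (by norm_num) ht2 hu2)
  obtain ⟨f, hf, h13, hlt, -, h4⟩ := exists_fixed hG P hP ht ht2
  have h4' := h4 rfl
  rw [h1] at hlt h4'
  obtain ⟨n, h, -, -, -, hH, h26, -, hdvd⟩ := centralizer_shape hG (by norm_num) P hP ht ht2
  have hmul := fixed_mul (normalizer ((P : Subgroup G) : Set G)) t
  rw [← hf, hN] at hmul
  have hle : Nat.card {g : G // IsConj t g ∧ g ∈ normalizer ((P : Subgroup G) : Set G)} ≤ 52 := by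
    have : Nat.card (normalizer ((P : Subgroup G) : Set G)) = 52 := by rw [hN]
    rw [← this]
    exact Nat.card_le_card_of_injective (fun g => ⟨g.1, g.2.2⟩) fun a b e =>
      Subtype.ext (congrArg Subtype.val e :)
  have hd26 : 26 ∣ Nat.card (centralizer ({t} : Set G)) := hH ▸ dvd_mul_of_dvd_right h26 n
  obtain ⟨j, hj⟩ := hd26
  have hjd : j ∣ 210 := by
    have := card_subgroup_dvd_card (centralizer ({t} : Set G))
    rw [hj, hn] at this
    exact Nat.dvd_of_mul_dvd_mul_left (show 0 < 26 by norm_num) this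
  have hf' : f = 1 ∨ f = 53 := by omega
  generalize Nat.card {g : G // IsConj t g ∧ g ∈ normalizer ((P : Subgroup G) : Set G)} = c at hc hle hmul
  rw [hj] at hmul
  replace hmul : f * 52 = c * j * 26 := by linarith
  have hj0 : 0 < j := Nat.pos_of_ne_zero fun e => by rw [e] at hjd; simp at hjd
  have hcj : 13 * j ≤ c * j := Nat.mul_le_mul_right j hc
  rcases hf' with rfl | rfl
  · omega
  · have : j ∣ 106 := ⟨c, by rw [mul_comm j]; omega⟩
    have key : ∀ j ∈ Nat.divisors 106, j ∣ 210 → j = 1 ∨ j = 2 := by decide +kernel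
    rcases key j (Nat.mem_divisors.mpr ⟨this, by norm_num⟩) hjd with rfl | rfl <;> omega

theorem ne_5940 (hn : Nat.card G = 5940) : False := by
  classical
  have : Fact (Nat.Prime 11) := ⟨by norm_num⟩
  have : Fact (Nat.Prime 2) := ⟨Nat.prime_two⟩
  have h1 := sylow_count hG (p := 11) (k := 1) (m := 540) (by rw [hn]; norm_num) (by norm_num) (by norm_num)
  rw [show ((Nat.divisors 540).filter (fun n => n % 11 = 1)).erase 1 = {12, 45, 540} by decide +kernel] at h1
  simp only [Finset.mem_insert, Finset.mem_singleton] at h1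
  obtain ⟨P, e, k, hP, he1, hed, hek, hN, hC⟩ :=
    prime_order_setup hG (p := 11) (m := 540) (by rw [hn]) (by norm_num) rfl
  have he10 : e ≤ 10 := Nat.le_of_dvd (by norm_num) hed
  rcases h1 with h1 | h1 | h1 <;> rw [h1] at hek
  rotate_left 2
  · interval_cases e <;> omega
  · have h3 := card_normalizer_of_succ hG (p := 11) (by norm_num) P hP h1
    rw [hN, show e * (11 * k) = 11 * (e * k) by ring, show e * k = 45 by omega] at h3
    norm_num at h3
  obtain ⟨rfl, rfl⟩ : e = 2 ∧ k = 6 := by
    interval_cases e <;> first | omega | (norm_num at hed)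
  obtain ⟨t, ht, ht2⟩ := exists_mem_of_dvd (q := 2) (centralizer ((P : Subgroup G) : Set G))
    (by rw [hC]; norm_num)
  obtain ⟨u, hu2, huN, huC⟩ := exists_inverting hG (m := 1485) (by rw [hn]; norm_num) (by norm_num) P
    (by rw [hN]; norm_num) (by rw [hC]; norm_num)
  have hc := le_card_conj_in_normalizer P hP huN huC
    (isConj_involution (m := 1485) (by rw [hn]; norm_num) (by norm_num) ht2 hu2)
  obtain ⟨f, hf, h11, hlt, -, h4⟩ := exists_fixed hG P hP ht ht2
  have h4' := h4 rfl
  rw [h1] at hlt h4'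
  obtain ⟨n, h, -, -, -, hH, h22, -, hdvd⟩ := centralizer_shape hG (by norm_num) P hP ht ht2
  have hmul := fixed_mul (normalizer ((P : Subgroup G) : Set G)) t
  rw [← hf, hN] at hmul
  have h22' : 22 ≤ Nat.card (centralizer ({t} : Set G)) :=
    Nat.le_of_dvd Nat.card_pos (hH ▸ dvd_mul_of_dvd_right h22 n)
  have := Nat.mul_le_mul hc h22'
  have hf1 : f = 1 := by omega
  subst hf1
  omega

end CfsgLib.SmallGroups.OrdersMid
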