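import Cfsg.Agent.Lib.SmallGroups.OrdersMidTools

/-!
# Excluded orders between 3640 and 6232 with a Sylow subgroup of order the square of a prime
-/

set_option autoImplicit false

namespace CfsgLib.SmallGroups.OrdersMid

open Subgroup CfsgLib.SmallGroups.SimpleTools CfsgLib.SmallGroups.LocalTools
  CfsgLib.SmallGroups.OrdersBelow1092

variable {G : Type*} [Group G] [Finite G]

/-- The other Sylow subgroups containing a line are those of its normaliser. -/
theorem line_others {p : ℕ} [Fact p.Prime] (hsq : ∀ Q : Sylow p G, Nat.card (Q : Subgroup G) = p ^ 2)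
    (P : Sylow p G) {D : Subgroup G} (hD : D ≤ (P : Subgroup G)) :
    Nat.card {Q : Sylow p G // (Q : Subgroup G) ≤ normalizer (D : Set G)} =
      Nat.card {Q : Sylow p G // Q ≠ P ∧ D ≤ (Q : Subgroup G)} + 1 := by
  classical
  have := Fintype.ofFinite (Sylow p G)
  have habel : ∀ Q : Sylow p G, D ≤ (Q : Subgroup G) → (Q : Subgroup G) ≤ normalizer (D : Set G) := by
    intro Q hQ a ha
    have := IsPGroup.isMulCommutative_of_card_eq_prime_sq (hsq Q)
    refine centralizer_le_normalizer _ (mem_centralizer_iff.mpr fun b hb => ?_)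
    exact congrArg Subtype.val (this.is_comm.comm ⟨b, hQ hb⟩ ⟨a, ha⟩)
  have hback : ∀ Q : Sylow p G, (Q : Subgroup G) ≤ normalizer (D : Set G) → D ≤ (Q : Subgroup G) := by
    intro Q hQ
    have hsup : IsPGroup p ↥((Q : Subgroup G) ⊔ D) :=
      Q.isPGroup'.to_sup_of_normal_right' (P.isPGroup'.to_le hD) hQ
    rw [← Q.3 hsup le_sup_left]
    exact le_sup_right
  have hPmem : (P : Subgroup G) ≤ normalizer (D : Set G) := habel P hD
  have hset : (Finset.univ.filter fun Q : Sylow p G => (Q : Subgroup G) ≤ normalizer (D : Set G)) =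
      insert P (Finset.univ.filter fun Q : Sylow p G => Q ≠ P ∧ D ≤ (Q : Subgroup G)) := by
    ext Q
    simp only [Finset.mem_filter, Finset.mem_univ, true_and, Finset.mem_insert]
    constructor
    · intro h
      by_cases e : Q = P
      · exact Or.inl e
      · exact Or.inr ⟨e, hback Q h⟩
    · rintro (rfl | ⟨-, h⟩)
      · exact hPmem
      · exact habel Q h
  simp only [Nat.card_eq_fintype_card, Fintype.card_subtype]
  rw [hset, Finset.card_insert_of_notMem (by simp)]

/-- The numerical data of a line shared by two Sylow subgroups. -/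
theorem line_facts [IsSimpleGroup G] (hG : ¬ IsMulCommutative G) {p : ℕ} [Fact p.Prime]
    (hsq : ∀ Q : Sylow p G, Nat.card (Q : Subgroup G) = p ^ 2) (P R : Sylow p G) (hne : P ≠ R)
    {D : Subgroup G} (hDP : D ≤ (P : Subgroup G)) (hDR : D ≤ (R : Subgroup G)) (hD : Nat.card D = p) :
    ∃ n h, 1 < n ∧ n % p = 1 ∧ n < Nat.card (Sylow p G) ∧
      h = Nat.card ↥(normalizer (D : Set G) ⊓ normalizer ((P : Subgroup G) : Set G)) ∧
      Nat.card (normalizer (D : Set G)) = n * h ∧
      h ∣ Nat.card (normalizer ((P : Subgroup G) : Set G)) ∧ p ^ 2 ∣ h ∧ n * h ∣ Nat.card G ∧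
      normalizer (D : Set G) ≠ ⊤ ∧
      n = Nat.card {Q : Sylow p G // Q ≠ P ∧ D ≤ (Q : Subgroup G)} + 1 := by
  have hp : p.Prime := Fact.out
  have hdvd : p ∣ Nat.card G :=
    (dvd_pow_self p two_ne_zero).trans ((hsq P) ▸ card_subgroup_dvd_card (P : Subgroup G))
  have hM : normalizer (D : Set G) ≠ ⊤ := by
    intro e
    rcases (normalizer_eq_top_iff.mp e).eq_bot_or_eq_top with h | h
    · rw [h, card_bot] at hD; exact hp.one_lt.ne hD
    · have := Nat.le_of_dvd Nat.card_pos (card_dvd_of_le hDP)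
      have h2 := card_dvd_of_le hDP
      rw [hD, hsq] at h2
      have : (P : Subgroup G) ≤ R := fun x _ => hDR (h ▸ mem_top x)
      exact hne (Sylow.ext (eq_of_le_of_card_ge this (by rw [hsq, hsq])))
  have hle : ∀ Q : Sylow p G, D ≤ (Q : Subgroup G) → (Q : Subgroup G) ≤ normalizer (D : Set G) := by
    intro Q hQ a ha
    have := IsPGroup.isMulCommutative_of_card_eq_prime_sq (hsq Q)
    refine centralizer_le_normalizer _ (mem_centralizer_iff.mpr fun b hb => ?_)
    exact congrArg Subtype.val (this.is_comm.comm ⟨b, hQ hb⟩ ⟨a, ha⟩)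
  obtain ⟨n, hn1, hnp, hc, hlt, hcount⟩ := one_lt_count hG P R hne hdvd (hle P hDP) (hle R hDR) hM
  refine ⟨n, _, hn1, hnp, hlt, rfl, hc, card_dvd_of_le inf_le_right, ?_, hc ▸ card_subgroup_dvd_card _, hM,
    hcount.trans (line_others hsq P hDP)⟩
  rw [← hsq P]
  exact card_dvd_of_le (le_inf (hle P hDP) le_normalizer)

/-- The conjugates of a line under the normaliser of the Sylow subgroup. -/
theorem exists_orbit {p : ℕ} [Fact p.Prime] (P : Sylow p G) {D : Subgroup G} (hDP : D ≤ (P : Subgroup G))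
    (hD : Nat.card D = p) :
    ∃ L : Finset (Subgroup G),
      L.card * Nat.card ↥(normalizer (D : Set G) ⊓ normalizer ((P : Subgroup G) : Set G)) =
        Nat.card (normalizer ((P : Subgroup G) : Set G)) ∧
      ∀ D' ∈ L, D' ≤ (P : Subgroup G) ∧ Nat.card D' = p ∧
        Nat.card {Q : Sylow p G // Q ≠ P ∧ D' ≤ (Q : Subgroup G)} =
          Nat.card {Q : Sylow p G // Q ≠ P ∧ D ≤ (Q : Subgroup G)} := by
  classical
  set N := normalizer ((P : Subgroup G) : Set G)
  set M := normalizer (D : Set G)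
  have := Fintype.ofFinite (N ⧸ M.subgroupOf N)
  let c : G → Subgroup G := fun g => D.map (MulAut.conj g).toMonoidHom
  have hc : ∀ a b : G, c (a * b) = (c b).map (MulAut.conj a).toMonoidHom := fun a b => by
    show D.map _ = (D.map _).map _
    rw [map_map]
    congr 1
    ext x
    simp [MulAut.conj_apply, mul_assoc]
  have hfix : ∀ g, c g = D ↔ g ∈ M := fun g => (mem_normalizer_iff_map_conj_eq).symm
  let f : N ⧸ M.subgroupOf N → Subgroup G := fun q => Quotient.liftOn' q (fun g => c (g : G)) (by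
    intro a b hab
    rw [QuotientGroup.leftRel_apply, mem_subgroupOf, ← hfix] at hab
    simp only [Subgroup.coe_mul, Subgroup.coe_inv] at hab
    show c (a : G) = c (b : G)
    conv_rhs => rw [show (b : G) = (a : G) * ((a : G)⁻¹ * b) by group, hc, hab])
  have hf : Function.Injective f := by
    intro q q'
    induction q using QuotientGroup.induction_on with | _ a => ?_
    induction q' using QuotientGroup.induction_on with | _ b => ?_
    intro e
    change c (a : G) = c (b : G) at e
    rw [QuotientGroup.eq, mem_subgroupOf, ← hfix]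
    simp only [Subgroup.coe_mul, Subgroup.coe_inv]
    rw [hc, ← e, ← hc, inv_mul_cancel]
    show D.map _ = D
    rw [map_one]
    exact D.map_id
  refine ⟨Finset.univ.image f, ?_, fun D' hD' => ?_⟩
  · rw [Finset.card_image_of_injective _ hf, Finset.card_univ, ← Nat.card_eq_fintype_card]
    have h := (M.subgroupOf N).index_mul_card
    rw [← inf_subgroupOf_right, Nat.card_congr (subgroupOfEquivOfLe inf_le_right).toEquiv,
      inf_subgroupOf_right] at h
    exact h
  · obtain ⟨q, -, rfl⟩ := Finset.mem_image.mp hD'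
    induction q using QuotientGroup.induction_on with | _ a => ?_
    show c (a : G) ≤ _ ∧ _
    have hPa : (a : G) • P = P := Sylow.smul_eq_iff_mem_normalizer.mpr a.2
    refine ⟨?_, ?_, Nat.card_congr ?_⟩
    · rintro _ ⟨x, hx, rfl⟩
      exact (mem_normalizer_iff.mp a.2 x).mp (hDP hx)
    · show Nat.card ↥(D.map _) = p
      rw [card_map_of_injective (MulAut.conj (a : G)).injective, hD]
    · refine ((MulAction.toPerm (a : G) : Equiv.Perm (Sylow p G)).subtypeEquiv fun Q => ?_).symm
      show Q ≠ P ∧ D ≤ Q ↔ (a : G) • Q ≠ P ∧ c (a : G) ≤ ((a : G) • Q : Sylow p G)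
      refine and_congr (not_congr ⟨fun e => by rw [e, hPa], fun e => ?_⟩) ?_
      · exact MulAction.injective (a : G) (e.trans hPa.symm)
      · exact (map_le_map_iff_of_injective (f := (MulAut.conj (a : G)).toMonoidHom)
          (MulAut.conj (a : G)).injective).symm

/-- The orbit of a line is small. -/
theorem orbit_bound {p : ℕ} [Fact p.Prime] (P : Sylow p G) (hP : Nat.card (P : Subgroup G) = p ^ 2)
    {D : Subgroup G} (hDP : D ≤ (P : Subgroup G)) (hD : Nat.card D = p) :
    ∃ i, i * Nat.card ↥(normalizer (D : Set G) ⊓ normalizer ((P : Subgroup G) : Set G)) =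
        Nat.card (normalizer ((P : Subgroup G) : Set G)) ∧
      i * Nat.card {Q : Sylow p G // Q ≠ P ∧ D ≤ (Q : Subgroup G)} + 1 ≤ Nat.card (Sylow p G) := by
  obtain ⟨L, hL, hL'⟩ := exists_orbit P hDP hD
  exact ⟨L.card, hL, lines_le P hP L _ (fun D' h => ⟨(hL' D' h).1, (hL' D' h).2.1⟩)
    fun D' h => (hL' D' h).2.2.ge⟩

theorem mul_le_of_index [IsSimpleGroup G] (hG : ¬ IsMulCommutative G) {H : Subgroup G} (hH : H ≠ ⊤) {b : ℕ}
    (hb : ¬ 2 * Nat.card G ∣ b.factorial) : (b + 1) * Nat.card H ≤ Nat.card G := by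
  rw [← H.index_mul_card]
  exact Nat.mul_le_mul_right _ (lt_of_index hG H hH hb)

variable [IsSimpleGroup G] (hG : ¬ IsMulCommutative G)
include hG

theorem ne_5880 (hn : Nat.card G = 5880) : False := by
  have : Fact (Nat.Prime 7) := ⟨by norm_num⟩
  have hcard : Nat.card G = 7 ^ 2 * 120 := by rw [hn]; norm_num
  have hsq : ∀ Q : Sylow 7 G, Nat.card (Q : Subgroup G) = 7 ^ 2 := card_sylow_subgroup hcard (by norm_num)
  have h1 := sylow_count hG hcard (by norm_num) (by norm_num)
  rw [show ((Nat.divisors 120).filter (fun n => n % 7 = 1)).erase 1 = {8, 15, 120} by decide +kernel] at h1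
  simp only [Finset.mem_insert, Finset.mem_singleton] at h1
  rcases h1 with h1 | h1 | h1
  · exact absurd (h1 ▸ embeds hG (p := 7) (by rw [hn]; norm_num)) (by rw [hn]; decide +kernel)
  · obtain ⟨P, R, D, hne, hDP, hDR, hD, -, -, -⟩ := exists_meet hG hcard (by norm_num) le_rfl
      (by rw [h1]; decide)
    have hD' : Nat.card D = 7 := by omega
    obtain ⟨n, h, hn1, hn7, hlt, hh, hc, hhN, h49, hdvd, hM, hcount⟩ :=
      line_facts hG hsq P R hne hDP hDR hD'
    obtain ⟨i, hi, hib⟩ := orbit_bound P (hsq P) hDP hD'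
    have hle := mul_le_of_index hG hM (b := 13) (by rw [hn]; decide +kernel)
    have hmul := card_normalizer_mul P
    rw [h1, hn] at hmul
    rw [hc, hn] at hle
    rw [h1] at hlt hib
    obtain rfl : n = 8 := by omega
    obtain ⟨j, rfl⟩ := h49
    rw [← hh] at hi
    obtain rfl : j = 1 := by
      rcases Nat.eq_zero_or_pos j with h0 | h0
      · rw [h0, mul_zero] at hh
        exact absurd hh.symm Nat.card_pos.ne'
      · omega
    generalize Nat.card {Q : Sylow 7 G // Q ≠ P ∧ D ≤ (Q : Subgroup G)} = r at hcount hib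
    obtain rfl : r = 7 := by omega
    omega
  · obtain ⟨P⟩ : Nonempty (Sylow 7 G) := inferInstance
    have hab := IsPGroup.isMulCommutative_of_card_eq_prime_sq (hsq P)
    refine SimpleOrders.ne_card_normalizer_eq hG (by rw [hn]; norm_num) P (fun a b => hab.is_comm.comm a b) ?_
    have hmul := card_normalizer_mul P
    rw [h1, hn] at hmul
    rw [hsq P]
    omega

theorem ne_4800 (hn : Nat.card G = 4800) : False := by
  classical
  have : Fact (Nat.Prime 5) := ⟨by norm_num⟩
  have : Fact (Nat.Prime 2) := ⟨Nat.prime_two⟩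
  have hcard : Nat.card G = 5 ^ 2 * 192 := by rw [hn]; norm_num
  have hsq : ∀ Q : Sylow 5 G, Nat.card (Q : Subgroup G) = 5 ^ 2 := card_sylow_subgroup hcard (by norm_num)
  have h1 := sylow_count hG hcard (by norm_num) (by norm_num)
  rw [show ((Nat.divisors 192).filter (fun n => n % 5 = 1)).erase 1 = {6, 16, 96} by decide +kernel] at h1
  simp only [Finset.mem_insert, Finset.mem_singleton] at h1
  rcases h1 with h1 | h1 | h1
  · exact absurd (h1 ▸ embeds hG (p := 5) (by rw [hn]; norm_num)) (by rw [hn]; decide +kernel)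
  all_goals
    obtain ⟨P, R, D, hne, hDP, hDR, hD, -, -, -⟩ := exists_meet hG hcard (by norm_num) le_rfl
      (by rw [h1]; decide)
    have hD' : Nat.card D = 5 := by omega
    obtain ⟨n, h, hn1, hn5, hlt, hh, hc, hhN, h25, hdvd, hM, hcount⟩ :=
      line_facts hG hsq P R hne hDP hDR hD'
    have hle := mul_le_of_index hG hM (b := 9) (by rw [hn]; decide +kernel)
    rw [hc, hn] at hle
    rw [hn] at hdvd
    have hmul := card_normalizer_mul P
    rw [h1, hn] at hmul
    rw [h1] at hlt
  · obtain ⟨i, hi, hib⟩ := orbit_bound P (hsq P) hDP hD'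
    rw [h1] at hib
    rw [← hh] at hi
    obtain rfl : n = 6 := by
      have key : ∀ n < 16, 1 < n → n % 5 = 1 → n ∣ 4800 → n = 6 := by decide +kernel
      exact key n hlt hn1 hn5 ((dvd_mul_right n h).trans hdvd)
    generalize Nat.card {Q : Sylow 5 G // Q ≠ P ∧ D ≤ (Q : Subgroup G)} = r at hcount hib
    obtain rfl : r = 5 := by omega
    obtain ⟨j, rfl⟩ := h25
    have hi' : i ≤ 3 := by omega
    interval_cases i <;> omega
  set N := normalizer ((P : Subgroup G) : Set G)
  have hN : Nat.card N = 50 := by omega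
  have hab := IsPGroup.isMulCommutative_of_card_eq_prime_sq (hsq P)
  have hPC : (P : Subgroup G) ≤ centralizer ((P : Subgroup G) : Set G) := fun a ha =>
    mem_centralizer_iff.mpr fun b hb => congrArg Subtype.val (hab.is_comm.comm ⟨b, hb⟩ ⟨a, ha⟩)
  obtain ⟨u, huN, hu2⟩ := exists_mem_of_dvd (q := 2) N (by rw [hN]; norm_num)
  have huu : u * u = 1 := by rw [← pow_two, ← hu2, pow_orderOf_eq_one]
  have huP : u ∉ (P : Subgroup G) := fun hm => by
    have := Subgroup.orderOf_dvd_natCard _ hm
    rw [hu2, hsq] at this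
    norm_num at this
  have hidx : ((P : Subgroup G).subgroupOf N).index = 2 := by
    have := ((P : Subgroup G).subgroupOf N).index_mul_card
    rw [Nat.card_congr (subgroupOfEquivOfLe le_normalizer).toEquiv, hsq, hN] at this
    omega
  have hsplit : ∀ g ∈ N, g ∈ (P : Subgroup G) ∨ u * g ∈ (P : Subgroup G) := by
    intro g hg
    have h := mul_mem_iff_of_index_two hidx (a := ⟨u, huN⟩) (b := ⟨g, hg⟩)
    simp only [mem_subgroupOf, Subgroup.coe_mul] at h
    tauto
  have hinv : ∀ a ∈ (P : Subgroup G), u * a * u⁻¹ = a⁻¹ := by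
    intro a ha
    have hu' : u⁻¹ = u := inv_eq_of_mul_eq_one_right huu
    have hua : u * a * u⁻¹ ∈ (P : Subgroup G) := (mem_normalizer_iff.mp huN a).mp ha
    have hc' : a * (u * a * u⁻¹) = u * a * u⁻¹ * a := congrArg Subtype.val (hab.is_comm.comm ⟨a, ha⟩ ⟨_, hua⟩)
    have hzP : a * (u * a * u⁻¹) ∈ (P : Subgroup G) := mul_mem ha hua
    refine (inv_eq_of_mul_eq_one_right (TwoClass.eq_one_of_central hG P hzP fun g hg => ?_)).symm
    have hzc : ∀ b ∈ (P : Subgroup G), b * (a * (u * a * u⁻¹)) = a * (u * a * u⁻¹) * b := fun b hb =>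
      congrArg Subtype.val (hab.is_comm.comm ⟨b, hb⟩ ⟨_, hzP⟩)
    rcases hsplit g hg with h | h
    · exact hzc g h
    · have hzu : u * (a * (u * a * u⁻¹)) = a * (u * a * u⁻¹) * u := by
        rw [hu'] at hc' ⊢
        calc u * (a * (u * a * u)) = (u * a * u) * a * u := by group
          _ = (a * (u * a * u)) * u := by rw [hc']
      rw [show g = u * (u * g) by rw [← mul_assoc, huu, one_mul]]
      exact ((show Commute u _ from hzu).mul_left (hzc _ h)).eq
  set M := normalizer (D : Set G)
  have huM : u ∈ M := by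
    refine mem_normalizer_iff.mpr fun a => ?_
    have hu' : u⁻¹ = u := inv_eq_of_mul_eq_one_right huu
    constructor
    · intro ha
      rw [hinv a (hDP ha)]
      exact inv_mem ha
    · intro ha
      have h2 := hinv _ (hDP ha)
      have : u * (u * a * u⁻¹) * u⁻¹ = a := by
        rw [hu']
        calc u * (u * a * u) * u = (u * u) * a * (u * u) := by group
          _ = a := by rw [huu, one_mul, mul_one]
      rw [this] at h2
      exact h2 ▸ inv_mem ha
  have hPM : (P : Subgroup G) ≤ M := fun a ha => centralizer_le_normalizer _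
    (centralizer_le hDP (hPC ha))
  have h50 : h = 50 := by
    have h2 : 2 ∣ h := by
      rw [hh, ← hu2]
      exact Subgroup.orderOf_dvd_natCard _ ⟨huM, huN⟩
    rw [hN] at hhN
    have key : ∀ h ∈ Nat.divisors 50, 5 ^ 2 ∣ h → 2 ∣ h → h = 50 := by decide +kernel
    exact key h (Nat.mem_divisors.mpr ⟨hhN, by norm_num⟩) h25 h2
  subst h50
  obtain rfl : n = 6 := by omega
  set C := centralizer (D : Set G)
  have hPC' : (P : Subgroup G) ≤ C := fun a ha => centralizer_le hDP (hPC ha)
  have hRC : (R : Subgroup G) ≤ C := fun a ha => by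
    have := IsPGroup.isMulCommutative_of_card_eq_prime_sq (hsq R)
    exact mem_centralizer_iff.mpr fun b hb => congrArg Subtype.val (this.is_comm.comm ⟨b, hDR hb⟩ ⟨a, ha⟩)
  have huC : u ∉ C := by
    intro huC
    obtain ⟨d, hd, hd5⟩ := exists_mem_of_dvd (q := 5) D (by rw [hD'])
    have h2 : d ^ 2 = 1 := by
      have e1 := hinv d (hDP hd)
      rw [← mem_centralizer_iff.mp huC d hd, mul_inv_cancel_right] at e1
      rw [pow_two]
      nth_rewrite 2 [e1]
      exact mul_inv_cancel d
    have := orderOf_dvd_of_pow_eq_one h2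
    rw [hd5] at this
    norm_num at this
  have hCM : C ≤ M := centralizer_le_normalizer _
  have hdvdG : 5 ∣ Nat.card G := by rw [hn]; norm_num
  obtain ⟨n', hn1', hn5', hc', -, -⟩ := one_lt_count hG P R hne hdvdG hPC' hRC
    (fun e => hM (top_le_iff.mp (e ▸ hCM)))
  have hNC : Nat.card ↥(C ⊓ N) = 25 := by
    have h2 : Nat.card ↥(C ⊓ N) ∣ 50 := hN ▸ card_dvd_of_le inf_le_right
    have h25' : 25 ∣ Nat.card ↥(C ⊓ N) := by
      have := card_dvd_of_le (le_inf hPC' le_normalizer : (P : Subgroup G) ≤ C ⊓ N)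
      rw [hsq] at this
      simpa using this
    have key : ∀ h ∈ Nat.divisors 50, 25 ∣ h → h = 25 ∨ h = 50 := by decide +kernel
    rcases key _ (Nat.mem_divisors.mpr ⟨h2, by norm_num⟩) h25' with e | e
    · exact e
    · have : C ⊓ N = N := eq_of_le_of_card_ge inf_le_right (by rw [hN, e])
      exact absurd (inf_eq_right.mp this huN) huC
  have hC150 : Nat.card C = 150 := by
    have hd' := card_dvd_of_le hCM
    rw [hc', hNC, hc] at hd'
    rw [hc', hNC]
    have hd12 : n' ∣ 12 := Nat.dvd_of_mul_dvd_mul_right (show 0 < 25 by norm_num) hd'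
    have := Nat.le_of_dvd (by norm_num) hd12
    interval_cases n' <;> omega
  set P' := P.subtype hPC' with hP'
  have hP'c : Nat.card (P' : Subgroup C) = 25 := by
    rw [hP', show ((P.subtype hPC' : Sylow 5 C) : Subgroup C) = (P : Subgroup G).subgroupOf C from rfl,
      Nat.card_congr (subgroupOfEquivOfLe hPC').toEquiv, hsq]
    norm_num
  have hnc : normalizer ((P' : Subgroup C) : Set C) ≤ centralizer ((P' : Subgroup C) : Set C) := by
    intro g hg
    have hgN : (g : G) ∈ C ⊓ N := ⟨g.2, mem_normalizer_iff.mpr fun z => by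
      constructor
      · intro hz
        exact (mem_normalizer_iff.mp hg ⟨z, hPC' hz⟩).mp hz
      · intro hz
        have hzC : z ∈ C := by
          have := C.mul_mem (C.mul_mem (C.inv_mem g.2) (hPC' hz)) g.2
          simpa [mul_assoc] using this
        exact (mem_normalizer_iff.mp hg ⟨z, hzC⟩).mpr hz⟩
    have heq : (P : Subgroup G) = C ⊓ N :=
      eq_of_le_of_card_ge (le_inf hPC' le_normalizer) (by rw [hNC, hsq]; norm_num)
    rw [← heq] at hgN
    exact mem_centralizer_iff.mpr fun b hb => Subtype.ext (mem_centralizer_iff.mp (hPC hgN) (b : G) hb)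
  have hcompl := MonoidHom.ker_transferSylow_isComplement' P' hnc
  set K := (MonoidHom.transferSylow P' hnc).ker with hK
  have hKc : Nat.card K = 6 := by
    have := hcompl.card_mul
    rw [hP'c, hC150] at this
    omega
  refine no_six_complement (P := (P : Subgroup G)) (K := K.map C.subtype) (by rw [hsq]; norm_num)
    (by rw [card_map_of_injective C.subtype_injective, hKc]) ?_ ?_
  · intro a ha
    refine mem_normalizer_iff_map_conj_eq.mpr ?_
    have hKn : K.Normal := inferInstance
    rw [map_map]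
    conv_rhs => rw [← map_conj_eq hKn ⟨a, hPC' ha⟩, map_map]
    rfl
  · have h2 : Nat.card (centralizer ((P : Subgroup G) : Set G)) ∣ 50 :=
      hN ▸ card_dvd_of_le (centralizer_le_normalizer _)
    intro a ha
    rcases hsplit a (centralizer_le_normalizer _ ha) with h | h
    · exact h
    · exfalso
      refine not_normalizer_le hG hdvdG P fun g hg => ?_
      have huc : u ∈ centralizer ((P : Subgroup G) : Set G) := by
        have := mul_mem (hPC h) (inv_mem ha)
        rwa [mul_inv_cancel_right] at this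
      rcases hsplit g hg with h' | h'
      · exact hPC h'
      · have := mul_mem huc (hPC h')
        rwa [← mul_assoc, huu, one_mul] at this
where
  map_conj_eq {C : Subgroup G} {K : Subgroup C} (hK : K.Normal) (a : C) :
      K.map (MulAut.conj a).toMonoidHom = K :=
    mem_normalizer_iff_map_conj_eq.mp (normalizer_eq_top_iff.mpr hK ▸ mem_top a)

theorem ne_5400 (hn : Nat.card G = 5400) : False := by
  classical
  have : Fact (Nat.Prime 5) := ⟨by norm_num⟩
  have hcard : Nat.card G = 5 ^ 2 * 216 := by rw [hn]; norm_num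
  have hsq : ∀ Q : Sylow 5 G, Nat.card (Q : Subgroup G) = 5 ^ 2 := card_sylow_subgroup hcard (by norm_num)
  have h1 := sylow_count hG hcard (by norm_num) (by norm_num)
  rw [show ((Nat.divisors 216).filter (fun n => n % 5 = 1)).erase 1 = {6, 36, 216} by decide +kernel] at h1
  simp only [Finset.mem_insert, Finset.mem_singleton] at h1
  rcases h1 with h1 | h1 | h1
  · exact absurd (h1 ▸ embeds hG (p := 5) (by rw [hn]; norm_num)) (by rw [hn]; decide +kernel)
  swap
  · obtain ⟨P⟩ : Nonempty (Sylow 5 G) := inferInstance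
    have hab := IsPGroup.isMulCommutative_of_card_eq_prime_sq (hsq P)
    refine SimpleOrders.ne_card_normalizer_eq hG (by rw [hn]; norm_num) P (fun a b => hab.is_comm.comm a b) ?_
    have hmul := card_normalizer_mul P
    rw [h1, hn] at hmul
    rw [hsq P]
    omega
  obtain ⟨P, R, D, hne, hDP, hDR, hD, -, -, -⟩ := exists_meet hG hcard (by norm_num) le_rfl
    (by rw [h1]; decide)
  have hD' : Nat.card D = 5 := by omega
  set N := normalizer ((P : Subgroup G) : Set G)
  have hN : Nat.card N = 150 := by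
    have hmul := card_normalizer_mul P
    rw [h1, hn] at hmul
    change 36 * Nat.card N = 5400 at hmul
    omega
  have := Fintype.ofFinite (Sylow 5 G)
  -- the lines with further Sylow subgroups
  let F : Subgroup G → Finset (Sylow 5 G) := fun E =>
    Finset.univ.filter fun Q => Q ≠ P ∧ E ≤ (Q : Subgroup G)
  have hFc : ∀ E, (F E).card = Nat.card {Q : Sylow 5 G // Q ≠ P ∧ E ≤ (Q : Subgroup G)} := fun E => by
    rw [Nat.card_eq_fintype_card, Fintype.card_subtype]
  have hfive : ∀ E : Subgroup G, E ≤ (P : Subgroup G) → Nat.card E = 5 → (F E).Nonempty → (F E).card = 5 := by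
    intro E hE hEc hne'
    obtain ⟨Q, hQ⟩ := hne'
    simp only [F, Finset.mem_filter, Finset.mem_univ, true_and] at hQ
    obtain ⟨n, h, hn1, hn5, hlt, -, hc, hhN, h25, hdvd, hM, hcount⟩ :=
      line_facts hG hsq P Q (Ne.symm hQ.1) hE hQ.2 hEc
    rw [← hFc] at hcount
    rw [h1] at hlt
    have hle := mul_le_of_index hG hM (b := 9) (by rw [hn]; decide +kernel)
    rw [hc, hn] at hle
    rw [hn] at hdvd
    obtain ⟨j, rfl⟩ := h25
    have key : ∀ n ∈ Nat.divisors 216, 1 < n → n < 36 → n % 5 = 1 → n = 6 := by decide +kernel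
    have hd216 : n ∣ 216 := by
      refine Nat.dvd_of_mul_dvd_mul_right (show 0 < 5 ^ 2 by norm_num) (dvd_trans ⟨j, ?_⟩ hdvd)
      ring
    have := key n (Nat.mem_divisors.mpr ⟨hd216, by norm_num⟩) hn1 hlt hn5
    omega
  have := Fintype.ofFinite (Subgroup G)
  let L : Finset (Subgroup G) :=
    Finset.univ.filter fun E => E ≤ (P : Subgroup G) ∧ Nat.card E = 5 ∧ (F E).Nonempty
  have hLm : ∀ E ∈ L, E ≤ (P : Subgroup G) ∧ Nat.card E = 5 ∧ (F E).Nonempty := fun E hE =>
    (Finset.mem_filter.mp hE).2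
  have hinter : ∀ E ∈ L, ∀ E' ∈ L, ∀ x : G, x ∈ E → x ∈ E' → x ≠ 1 → E = E' := by
    intro E hE E' hE' x hx hx' hx1
    have key : ∀ E'' : Subgroup G, Nat.card E'' = 5 → x ∈ E'' → zpowers x = E'' := fun E'' hc hm =>
      eq_of_le_of_card_ge (zpowers_le.mpr hm) (by
        rw [hc, Nat.card_zpowers]
        rcases (Nat.dvd_prime (Fact.out : Nat.Prime 5)).mp ((E''.orderOf_dvd_natCard hm).trans (dvd_of_eq hc)) with h | h
        · exact absurd (orderOf_eq_one_iff.mp h) hx1
        · exact h.ge)
    rw [← key E (hLm E hE).2.1 hx, key E' (hLm E' hE').2.1 hx']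
  have hdisjF : ∀ E ∈ L, ∀ E' ∈ L, E ≠ E' → Disjoint (F E) (F E') := by
    intro E hE E' hE' hne'
    rw [Finset.disjoint_left]
    intro Q hQ hQ'
    simp only [F, Finset.mem_filter, Finset.mem_univ, true_and] at hQ hQ'
    refine hQ.1 ?_
    have hI : E ⊔ E' ≤ (P : Subgroup G) ⊓ (Q : Subgroup G) :=
      sup_le (le_inf (hLm E hE).1 hQ.2) (le_inf (hLm E' hE').1 hQ'.2)
    obtain ⟨i, hi, e⟩ := (Nat.dvd_prime_pow (Fact.out : Nat.Prime 5)).mp
      (hsq P ▸ card_dvd_of_le (hI.trans inf_le_left))
    have hi2 : i = 2 := by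
      by_contra hi2
      have hsup : Nat.card ↥(E ⊔ E') ≤ 5 := by
        rw [e]
        interval_cases i <;> first | omega | norm_num
      exact hne' ((eq_of_le_of_card_ge le_sup_left ((hLm E hE).2.1.symm ▸ hsup)).trans
        (eq_of_le_of_card_ge le_sup_right ((hLm E' hE').2.1.symm ▸ hsup)).symm)
    have hPle : (P : Subgroup G) ≤ Q := by
      rw [← eq_of_le_of_card_ge (hI.trans inf_le_left) (by rw [hsq, e, hi2])]
      exact hI.trans inf_le_right
    exact Sylow.ext (eq_of_le_of_card_ge hPle (by rw [hsq, hsq])).symm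
  have hsix : L.card ≤ 6 := by
    have := Fintype.ofFinite G
    let el : Subgroup G → Finset G := fun E => Finset.univ.filter fun x => x ∈ E ∧ x ≠ 1
    have helc : ∀ E ∈ L, (el E).card = 4 := by
      intro E hE
      have : el E = (Finset.univ.filter fun x => x ∈ E).erase 1 := by
        ext x; simp [el, and_comm]
      rw [this, Finset.card_erase_of_mem (by simp), ← Fintype.card_subtype, ← Nat.card_eq_fintype_card,
        (hLm E hE).2.1]
    have hsub : L.biUnion el ⊆ (Finset.univ.filter fun x => x ∈ (P : Subgroup G)).erase 1 := by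
      intro x hx
      obtain ⟨E, hE, hxE⟩ := Finset.mem_biUnion.mp hx
      simp only [el, Finset.mem_filter, Finset.mem_univ, true_and] at hxE
      simp [hxE.2, (hLm E hE).1 hxE.1]
    have hle := Finset.card_le_card hsub
    rw [Finset.card_biUnion fun E hE E' hE' hne' => Finset.disjoint_left.mpr fun x hx hx' => by
        simp only [el, Finset.mem_filter, Finset.mem_univ, true_and] at hx hx'
        exact hne' (hinter E hE E' hE' x hx.1 hx'.1 hx.2),
      Finset.sum_congr rfl helc, Finset.sum_const, smul_eq_mul,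
      Finset.card_erase_of_mem (by simp), ← Fintype.card_subtype (fun x => x ∈ (P : Subgroup G)),
      ← Nat.card_eq_fintype_card, hsq] at hle
    omega
  have hmeet : (Finset.univ.filter fun Q : Sylow 5 G => ¬ (P : Subgroup G) ⊓ (Q : Subgroup G) = ⊥) =
      insert P (L.biUnion F) := by
    ext Q
    simp only [Finset.mem_filter, Finset.mem_univ, true_and, Finset.mem_insert, Finset.mem_biUnion]
    constructor
    · intro hQ
      by_cases e : Q = P
      · exact Or.inl e
      refine Or.inr ⟨(P : Subgroup G) ⊓ Q, ?_, Finset.mem_filter.mpr ⟨Finset.mem_univ _, e, inf_le_right⟩⟩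
      obtain ⟨i, hi, ei⟩ := (Nat.dvd_prime_pow (Fact.out : Nat.Prime 5)).mp
        (hsq P ▸ card_dvd_of_le (inf_le_left : (P : Subgroup G) ⊓ Q ≤ P))
      have hi1 : i = 1 := by
        interval_cases i
        · exact absurd (eq_bot_of_card_eq _ ei) hQ
        · rfl
        · refine absurd ?_ e
          have hPQ : (P : Subgroup G) ≤ Q := by
            rw [← eq_of_le_of_card_ge (inf_le_left : (P : Subgroup G) ⊓ Q ≤ P) (by rw [hsq, ei])]
            exact inf_le_right
          exact Sylow.ext (eq_of_le_of_card_ge hPQ (by rw [hsq, hsq])).symm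
      exact Finset.mem_filter.mpr ⟨Finset.mem_univ _, inf_le_left, by rw [ei, hi1, pow_one],
        ⟨Q, Finset.mem_filter.mpr ⟨Finset.mem_univ _, e, inf_le_right⟩⟩⟩
    · rintro (rfl | ⟨E, hE, hQ⟩) hb
      · rw [inf_idem] at hb
        have := hsq Q
        rw [hb, card_bot] at this
        norm_num at this
      · simp only [F, Finset.mem_filter, Finset.mem_univ, true_and] at hQ
        have : E ≤ ⊥ := hb ▸ le_inf (hLm E hE).1 hQ.2
        have hc := (hLm E hE).2.1
        rw [le_bot_iff.mp this, card_bot] at hc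
        norm_num at hc
  have htot : 36 = Nat.card {Q : Sylow 5 G // (P : Subgroup G) ⊓ (Q : Subgroup G) = ⊥} + (L.card * 5 + 1) := by
    rw [← h1, Nat.card_eq_fintype_card, Nat.card_eq_fintype_card, Fintype.card_subtype, ← Finset.card_univ,
      ← Finset.card_filter_add_card_filter_not (s := (Finset.univ : Finset (Sylow 5 G)))
        (fun Q : Sylow 5 G => (P : Subgroup G) ⊓ (Q : Subgroup G) = ⊥), hmeet,
      Finset.card_insert_of_notMem (by
        simp only [Finset.mem_biUnion, not_exists, not_and]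
        intro E _
        simp [F]),
      Finset.card_biUnion hdisjF, Finset.sum_congr rfl fun E hE =>
        hfive E (hLm E hE).1 (hLm E hE).2.1 (hLm E hE).2.2, Finset.sum_const, smul_eq_mul]
  have h25X := dvd_card_disjoint P
  rw [hsq] at h25X
  have hL2 : L.card = 2 := by
    obtain ⟨j, hj⟩ := h25X
    omega
  -- the orbit of the line
  obtain ⟨O, hO, hO'⟩ := exists_orbit P hDP hD'
  have hOsub : O ⊆ L := fun E hE => by
    obtain ⟨hEP, hEc, hEo⟩ := hO' E hE
    refine Finset.mem_filter.mpr ⟨Finset.mem_univ _, hEP, hEc, Finset.card_pos.mp ?_⟩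
    rw [hFc, hEo]
    have : Nonempty {Q : Sylow 5 G // Q ≠ P ∧ D ≤ (Q : Subgroup G)} := ⟨⟨R, Ne.symm hne, hDR⟩⟩
    exact Nat.card_pos
  have hO2 := (Finset.card_le_card hOsub).trans hL2.le
  obtain ⟨n, h, hn1, hn5, hlt, hh, hc, hhN, h25, hdvd, hM, hcount⟩ := line_facts hG hsq P R hne hDP hDR hD'
  set M := normalizer (D : Set G)
  have hle := mul_le_of_index hG hM (b := 9) (by rw [hn]; decide +kernel)
  rw [← hh, hN] at hO
  rw [hc, hn] at hle
  have hn6 : n = 6 := by
    have hne'' : (F D).Nonempty := ⟨R, Finset.mem_filter.mpr ⟨Finset.mem_univ _, Ne.symm hne, hDR⟩⟩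
    rw [hcount, ← hFc, hfive D hDP hD' hne'']
  subst hn6
  obtain ⟨j, rfl⟩ := h25
  have hj : j = 3 ∧ O.card = 2 := by
    rcases Nat.eq_zero_or_pos O.card with h0 | h0
    · rw [h0] at hO; omega
    · interval_cases O.card <;> omega
  obtain ⟨rfl, hOc⟩ := hj
  have hidx : ((M ⊓ N).subgroupOf N).index = 2 := by
    have := ((M ⊓ N).subgroupOf N).index_mul_card
    rw [Nat.card_congr (subgroupOfEquivOfLe inf_le_right).toEquiv, ← hh, hN] at this
    omega
  obtain ⟨g, hgN, hgM⟩ : ∃ g ∈ N, g ∉ M := by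
    by_contra hc'
    simp only [not_exists, not_and, not_not] at hc'
    have heq : M ⊓ N = N := inf_eq_right.mpr hc'
    rw [heq] at hh
    omega
  have hab := IsPGroup.isMulCommutative_of_card_eq_prime_sq (hsq P)
  obtain ⟨d, hd, hd5⟩ := exists_mem_of_dvd (q := 5) D (by rw [hD'])
  have hcent : ∀ m ∈ M ⊓ N, m * d = d * m := by
    intro m hm
    let φ := normalizerMonoidHom D
    have h75 : orderOf (φ ⟨m, hm.1⟩) ∣ 75 := by
      refine ((orderOf_map_dvd φ _).trans ?_)
      rw [← Subgroup.orderOf_coe]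
      exact ((M ⊓ N).orderOf_dvd_natCard hm).trans (dvd_of_eq hh.symm)
    have hcyc : IsCyclic D := isCyclic_of_prime_card hD'
    have h4 : orderOf (φ ⟨m, hm.1⟩) ∣ 4 := by
      refine (_root_.orderOf_dvd_natCard _).trans (dvd_of_eq ?_)
      rw [IsCyclic.card_mulAut, hD', Nat.totient_prime (by norm_num)]
    have hker : (⟨m, hm.1⟩ : M) ∈ φ.ker := by
      rw [MonoidHom.mem_ker, ← orderOf_eq_one_iff]
      exact Nat.dvd_one.mp (Nat.dvd_gcd h75 h4)
    rw [normalizerMonoidHom_ker, mem_subgroupOf] at hker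
    exact (mem_centralizer_iff.mp hker d hd).symm
  set d' := g * d * g⁻¹
  have hd'P : d' ∈ (P : Subgroup G) := (mem_normalizer_iff.mp hgN d).mp (hDP hd)
  have hcomm : d * d' = d' * d := congrArg Subtype.val (hab.is_comm.comm ⟨d, hDP hd⟩ ⟨d', hd'P⟩)
  have hnorm : ((M ⊓ N).subgroupOf N).Normal := normal_of_index_eq_two hidx
  have hzc : ∀ m ∈ M ⊓ N, m * (d * d') = d * d' * m := by
    intro m hm
    have hm' : g⁻¹ * m * g ∈ M ⊓ N := by
      have := hnorm.conj_mem ⟨m, hm.2⟩ (mem_subgroupOf.mpr hm) (⟨g, hgN⟩⁻¹ : N)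
      have h' : g⁻¹ * m * g ∈ M := by simpa [mem_subgroupOf] using this
      exact ⟨h', N.mul_mem (N.mul_mem (N.inv_mem hgN) hm.2) hgN⟩
    have h2 : m * d' = d' * m := by
      calc m * d' = g * (g⁻¹ * m * g * d) * g⁻¹ := by simp only [d']; group
        _ = g * (d * (g⁻¹ * m * g)) * g⁻¹ := by rw [hcent _ hm']
        _ = d' * m := by simp only [d']; group
    exact ((show Commute m d from hcent m hm).mul_right h2).eq
  have hgg : g * g ∈ M ⊓ N := by
    have := mul_self_mem_of_index_two hidx (⟨g, hgN⟩ : N)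
    have h' : g * g ∈ M := by simpa [mem_subgroupOf] using this
    exact ⟨h', N.mul_mem hgN hgN⟩
  have hgz : g * (d * d') = d * d' * g := by
    calc g * (d * d') = d' * ((g * g) * d * (g * g)⁻¹) * g := by simp only [d']; group
      _ = d' * d * g := by rw [hcent _ hgg, mul_inv_cancel_right]
      _ = d * d' * g := by rw [hcomm]
  have hone := TwoClass.eq_one_of_central hG P (mul_mem (hDP hd) hd'P) fun a ha => by
    by_cases haM : a ∈ M
    · exact hzc a ⟨haM, ha⟩
    · have h := mul_mem_iff_of_index_two hidx (a := (⟨g, hgN⟩ : N)⁻¹) (b := ⟨a, ha⟩)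
      simp only [inv_mem_iff, mem_subgroupOf, Subgroup.coe_mul, Subgroup.coe_inv] at h
      have hmem : g⁻¹ * a ∈ M ⊓ N := h.mpr ⟨fun hh' => absurd hh'.1 hgM, fun hh' => absurd hh'.1 haM⟩
      rw [show a = g * (g⁻¹ * a) by group]
      exact ((show Commute g _ from hgz).mul_left (hzc _ hmem)).eq
  refine hgM (mem_normalizer_iff_map_conj_eq.mpr ?_)
  have hzd : zpowers d = D := eq_of_le_of_card_ge (zpowers_le.mpr hd) (by rw [hD', Nat.card_zpowers, hd5])
  conv_lhs => rw [← hzd, MonoidHom.map_zpowers]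
  show zpowers d' = D
  rw [show d' = d⁻¹ from (inv_eq_of_mul_eq_one_right hone).symm, zpowers_inv, hzd]

end CfsgLib.SmallGroups.OrdersMid
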