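import Cfsg.Agent.Lib.Char.ClassSum
import Cfsg.Agent.Lib.Char.Orth

/-!
# Products of two conjugates of an involution that inverts a self-centralizing subgroup of prime order

The classical class equation at an element of that subgroup.
-/

set_option autoImplicit false

open scoped BigOperators
open scoped ComplexConjugate

namespace CfsgLib.SmallGroups.InvertingInvolution

open Cfsg CfsgLib.Char

variable {G : Type*} [Group G] [Fintype G] {p : ℕ} [Fact p.Prime] {P : Subgroup G}

theorem card_pairs (hp2 : p ≠ 2) (hP : Nat.card P = p) (hcent : Subgroup.centralizer (P : Set G) = P)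
    {u : G} (hu : u * u = 1) (hinv0 : ∀ a ∈ P, u * a * u⁻¹ = a⁻¹) (x : ↥P) (hx : x ≠ 1) :
    Nat.card {w : G × G // (w.1⁻¹ * u * w.1) * (w.2 * u * w.2⁻¹) = (x : G)} =
      p * (Nat.card (Subgroup.centralizer ({u} : Set G)) * Nat.card (Subgroup.centralizer ({u} : Set G))) := by
  classical
  have hp : p.Prime := Fact.out
  have hinv : ∀ a : ↥P, u * (a : G) * u⁻¹ = (a : G)⁻¹ := fun a => hinv0 a a.2
  set Cu := Subgroup.centralizer ({u} : Set G)
  have huinv : u⁻¹ = u := inv_eq_of_mul_eq_one_right hu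
  -- conjugates of `u` inside the coset
  have hroot : ∀ a : ↥P, ∃ r : ↥P, (r : G) * u * (r : G)⁻¹ = u * a := by
    intro a
    obtain ⟨q, hq⟩ : ∃ q, p = 2 * q + 1 := ⟨p / 2, by rcases hp.eq_two_or_odd with e | e <;> omega⟩
    refine ⟨(a ^ (q + 1))⁻¹, ?_⟩
    set r : G := ((a ^ (q + 1) : ↥P) : G)
    have hr2 : r * r = a := by
      show ((a ^ (q + 1) : ↥P) : G) * ((a ^ (q + 1) : ↥P) : G) = _
      rw [← Subgroup.coe_mul, ← pow_add, show q + 1 + (q + 1) = 2 * q + 1 + 1 by omega, pow_succ,
        orderOf_dvd_iff_pow_eq_one.mp ((orderOf_dvd_natCard a).trans (dvd_of_eq (hP.trans hq))), one_mul]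
    have hru : r⁻¹ * u = u * r := by
      have h1 := hinv (a ^ (q + 1))
      calc r⁻¹ * u = u * r * u⁻¹ * u := by rw [show u * r * u⁻¹ = r⁻¹ from h1]
        _ = u * r := by rw [inv_mul_cancel_right]
    rw [Subgroup.coe_inv, inv_inv, hru, mul_assoc, hr2]
  have hcount : ∀ a : ↥P, a ≠ 1 →
      Nat.card {w : G × G // (w.1⁻¹ * u * w.1) * (w.2 * u * w.2⁻¹) = (a : G)} =
        p * (Nat.card Cu * Nat.card Cu) := by
    intro a ha
    have hkey : ∀ v w : G, v * v = 1 → w * w = 1 → v * w = (a : G) →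
        ∃ r : ↥P, v = u * r ∧ w = u * ((r * a : ↥P) : G) := by
      intro v w hv hw hvw
      have hw' : w = v * a := by rw [← hvw, ← mul_assoc, hv, one_mul]
      have hva : v * (a : G) * v⁻¹ = (a : G)⁻¹ := by
        rw [hw', ← mul_assoc] at hw
        rw [inv_eq_of_mul_eq_one_right hv]
        exact eq_inv_of_mul_eq_one_left hw
      have hmem : u⁻¹ * v ∈ P := by
        rw [← hcent]
        refine Subgroup.mem_centralizer_iff.mpr fun z hz => ?_
        have hzg : Subgroup.zpowers (a : G) = P := Subgroup.eq_of_le_of_card_ge (Subgroup.zpowers_le.mpr a.2) (by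
          rw [hP, Nat.card_zpowers, ((Nat.dvd_prime hp).mp ((P.orderOf_dvd_natCard a.2).trans
            (dvd_of_eq hP))).resolve_left (orderOf_eq_one_iff.not.mpr fun e => ha (Subtype.ext e))])
        rw [← hzg] at hz
        obtain ⟨k, rfl⟩ := Subgroup.mem_zpowers_iff.mp hz
        refine ((show Commute (u⁻¹ * v) (a : G) from ?_).zpow_right k).eq.symm
        show u⁻¹ * v * a = a * (u⁻¹ * v)
        calc u⁻¹ * v * a = u⁻¹ * (v * a * v⁻¹) * v := by group
          _ = u⁻¹ * (u * a * u⁻¹) * v := by rw [hva, hinv a]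
          _ = a * (u⁻¹ * v) := by group
      refine ⟨⟨_, hmem⟩, ?_, ?_⟩
      · show v = u * (u⁻¹ * v)
        group
      · rw [hw', Subgroup.coe_mul, ← mul_assoc]
        show v * a = u * (u⁻¹ * v) * a
        group
    choose root hroot' using hroot
    have hsq : ∀ g : G, (g⁻¹ * u * g) * (g⁻¹ * u * g) = 1 := fun g => by
      calc (g⁻¹ * u * g) * (g⁻¹ * u * g) = g⁻¹ * (u * u) * g := by group
        _ = 1 := by rw [hu]; group
    have hsq' : ∀ g : G, (g * u * g⁻¹) * (g * u * g⁻¹) = 1 := fun g => by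
      calc (g * u * g⁻¹) * (g * u * g⁻¹) = g * (u * u) * g⁻¹ := by group
        _ = 1 := by rw [hu]; group
    -- parametrise the solutions
    let F : ↥P × Cu × Cu → {w : G × G // (w.1⁻¹ * u * w.1) * (w.2 * u * w.2⁻¹) = (a : G)} :=
      fun t => ⟨((t.2.1 : G) * (root t.1 : G)⁻¹, (root (t.1 * a) : G) * (t.2.2 : G)), by
        have c1 : (t.2.1 : G)⁻¹ * u * (t.2.1 : G) = u := by
          rw [mul_assoc, ← Subgroup.mem_centralizer_singleton_iff.mp t.2.1.2, inv_mul_cancel_left]
        have c2 : (t.2.2 : G) * u * (t.2.2 : G)⁻¹ = u :=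
          mul_inv_eq_iff_eq_mul.mpr (Subgroup.mem_centralizer_singleton_iff.mp t.2.2.2)
        calc ((t.2.1 : G) * (root t.1 : G)⁻¹)⁻¹ * u * ((t.2.1 : G) * (root t.1 : G)⁻¹) *
              ((root (t.1 * a) : G) * (t.2.2 : G) * u * ((root (t.1 * a) : G) * (t.2.2 : G))⁻¹)
            = ((root t.1 : G) * ((t.2.1 : G)⁻¹ * u * (t.2.1 : G)) * (root t.1 : G)⁻¹) *
              ((root (t.1 * a) : G) * ((t.2.2 : G) * u * (t.2.2 : G)⁻¹) * (root (t.1 * a) : G)⁻¹) := by group
          _ = (u * t.1) * (u * (t.1 * a : ↥P)) := by rw [c1, c2, hroot', hroot']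
          _ = (u * t.1 * u⁻¹) * t.1 * a := by rw [Subgroup.coe_mul, huinv]; group
          _ = a := by rw [hinv]; group⟩
    have hF : Function.Bijective F := by
      refine ⟨?_, ?_⟩
      · rintro ⟨r, ⟨c1, hc1⟩, ⟨c2, hc2⟩⟩ ⟨r', ⟨c1', hc1'⟩, ⟨c2', hc2'⟩⟩ he
        have e1 := congrArg (fun w : {w : G × G // _} => w.1.1) he
        have e2 := congrArg (fun w : {w : G × G // _} => w.1.2) he
        simp only [F] at e1 e2
        have hr : r = r' := by
          have h1 := congrArg (fun g => g⁻¹ * u * g) e1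
          have k : ∀ (q : ↥P) (z : G), z ∈ Cu → (z * (root q : G)⁻¹)⁻¹ * u * (z * (root q : G)⁻¹) = u * q := by
            intro q z hz
            rw [← hroot' q]
            calc (z * (root q : G)⁻¹)⁻¹ * u * (z * (root q : G)⁻¹) = (root q : G) * (z⁻¹ * (u * z)) * (root q : G)⁻¹ := by group
              _ = (root q : G) * u * (root q : G)⁻¹ := by
                rw [← Subgroup.mem_centralizer_singleton_iff.mp hz, inv_mul_cancel_left]
          rw [k r c1 hc1, k r' c1' hc1'] at h1
          exact Subtype.ext (mul_left_cancel h1)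
        subst hr
        have a1 : c1 = c1' := mul_right_cancel e1
        have a2 : c2 = c2' := mul_left_cancel e2
        subst a1 a2
        rfl
      · rintro ⟨⟨g, k⟩, hgk⟩
        obtain ⟨r, hv, hw⟩ := hkey _ _ (hsq g) (hsq' k) hgk
        have m1 : g * (root r : G) ∈ Cu := by
          refine Subgroup.mem_centralizer_singleton_iff.mpr ?_
          calc g * (root r : G) * u = g * ((root r : G) * u * (root r : G)⁻¹) * root r := by group
            _ = g * (g⁻¹ * u * g) * root r := by rw [hroot' r, ← hv]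
            _ = u * (g * root r) := by group
        have m2 : (root (r * a) : G)⁻¹ * k ∈ Cu := by
          refine Subgroup.mem_centralizer_singleton_iff.mpr ?_
          calc (root (r * a) : G)⁻¹ * k * u = (root (r * a) : G)⁻¹ * (k * u * k⁻¹) * k := by group
            _ = (root (r * a) : G)⁻¹ * ((root (r * a) : G) * u * (root (r * a) : G)⁻¹) * k := by
              rw [hw, hroot' (r * a)]
            _ = u * ((root (r * a) : G)⁻¹ * k) := by group
        refine ⟨(r, ⟨_, m1⟩, ⟨_, m2⟩), Subtype.ext ?_⟩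
        simp only [F]
        rw [mul_inv_cancel_right, mul_inv_cancel_left]
    rw [← Nat.card_congr (Equiv.ofBijective F hF), Nat.card_prod, Nat.card_prod, hP]
  exact hcount x hx

/-- The class equation: `p |C(u)| ^ 2 = |G| ∑ χ(u) ^ 2 χ(x⁻¹) / χ(1)`. -/
theorem class_equation (hp2 : p ≠ 2) (hP : Nat.card P = p) (hcent : Subgroup.centralizer (P : Set G) = P)
    {u : G} (hu : u * u = 1) (hinv0 : ∀ a ∈ P, u * a * u⁻¹ = a⁻¹) (x : ↥P) (hx : x ≠ 1) :
    (p : ℂ) * (Nat.card (Subgroup.centralizer ({u} : Set G)) : ℂ) ^ 2 =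
      (Nat.card G : ℂ) * ∑ χ : IrrCharacter G,
        conj ((χ : G → ℂ) x) * ((χ : G → ℂ) u) ^ 2 / (χ : G → ℂ) 1 := by
  classical
  have hp : p.Prime := Fact.out
  have hcx : Nat.card (Subgroup.centralizer ({(x : G)} : Set G)) = p := by
    have hzg : Subgroup.zpowers (x : G) = P := Subgroup.eq_of_le_of_card_ge (Subgroup.zpowers_le.mpr x.2) (by
      rw [hP, Nat.card_zpowers, ((Nat.dvd_prime hp).mp ((P.orderOf_dvd_natCard x.2).trans
        (dvd_of_eq hP))).resolve_left (orderOf_eq_one_iff.not.mpr fun e => hx (Subtype.ext e))])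
    have : Subgroup.centralizer ({(x : G)} : Set G) = P := by
      refine le_antisymm (fun g hg => ?_) fun g hg => ?_
      · rw [← hcent, Subgroup.mem_centralizer_iff]
        intro z hz
        rw [← hzg] at hz
        obtain ⟨k, rfl⟩ := Subgroup.mem_zpowers_iff.mp hz
        exact ((show Commute (x : G) g from (Subgroup.mem_centralizer_singleton_iff.mp hg).symm).zpow_left k).eq
      · rw [← hcent, Subgroup.mem_centralizer_iff] at hg
        exact Subgroup.mem_centralizer_singleton_iff.mpr (hg x x.2).symm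
    rw [this, hP]
  -- the conjugates `h u h⁻¹` whose product with `u` is conjugate to `x`
  set M : Finset G := Finset.univ.filter fun k => IsConj (u * (k * u * k⁻¹)) (x : G)
  have hsum : ∑ k : G, ∑ χ : IrrCharacter G, (χ : G → ℂ) (u * (k * u * k⁻¹)) * conj ((χ : G → ℂ) x) =
      (M.card : ℂ) * p := by
    rw [Finset.sum_congr rfl fun k _ => sum_irr_mul_conj _ _, ← Finset.sum_filter, Finset.sum_const,
      hcx, nsmul_eq_mul]
  rw [Finset.sum_comm] at hsum
  simp only [← Finset.sum_mul, IsIrrCharacter.sum_mul_conjugate (Subtype.property _)] at hsum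
  -- count the same set
  let W := {w : G × G // (w.1⁻¹ * u * w.1) * (w.2 * u * w.2⁻¹) = (x : G)}
  have hW : Nat.card W = M.card * p := by
    have e : W ≃ {w : G × G // w.1⁻¹ * (u * (w.2 * u * w.2⁻¹)) * w.1 = (x : G)} :=
      { toFun := fun w => ⟨(w.1.1, w.1.1 * w.1.2), by refine Eq.trans ?_ w.2; simp only; group⟩
        invFun := fun w => ⟨(w.1.1, w.1.1⁻¹ * w.1.2), by refine Eq.trans ?_ w.2; simp only; group⟩
        left_inv := fun w => Subtype.ext (Prod.ext rfl (by simp))
        right_inv := fun w => Subtype.ext (Prod.ext rfl (by simp)) }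
    rw [Nat.card_congr e, Nat.card_eq_fintype_card, Fintype.card_subtype,
      Finset.card_eq_sum_card_fiberwise (f := Prod.snd) (t := M) fun w hw => by
        simp only [Finset.coe_filter, Finset.mem_univ, true_and, Set.mem_ofPred_eq] at hw
        refine Finset.mem_filter.mpr ⟨Finset.mem_univ _, isConj_iff.mpr ⟨w.1⁻¹, ?_⟩⟩
        rw [← hw]; group]
    rw [Finset.sum_const_nat fun k hk => ?_]
    obtain ⟨g, hg⟩ := isConj_iff.mp (Finset.mem_filter.mp hk).2
    rw [← hcx, Nat.card_eq_fintype_card, Fintype.card_subtype]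
    refine Finset.card_bij (fun w _ => g * w.1) (fun w hw => ?_) (fun a ha b hb e => ?_) fun c hc => ?_
    · simp only [Finset.mem_filter, Finset.mem_univ, true_and] at hw ⊢
      obtain ⟨hw, rfl⟩ := hw
      refine Subgroup.mem_centralizer_singleton_iff.mpr ?_
      calc g * w.1 * (x : G) = g * w.1 * (w.1⁻¹ * (u * (w.2 * u * w.2⁻¹)) * w.1) := by rw [hw]
        _ = g * (u * (w.2 * u * w.2⁻¹)) * g⁻¹ * (g * w.1) := by group
        _ = (x : G) * (g * w.1) := by rw [hg]
    · simp only [Finset.mem_filter] at ha hb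
      exact Prod.ext (mul_left_cancel e) (ha.2.trans hb.2.symm)
    · simp only [Finset.mem_filter, Finset.mem_univ, true_and] at hc
      refine ⟨(g⁻¹ * c, k), ?_, by group⟩
      simp only [Finset.mem_filter, Finset.mem_univ, true_and, and_true]
      calc (g⁻¹ * c)⁻¹ * (u * (k * u * k⁻¹)) * (g⁻¹ * c) = c⁻¹ * (g * (u * (k * u * k⁻¹)) * g⁻¹) * c := by group
        _ = c⁻¹ * ((x : G) * c) := by rw [hg, mul_assoc]
        _ = (x : G) := by rw [← Subgroup.mem_centralizer_singleton_iff.mp hc, inv_mul_cancel_left]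
  have hC : (M.card : ℂ) = (Nat.card (Subgroup.centralizer ({u} : Set G)) : ℂ) ^ 2 := by
    have := hW.symm.trans (card_pairs hp2 hP hcent hu hinv0 x hx)
    rw [mul_comm p, mul_left_inj' hp.ne_zero] at this
    rw [this]; push_cast; ring
  rw [← hC, mul_comm (p : ℂ), ← hsum, Finset.mul_sum]
  exact Finset.sum_congr rfl fun χ _ => by ring

end CfsgLib.SmallGroups.InvertingInvolution
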