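import Mathlib

/-!
# The finite searches for a simple group of order 4320

`pre` lists the possible signed degrees; `search` looks for character values at an involution satisfying
the linear relation and making the class equation a square.
-/

set_option autoImplicit false

namespace CfsgLib.SmallGroups.Order4320Search

/-- Possible signed degrees. -/
def signed : List ℤ := [-54, -24, -9, -4, 6, 16, 36]

theorem degrees {d : ℕ} {v : ℤ} (hd : d ∣ 4320) (h2 : 2 ≤ d) (hsq : d * d ≤ 4320) (h5 : (v : ℤ) ≡ d [ZMOD 5])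
    (hv : v = 1 ∨ v = -1) : v * (d : ℤ) ∈ signed := by
  have hd66 : d < 66 := by nlinarith
  have key : ∀ k : Fin 66, 2 ≤ k.val → 4320 % k.val = 0 →
      (((k.val : ℕ) : ℤ) % 5 = 1 → (1 * ((k.val : ℕ) : ℤ)) ∈ signed) ∧
      (((k.val : ℕ) : ℤ) % 5 = 4 → ((-1) * ((k.val : ℕ) : ℤ)) ∈ signed) := by decide +kernel
  obtain ⟨k1, k2⟩ := key ⟨d, hd66⟩ h2 (Nat.mod_eq_zero_of_dvd hd)
  simp only at k1 k2
  rw [Int.ModEq] at h5
  rcases hv with rfl | rfl
  · exact k1 (by omega)
  · exact k2 (by omega)

theorem multisets : ∀ a ∈ signed, ∀ b ∈ signed, ∀ c ∈ signed, ∀ d ∈ signed, a ≤ b → b ≤ c → c ≤ d →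
    a + b + c + d = -1 →
    [a, b, c, d].count (-4) = 1 ∨ [a, b, c, d] = [-24, -9, 16, 16] ∨ [a, b, c, d] = [-9, -4, -4, 16] := by
  decide +kernel

/-- The integers of absolute value below `m` with the parity of `m`. -/
def vals (m : ℕ) : List ℤ :=
  ((List.range (2 * m)).map fun i : ℕ => (i : ℤ) - m).filter fun c => decide (c.natAbs < m ∧ (c - m) % 2 = 0)

theorem mem_vals {m : ℕ} {c : ℤ} (h : c.natAbs < m) (hp : (c - m) % 2 = 0) : c ∈ vals m :=
  List.mem_filter.mpr ⟨List.mem_map.mpr ⟨(c + m).toNat, List.mem_range.mpr (by omega), by omega⟩,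
    decide_eq_true ⟨h, hp⟩⟩

/-- No admissible values make the class equation a square. -/
def search (a b c d : ℤ) : Bool :=
  (vals b.natAbs).all fun y => (vals c.natAbs).all fun z => (vals d.natAbs).all fun w =>
    let x := a.sign * (-1 - b.sign * y - c.sign * z - d.sign * w)
    let T := 144 + x * x * (144 / a) + y * y * (144 / b) + z * z * (144 / c) + w * w * (144 / d)
    !(decide (x.natAbs < a.natAbs ∧ (x - a) % 2 = 0)) || decide (T ≤ 0) ||
      decide (Nat.sqrt (6 * T).toNat * Nat.sqrt (6 * T).toNat ≠ (6 * T).toNat)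

theorem search_A : search (-24) (-9) 16 16 = true := by decide +kernel

theorem search_B : search (-9) (-4) (-4) 16 = true := by decide +kernel

theorem false_of_search {a b c d x y z w : ℤ} (hs : search a b c d = true) (ha : a ≠ 0)
    (hx : x.natAbs < a.natAbs) (hxp : (x - a) % 2 = 0) (hy : y.natAbs < b.natAbs) (hyp : (y - b) % 2 = 0)
    (hz : z.natAbs < c.natAbs) (hzp : (z - c) % 2 = 0) (hw : w.natAbs < d.natAbs) (hwp : (w - d) % 2 = 0)
    (hlin : a.sign * x + b.sign * y + c.sign * z + d.sign * w = -1) (C : ℕ) (hC0 : C ≠ 0)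
    (hC : (C : ℤ) * C = 6 * (144 + x * x * (144 / a) + y * y * (144 / b) + z * z * (144 / c) + w * w * (144 / d))) :
    False := by
  simp only [search, List.all_eq_true] at hs
  have h := hs y (mem_vals hy (by omega)) z (mem_vals hz (by omega)) w (mem_vals hw (by omega))
  have hxe : a.sign * (-1 - b.sign * y - c.sign * z - d.sign * w) = x := by
    have h1 : a.sign * a.sign = 1 := by
      rcases Int.lt_or_gt_of_ne ha with h | h
      · rw [Int.sign_eq_neg_one_of_neg h]; norm_num
      · rw [Int.sign_eq_one_of_pos h]; norm_num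
    rw [show -1 - b.sign * y - c.sign * z - d.sign * w = a.sign * x by linarith, ← mul_assoc, h1, one_mul]
  rw [hxe] at h
  simp only [Bool.or_eq_true, Bool.not_eq_true', decide_eq_false_iff_not, decide_eq_true_eq] at h
  rcases h with (h | h) | h
  · exact h ⟨hx, hxp⟩
  · have : (0 : ℤ) < (C : ℤ) * C := by positivity
    omega
  · refine h ?_
    rw [← hC, show ((C : ℤ) * C).toNat = C * C by rw [← Nat.cast_mul]; exact Int.toNat_natCast _, Nat.sqrt_eq]

end CfsgLib.SmallGroups.Order4320Search
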