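import Cfsg.Agent.Lib.SmallGroups.LocalTools
import Cfsg.Agent.Lib.SmallGroups.SylowInter
import Cfsg.Agent.Lib.SmallGroups.BlockDegrees
import Cfsg.Agent.Lib.SmallGroups.CyclicShiftDet
import Cfsg.Agent.Lib.Fusion.ThompsonTransfer
import Cfsg.Agent.Lib.Fusion.MaxClass
import Cfsg.Agent.Lib.NumberTheory.SylowFifteen
import Cfsg.Agent.Lib.Char.Orth

/-!
# The orders up to 1092 that need a special argument
-/

set_option autoImplicit false

namespace CfsgLib.SmallGroups.OrdersBelow1092

open Subgroup CfsgLib.SmallGroups.SimpleTools CfsgLib.SmallGroups.LocalTools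

open scoped commutatorElement

/-- An involution none of whose conjugates has a centralizer of order more than four in a Sylow
2-subgroup of order sixteen lies outside a subgroup of index two, with all its conjugates there. -/
theorem exists_index_two {H : Type*} [Group H] [Finite H] (hH : Nat.card H = 16) (K : Set H)
    (hK : ∀ x ∈ K, x * x = 1 ∧ Nat.card (centralizer ({x} : Set H)) ≤ 4)
    (hconj : ∀ x ∈ K, ∀ s : H, s * x * s⁻¹ ∈ K) :
    ∃ M : Subgroup H, M.index = 2 ∧ ∀ x ∈ K, x ∉ M := by
  classical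
  have h2 : IsPGroup 2 H := IsPGroup.of_card (n := 4) (by rw [hH]; norm_num)
  have hDcard' : Nat.card (commutator H) ≤ 4 := by
    have := CfsgLib.Fusion.MaxClass.commutator_card h2 (n := 4) (by norm_num) (by rw [hH]; norm_num)
    norm_num at this ⊢
    omega
  set D := commutator H
  have hDcard : Nat.card D ≤ 4 := hDcard'
  -- each class fills a coset
  have hcls : ∀ x ∈ K, x ∉ D ∧ Nat.card D = 4 ∧ ∀ d ∈ D, ∃ s : H, s * x * s⁻¹ = d * x := by
    intro x hx
    let f : H ⧸ centralizer ({x} : Set H) → D := fun q => Quotient.liftOn' q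
      (fun s => ⟨s * x * s⁻¹ * x⁻¹, by
        rw [← commutatorElement_def]
        exact commutator_mem_commutator (mem_top _) (mem_top _)⟩)
      (fun a b hab => by
        rw [QuotientGroup.leftRel_apply] at hab
        have h := mem_centralizer_singleton_iff.mp hab
        refine Subtype.ext ?_
        have hb : b * x * b⁻¹ = a * x * a⁻¹ := by
          calc b * x * b⁻¹ = a * ((a⁻¹ * b) * x) * b⁻¹ := by group
            _ = a * (x * (a⁻¹ * b)) * b⁻¹ := by rw [h]
            _ = a * x * a⁻¹ := by group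
        show a * x * a⁻¹ * x⁻¹ = b * x * b⁻¹ * x⁻¹
        rw [hb])
    have hf : Function.Injective f := by
      intro q r
      induction q using QuotientGroup.induction_on with
      | _ a =>
      induction r using QuotientGroup.induction_on with
      | _ b =>
      intro h
      have h' : a * x * a⁻¹ = b * x * b⁻¹ := mul_right_cancel (congrArg Subtype.val h)
      refine QuotientGroup.eq.mpr (mem_centralizer_singleton_iff.mpr ?_)
      calc a⁻¹ * b * x = a⁻¹ * (b * x * b⁻¹) * b := by group
        _ = a⁻¹ * (a * x * a⁻¹) * b := by rw [h']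
        _ = x * (a⁻¹ * b) := by group
    have hq : 4 ≤ Nat.card (H ⧸ centralizer ({x} : Set H)) := by
      have h1 := (centralizer ({x} : Set H)).index_mul_card
      rw [hH, index] at h1
      have h4 := (hK x hx).2
      nlinarith
    have hle := Nat.card_le_card_of_injective f hf
    have hD4 : Nat.card D = 4 := by omega
    have hsurj : Function.Surjective f :=
      (hf.bijective_of_nat_card_le (by omega)).2
    have hall : ∀ d ∈ D, ∃ s : H, s * x * s⁻¹ = d * x := by
      intro d hd
      obtain ⟨q, hq'⟩ := hsurj ⟨d, hd⟩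
      induction q using QuotientGroup.induction_on with
      | _ a =>
      refine ⟨a, ?_⟩
      have h' : a * x * a⁻¹ * x⁻¹ = d := congrArg Subtype.val hq'
      rw [← h', inv_mul_cancel_right]
    refine ⟨fun hxD => ?_, hD4, hall⟩
    obtain ⟨s, hs⟩ := hall x⁻¹ (D.inv_mem hxD)
    rw [inv_mul_cancel, conj_eq_one_iff] at hs
    have := (hK x hx).2
    rw [hs, show centralizer ({1} : Set H) = ⊤ from centralizer_eq_top_iff_subset.mpr (by simp),
      card_top, hH] at this
    norm_num at this
  rcases Set.eq_empty_or_nonempty K with rfl | ⟨x₀, hx₀⟩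
  · obtain ⟨M, hM⟩ := Sylow.exists_subgroup_card_pow_prime (p := 2) (n := 3) (G := H)
      (by rw [hH]; norm_num)
    refine ⟨M, ?_, fun x hx => absurd hx (Set.notMem_empty x)⟩
    have := M.index_mul_card
    rw [hM, hH] at this
    omega
  have hD4 : Nat.card D = 4 := (hcls x₀ hx₀).2.1
  have hinv : ∀ x ∈ K, ∀ d ∈ D, x * d * x = d⁻¹ := by
    intro x hx d hd
    obtain ⟨s, hs⟩ := (hcls x hx).2.2 d hd
    have h1 := (hK _ (hs ▸ hconj x hx s)).1
    calc x * d * x = d⁻¹ * ((d * x) * (d * x)) := by group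
      _ = d⁻¹ := by rw [h1, mul_one]
  let q : H →* H ⧸ D := QuotientGroup.mk' D
  have hA : Nat.card (H ⧸ D) = 4 := by
    have := D.index_mul_card
    rw [hH, hD4, index] at this
    omega
  have hAc : ∀ a b : H ⧸ D, a * b = b * a := by
    intro a b
    induction a using QuotientGroup.induction_on with
    | _ x =>
    induction b using QuotientGroup.induction_on with
    | _ y =>
    refine QuotientGroup.eq.mpr ?_
    rw [show (x * y)⁻¹ * (y * x) = ⁅y⁻¹, x⁻¹⁆ by rw [commutatorElement_def]; group]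
    exact commutator_mem_commutator (mem_top _) (mem_top _)
  have hAe : ∀ a : H ⧸ D, a * a = 1 := by
    have : Fact (Nat.Prime 2) := ⟨Nat.prime_two⟩
    intro a
    by_contra ha
    obtain ⟨k, hk, e⟩ := (Nat.dvd_prime_pow Nat.prime_two).mp
      (show orderOf a ∣ 2 ^ 2 by rw [show (2 : ℕ) ^ 2 = 4 by norm_num, ← hA]; exact orderOf_dvd_natCard a)
    have hk2 : k = 2 := by
      by_contra hne
      apply ha
      rw [← sq, ← orderOf_dvd_iff_pow_eq_one, e]
      exact (pow_dvd_pow 2 (show k ≤ 1 by omega)).trans (by norm_num)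
    have hcyc : IsCyclic (H ⧸ D) := isCyclic_of_orderOf_eq_card a (by rw [e, hk2, hA]; norm_num)
    have := CfsgLib.Fusion.MaxClass.commutator_eq_bot_of_cyclic h2 hcyc
    rw [show D = commutator H from rfl, this, card_bot] at hD4
    norm_num at hD4
  have hthree : ∀ x ∈ K, ∀ y ∈ K, q x * q y ∉ q '' K := by
    rintro x hx y hy ⟨c, hc, he⟩
    have hd : c * (x * y)⁻¹ ∈ D := by
      rw [← QuotientGroup.eq_one_iff]
      show q (c * (x * y)⁻¹) = 1
      rw [map_mul, map_inv, map_mul, he, mul_inv_cancel]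
    -- then `c` centralizes the derived group
    have hab : ∀ a ∈ D, ∀ b ∈ D, a * b = b * a := fun a ha b hb => congrArg Subtype.val
      ((IsPGroup.isMulCommutative_of_card_eq_prime_sq (p := 2) (G := D) (by rw [hD4]; norm_num)).is_comm.comm
        ⟨a, ha⟩ ⟨b, hb⟩)
    have hxy : ∀ d ∈ D, x * y * d = d * (x * y) := by
      intro d hd'
      have e1 := hinv y hy d hd'
      have e2 := hinv x hx d⁻¹ (D.inv_mem hd')
      have hy1 : y⁻¹ = y := inv_eq_of_mul_eq_one_right (hK y hy).1
      have hx1 : x⁻¹ = x := inv_eq_of_mul_eq_one_right (hK x hx).1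
      rw [inv_inv] at e2
      calc x * y * d = x * (y * d * y) * y⁻¹ := by group
        _ = x * d⁻¹ * y := by rw [e1, hy1]
        _ = (x * d⁻¹ * x) * (x⁻¹ * y) := by group
        _ = d * (x * y) := by rw [e2, hx1]
    have hcen : ∀ d ∈ D, d * c = c * d := by
      intro d hd'
      calc d * c = d * (c * (x * y)⁻¹) * (x * y) := by group
        _ = (c * (x * y)⁻¹) * d * (x * y) := by rw [hab d hd' _ hd]
        _ = (c * (x * y)⁻¹) * ((x * y) * d) := by rw [mul_assoc, hxy d hd']
        _ = c * d := by group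
    have hlt : D < centralizer ({c} : Set H) := by
      refine lt_of_le_of_ne (fun d hd' => mem_centralizer_singleton_iff.mpr (hcen d hd')) fun e => ?_
      exact (hcls c hc).1 (e ▸ mem_centralizer_singleton_iff.mpr rfl)
    have := CfsgLib.Fusion.MaxClass.card_mul_le_of_lt h2 hlt
    have := (hK c hc).2
    omega
  obtain ⟨a, ha1, haK⟩ : ∃ a : H ⧸ D, a ≠ 1 ∧ a ∉ q '' K := by
    by_contra hcon
    push Not at hcon
    have hx1 : q x₀ ≠ 1 := fun e => (hcls x₀ hx₀).1 ((QuotientGroup.eq_one_iff _).mp e)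
    obtain ⟨b, hb⟩ : ∃ b : H ⧸ D, b ∉ ({1, q x₀} : Set (H ⧸ D)) := by
      by_contra hb
      push Not at hb
      have := Set.ncard_le_ncard (s := Set.univ) (t := ({1, q x₀} : Set (H ⧸ D))) (fun b _ => hb b)
      rw [Set.ncard_univ, hA, Set.ncard_pair (Ne.symm hx1)] at this
      omega
    simp only [Set.mem_insert_iff, Set.mem_singleton_iff, not_or] at hb
    obtain ⟨y, hy, hyb⟩ := hcon b hb.1
    refine hthree x₀ hx₀ y hy (hyb ▸ hcon _ fun e => hb.2 ?_)
    calc b = q x₀ * (q x₀ * b) := by rw [← mul_assoc, hAe, one_mul]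
      _ = q x₀ := by rw [e, mul_one]
  refine ⟨(zpowers a).comap q, ?_, fun x hx hxM => ?_⟩
  · rw [index_comap_of_surjective _ (QuotientGroup.mk'_surjective D)]
    have := (zpowers a).index_mul_card
    rw [Nat.card_zpowers, orderOf_eq_prime ((sq a).trans (hAe a)) ha1, hA] at this
    omega
  · obtain ⟨k, hk⟩ := mem_zpowers_iff.mp (mem_comap.mp hxM)
    have ha2 : a ^ (2 : ℤ) = 1 := by rw [zpow_two]; exact hAe a
    rcases Int.even_or_odd k with ⟨j, rfl⟩ | ⟨j, rfl⟩
    · rw [← two_mul, zpow_mul, ha2, one_zpow] at hk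
      exact (hcls x hx).1 ((QuotientGroup.eq_one_iff _).mp hk.symm)
    · rw [zpow_add, zpow_mul, ha2, one_zpow, one_mul, zpow_one] at hk
      exact haK ⟨x, hx, hk.symm⟩

variable {G : Type*} [Group G] [Finite G] [IsSimpleGroup G] (hG : ¬ IsMulCommutative G)

include hG

/-- A simple group with Sylow 2-subgroups of order 16 has no involution whose centralizer has order
not divisible by eight. -/
theorem false_of_small_centralizer {m : ℕ} (hcard : Nat.card G = 2 ^ 4 * m) (hm : ¬ 2 ∣ m) {t : G}
    (ht : orderOf t = 2) (h8 : ¬ 8 ∣ Nat.card (centralizer ({t} : Set G))) : False := by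
  classical
  have : Fact (Nat.Prime 2) := ⟨Nat.prime_two⟩
  obtain ⟨S, hS⟩ := (IsPGroup.of_card (n := 1) (by rw [Nat.card_zpowers, ht, pow_one]) :
    IsPGroup 2 ↥(zpowers t)).exists_le_sylow
  have htS : t ∈ (S : Subgroup G) := hS (mem_zpowers t)
  have hSc : Nat.card (S : Subgroup G) = 16 := (card_sylow_subgroup hcard hm S).trans (by norm_num)
  let K : Set ↥(S : Subgroup G) := {x | IsConj t (x : G)}
  obtain ⟨M, hM, hMK⟩ := exists_index_two hSc K (fun x hx => by
    obtain ⟨g, hg⟩ := isConj_iff.mp hx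
    refine ⟨Subtype.ext ?_, ?_⟩
    · rw [coe_mul, coe_one, ← hg]
      have : t * t = 1 := by rw [← sq, ← ht, pow_orderOf_eq_one]
      calc g * t * g⁻¹ * (g * t * g⁻¹) = g * (t * t) * g⁻¹ := by group
        _ = 1 := by rw [this]; group
    · have hle : ((centralizer ({x} : Set ↥(S : Subgroup G))).map (S : Subgroup G).subtype).map
          (MulAut.conj g⁻¹).toMonoidHom ≤ centralizer ({t} : Set G) := by
        rintro _ ⟨_, ⟨y, hy, rfl⟩, rfl⟩
        refine mem_centralizer_singleton_iff.mpr ?_
        have h' : (y : G) * (x : G) = (x : G) * y :=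
          congrArg Subtype.val (mem_centralizer_singleton_iff.mp hy)
        rw [← hg] at h'
        simp only [MulEquiv.coe_toMonoidHom, MulAut.conj_apply, inv_inv, coe_subtype]
        calc g⁻¹ * (y : G) * g * t = g⁻¹ * ((y : G) * (g * t * g⁻¹)) * g := by group
          _ = g⁻¹ * (g * t * g⁻¹ * y) * g := by rw [h']
          _ = t * (g⁻¹ * y * g) := by group
      have hd := card_dvd_of_le hle
      rw [card_map_of_injective (MulAut.conj g⁻¹).injective, card_map_of_injective (S : Subgroup G).subtype_injective] at hd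
      obtain ⟨j, hj, e⟩ := (Nat.dvd_prime_pow Nat.prime_two).mp (show _ ∣ 2 ^ 4 from
        (show Nat.card ↥(S : Subgroup G) = 2 ^ 4 by rw [hSc]; norm_num) ▸
          card_subgroup_dvd_card (centralizer ({x} : Set ↥(S : Subgroup G))))
      rw [e]
      rcases Nat.lt_or_ge j 3 with h3 | h3
      · exact (Nat.pow_le_pow_right (by norm_num) (show j ≤ 2 by omega)).trans (by norm_num)
      · exact absurd ((pow_dvd_pow 2 h3).trans (e ▸ hd)) h8)
    (fun x hx s => IsConj.trans (show IsConj t (x : G) from hx) (isConj_iff.mpr ⟨(s : G), rfl⟩))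
  have htM : t ∉ M.map (S : Subgroup G).subtype := by
    rintro ⟨y, hy, e⟩
    exact hMK y (show IsConj t (y : G) from e ▸ IsConj.refl _) hy
  have hidx : (M.map (S : Subgroup G).subtype).relIndex (S : Subgroup G) = 2 := by
    rw [relIndex, subgroupOf, comap_map_eq_self_of_injective (S : Subgroup G).subtype_injective]
    exact hM
  rcases CfsgLib.Fusion.ThompsonTransfer.thompson_transfer S _ (map_subtype_le M) hidx t
    (by rw [← ht, pow_orderOf_eq_one]) htS htM with ⟨N, hN, hN2, -⟩ | ⟨g, hg⟩
  · rcases hN.eq_bot_or_eq_top with h | h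
    · rw [h, index_bot, hcard] at hN2; omega
    · rw [h, index_top] at hN2; omega
  · obtain ⟨y, hy, e⟩ := hg
    exact hMK y (show IsConj t (y : G) from isConj_iff.mpr ⟨g, e.symm⟩) hy

/-- A proper subgroup containing a Sylow normaliser has order `n` times its order, `n ≡ 1 [MOD p]`. -/
theorem card_eq_mul {p : ℕ} [Fact p.Prime] (P : Sylow p G) {H : Subgroup G}
    (hNH : normalizer ((P : Subgroup G) : Set G) ≤ H) :
    ∃ n : ℕ, n % p = 1 ∧ Nat.card H = n * Nat.card (normalizer ((P : Subgroup G) : Set G)) := by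
  have hPH : (P : Subgroup G) ≤ H := le_normalizer.trans hNH
  refine ⟨Nat.card (Sylow p ↥H), ?_, ?_⟩
  · rw [card_sylow_modEq_one p ↥H, Nat.mod_eq_of_lt (Fact.out : p.Prime).one_lt]
  · rw [← card_normalizer_mul (P.subtype hPH)]
    congr 1
    rw [← Nat.card_congr (subgroupOfEquivOfLe hNH).toEquiv]
    congr 2
    ext x
    rw [mem_subgroupOf, mem_normalizer_iff, mem_normalizer_iff]
    constructor
    · intro h z
      constructor
      · intro hz
        exact (h ⟨z, hPH hz⟩).mp hz
      · intro hz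
        have hzH : z ∈ H := by
          have := H.mul_mem (H.mul_mem (H.inv_mem x.2) (hPH hz)) x.2
          simpa [mul_assoc] using this
        exact (h ⟨z, hzH⟩).mpr hz
    · intro h z
      exact h (z : G)

/-- Two Sylow subgroups meeting in a maximal subgroup of each. -/
theorem exists_big {p m a : ℕ} [Fact p.Prime] (hcard : Nat.card G = p ^ a * m) (hm : ¬ p ∣ m)
    (ha : 2 ≤ a) (hn : ¬ Nat.card (Sylow p G) ≡ 1 [MOD p ^ 2]) :
    ∃ M : Subgroup G, M ≠ ⊤ ∧ M.index * (p + 1) ≤ m ∧ M.index ∣ m := by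
  have hp : p.Prime := Fact.out
  obtain ⟨P, R, hne, hidx⟩ := CfsgLib.SmallGroups.SylowInter.exists_relIndex_le (G := G) (p := p) 2 hn
  rw [pow_one] at hidx
  have hc : ∀ Q : Sylow p G, Nat.card (Q : Subgroup G) = p ^ a := card_sylow_subgroup hcard hm
  set D := (R : Subgroup G) ⊓ (P : Subgroup G) with hD
  have key : ∀ Q : Sylow p G, D ≤ (Q : Subgroup G) → Nat.card D * p = p ^ a →
      (Q : Subgroup G) ≤ normalizer (D : Set G) := by
    intro Q hQ hcardD
    have hidxQ : (D.subgroupOf (Q : Subgroup G)).index = p := by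
      have h := (D.subgroupOf (Q : Subgroup G)).index_mul_card
      rw [Nat.card_congr (subgroupOfEquivOfLe hQ).toEquiv, hc Q, ← hcardD, mul_comm (Nat.card D)] at h
      exact Nat.eq_of_mul_eq_mul_right Nat.card_pos h
    have : (D.subgroupOf (Q : Subgroup G)).Normal := normal_of_index_eq_minFac_card (by
      rw [hidxQ, hc Q, Nat.pow_minFac (by omega), hp.minFac_eq])
    exact (normal_subgroupOf_iff_le_normalizer hQ).mp this
  have hDP : Nat.card D * p = p ^ a := by
    have h := ((R : Subgroup G).subgroupOf (P : Subgroup G)).index_mul_card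
    have e : Nat.card ↥((R : Subgroup G).subgroupOf (P : Subgroup G)) = Nat.card D := by
      rw [← inf_subgroupOf_right, Nat.card_congr (subgroupOfEquivOfLe inf_le_right).toEquiv]
    rw [e, hc P] at h
    obtain ⟨j, hj, ej⟩ := (Nat.dvd_prime_pow hp).mp (Dvd.intro _ h)
    rcases Nat.lt_or_ge j 1 with h0 | h0
    · exfalso
      rw [ej, show j = 0 by omega, pow_zero, one_mul] at h
      have hPR : (P : Subgroup G) ≤ R := fun x hx => by
        have : D = (P : Subgroup G) := Subgroup.eq_of_le_of_card_ge inf_le_right (by rw [hc P, h])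
        exact (this ▸ hx : x ∈ D).1
      exact hne (Sylow.ext (Subgroup.eq_of_le_of_card_ge hPR (by rw [hc, hc])))
    · have hjp : p ^ j ≤ p := ej ▸ hidx
      have h1 : j = 1 := by
        by_contra hne1
        exact absurd hjp (not_le.mpr (by
          calc p = p ^ 1 := (pow_one p).symm
            _ < p ^ j := Nat.pow_lt_pow_right hp.one_lt (by omega)))
      rw [ej, h1, pow_one] at h
      linarith
  have hDne : D ≠ ⊥ := fun hb => by
    rw [hb, card_bot, one_mul] at hDP
    have := Nat.pow_lt_pow_right hp.one_lt (show 1 < a by omega)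
    rw [pow_one, ← hDP] at this
    exact lt_irrefl _ this
  set M := normalizer (D : Set G)
  have hP := key P inf_le_right hDP
  have hR := key R inf_le_left hDP
  refine ⟨M, fun e => ?_, ?_, ?_⟩
  · rcases (normalizer_eq_top_iff.mp e).eq_bot_or_eq_top with h | h
    · exact hDne h
    · exact normalizer_ne_top hG (hcard ▸ dvd_mul_of_dvd_left (dvd_pow_self p (by omega)) m) P (by
        rw [eq_top_iff]
        exact (h ▸ inf_le_right : (⊤ : Subgroup G) ≤ (P : Subgroup G)).trans le_normalizer)
  · have h1 : Nat.card (Sylow p ↥M) ≠ 1 := fun h1 => by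
      have : Subsingleton (Sylow p ↥M) := Finite.card_le_one_iff_subsingleton.mp h1.le
      exact hne (Sylow.subtype_injective (Subsingleton.elim (P.subtype hP) (R.subtype hR)))
    have h2 : p + 1 ≤ Nat.card (Sylow p ↥M) := by
      have hmod : Nat.card (Sylow p ↥M) % p = 1 := by
        rw [card_sylow_modEq_one p ↥M, Nat.mod_eq_of_lt hp.one_lt]
      have hdm := Nat.div_add_mod (Nat.card (Sylow p ↥M)) p
      rcases Nat.eq_zero_or_pos (Nat.card (Sylow p ↥M) / p) with h0 | h0
      · rw [h0, hmod] at hdm; omega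
      · nlinarith
    have h3 : p ^ a ≤ Nat.card ↥(normalizer ((P.subtype hP : Subgroup ↥M) : Set ↥M)) := by
      refine le_trans (le_of_eq ?_) (Subgroup.card_le_of_le le_normalizer)
      rw [← hc P]
      exact (Nat.card_congr (subgroupOfEquivOfLe hP).toEquiv).symm
    have h4 := card_normalizer_mul (P.subtype hP)
    have h5 := M.index_mul_card
    rw [hcard] at h5
    have h6 : (p + 1) * p ^ a ≤ Nat.card M := h4 ▸ Nat.mul_le_mul h2 h3
    refine Nat.le_of_mul_le_mul_right ?_ (pow_pos hp.pos a)
    calc M.index * (p + 1) * p ^ a ≤ M.index * Nat.card M := by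
          rw [mul_assoc]; exact Nat.mul_le_mul_left _ h6
      _ = m * p ^ a := by rw [h5]; ring
  · refine (index_dvd_of_le hP).trans ?_
    have h5 := (P : Subgroup G).index_mul_card
    rw [hc P, hcard, mul_comm] at h5
    exact dvd_of_eq (Nat.eq_of_mul_eq_mul_left (pow_pos hp.pos a) h5)

theorem prime_order_setup {p m : ℕ} [Fact p.Prime] (hcard : Nat.card G = p * m) (hm : ¬ p ∣ m) {n : ℕ}
    (hn : Nat.card (Sylow p G) = n) :
    ∃ (P : Sylow p G) (e k : ℕ), Nat.card (P : Subgroup G) = p ∧ e ≠ 1 ∧ e ∣ p - 1 ∧ n * (e * k) = m ∧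
      Nat.card (normalizer ((P : Subgroup G) : Set G)) = e * (p * k) ∧
      Nat.card (centralizer ((P : Subgroup G) : Set G)) = p * k := by
  obtain ⟨P⟩ : Nonempty (Sylow p G) := inferInstance
  have hP : Nat.card (P : Subgroup G) = p :=
    (card_sylow_subgroup (k := 1) (by rw [pow_one]; exact hcard) hm P).trans (pow_one p)
  obtain ⟨e, k, he, hed, hN, hC⟩ := exists_e hG P hP
  refine ⟨P, e, k, hP, he, hed, ?_, hN, hC⟩
  have h := card_normalizer_mul P
  rw [hn, hN, hcard] at h
  refine Nat.eq_of_mul_eq_mul_left (Fact.out : p.Prime).pos ?_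
  rw [← h]; ring

theorem lt_of_index (H : Subgroup G) (hH : H ≠ ⊤) {b : ℕ} (hb : ¬ 2 * Nat.card G ∣ b.factorial) :
    b < H.index := by
  by_contra h
  exact hb ((two_mul_card_dvd_factorial hG H hH).trans (Nat.factorial_dvd_factorial (by omega)))

/-- Excluding orders through the number of Sylow subgroups being `1` modulo `p ^ 2`. -/
theorem false_of_big {p m a b : ℕ} [Fact p.Prime] (hcard : Nat.card G = p ^ a * m) (hm : ¬ p ∣ m)
    (ha : 2 ≤ a) (hn : ¬ Nat.card (Sylow p G) ≡ 1 [MOD p ^ 2])
    (hb : ¬ 2 * Nat.card G ∣ b.factorial) (hmb : m < (b + 1) * (p + 1)) : False := by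
  obtain ⟨M, hM, hle, -⟩ := exists_big hG hcard hm ha hn
  have := lt_of_index hG M hM hb
  nlinarith [Nat.mul_le_mul_right (p + 1) this]

theorem relation {p : ℕ} [Fact p.Prime] (hp2 : p ≠ 2) (P : Sylow p G) (hP : Nat.card (P : Subgroup G) = p)
    {e k : ℕ} (hN : Nat.card (normalizer ((P : Subgroup G) : Set G)) = e * (p * k))
    (hC : Nat.card (centralizer ((P : Subgroup G) : Set G)) = p * k) (he : e + 1 < p) :
    ∃ (l : List ℤ) (x : ℤ), l.length + 1 = e ∧
      (∀ a ∈ l, a.natAbs ∣ Nat.card G ∧ 2 ≤ a.natAbs ∧ a ≡ 1 [ZMOD p]) ∧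
      x.natAbs ∣ Nat.card G ∧ x ≡ e [ZMOD p] ∧ x = 1 + l.sum := by
  classical
  have := Fintype.ofFinite G
  exact BlockDegrees.degree_relation hG hp2 P hP (by rw [hN, hC]) he

end CfsgLib.SmallGroups.OrdersBelow1092
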