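import Cfsg.Agent.Lib.SmallGroups.RationalColumn
import Cfsg.Agent.Lib.SmallGroups.InvertingInvolution
import Cfsg.Agent.Lib.SmallGroups.Order4320Search
import Cfsg.Agent.Lib.SmallGroups.OrdersBelow1092
import Cfsg.Agent.Lib.SmallGroups.CofactorTools
import Cfsg.Agent.Lib.SmallGroups.SelfInverse
import Cfsg.Agent.S0904

/-!
# No simple group has order 4320

A Sylow 5-subgroup is self-centralizing with normaliser of order 20.  Four nontrivial characters are
nonzero on it; a single one of degree four would be rational, and the class equation of an involution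
excludes the remaining degree patterns.
-/

set_option autoImplicit false

open scoped BigOperators
open scoped ComplexConjugate

namespace CfsgLib.SmallGroups.Order4320

open Cfsg CfsgLib.Char CfsgLib.Blocks

variable {G : Type*} [Group G] [Fintype G] [IsSimpleGroup G]

/-- The value of a nontrivial character at an involution. -/
theorem exists_value (hG : ¬ IsMulCommutative G) {u : G} (hu : orderOf u = 2) (χ : IrrCharacter G)
    (hne : χ ≠ trivChar G) :
    ∃ c : ℤ, (χ : G → ℂ) u = c ∧ c.natAbs < charDegree (χ : G → ℂ) ∧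
      (c - charDegree (χ : G → ℂ)) % 2 = 0 := by
  classical
  have huu : u * u = 1 := by rw [← pow_two, ← hu, pow_orderOf_eq_one]
  obtain ⟨c, hc, hbd⟩ := SelfInverse.exists_int_abs_le_of_sq_one χ.2 huu
  have hle := abs_le.mp (hbd _ (irr_one_eq χ))
  refine ⟨c, hc, ?_, ?_⟩
  · by_contra hge
    have heq : (c.natAbs : ℕ) = charDegree (χ : G → ℂ) := by omega
    have hnorm : ‖(χ : G → ℂ) u‖ = (charDegree (χ : G → ℂ) : ℝ) := by
      rw [hc, Complex.norm_intCast, ← heq, Nat.cast_natAbs, Int.cast_abs]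
    have hmem := DegreeTools.mem_center_of_norm_eq χ (Cofactor.faithful hne) u hnorm
    rw [SimpleTools.center_eq_bot hG, Subgroup.mem_bot] at hmem
    rw [hmem, orderOf_one] at hu
    omega
  · set Z := Subgroup.zpowers u
    have hone : Cfsg.IsCharacter ↥Z (fun _ => (1 : ℂ)) := isCharacter_one
    obtain ⟨m, hm⟩ := IsCharacter.classInner_nat (IsCharacter.restrict (isCharacter_irr χ) Z) hone
    have hZ : Nat.card Z = 2 := by rw [Nat.card_zpowers, hu]
    set u' : ↥Z := ⟨u, Subgroup.mem_zpowers u⟩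
    have hu1 : u' ≠ 1 := fun e => by
      rw [show u = 1 from congrArg Subtype.val e, orderOf_one] at hu
      omega
    have huniv : (Finset.univ : Finset ↥Z) = {1, u'} := by
      refine (Finset.eq_univ_of_card _ ?_).symm
      rw [Finset.card_pair (Ne.symm hu1), ← Nat.card_eq_fintype_card, hZ]
    rw [Cfsg.classInner, huniv, Finset.sum_pair (Ne.symm hu1), hZ] at hm
    simp only [map_one, mul_one, Subgroup.coe_one, irr_one_eq] at hm
    rw [show (χ : G → ℂ) (u' : G) = c from hc] at hm
    have h2 : ((charDegree (χ : G → ℂ) : ℤ) + c : ℤ) = 2 * (m : ℤ) := by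
      have : (charDegree (χ : G → ℂ) : ℂ) + c = 2 * (m : ℂ) := by
        rw [← hm]; push_cast; ring
      exact_mod_cast this
    omega

/-- Exclusion of a simple group of order 4320. -/
theorem card_ne (G : Type*) [Group G] [Finite G] [IsSimpleGroup G] : Nat.card G ≠ 4320 := by
  classical
  intro h
  have := Fintype.ofFinite G
  have : Fact (Nat.Prime 5) := ⟨by norm_num⟩
  have hG : ¬ IsMulCommutative G := SimpleTools.not_comm_of_card (by rw [h]; norm_num)
  obtain ⟨P, e, k, hP, he1, hed, hnek, hN, hC⟩ :=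
    OrdersBelow1092.prime_order_setup hG (p := 5) (m := 864) (by rw [h]) (by norm_num) rfl
  have hself := Cfsg.Agent.S0904.result 2 3 5 5 3 Nat.prime_two Nat.prime_three (by norm_num) (by norm_num)
    (by norm_num) (by rw [h]; norm_num) P
  have hC' : Nat.card (Subgroup.centralizer ((P : Subgroup G) : Set G)) = 5 :=
    (congrArg (fun H : Subgroup G => Nat.card H) hself).trans hP
  obtain rfl : k = 1 := by omega
  have hmod := card_sylow_modEq_one 5 G
  rw [Nat.ModEq] at hmod
  have he4 : e = 4 := by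
    have he5 : e ≤ 4 := Nat.le_of_dvd (by norm_num) hed
    have he3 : e ≠ 3 := fun e3 => by rw [e3] at hed; norm_num at hed
    interval_cases e <;> omega
  subst he4
  have hcent : Subgroup.centralizer ((P : Subgroup G) : Set G) = (P : Subgroup G) := hself
  have hN20 : Nat.card (Subgroup.normalizer ((P : Subgroup G) : Set G)) = (5 - 1) * 5 := by rw [hN]
  -- an element of the Sylow subgroup and an involution inverting it
  obtain ⟨⟨x, hxP⟩, hx⟩ := exists_prime_orderOf_dvd_card' (G := ↥(P : Subgroup G)) 5 (by rw [hP])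
  rw [← Subgroup.orderOf_coe] at hx
  change orderOf x = 5 at hx
  have hx1 : x ≠ 1 := fun e => by rw [e, orderOf_one] at hx; omega
  have hconj : ∀ y ∈ (P : Subgroup G), y ≠ 1 → IsConj x y := fun y hy hy1 =>
    RationalColumn.isConj_of_card_normalizer hP hcent hN20 hxP hx1 hy hy1
  have : Fact (Nat.Prime 2) := ⟨Nat.prime_two⟩
  obtain ⟨⟨u, huN⟩, hu⟩ := exists_prime_orderOf_dvd_card'
    (G := ↥(Subgroup.normalizer ((P : Subgroup G) : Set G))) 2 (by rw [hN20]; norm_num)
  rw [← Subgroup.orderOf_coe] at hu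
  change orderOf u = 2 at hu
  have huu : u * u = 1 := by rw [← pow_two, ← hu, pow_orderOf_eq_one]
  have hzg : Subgroup.zpowers x = (P : Subgroup G) :=
    Subgroup.eq_of_le_of_card_ge (Subgroup.zpowers_le.mpr hxP) (by rw [hP, Nat.card_zpowers, hx])
  have huinvx : u * x * u⁻¹ = x⁻¹ := by
    have hy : u * x * u⁻¹ ∈ Subgroup.zpowers x := hzg ▸ (Subgroup.mem_normalizer_iff.mp huN x).mp hxP
    obtain ⟨i, hi⟩ := Subgroup.mem_zpowers_iff.mp hy
    have h2 : x ^ (i * i) = x := by
      rw [zpow_mul, hi, conj_zpow, hi]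
      have hi' : u⁻¹ = u := inv_eq_of_mul_eq_one_right huu
      rw [hi', ← mul_assoc, ← mul_assoc, huu, one_mul, mul_assoc, huu, mul_one]
    have h5 : (5 : ℤ) ∣ i * i - 1 := by
      have : x ^ (i * i - 1) = 1 := by rw [zpow_sub, h2, zpow_one, mul_inv_cancel]
      have h' := orderOf_dvd_iff_zpow_eq_one.mpr this
      rw [hx] at h'
      exact_mod_cast h'
    rw [show i * i - 1 = (i - 1) * (i + 1) by ring] at h5
    rcases (Nat.prime_iff_prime_int.mp (by norm_num : Nat.Prime 5)).dvd_mul.mp h5 with h' | h'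
    · exfalso
      have hix : x ^ i = x := by
        obtain ⟨q, hq⟩ := h'
        rw [show i = 5 * q + 1 by push_cast at hq; omega, zpow_add, zpow_mul, zpow_one,
          show x ^ (5 : ℤ) = 1 by rw [zpow_ofNat, ← hx, pow_orderOf_eq_one], one_zpow, one_mul]
      have hcm : Commute u x := mul_inv_eq_iff_eq_mul.mp (hi ▸ hix)
      have huP : u ∈ (P : Subgroup G) := by
        rw [← hcent, Subgroup.mem_centralizer_iff]
        intro z hz
        rw [← hzg] at hz
        obtain ⟨j, rfl⟩ := Subgroup.mem_zpowers_iff.mp hz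
        exact (hcm.symm.zpow_left j).eq
      have h1 := (P : Subgroup G).orderOf_dvd_natCard huP
      rw [hP, hu] at h1
      norm_num at h1
    · obtain ⟨q, hq⟩ := h'
      rw [← hi, show i = 5 * q + (-1) by push_cast at hq; omega, zpow_add, zpow_mul,
        show x ^ (5 : ℤ) = 1 by rw [zpow_ofNat, ← hx, pow_orderOf_eq_one], one_zpow, one_mul, zpow_neg, zpow_one]
  have hinv : ∀ a ∈ (P : Subgroup G), u * a * u⁻¹ = a⁻¹ := by
    intro a ha
    rw [← hzg] at ha
    obtain ⟨j, rfl⟩ := Subgroup.mem_zpowers_iff.mp ha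
    rw [← conj_zpow, huinvx, inv_zpow]
  -- the values
  have hne1 : ¬ IsConj (1 : G) x := fun hc => hx1 (isConj_one_right.mp hc)
  have hnu : ¬ IsConj u x := fun hc => by
    obtain ⟨g, hg⟩ := isConj_iff.mp hc
    have := MulEquiv.orderOf_eq (MulAut.conj g) u
    rw [MulAut.conj_apply, hg, hx, hu] at this
    omega
  have hcx : Nat.card (Subgroup.centralizer ({x} : Set G)) = 5 := by
    have : Subgroup.centralizer ({x} : Set G) = (P : Subgroup G) := by
      conv_rhs => rw [← hcent, ← hzg]
      rw [Subgroup.zpowers_eq_closure, Subgroup.centralizer_closure]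
    rw [this, hP]
  choose v hv hvmod using fun χ : IrrCharacter G =>
    RationalColumn.exists_int_value hP hxP hx1 hconj χ
  have hvc : ∀ χ : IrrCharacter G, conj ((χ : G → ℂ) x) = (v χ : ℂ) := fun χ => by rw [hv, map_intCast]
  have hsq : ∑ χ, v χ * v χ = 5 := by
    have h1 := sum_irr_mul_conj x x
    rw [if_pos (IsConj.refl x), hcx] at h1
    simp only [hvc, hv, map_intCast] at h1
    exact_mod_cast h1
  have hdeg : ∑ χ : IrrCharacter G, (charDegree (χ : G → ℂ) : ℤ) * v χ = 0 := by
    have h1 := sum_irr_mul_conj (1 : G) x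
    rw [if_neg hne1] at h1
    simp only [hvc, irr_one_eq] at h1
    exact_mod_cast h1
  set t := trivChar G
  have htd : charDegree (t : G → ℂ) = 1 := by simp [t, charDegree]
  have hvt : v t = 1 := by
    have := hv t
    rw [show (t : G → ℂ) x = 1 from trivChar_apply x] at this
    exact_mod_cast this.symm
  set S : Finset (IrrCharacter G) := (Finset.univ.erase t).filter fun χ => v χ ≠ 0 with hS
  have hmemS : ∀ χ ∈ S, χ ≠ t ∧ v χ ≠ 0 := fun χ hχ =>
    ⟨(Finset.mem_erase.mp (Finset.mem_filter.mp hχ).1).1, (Finset.mem_filter.mp hχ).2⟩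
  have hsumS : ∀ f : IrrCharacter G → ℤ, ∑ χ, f χ * v χ = f t + ∑ χ ∈ S, f χ * v χ := fun f => by
    rw [← Finset.add_sum_erase _ _ (Finset.mem_univ t), hvt, mul_one, hS, Finset.sum_filter_of_ne]
    intro χ _ hne e
    rw [e, mul_zero] at hne
    exact hne rfl
  have hS4 : ∑ χ ∈ S, v χ * v χ = 4 := by
    have := hsumS v
    rw [hsq, hvt] at this
    linarith
  have hSd : ∑ χ ∈ S, (charDegree (χ : G → ℂ) : ℤ) * v χ = -1 := by
    have := hsumS fun χ => (charDegree (χ : G → ℂ) : ℤ)
    rw [hdeg, htd] at this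
    push_cast at this
    linarith
  have hpm : ∀ χ ∈ S, v χ = 1 ∨ v χ = -1 := by
    intro χ hχ
    by_contra hcon
    push Not at hcon
    have h0 := (hmemS χ hχ).2
    have h4 : 4 ≤ v χ * v χ := by
      rcases le_or_gt (v χ) 0 with h' | h'
      · have : v χ ≤ -2 := by omega
        nlinarith
      · have : 2 ≤ v χ := by omega
        nlinarith
    have hsplit := Finset.add_sum_erase S (fun ψ => v ψ * v ψ) hχ
    simp only [hS4] at hsplit
    have hnn : 0 ≤ ∑ ψ ∈ S.erase χ, v ψ * v ψ := Finset.sum_nonneg fun ψ _ => mul_self_nonneg _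
    have hzero : ∑ ψ ∈ S.erase χ, v ψ * v ψ = 0 := by linarith
    have hempty : S.erase χ = ∅ := Finset.eq_empty_of_forall_notMem fun ψ hψ =>
      (hmemS ψ (Finset.mem_of_mem_erase hψ)).2
        (mul_self_eq_zero.mp ((Finset.sum_eq_zero_iff_of_nonneg fun a _ => mul_self_nonneg (v a)).mp hzero ψ hψ))
    rw [← Finset.add_sum_erase _ _ hχ, hempty, Finset.sum_empty, add_zero] at hSd
    have h22 : v χ * v χ = 4 := by linarith
    rcases Int.isUnit_iff.mp (IsUnit.of_mul_eq_one_right (-(charDegree (χ : G → ℂ) : ℤ))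
      (show -(charDegree (χ : G → ℂ) : ℤ) * v χ = 1 by linarith)) with h' | h' <;> omega
  have hcardS : S.card = 4 := by
    have : ∑ χ ∈ S, v χ * v χ = (S.card : ℤ) := by
      rw [Finset.sum_congr rfl (g := fun _ => (1 : ℤ)) fun χ hχ => by rcases hpm χ hχ with e | e <;> rw [e] <;> norm_num]
      simp
    omega
  -- signed degrees
  set n : IrrCharacter G → ℤ := fun χ => v χ * (charDegree (χ : G → ℂ) : ℤ) with hn
  have hnmem : ∀ χ ∈ S, n χ ∈ Order4320Search.signed := by
    intro χ hχ
    refine Order4320Search.degrees (h ▸ charDegree_dvd χ) ?_ ?_ (hvmod χ) (hpm χ hχ)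
    · have h0 := charDegree_pos χ
      have h1 : charDegree (χ : G → ℂ) ≠ 1 := fun e =>
        (hmemS χ hχ).1 (BlockDegrees.eq_trivChar hG χ e)
      omega
    · have hsum : ∑ ψ : IrrCharacter G, ((charDegree (ψ : G → ℂ) * charDegree (ψ : G → ℂ) : ℕ) : ℂ) = (4320 : ℕ) := by
        rw [← h, ← sum_sq_apply_one]
        exact Finset.sum_congr rfl fun ψ _ => by rw [irr_one_eq]; push_cast; ring
      rw [← Nat.cast_sum, Nat.cast_inj] at hsum
      rw [← hsum]
      exact Finset.single_le_sum (f := fun ψ : IrrCharacter G => charDegree (ψ : G → ℂ) * charDegree (ψ : G → ℂ))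
        (fun _ _ => Nat.zero_le _) (Finset.mem_univ χ)
  -- exactly one signed degree -4 is impossible
  have hone : ¬ (S.filter fun χ => n χ = -4).card = 1 := by
    intro hcard
    obtain ⟨χ, hχ⟩ := Finset.card_eq_one.mp hcard
    have hmem : χ ∈ S.filter fun ψ => n ψ = -4 := hχ ▸ Finset.mem_singleton_self χ
    obtain ⟨hχS, hn4⟩ := Finset.mem_filter.mp hmem
    have hd4 : charDegree (χ : G → ℂ) = 4 := by
      rcases hpm χ hχS with e | e <;> simp only [hn, e] at hn4 <;> omega
    have huniq : ∀ ψ : IrrCharacter G, charDegree (ψ : G → ℂ) = 4 → ψ = χ := by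
      intro ψ hψ
      have hm := hvmod ψ
      rw [hψ, Int.ModEq] at hm
      have hψt : ψ ≠ t := fun e => by rw [e, htd] at hψ; omega
      have hv0 : v ψ ≠ 0 := fun e => by rw [e] at hm; norm_num at hm
      have hψS : ψ ∈ S := Finset.mem_filter.mpr ⟨Finset.mem_erase.mpr ⟨hψt, Finset.mem_univ _⟩, hv0⟩
      have : ψ ∈ S.filter fun ψ => n ψ = -4 := by
        refine Finset.mem_filter.mpr ⟨hψS, ?_⟩
        rcases hpm ψ hψS with e | e
        · rw [e] at hm; norm_num at hm
        · simp only [hn, e, hψ]; norm_num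
      rw [hχ] at this
      exact Finset.mem_singleton.mp this
    have hrat : ∀ g : G, ∃ k : ℤ, (χ : G → ℂ) g = k := fun g => by
      refine DegreeTools.Rationality.exists_int_of_fixed (irr_isIntegral χ g) fun σ => ?_
      have hd : charDegree ((DegreeTools.Rationality.galIrr σ χ : IrrCharacter G) : G → ℂ) = 4 :=
        Nat.cast_injective (R := ℂ) (by
          rw [← irr_one_eq, DegreeTools.Rationality.galIrr_apply, irr_one_eq, hd4, map_natCast])
      have := congrArg (fun ψ : IrrCharacter G => (ψ : G → ℂ) g) (huniq _ hd)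
      rwa [DegreeTools.Rationality.galIrr_apply] at this
    have hexp := Cofactor.exponent_le (hmemS χ hχS).1 hrat Nat.prime_three hd4
    have hf : (4320 : ℕ).factorization 3 = 3 := by
      rw [show (4320 : ℕ) = 3 ^ 3 * 160 from rfl, Nat.factorization_mul (by norm_num) (by norm_num),
        Finsupp.add_apply, Nat.Prime.factorization_pow (by norm_num),
        Nat.factorization_eq_zero_of_not_dvd (by norm_num), Finsupp.single_eq_same]
    rw [h, hf] at hexp
    norm_num [Finset.sum_range_succ] at hexp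
  -- sort
  choose c hc hcb hcp using fun χ : {χ : IrrCharacter G // χ ≠ t} => exists_value hG hu χ.1 χ.2
  set w : IrrCharacter G → ℤ := fun χ => if hχ : χ ≠ t then c ⟨χ, hχ⟩ else 1 with hw
  set L := (S.toList.map fun χ => (n χ, w χ)).mergeSort fun a b => decide (a.1 ≤ b.1) with hL
  have hperm : L.Perm (S.toList.map fun χ => (n χ, w χ)) := List.mergeSort_perm _ _
  have hsorted : L.Pairwise fun a b => decide (a.1 ≤ b.1) = true :=
    List.pairwise_mergeSort (fun a b d h1 h2 => by simp only [decide_eq_true_eq] at *; omega)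
      (fun a b => by simp only [Bool.or_eq_true, decide_eq_true_eq]; omega) _
  have hlen : L.length = 4 := by rw [hperm.length_eq, List.length_map, Finset.length_toList, hcardS]
  have hprop : ∀ q ∈ L, q.1 ∈ Order4320Search.signed ∧ q.2.natAbs < q.1.natAbs ∧ (q.2 - q.1) % 2 = 0 := by
    intro q hq
    obtain ⟨χ, hχ, rfl⟩ := List.mem_map.mp (hperm.mem_iff.mp hq)
    rw [Finset.mem_toList] at hχ
    have hχt := (hmemS χ hχ).1
    simp only [hw, dif_pos hχt]
    refine ⟨hnmem χ hχ, ?_, ?_⟩
    · have := hcb ⟨χ, hχt⟩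
      simp only at this
      rcases hpm χ hχ with e | e <;> simp only [hn, e] <;> omega
    · have := hcp ⟨χ, hχt⟩
      simp only at this
      rcases hpm χ hχ with e | e <;> simp only [hn, e] <;> omega
  have hsumL : ∀ f : ℤ × ℤ → ℤ, (L.map f).sum = ∑ χ ∈ S, f (n χ, w χ) := fun f => by
    rw [(hperm.map f).sum_eq, List.map_map, ← Finset.sum_map_toList]
    rfl
  have hsign : ∀ χ ∈ S, (n χ).sign = v χ := by
    intro χ hχ
    have hd := charDegree_pos χ
    rcases hpm χ hχ with e | e
    · simp only [hn, e]; exact Int.sign_eq_one_of_pos (by omega)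
    · simp only [hn, e]; exact Int.sign_eq_neg_one_of_neg (by omega)
  have hwval : ∀ χ : IrrCharacter G, (χ : G → ℂ) u = (w χ : ℂ) := fun χ => by
    by_cases hχ : χ ≠ t
    · simp only [hw, dif_pos hχ]; exact hc ⟨χ, hχ⟩
    · rw [not_ne_iff] at hχ
      simp only [hw, dif_neg (not_not.mpr hχ), hχ]
      simp [t]
  have hlin : (L.map fun q => q.1.sign * q.2).sum = -1 := by
    rw [hsumL]
    have h1 := sum_irr_mul_conj u x
    rw [if_neg hnu] at h1
    simp only [hvc, hwval] at h1
    have h2 : ∑ χ, w χ * v χ = 0 := by exact_mod_cast h1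
    rw [hsumS w] at h2
    have hwt : w t = 1 := by simp [hw]
    rw [Finset.sum_congr rfl fun χ hχ => by rw [hsign χ hχ, mul_comm]]
    linarith
  have hfst : (L.map fun q => q.1).sum = -1 := by
    rw [hsumL]
    simpa [hn, mul_comm] using hSd
  have hcount : (L.map fun q => q.1).count (-4) ≠ 1 := by
    rw [(hperm.map _).count_eq, List.map_map]
    intro e
    apply hone
    rw [← e, ← Multiset.coe_count, ← Multiset.map_coe, Finset.coe_toList, Multiset.count_map,
      Finset.card_def, Finset.filter_val]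
    congr 1
    exact Multiset.filter_congr fun χ _ => eq_comm
  have heqC : ∀ (hd : ∀ χ ∈ S, n χ ∣ 144),
      ((Nat.card (Subgroup.centralizer ({u} : Set G)) : ℤ)) * Nat.card (Subgroup.centralizer ({u} : Set G)) =
        6 * (144 + (L.map fun q => q.2 * q.2 * (144 / q.1)).sum) := by
    intro hd
    rw [hsumL]
    have h1 := InvertingInvolution.class_equation (p := 5) (by norm_num) hP hcent huu hinv ⟨x, hxP⟩
      (fun e => hx1 (congrArg Subtype.val e))
    simp only [hvc, hwval, irr_one_eq, h] at h1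
    have hterm : ∀ χ : IrrCharacter G, (v χ : ℂ) * (w χ : ℂ) ^ 2 / (charDegree (χ : G → ℂ) : ℂ) * 144 =
        if χ = t then 144 else if χ ∈ S then ((w χ * w χ * (144 / n χ) : ℤ) : ℂ) else 0 := by
      intro χ
      by_cases hχt : χ = t
      · rw [if_pos hχt, hχt, hvt, htd]
        simp [hw]
      rw [if_neg hχt]
      by_cases hχS : χ ∈ S
      · rw [if_pos hχS]
        have hd0 : (charDegree (χ : G → ℂ) : ℂ) ≠ 0 := by exact_mod_cast (charDegree_pos χ).ne'
        have hn0 : (n χ : ℂ) ≠ 0 := by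
          have := charDegree_pos χ
          rcases hpm χ hχS with e | e <;> simp only [hn, e] <;> exact_mod_cast (by omega)
        rw [Int.cast_mul (w χ * w χ), Int.cast_div (hd χ hχS) hn0]
        rcases hpm χ hχS with e | e <;> simp only [hn, e] <;> push_cast <;> field_simp
      · rw [if_neg hχS]
        have : v χ = 0 := by
          by_contra hne
          exact hχS (Finset.mem_filter.mpr ⟨Finset.mem_erase.mpr ⟨hχt, Finset.mem_univ _⟩, hne⟩)
        simp [this]
    have hsum : (∑ χ : IrrCharacter G, (v χ : ℂ) * (w χ : ℂ) ^ 2 / (charDegree (χ : G → ℂ) : ℂ)) * 144 =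
        ((144 + ∑ χ ∈ S, w χ * w χ * (144 / n χ) : ℤ) : ℂ) := by
      rw [Finset.sum_mul, Finset.sum_congr rfl fun χ _ => hterm χ,
        ← Finset.add_sum_erase _ _ (Finset.mem_univ t), if_pos rfl]
      push_cast
      congr 1
      rw [Finset.sum_congr rfl fun χ hχ => if_neg (Finset.mem_erase.mp hχ).1, ← Finset.sum_filter]
      refine Finset.sum_congr ?_ fun _ _ => rfl
      ext χ
      simp only [Finset.mem_filter, Finset.mem_erase, Finset.mem_univ, and_true]
      exact ⟨fun h' => h'.2, fun h' => ⟨(hmemS χ h').1, h'⟩⟩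
    have h2 : ((5 * 144 * ((Nat.card (Subgroup.centralizer ({u} : Set G)) : ℤ) *
        Nat.card (Subgroup.centralizer ({u} : Set G))) : ℤ) : ℂ) =
        ((4320 * (144 + ∑ χ ∈ S, w χ * w χ * (144 / n χ)) : ℤ) : ℂ) := by
      rw [Int.cast_mul 4320, ← hsum]
      push_cast at h1 ⊢
      linear_combination (144 : ℂ) * h1
    have h3 := Int.cast_injective h2
    linarith
  rcases L with _ | ⟨a, _ | ⟨b, _ | ⟨c', _ | ⟨d, _ | ⟨_, _⟩⟩⟩⟩⟩ <;> simp only [List.length_cons, List.length_nil] at hlen <;>
    try omega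
  obtain ⟨ha, ha1, ha2⟩ := hprop a (by simp)
  obtain ⟨hb, hb1, hb2⟩ := hprop b (by simp)
  obtain ⟨hc', hc1, hc2⟩ := hprop c' (by simp)
  obtain ⟨hd', hd1, hd2⟩ := hprop d (by simp)
  simp only [List.pairwise_cons, List.mem_cons, List.not_mem_nil, or_false, decide_eq_true_eq,
    forall_eq_or_imp, forall_eq] at hsorted
  simp only [List.map_cons, List.map_nil, List.sum_cons, List.sum_nil, add_zero] at hlin hfst hcount heqC
  have hdiv : (∀ q ∈ [a.1, b.1, c'.1, d.1], q ∣ (144 : ℤ)) → ∀ χ ∈ S, n χ ∣ 144 := by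
    intro hq χ hχ
    have hm : (n χ, w χ) ∈ [a, b, c', d] := hperm.mem_iff.mpr
      (List.mem_map.mpr ⟨χ, Finset.mem_toList.mpr hχ, rfl⟩)
    refine hq _ ?_
    have := List.mem_map_of_mem (f := Prod.fst) hm
    simpa using this
  rcases Order4320Search.multisets a.1 ha b.1 hb c'.1 hc' d.1 hd' hsorted.1.1 hsorted.2.1.1 hsorted.2.2.1
      (by linarith) with h1 | h1 | h1
  · exact hcount h1
  all_goals
    have hC := heqC (hdiv (by rw [h1]; intro q hq; simp only [List.mem_cons, List.not_mem_nil, or_false] at hq; rcases hq with e | e | e | e <;> subst e <;> norm_num))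
    simp only [List.cons.injEq, and_true] at h1
    obtain ⟨e1, e2, e3, e4⟩ := h1
  · exact Order4320Search.false_of_search Order4320Search.search_A (by norm_num) (e1 ▸ ha1) (e1 ▸ ha2)
      (e2 ▸ hb1) (e2 ▸ hb2) (e3 ▸ hc1) (e3 ▸ hc2) (e4 ▸ hd1) (e4 ▸ hd2)
      (by rw [e1, e2, e3, e4] at hlin; linarith) _ Nat.card_pos.ne'
      (by rw [e1, e2, e3, e4] at hC; rw [hC]; ring)
  · exact Order4320Search.false_of_search Order4320Search.search_B (by norm_num) (e1 ▸ ha1) (e1 ▸ ha2)
      (e2 ▸ hb1) (e2 ▸ hb2) (e3 ▸ hc1) (e3 ▸ hc2) (e4 ▸ hd1) (e4 ▸ hd2)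
      (by rw [e1, e2, e3, e4] at hlin; linarith) _ Nat.card_pos.ne'
      (by rw [e1, e2, e3, e4] at hC; rw [hC]; ring)

end CfsgLib.SmallGroups.Order4320
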