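import Mathlib

/-!
# The search for the column of an element of order seven in a group of order 5040

`go` runs through the multisets of possible (degree, value at the element, value at an inverting
involution) triples.
-/

set_option autoImplicit false
set_option maxRecDepth 100000

namespace CfsgLib.SmallGroups.Order5040Search

/-- The possible triples. -/
def triples : List (ℤ × ℤ × ℤ) :=
  [(48, -1, -4), (48, -1, 0), (48, -1, 4), (40, -2, -4), (40, -2, 0), (40, -2, 4), (36, 1, -4), (36, 1, 0),
    (36, 1, 4), (30, 2, -6), (30, 2, -2), (30, 2, 2), (30, 2, 6), (20, -1, 0), (16, 2, -4), (16, 2, 0),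
    (16, 2, 4), (15, 1, -1), (15, 1, 3), (12, -2, 0), (9, 2, -3), (9, 2, 1), (8, 1, 0)]

/-- The Boolean classifier for the possible degrees. -/
theorem mem_triples {d : ℕ} {v c : ℤ} {m : ℕ} (hd : d ∣ 5040) (h2 : 2 ≤ d) (hsq : d * d < 5040)
    (hv : v = 1 ∨ v = -1 ∨ v = 2 ∨ v = -2) (hm : (d : ℤ) + 6 * v = 7 * m) (hc : c.natAbs ≤ m)
    (hp : (c - m) % 2 = 0) (h4 : (c - d) % 4 = 0) (hlt : c.natAbs < d) : ((d : ℤ), v, c) ∈ triples := by
  have hd71 : d < 71 := by nlinarith
  have key : ((List.range 71).all fun k : ℕ => ([1, -1, 2, -2] : List ℤ).all fun w => (List.range 23).all fun i : ℕ =>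
      !(decide (2 ≤ k) && decide (5040 % k = 0) && decide (((k : ℤ) + 6 * w) % 7 = 0) &&
        decide ((((i : ℤ) - 11).natAbs : ℤ) * 7 ≤ (k : ℤ) + 6 * w) &&
        decide ((((i : ℤ) - 11) - ((k : ℤ) + 6 * w) / 7) % 2 = 0) && decide ((((i : ℤ) - 11) - (k : ℤ)) % 4 = 0) &&
        decide (((i : ℤ) - 11).natAbs < k)) || decide (((k : ℤ), w, ((i : ℤ) - 11)) ∈ triples)) = true := by
    decide +kernel
  have hc11 : c.natAbs ≤ 11 := by omega
  have hi : (c + 11).toNat < 23 := by omega
  simp only [List.all_eq_true, List.mem_range, Bool.or_eq_true, Bool.not_eq_true', Bool.and_eq_false_iff,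
    decide_eq_false_iff_not, decide_eq_true_eq] at key
  have h := key d hd71 v (by simp only [List.mem_cons, List.not_mem_nil, or_false]; tauto) (c + 11).toNat hi
  rw [show ((c + 11).toNat : ℤ) - 11 = c by omega] at h
  rcases h with h | h
  · exfalso
    have h5 := Nat.mod_eq_zero_of_dvd hd
    rcases h with (((((h | h) | h) | h) | h) | h) | h <;> omega
  · exact h

/-- The quantity that the class equation makes a square. -/
def term (t : ℤ × ℤ × ℤ) : ℤ := t.2.1 * t.2.2 * t.2.2 * (720 / t.1)

/-- The search. -/
def go : List (ℤ × ℤ × ℤ) → ℕ → ℤ → ℤ → ℤ → ℤ → ℤ → Bool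
  | _, 0, w, s, _, lin, T =>
      !(decide (w = 6) && decide (s = -1) && decide (lin = -1)) || decide (T ≤ 0) ||
        decide (Nat.sqrt T.toNat * Nat.sqrt T.toNat ≠ T.toNat)
  | L, k + 1, w, s, sq, lin, T =>
      (!(decide (w = 6) && decide (s = -1) && decide (lin = -1)) || decide (T ≤ 0) ||
        decide (Nat.sqrt T.toNat * Nat.sqrt T.toNat ≠ T.toNat)) &&
      match L with
      | [] => true
      | t :: rest =>
          (if w + t.2.1 * t.2.1 ≤ 6 ∧ sq + t.1 * t.1 < 5040 then
              go (t :: rest) k (w + t.2.1 * t.2.1) (s + t.2.1 * t.1) (sq + t.1 * t.1) (lin + t.2.1 * t.2.2) (T + term t)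
            else true) &&
          go rest k w s sq lin T

theorem go_spec : ∀ (k : ℕ) (L l : List (ℤ × ℤ × ℤ)) (w s sq lin T : ℤ), go L k w s sq lin T = true →
    l.Sublist L → L.Nodup → ∀ mult : ℤ × ℤ × ℤ → ℕ,
    (l.map mult).sum + L.length ≤ k → (∀ t ∈ L, t ∉ l → mult t = 0) →
    w + (L.map fun t => (mult t : ℤ) * (t.2.1 * t.2.1)).sum = 6 →
    sq + (L.map fun t => (mult t : ℤ) * (t.1 * t.1)).sum < 5040 →
    s + (L.map fun t => (mult t : ℤ) * (t.2.1 * t.1)).sum = -1 →
    lin + (L.map fun t => (mult t : ℤ) * (t.2.1 * t.2.2)).sum = -1 →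
    ∀ C : ℕ, C ≠ 0 → (C : ℤ) * C = T + (L.map fun t => (mult t : ℤ) * term t).sum → False := by
  intro k
  induction k with
  | zero =>
    intro L l w s sq lin T h _ _ mult hk _ hw hsq hs hl C hC0 hC
    have hL : L = [] := List.length_eq_zero_iff.mp (by omega)
    subst hL
    simp only [List.map_nil, List.sum_nil, add_zero] at hw hs hl hC
    simp only [go, hw, hs, hl, decide_true, Bool.and_self, Bool.not_true, Bool.false_or, Bool.or_eq_true,
      decide_eq_true_eq] at h
    rcases h with h | h
    · have : (0 : ℤ) < (C : ℤ) * C := by positivity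
      omega
    · exact h (by rw [← hC, show ((C : ℤ) * C).toNat = C * C by rw [← Nat.cast_mul]; exact Int.toNat_natCast _,
        Nat.sqrt_eq])
  | succ k ih =>
    intro L l w s sq lin T h hlL hnd mult hk hsupp hw hsq hs hl C hC0 hC
    simp only [go, Bool.and_eq_true] at h
    obtain ⟨h0, h1⟩ := h
    cases L with
    | nil =>
      simp only [List.map_nil, List.sum_nil, add_zero] at hw hs hl hC
      simp only [hw, hs, hl, decide_true, Bool.and_self, Bool.not_true, Bool.false_or, Bool.or_eq_true,
        decide_eq_true_eq] at h0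
      rcases h0 with h | h
      · have : (0 : ℤ) < (C : ℤ) * C := by positivity
        omega
      · exact h (by rw [← hC, show ((C : ℤ) * C).toNat = C * C by rw [← Nat.cast_mul]; exact Int.toNat_natCast _,
          Nat.sqrt_eq])
    | cons t rest =>
      simp only [Bool.and_eq_true] at h1
      obtain ⟨htake, hskip⟩ := h1
      have htr : t ∉ rest := (List.nodup_cons.mp hnd).1
      by_cases hmt : mult t = 0
      · obtain ⟨l', hl', hlsub, hsum⟩ : ∃ l' : List (ℤ × ℤ × ℤ), (∀ u ∈ rest, u ∉ l' → mult u = 0) ∧
            l'.Sublist rest ∧ (l'.map mult).sum ≤ (l.map mult).sum := by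
          rcases List.sublist_cons_iff.mp hlL with h' | ⟨r, rfl, h'⟩
          · exact ⟨l, fun u hu hul => hsupp u (List.mem_cons_of_mem _ hu) hul, h', le_rfl⟩
          · refine ⟨r, fun u hu hur => hsupp u (List.mem_cons_of_mem _ hu) fun hm => ?_, h', by simp⟩
            rcases List.mem_cons.mp hm with rfl | hm
            · exact htr hu
            · exact hur hm
        simp only [List.map_cons, List.sum_cons, hmt, Nat.cast_zero, zero_mul, zero_add] at hw hsq hs hl hC
        refine ih rest l' w s sq lin T hskip hlsub (List.nodup_cons.mp hnd).2 mult ?_ hl' hw hsq hs hl C hC0 hC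
        simp only [List.length_cons] at hk
        omega
      · set mult' : ℤ × ℤ × ℤ → ℕ := Function.update mult t (mult t - 1) with hm'
        have hrest : ∀ f : ℤ × ℤ × ℤ → ℤ,
            (rest.map fun u => (mult' u : ℤ) * f u).sum = (rest.map fun u => (mult u : ℤ) * f u).sum := fun f => by
          congr 1
          refine List.map_congr_left fun u hu => ?_
          rw [hm', Function.update_of_ne (fun e => htr (by rw [← e]; exact hu))]
        have hstep : ∀ f : ℤ × ℤ × ℤ → ℤ, ((t :: rest).map fun u => (mult u : ℤ) * f u).sum =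
            f t + ((t :: rest).map fun u => (mult' u : ℤ) * f u).sum := fun f => by
          simp only [List.map_cons, List.sum_cons, hrest f]
          rw [hm', Function.update_self, Nat.cast_sub (Nat.one_le_iff_ne_zero.mpr hmt)]
          push_cast
          ring
        have hnn : ∀ f : ℤ × ℤ × ℤ → ℤ, (∀ u, 0 ≤ f u) →
            0 ≤ ((t :: rest).map fun u => (mult' u : ℤ) * f u).sum := fun f hf => by
          refine List.sum_nonneg fun a ha => ?_
          obtain ⟨u, -, rfl⟩ := List.mem_map.mp ha
          exact mul_nonneg (Nat.cast_nonneg _) (hf u)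
        have h2 := hstep fun u => u.2.1 * u.2.1
        have h3 := hstep fun u => u.1 * u.1
        rw [h2] at hw
        rw [h3] at hsq
        rw [hstep fun u => u.2.1 * u.1] at hs
        rw [hstep fun u => u.2.1 * u.2.2] at hl
        rw [hstep term] at hC
        have p2 := hnn (fun u => u.2.1 * u.2.1) fun u => mul_self_nonneg _
        have p3 := hnn (fun u => u.1 * u.1) fun u => mul_self_nonneg _
        rw [if_pos ⟨by linarith, by linarith⟩] at htake
        have htl : t ∈ l := by
          by_contra hc
          exact hmt (hsupp t List.mem_cons_self hc)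
        refine ih (t :: rest) l _ _ _ _ _ htake hlL hnd mult' ?_ (fun u hu hul => ?_) (by linarith) (by linarith)
          (by linarith) (by linarith) C hC0 (by linarith)
        · obtain ⟨r, rfl, hr⟩ : ∃ r, l = t :: r ∧ r.Sublist rest := by
            rcases List.sublist_cons_iff.mp hlL with h' | ⟨r, e, h'⟩
            · exact absurd (h'.subset htl) htr
            · exact ⟨r, e, h'⟩
          have : (r.map mult') = r.map mult := List.map_congr_left fun u hu => by
            rw [hm', Function.update_of_ne (fun e => htr (by rw [← e]; exact hr.subset hu))]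
          simp only [List.map_cons, List.sum_cons, hm', Function.update_self] at hk ⊢
          rw [hm'] at this
          rw [this]
          omega
        · rw [hm', Function.update_of_ne (fun (e : u = t) => hul (by rw [e]; exact htl))]
          exact hsupp u hu hul

theorem triples_nodup : triples.Nodup := by decide +kernel

theorem go_true : go triples 29 0 0 0 0 720 = true := by decide +kernel

/-- No column exists. -/
theorem no_column {ι : Type*} (S : Finset ι) (t : ι → ℤ × ℤ × ℤ) (ht : ∀ i ∈ S, t i ∈ triples)
    (hw : ∑ i ∈ S, (t i).2.1 * (t i).2.1 = 6) (hsq : ∑ i ∈ S, (t i).1 * (t i).1 < 5040)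
    (hs : ∑ i ∈ S, (t i).2.1 * (t i).1 = -1) (hl : ∑ i ∈ S, (t i).2.1 * (t i).2.2 = -1) (C : ℕ) (hC0 : C ≠ 0)
    (hC : (C : ℤ) * C = 720 + ∑ i ∈ S, term (t i)) : False := by
  classical
  set mult : ℤ × ℤ × ℤ → ℕ := fun a => (S.filter fun i => t i = a).card with hm
  have key : ∀ f : ℤ × ℤ × ℤ → ℤ, (triples.map fun a => (mult a : ℤ) * f a).sum = ∑ i ∈ S, f (t i) := by
    intro f
    rw [← List.sum_toFinset _ triples_nodup,
      ← Finset.sum_fiberwise_of_maps_to (g := t) (t := triples.toFinset) (fun i hi => List.mem_toFinset.mpr (ht i hi))]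
    refine Finset.sum_congr rfl fun a _ => ?_
    rw [Finset.sum_congr rfl (g := fun _ => f a) fun i hi => by rw [(Finset.mem_filter.mp hi).2],
      Finset.sum_const, nsmul_eq_mul]
  have hcard : (triples.map mult).sum ≤ 6 := by
    have h1 : ((triples.map mult).sum : ℤ) = (S.card : ℤ) := by
      have := key fun _ => 1
      simp only [mul_one, Finset.sum_const, nsmul_eq_mul] at this
      rw [← this]
      push_cast [List.map_map]
      rfl
    have h2 : (S.card : ℤ) ≤ ∑ i ∈ S, (t i).2.1 * (t i).2.1 := by
      rw [Finset.card_eq_sum_ones, Nat.cast_sum]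
      refine Finset.sum_le_sum fun i hi => ?_
      have h4 : ∀ a ∈ triples, (1 : ℤ) ≤ a.2.1 * a.2.1 := by decide +kernel
      exact_mod_cast h4 _ (ht i hi)
    omega
  refine go_spec 29 triples triples 0 0 0 0 720 go_true (List.Sublist.refl _) triples_nodup mult
    (by have : triples.length = 23 := rfl; omega) (fun a ha hna => absurd ha hna)
    (by rw [key, zero_add]; exact hw) (by rw [key, zero_add]; exact hsq) (by rw [key, zero_add]; exact hs)
    (by rw [key, zero_add]; exact hl) C hC0 (by rw [key]; exact hC)

end CfsgLib.SmallGroups.Order5040Search
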