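import Cfsg.Agent.Lib.SmallGroups.Order5040Block
import Cfsg.Agent.Lib.SmallGroups.Order5040Search
import Cfsg.Agent.Lib.SmallGroups.ValueTools
import Cfsg.Agent.Lib.SmallGroups.RationalColumn
import Cfsg.Agent.Lib.SmallGroups.InvertingInvolution
import Cfsg.Agent.Lib.SmallGroups.OrdersBelow1092
import Cfsg.Agent.Lib.KGroups.M11Tools
import Cfsg.Agent.Lib.KGroups.M11Point
import Cfsg.Agent.Lib.SmallGroups.SelfInverse

/-!
# No simple group has order 5040

There are 8, 15, 36 or 120 Sylow 7-subgroups.  Small index, centralisers of elements commuting with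
an element of order seven, and the column of a self-centralizing element exclude all of them.
-/

set_option autoImplicit false

open scoped BigOperators
open scoped ComplexConjugate

namespace CfsgLib.SmallGroups.Order5040

open Cfsg CfsgLib.Char CfsgLib.Blocks
open scoped Classical

variable {G : Type*} [Group G] [Fintype G] [IsSimpleGroup G]

theorem index_bound (hG : ¬ IsMulCommutative G) (h : Nat.card G = 5040) (H : Subgroup G) (hH : H ≠ ⊤) :
    9 ≤ H.index := by
  by_contra hlt
  have h2 := SimpleTools.two_mul_card_dvd_factorial hG H hH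
  rw [h] at h2
  have h8 : H.index = 8 := by
    by_contra hne
    have h3 := h2.trans (Nat.factorial_dvd_factorial (show H.index ≤ 7 by omega))
    norm_num [Nat.factorial] at h3
  obtain ⟨f, hf⟩ := SimpleTools.exists_embedding hG H hH
  revert f
  rw [h8]
  intro f hf
  have : IsSimpleGroup ↥(alternatingGroup (Fin 8)) := alternatingGroup.isSimpleGroup (by simp)
  have hA : Nat.card ↥(alternatingGroup (Fin 8)) = 20160 := by
    have h1 := two_mul_nat_card_alternatingGroup (α := Fin 8)
    rw [Nat.card_perm, Nat.card_fin, show Nat.factorial 8 = 40320 by decide] at h1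
    omega
  have hR : Nat.card f.range = 5040 := (Nat.card_congr (MonoidHom.ofInjective hf).toEquiv).symm.trans h
  have hidx : f.range.index = 4 := by
    have h1 := f.range.index_mul_card
    rw [hR, hA] at h1
    omega
  have h4 := SimpleTools.two_mul_card_dvd_factorial
    (SimpleTools.not_comm_of_card (by rw [hA]; norm_num)) f.range
    (fun e => by rw [e, Subgroup.index_top] at hidx; omega)
  rw [hidx, hA] at h4
  norm_num [Nat.factorial] at h4

/-- With fifteen Sylow 7-subgroups the centraliser of one has no subgroup of order four. -/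
theorem no_four (hG : ¬ IsMulCommutative G) [Fact (Nat.Prime 7)] (hn : Nat.card (Sylow 7 G) = 15) (P : Sylow 7 G)
    (hP : Nat.card (P : Subgroup G) = 7) (T : Subgroup G)
    (hT : T ≤ Subgroup.centralizer ((P : Subgroup G) : Set G)) : Nat.card T ≠ 4 := by
  intro hT4
  have hcomm : ∀ t ∈ T, ∀ x ∈ (P : Subgroup G), t * x = x * t := fun t ht x hx =>
    (Subgroup.mem_centralizer_iff.mp (hT ht) x hx).symm
  have htP : ∀ t ∈ T, t • P = P := fun t ht =>
    Sylow.smul_eq_iff_mem_normalizer.mpr (Subgroup.centralizer_le_normalizer _ (hT ht))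
  have hfix : ∀ Q : Sylow 7 G, (∀ x ∈ (P : Subgroup G), x • Q = Q) → Q = P := by
    intro Q hQ
    have hle : (P : Subgroup G) ≤ Subgroup.normalizer ((Q : Subgroup G) : Set G) := fun x hx =>
      Sylow.smul_eq_iff_mem_normalizer.mp (hQ x hx)
    have h1 := IsPGroup.inf_normalizer_sylow P.2 Q
    rw [inf_eq_left.mpr (show (P : Subgroup G) ≤ Subgroup.normalizer (Q : Set G) from hle)] at h1
    exact Sylow.ext (P.3 Q.2 (h1.le.trans inf_le_right))
  have hreg : ∀ Q : Sylow 7 G, Q ≠ P → ∀ x ∈ (P : Subgroup G), x • Q = Q → x = 1 := by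
    intro Q hQ x hx hxQ
    by_contra hx1
    refine hQ (hfix Q fun w hw => ?_)
    have hz : Subgroup.zpowers x = (P : Subgroup G) := Subgroup.eq_of_le_of_card_ge (Subgroup.zpowers_le.mpr hx) (by
      rw [hP, Nat.card_zpowers, ((Nat.dvd_prime Fact.out).mp (((P : Subgroup G).orderOf_dvd_natCard hx).trans
        (dvd_of_eq hP))).resolve_left (orderOf_eq_one_iff.not.mpr hx1)])
    have hle : Subgroup.zpowers x ≤ MulAction.stabilizer G Q := Subgroup.zpowers_le.mpr hxQ
    exact hle (hz ▸ hw)
  let O : Sylow 7 G → Finset (Sylow 7 G) := fun Q =>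
    (Finset.univ.filter fun x => x ∈ (P : Subgroup G)).image fun x => x • Q
  have hO : ∀ Q, Q ≠ P → (O Q).card = 7 := by
    intro Q hQ
    rw [Finset.card_image_of_injOn fun a ha b hb e => by
      simp only [Finset.coe_filter, Finset.mem_univ, true_and, Set.mem_ofPred_eq] at ha hb
      have := hreg Q hQ (b⁻¹ * a) ((P : Subgroup G).mul_mem ((P : Subgroup G).inv_mem hb) ha) (by
        rw [mul_smul]; exact inv_smul_eq_iff.mpr e)
      exact (inv_mul_eq_one.mp this).symm]
    rw [← Fintype.card_subtype, ← Nat.card_eq_fintype_card]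
    exact hP
  have hPO : ∀ Q, Q ≠ P → P ∉ O Q := by
    intro Q hQ hm
    obtain ⟨x, hx, e⟩ := Finset.mem_image.mp hm
    have hx' := (Finset.mem_filter.mp hx).2
    have hxP : x • P = P := Sylow.smul_eq_iff_mem_normalizer.mpr (Subgroup.le_normalizer hx')
    exact hQ (smul_left_cancel x (e.trans hxP.symm))
  obtain ⟨a, ha⟩ : ∃ a : Sylow 7 G, a ≠ P := by
    by_contra hno
    push Not at hno
    have : Subsingleton (Sylow 7 G) := ⟨fun a b => (hno a).trans (hno b).symm⟩
    rw [Nat.card_of_subsingleton P] at hn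
    omega
  obtain ⟨b, hb⟩ : ∃ b, b ∉ insert P (O a) := by
    by_contra hno
    push Not at hno
    have hle := Finset.card_le_card (s := (Finset.univ : Finset (Sylow 7 G))) (t := insert P (O a)) fun q _ => hno q
    rw [Finset.card_univ, ← Nat.card_eq_fintype_card, hn, Finset.card_insert_of_notMem (hPO a ha), hO a ha] at hle
    omega
  simp only [Finset.mem_insert, not_or] at hb
  have hdisj : Disjoint (O a) (O b) := by
    refine Finset.disjoint_left.mpr fun q hqa hqb => hb.2 ?_
    obtain ⟨x, hx, rfl⟩ := Finset.mem_image.mp hqa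
    obtain ⟨y, hy, e⟩ := Finset.mem_image.mp hqb
    refine Finset.mem_image.mpr ⟨y⁻¹ * x, Finset.mem_filter.mpr ⟨Finset.mem_univ _,
      (P : Subgroup G).mul_mem ((P : Subgroup G).inv_mem (Finset.mem_filter.mp hy).2) (Finset.mem_filter.mp hx).2⟩, ?_⟩
    show (y⁻¹ * x) • a = b
    rw [mul_smul]
    exact inv_smul_eq_iff.mpr e.symm
  have hcover : ∀ q : Sylow 7 G, q = P ∨ q ∈ O a ∨ q ∈ O b := by
    have huniv : insert P (O a ∪ O b) = Finset.univ := Finset.eq_univ_of_card _ (by
      rw [Finset.card_insert_of_notMem (by simp [hPO a ha, hPO b hb.1]), Finset.card_union_of_disjoint hdisj,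
        hO a ha, hO b hb.1, ← Nat.card_eq_fintype_card, hn])
    intro q
    have := huniv ▸ Finset.mem_univ q
    simpa using this
  have hsmul : ∀ t ∈ T, ∀ x ∈ (P : Subgroup G), ∀ q : Sylow 7 G, t • x • q = x • t • q := fun t ht x hx q => by
    rw [← mul_smul, ← mul_smul, hcomm t ht x hx]
  have hkey : ∀ t ∈ T, ∀ q, q ≠ P → t • q ∈ O q → t • q = q := by
    intro t ht q hq hm
    obtain ⟨x, hx, e⟩ := Finset.mem_image.mp hm
    have hx' : x ∈ (P : Subgroup G) := (Finset.mem_filter.mp hx).2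
    have hpow : ∀ j : ℕ, t ^ j • q = x ^ j • q := by
      intro j
      induction j with
      | zero => simp
      | succ j ih =>
        rw [pow_succ', mul_smul, ih, hsmul t ht _ (Subgroup.pow_mem _ hx' j), ← e, ← mul_smul, ← pow_succ]
    have h4 : t ^ 4 = 1 := by
      rw [← orderOf_dvd_iff_pow_eq_one, ← hT4]
      exact T.orderOf_dvd_natCard ht
    have h1 := hpow 4
    rw [h4, one_smul] at h1
    have hx4 := hreg q hq (x ^ 4) (Subgroup.pow_mem _ hx' 4) h1.symm
    have hx7 : x ^ 7 = 1 := by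
      rw [← orderOf_dvd_iff_pow_eq_one, ← hP]
      exact (P : Subgroup G).orderOf_dvd_natCard hx'
    have hx1 : x = 1 := by
      have : x ^ 8 = 1 := by rw [show 8 = 4 + 4 from rfl, pow_add, hx4, one_mul]
      rw [pow_succ, hx7, one_mul] at this
      exact this
    rw [← e, hx1, one_smul]
  have hker : ∀ g : G, (∀ q : Sylow 7 G, g • q = q) → g = 1 := by
    intro g hg
    by_contra hg1
    have htop := ((MonoidHom.normal_ker (MulAction.toPermHom G (Sylow 7 G))).eq_bot_or_eq_top).resolve_left fun hb => by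
      have : g ∈ (MulAction.toPermHom G (Sylow 7 G)).ker := MonoidHom.mem_ker.mpr (Equiv.ext hg)
      rw [hb, Subgroup.mem_bot] at this
      exact hg1 this
    obtain ⟨g', hg'⟩ := MulAction.exists_smul_eq G P a
    have hmem : g' ∈ (MulAction.toPermHom G (Sylow 7 G)).ker := htop ▸ Subgroup.mem_top g'
    have := congrArg (fun σ : Equiv.Perm (Sylow 7 G) => σ P) (MonoidHom.mem_ker.mp hmem)
    exact ha (hg'.symm.trans this)
  have hzero : ∀ t ∈ T, t • a ∈ O a → t = 1 := by
    intro t ht hta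
    have hfa := hkey t ht a ha hta
    have htb : t • b ∈ O b := by
      rcases hcover (t • b) with h | h | h
      · exact absurd (smul_left_cancel t (h.trans (htP t ht).symm)) hb.1
      · exfalso
        obtain ⟨x, hx, e⟩ := Finset.mem_image.mp h
        refine hb.2 (Finset.mem_image.mpr ⟨x, hx, smul_left_cancel t ?_⟩)
        show t • x • a = t • b
        rw [hsmul t ht x (Finset.mem_filter.mp hx).2, hfa, e]
      · exact h
    have hfb := hkey t ht b hb.1 htb
    refine hker t fun q => ?_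
    rcases hcover q with rfl | h | h
    · exact htP t ht
    all_goals
      obtain ⟨x, hx, rfl⟩ := Finset.mem_image.mp h
      rw [hsmul t ht x (Finset.mem_filter.mp hx).2]
      first | rw [hfa] | rw [hfb]
  have hswap : ∀ t ∈ T, t ≠ 1 → t • a ∈ O b := by
    intro t ht ht1
    rcases hcover (t • a) with h | h | h
    · exact absurd (smul_left_cancel t (h.trans (htP t ht).symm)) ha
    · exact absurd (hzero t ht h) ht1
    · exact h
  have heq : ∀ s ∈ T, ∀ t ∈ T, s ≠ 1 → t ≠ 1 → s = t := by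
    intro s hs t ht hs1 ht1
    have h1 := hswap s hs hs1
    have h2 := hswap t ht ht1
    obtain ⟨x, hx, ex⟩ := Finset.mem_image.mp h1
    obtain ⟨y, hy, ey⟩ := Finset.mem_image.mp h2
    have hxy : y * x⁻¹ ∈ (P : Subgroup G) :=
      (P : Subgroup G).mul_mem (Finset.mem_filter.mp hy).2 ((P : Subgroup G).inv_mem (Finset.mem_filter.mp hx).2)
    refine inv_mul_eq_one.mp (hzero (s⁻¹ * t) (T.mul_mem (T.inv_mem hs) ht) (Finset.mem_image.mpr
      ⟨y * x⁻¹, Finset.mem_filter.mpr ⟨Finset.mem_univ _, hxy⟩, ?_⟩))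
    show (y * x⁻¹) • a = (s⁻¹ * t) • a
    rw [eq_comm, mul_smul, inv_smul_eq_iff, hsmul s hs _ hxy, ← ey, ← ex, ← mul_smul, inv_mul_cancel_right]
  obtain ⟨⟨s, hs⟩, hs1⟩ := (Finite.one_lt_card_iff_nontrivial.mp (by omega : 1 < Nat.card T)).exists_pair_ne
    |> fun ⟨u, v, huv⟩ => (show ∃ u : T, u ≠ 1 from if hu : u = 1 then ⟨v, fun hv => huv (hu.trans hv.symm)⟩ else ⟨u, hu⟩)
  have hs1' : s ≠ 1 := fun e => hs1 (Subtype.ext e)
  have hsub : (Finset.univ : Finset T) ⊆ {1, ⟨s, hs⟩} := by
    intro t _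
    rcases eq_or_ne t 1 with e | e
    · simp [e]
    · have := heq s hs t t.2 hs1' fun e' => e (Subtype.ext e')
      exact Finset.mem_insert_of_mem (Finset.mem_singleton.mpr (Subtype.ext this.symm))
  have := Finset.card_le_card hsub
  rw [Finset.card_univ, ← Nat.card_eq_fintype_card, hT4] at this
  have := this.trans (Finset.card_insert_le _ _)
  simp at this

/-- The bound on a centraliser from three values of the same square and one more. -/
theorem column_bound (g : G) (S : Finset (IrrCharacter G)) (w : IrrCharacter G → ℤ)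
    (hw : ∀ ψ ∈ S, (ψ : G → ℂ) g = (w ψ : ℂ)) :
    ∑ ψ ∈ S, w ψ * w ψ ≤ (Nat.card (Subgroup.centralizer ({g} : Set G)) : ℤ) := by
  have h := CfsgLib.KGroups.M11Tools.sum_norm_sq_column g
  have h1 : ∑ ψ ∈ S, ‖(ψ : G → ℂ) g‖ ^ 2 ≤ ∑ ψ : IrrCharacter G, ‖(ψ : G → ℂ) g‖ ^ 2 :=
    Finset.sum_le_univ_sum_of_nonneg fun ψ => sq_nonneg _
  rw [h, Finset.sum_congr rfl (g := fun ψ => ((w ψ * w ψ : ℤ) : ℝ)) fun ψ hψ => by
    rw [hw ψ hψ, Complex.norm_intCast, sq_abs]; push_cast; ring] at h1
  exact_mod_cast h1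

/-- The degree divides the class length times a rational value. -/
theorem degree_dvd_class (χ : IrrCharacter G) {g : G} {c : ℤ} (hc : (χ : G → ℂ) g = c) :
    (charDegree (χ : G → ℂ) : ℤ) ∣ ((Subgroup.centralizer ({g} : Set G)).index : ℤ) * c := by
  have hint := isIntegral_centralChar χ g
  rw [centralChar, hc, irr_one_eq] at hint
  obtain ⟨k, hk⟩ := DegreeTools.Rationality.exists_int_of_fixed hint fun σ => by
    rw [map_div₀, map_mul, map_intCast, map_natCast, map_natCast]
  rw [div_eq_iff (by exact_mod_cast (charDegree_pos χ).ne')] at hk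
  exact ⟨k, by rw [mul_comm (charDegree (χ : G → ℂ) : ℤ)]; exact_mod_cast hk⟩

theorem isPPart_mul {p : ℕ} (hp : p.Prime) {x y : G} (hx : orderOf x = p) (hy : ¬ p ∣ orderOf y)
    (hxy : Commute x y) {i : ℕ} (hi0 : 0 < i) (hi : i < p) (j : ℕ) :
    IsPPart p (x ^ i * y ^ j) (x ^ i) := by
  refine ⟨y ^ j, rfl, (hxy.pow_left i).pow_right j, ⟨1, ?_⟩, fun h => hy (h.trans (orderOf_pow_dvd j))⟩
  rw [pow_one, Nat.Coprime.orderOf_pow (by rw [hx]; exact (Nat.Prime.coprime_iff_not_dvd hp).2 (fun h => absurd (Nat.le_of_dvd hi0 h) (by omega))), hx]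

/-- The values of a member at a commuting element of prime order. -/
theorem member_values (hG : ¬ IsMulCommutative G) [Fact (Nat.Prime 7)] (P : Sylow 7 G) {χ : IrrCharacter G} {d : ℕ}
    {ε : ℤ} (hm : IsMember P χ d ε) {x y : G} (hx : x ∈ (P : Subgroup G)) (hx7 : orderOf x = 7) {q : ℕ}
    (hq : q = 2 ∨ q = 3) (hy : orderOf y = q) (hxy : Commute x y) :
    ∃ c : ℤ, (χ : G → ℂ) y = c ∧ c.natAbs < d ∧ (q = 2 → (c - d) % 4 = 0) ∧
      (∃ m : ℕ, (d : ℤ) + 6 * ε + ((q : ℤ) - 1) * (c + 6 * ε) = 7 * q * m) ∧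
      (∃ m : ℕ, (d : ℤ) + ((q : ℤ) - 1) * c = q * m) := by
  obtain ⟨hne, hd, hrat, hval⟩ := hm
  obtain ⟨c, hc⟩ := hrat y
  have hq' : q.Prime := by rcases hq with rfl | rfl <;> norm_num
  have hy1 : y ≠ 1 := fun e => by rw [e, orderOf_one] at hy; exact hq'.one_lt.ne hy
  have hvals : ∀ j, 0 < j → j < q → (χ : G → ℂ) (y ^ j) = c := by
    intro j h0 hj
    rcases hq with rfl | rfl
    · rw [show j = 1 by omega, pow_one, hc]
    · rcases (show j = 1 ∨ j = 2 by omega) with rfl | rfl
      · rw [pow_one, hc]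
      · have e : y ^ 2 = y⁻¹ := eq_inv_of_mul_eq_one_left (by rw [← pow_succ, show 2 + 1 = orderOf y from hy.symm, pow_orderOf_eq_one])
        rw [e, IsIrrCharacter.apply_inv χ.2, hc, map_intCast]
  have hε : ∀ i j, 0 < i → i < 7 → j < q → (χ : G → ℂ) (x ^ i * y ^ j) = ε := fun i j hi0 hi _ =>
    hval _ _ (isPPart_mul (by norm_num) hx7 (by rw [hy]; rcases hq with rfl | rfl <;> norm_num) hxy hi0 hi j)
      (Subgroup.pow_mem _ hx i) (pow_ne_one_of_lt_orderOf (by omega) (by omega))
  refine ⟨c, hc, hd ▸ ValueTools.lt_degree hG hne hy1 hc, fun e => hd ▸ ValueTools.mod_four hG χ (e ▸ hy) hc,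
    ?_, ?_⟩
  · obtain ⟨m, hm⟩ := ValueTools.sum_product (p := 7) (by norm_num) hq' (by rcases hq with rfl | rfl <;> norm_num)
      χ hx7 hy hxy hvals hε
    exact ⟨m, by rw [hd] at hm; push_cast at hm ⊢; linarith⟩
  · obtain ⟨m, hm⟩ := ValueTools.sum_zpowers χ hy hq'.pos hvals
    exact ⟨m, by rw [hd] at hm; exact hm⟩

/-- An element of order two or three commuting with a Sylow 7-subgroup is impossible. -/
theorem no_commuting (hG : ¬ IsMulCommutative G) (h : Nat.card G = 5040) [Fact (Nat.Prime 7)] (P : Sylow 7 G)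
    (hP : Nat.card P = 7) {e : ℕ} (he : e = 2 ∨ e = 3)
    (hN : Nat.card (Subgroup.normalizer ((P : Subgroup G) : Set G)) =
      e * Nat.card (Subgroup.centralizer ((P : Subgroup G) : Set G)))
    {q : ℕ} (hq : q = 2 ∨ (q = 3 ∧ e = 2)) {y : G} (hy : orderOf y = q)
    (hyC : y ∈ Subgroup.centralizer ((P : Subgroup G) : Set G)) : False := by
  have hq23 : q = 2 ∨ q = 3 := hq.imp id And.left
  obtain ⟨x, hxP, hx7, -⟩ := PrimeOrder.exists_generator P hP
  have hxy : Commute x y := Subgroup.mem_centralizer_iff.mp hyC x hxP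
  have hy7 : ¬ 7 ∣ orderOf y := by rw [hy]; rcases hq23 with rfl | rfl <;> norm_num
  have hy1 : y ≠ 1 := fun e' => by rw [e', orderOf_one] at hy; omega
  have hCle : Nat.card (Subgroup.centralizer ({y} : Set G)) ≤ 560 := by
    have hne : Subgroup.centralizer ({y} : Set G) ≠ ⊤ := fun e' => by
      have hmem : y ∈ Subgroup.center G := Subgroup.mem_center_iff.mpr fun g =>
        Subgroup.mem_centralizer_singleton_iff.mp (e' ▸ Subgroup.mem_top g)
      rw [SimpleTools.center_eq_bot hG, Subgroup.mem_bot] at hmem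
      exact hy1 hmem
    have h9 := index_bound hG h _ hne
    have hmul := (Subgroup.centralizer ({y} : Set G)).index_mul_card
    rw [h] at hmul
    nlinarith
  rcases patterns hG h P hP he hN with ⟨χ, hm⟩ | ⟨χ, hm⟩ | ⟨χ, hm, Y, hY3, htY, hχY, hY⟩ |
      ⟨he3, χ, χ', θ, hm, hm', hθt, hθ4, hθ⟩
  · obtain ⟨c, -, hlt, h4, ⟨m, hm1⟩, ⟨m', hm2⟩⟩ := member_values hG P hm hxP hx7 hq23 hy hxy
    rcases hq23 with rfl | rfl
    · have := h4 rfl
      push_cast at hm1 hm2
      omega
    · push_cast at hm1 hm2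
      omega
  · obtain ⟨c, -, hlt, h4, ⟨m, hm1⟩, ⟨m', hm2⟩⟩ := member_values hG P hm hxP hx7 hq23 hy hxy
    rcases hq23 with rfl | rfl
    · have := h4 rfl
      push_cast at hm1 hm2
      omega
    · push_cast at hm1 hm2
      omega
  · obtain ⟨c, hc, hlt, h4, ⟨m, hm1⟩, ⟨m', hm2⟩⟩ := member_values hG P hm hxP hx7 hq23 hy hxy
    have hw : ∀ θ ∈ Y, (θ : G → ℂ) y = ((1 + c : ℤ) : ℂ) := fun θ hθ => by
      rw [(hY θ hθ).2 y hy7, hc]; push_cast; ring
    set w : IrrCharacter G → ℤ := fun ψ => if ψ = trivChar G then 1 else if ψ = χ then c else 1 + c with hwdef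
    have hS : ∀ ψ ∈ insert (trivChar G) (insert χ Y), (ψ : G → ℂ) y = (w ψ : ℂ) := by
      intro ψ hψ
      simp only [Finset.mem_insert] at hψ
      rcases hψ with rfl | rfl | hψ
      · simp [hwdef]
      · simp only [hwdef, if_neg hm.1, if_true]; exact hc
      · simp only [hwdef, if_neg (fun e' : ψ = trivChar G => htY (e' ▸ hψ)),
          if_neg (fun e' : ψ = χ => hχY (e' ▸ hψ))]
        exact hw ψ hψ
    have hb := column_bound y _ w hS
    rw [Finset.sum_insert (by simp [Ne.symm hm.1, htY]), Finset.sum_insert hχY,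
      Finset.sum_congr rfl (g := fun _ => (1 + c) * (1 + c)) fun ψ hψ => by
        simp only [hwdef, if_neg (fun e' : ψ = trivChar G => htY (e' ▸ hψ)),
          if_neg (fun e' : ψ = χ => hχY (e' ▸ hψ))],
      Finset.sum_const, hY3] at hb
    simp only [hwdef, if_neg hm.1, if_true, nsmul_eq_mul, Nat.cast_ofNat] at hb
    rcases hq23 with rfl | rfl
    · have := h4 rfl
      push_cast at hm1
      obtain rfl : c = -13 := by omega
      omega
    · push_cast at hm1 hm2
      obtain rfl : c = -6 := by omega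
      obtain ⟨θ, hθ⟩ := Finset.card_pos.mp (by omega : 0 < Y.card)
      have d1 := degree_dvd_class χ hc
      have d2 := degree_dvd_class θ (hw θ hθ)
      rw [hm.2.1] at d1
      rw [(hY θ hθ).1] at d2
      have hmul := (Subgroup.centralizer ({y} : Set G)).index_mul_card
      rw [h] at hmul
      set I := (Subgroup.centralizer ({y} : Set G)).index
      obtain ⟨t, ht⟩ : 80 ∣ I := by omega
      rw [ht] at hmul
      have ht0 : 1 ≤ t := Nat.one_le_iff_ne_zero.mpr fun e => by rw [e] at hmul; simp at hmul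
      have hsmall : 80 * Nat.card (Subgroup.centralizer ({y} : Set G)) ≤ 5040 := by nlinarith
      omega
  · rcases hq with rfl | ⟨-, he2⟩
    swap
    · omega
    obtain ⟨c, hc, hlt, h4, ⟨m, hm1⟩, -⟩ := member_values hG P hm hxP hx7 (Or.inl rfl) hy hxy
    obtain ⟨c', hc', hlt', h4', ⟨m', hm1'⟩, -⟩ := member_values hG P hm' hxP hx7 (Or.inl rfl) hy hxy
    have := h4 rfl
    have := h4' rfl
    push_cast at hm1 hm1'
    obtain rfl : c = -13 := by omega
    obtain rfl : c' = -8 := by omega
    have hv : (θ : G → ℂ) y = ((4 : ℤ) : ℂ) := by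
      have := hθ y hy7
      rw [hc, hc'] at this
      push_cast at this ⊢
      linear_combination -this
    have := ValueTools.lt_degree hG hθt hy1 hv
    rw [hθ4] at this
    norm_num at this

/-- A self-centralizing Sylow 7-subgroup with normaliser of order 42 is impossible. -/
theorem no_self_centralizing (hG : ¬ IsMulCommutative G) (h : Nat.card G = 5040) [Fact (Nat.Prime 7)]
    (P : Sylow 7 G) (hP : Nat.card (P : Subgroup G) = 7)
    (hcent : Subgroup.centralizer ((P : Subgroup G) : Set G) = (P : Subgroup G))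
    (hN : Nat.card (Subgroup.normalizer ((P : Subgroup G) : Set G)) = (7 - 1) * 7) : False := by
  obtain ⟨x, hxP, hx, hzg⟩ := PrimeOrder.exists_generator P hP
  have hx1 : x ≠ 1 := fun e => by rw [e, orderOf_one] at hx; omega
  have hconj : ∀ y ∈ (P : Subgroup G), y ≠ 1 → IsConj x y := fun y hy hy1 =>
    RationalColumn.isConj_of_card_normalizer hP hcent hN hxP hx1 hy hy1
  have : Fact (Nat.Prime 2) := ⟨Nat.prime_two⟩
  obtain ⟨⟨u, huN⟩, hu⟩ := exists_prime_orderOf_dvd_card'
    (G := ↥(Subgroup.normalizer ((P : Subgroup G) : Set G))) 2 (by rw [hN]; norm_num)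
  rw [← Subgroup.orderOf_coe] at hu
  change orderOf u = 2 at hu
  have huu : u * u = 1 := by rw [← pow_two, ← hu, pow_orderOf_eq_one]
  have hu1 : u ≠ 1 := fun e => by rw [e, orderOf_one] at hu; omega
  have huinvx : u * x * u⁻¹ = x⁻¹ := by
    have hy : u * x * u⁻¹ ∈ Subgroup.zpowers x := hzg ▸ (Subgroup.mem_normalizer_iff.mp huN x).mp hxP
    obtain ⟨i, hi⟩ := Subgroup.mem_zpowers_iff.mp hy
    have h2 : x ^ (i * i) = x := by
      rw [zpow_mul, hi, conj_zpow, hi]
      have hi' : u⁻¹ = u := inv_eq_of_mul_eq_one_right huu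
      rw [hi', ← mul_assoc, ← mul_assoc, huu, one_mul, mul_assoc, huu, mul_one]
    have h5 : (7 : ℤ) ∣ i * i - 1 := by
      have : x ^ (i * i - 1) = 1 := by rw [zpow_sub, h2, zpow_one, mul_inv_cancel]
      have h' := orderOf_dvd_iff_zpow_eq_one.mpr this
      rw [hx] at h'
      exact_mod_cast h'
    rw [show i * i - 1 = (i - 1) * (i + 1) by ring] at h5
    rcases (Nat.prime_iff_prime_int.mp (by norm_num : Nat.Prime 7)).dvd_mul.mp h5 with h' | h'
    · exfalso
      have hix : x ^ i = x := by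
        obtain ⟨q, hq⟩ := h'
        rw [show i = 7 * q + 1 by push_cast at hq; omega, zpow_add, zpow_mul, zpow_one,
          show x ^ (7 : ℤ) = 1 by rw [zpow_ofNat, ← hx, pow_orderOf_eq_one], one_zpow, one_mul]
      have hcm : Commute u x := mul_inv_eq_iff_eq_mul.mp (hi ▸ hix)
      have huP : u ∈ (P : Subgroup G) := by
        rw [← hcent, Subgroup.mem_centralizer_iff]
        intro z hz
        rw [← hzg] at hz
        obtain ⟨j, rfl⟩ := Subgroup.mem_zpowers_iff.mp hz
        exact (hcm.symm.zpow_left j).eq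
      have h1 := (P : Subgroup G).orderOf_dvd_natCard huP
      rw [hP, hu] at h1
      norm_num at h1
    · obtain ⟨q, hq⟩ := h'
      rw [← hi, show i = 7 * q + (-1) by push_cast at hq; omega, zpow_add, zpow_mul,
        show x ^ (7 : ℤ) = 1 by rw [zpow_ofNat, ← hx, pow_orderOf_eq_one], one_zpow, one_mul, zpow_neg, zpow_one]
  have hinv : ∀ a ∈ (P : Subgroup G), u * a * u⁻¹ = a⁻¹ := by
    intro a ha
    rw [← hzg] at ha
    obtain ⟨j, rfl⟩ := Subgroup.mem_zpowers_iff.mp ha
    rw [← conj_zpow, huinvx, inv_zpow]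
  have hne1 : ¬ IsConj (1 : G) x := fun hc => hx1 (isConj_one_right.mp hc)
  have hnu : ¬ IsConj u x := fun hc => by
    obtain ⟨g, hg⟩ := isConj_iff.mp hc
    have := MulEquiv.orderOf_eq (MulAut.conj g) u
    rw [MulAut.conj_apply, hg, hx, hu] at this
    omega
  have hcx : Nat.card (Subgroup.centralizer ({x} : Set G)) = 7 := by
    have : Subgroup.centralizer ({x} : Set G) = (P : Subgroup G) := by
      conv_rhs => rw [← hcent, ← hzg]
      rw [Subgroup.zpowers_eq_closure, Subgroup.centralizer_closure]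
    rw [this, hP]
  choose v hv hvmod using fun χ : IrrCharacter G =>
    RationalColumn.exists_int_value hP hxP hx1 hconj χ
  have hvc : ∀ χ : IrrCharacter G, conj ((χ : G → ℂ) x) = (v χ : ℂ) := fun χ => by rw [hv, map_intCast]
  have hsq : ∑ χ, v χ * v χ = 7 := by
    have h1 := sum_irr_mul_conj x x
    rw [if_pos (IsConj.refl x), hcx] at h1
    simp only [hvc, hv, map_intCast] at h1
    exact_mod_cast h1
  have hdeg : ∑ χ : IrrCharacter G, (charDegree (χ : G → ℂ) : ℤ) * v χ = 0 := by
    have h1 := sum_irr_mul_conj (1 : G) x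
    rw [if_neg hne1] at h1
    simp only [hvc, irr_one_eq] at h1
    exact_mod_cast h1
  set t := trivChar G
  have htd : charDegree (t : G → ℂ) = 1 := by simp [t, charDegree]
  have hvt : v t = 1 := by
    have := hv t
    rw [show (t : G → ℂ) x = 1 from trivChar_apply x] at this
    exact_mod_cast this.symm
  set S : Finset (IrrCharacter G) := (Finset.univ.erase t).filter fun χ => v χ ≠ 0 with hS
  have hmemS : ∀ χ ∈ S, χ ≠ t ∧ v χ ≠ 0 := fun χ hχ =>
    ⟨(Finset.mem_erase.mp (Finset.mem_filter.mp hχ).1).1, (Finset.mem_filter.mp hχ).2⟩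
  have hsumS : ∀ f : IrrCharacter G → ℤ, ∑ χ, f χ * v χ = f t + ∑ χ ∈ S, f χ * v χ := fun f => by
    rw [← Finset.add_sum_erase _ _ (Finset.mem_univ t), hvt, mul_one, hS, Finset.sum_filter_of_ne]
    intro χ _ hne e
    rw [e, mul_zero] at hne
    exact hne rfl
  have hS6 : ∑ χ ∈ S, v χ * v χ = 6 := by
    have := hsumS v
    rw [hsq, hvt] at this
    linarith
  have hSd : ∑ χ ∈ S, v χ * (charDegree (χ : G → ℂ) : ℤ) = -1 := by
    have h1 := hsumS fun χ => (charDegree (χ : G → ℂ) : ℤ)
    rw [hdeg, htd] at h1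
    rw [Finset.sum_congr rfl fun χ _ => mul_comm (v χ) _]
    push_cast at h1
    linarith
  have hsqd : ∑ χ ∈ S, (charDegree (χ : G → ℂ) : ℤ) * (charDegree (χ : G → ℂ) : ℤ) < 5040 := by
    have hsum : ∑ ψ : IrrCharacter G, ((charDegree (ψ : G → ℂ) * charDegree (ψ : G → ℂ) : ℕ) : ℂ) = (5040 : ℕ) := by
      rw [← h, ← sum_sq_apply_one]
      exact Finset.sum_congr rfl fun ψ _ => by rw [irr_one_eq]; push_cast; ring
    rw [← Nat.cast_sum, Nat.cast_inj, ← Finset.add_sum_erase _ _ (Finset.mem_univ t), htd] at hsum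
    have hle : ∑ χ ∈ S, charDegree (χ : G → ℂ) * charDegree (χ : G → ℂ) ≤
        ∑ χ ∈ Finset.univ.erase t, charDegree (χ : G → ℂ) * charDegree (χ : G → ℂ) :=
      Finset.sum_le_sum_of_subset (fun χ hχ => Finset.mem_erase.mpr ⟨(hmemS χ hχ).1, Finset.mem_univ _⟩)
    exact_mod_cast (show ∑ χ ∈ S, charDegree (χ : G → ℂ) * charDegree (χ : G → ℂ) < 5040 by omega)
  -- the dihedral group generated by `P` and `u`
  have hmulu : ∀ a ∈ (P : Subgroup G), u * a = a⁻¹ * u := fun a ha => by
    rw [← hinv a ha, inv_mul_cancel_right]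
  let A : Subgroup G :=
    { carrier := {g | g ∈ (P : Subgroup G) ∨ u * g ∈ (P : Subgroup G)}
      one_mem' := Or.inl (one_mem _)
      mul_mem' := fun {a b} ha hb => by
        rcases ha with ha | ha <;> rcases hb with hb | hb
        · exact Or.inl (mul_mem ha hb)
        · refine Or.inr ?_
          rw [← mul_assoc, hmulu a ha, mul_assoc]
          exact mul_mem (inv_mem ha) hb
        · refine Or.inr ?_
          rw [← mul_assoc]
          exact mul_mem ha hb
        · refine Or.inl ?_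
          have : a * b = (u * a)⁻¹ * (u * b) := by
            have hu' : u⁻¹ = u := inv_eq_of_mul_eq_one_right huu
            have e1 := hmulu _ ha
            rw [← mul_assoc, huu, one_mul] at e1
            calc a * b = (u * a)⁻¹ * u * b := by rw [← e1]
              _ = (u * a)⁻¹ * (u * b) := mul_assoc _ _ _
          rw [this]
          exact mul_mem (inv_mem ha) hb
      inv_mem' := fun {a} ha => by
        rcases ha with ha | ha
        · exact Or.inl (inv_mem ha)
        · refine Or.inr ?_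
          have e1 := hmulu _ ha
          rw [← mul_assoc, huu, one_mul] at e1
          have hainv : a⁻¹ = a := inv_eq_of_mul_eq_one_right (calc
            a * a = (u * a)⁻¹ * u * a := by rw [← e1]
            _ = 1 := by group)
          rw [hainv]
          exact ha }
  have hPA : (P : Subgroup G) ≤ A := fun g hg => Or.inl hg
  have hdata : ∀ χ : IrrCharacter G, χ ≠ t → v χ ≠ 0 → ∃ (c : ℤ) (m : ℕ),
      (χ : G → ℂ) u = c ∧ (charDegree (χ : G → ℂ) : ℤ) + 6 * v χ = 7 * m ∧ c.natAbs ≤ m ∧ (c - m) % 2 = 0 ∧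
      (c - charDegree (χ : G → ℂ)) % 4 = 0 ∧ c.natAbs < charDegree (χ : G → ℂ) := by
    intro χ hχt _
    obtain ⟨c, hc, -⟩ := SelfInverse.exists_int_abs_le_of_sq_one χ.2 huu
    obtain ⟨n, ρ, -, hρ⟩ := id χ.2
    set mP := Module.finrank ℂ (Representation.invariants (ρ.comp (P : Subgroup G).subtype))
    set mA := Module.finrank ℂ (Representation.invariants (ρ.comp A.subtype))
    have hmono : mA ≤ mP := Submodule.finrank_mono fun w hw g => hw ⟨g, hPA g.2⟩
    have hxi : ∀ a : (P : Subgroup G), a ≠ 1 → (χ : G → ℂ) a = (v χ : ℂ) := fun a ha => by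
      rw [← hv]
      exact (IsClassFunction.apply_eq_of_isConj (IsIrrCharacter.isClassFunction χ.2)
        (hconj a a.2 fun e => ha (Subtype.ext e))).symm
    have huc : ∀ a : (P : Subgroup G), (χ : G → ℂ) (u * a) = (c : ℂ) := fun a => by
      obtain ⟨q, hq⟩ : ∃ q : (P : Subgroup G), q * q = a :=
        ⟨a ^ 4, by
          have h7 : a ^ Nat.card (P : Subgroup G) = 1 := pow_card_eq_one'
          rw [hP] at h7
          rw [← pow_add, show 4 + 4 = 7 + 1 from rfl, pow_succ, h7, one_mul]⟩
      have : u * (a : G) = (q : G)⁻¹ * u * (q : G) := by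
        rw [← hq, Subgroup.coe_mul, ← mul_assoc, hmulu q q.2]
      rw [this, ← hc]
      conv_lhs => rw [show (q : G)⁻¹ * u * (q : G) = (q : G)⁻¹ * u * ((q : G)⁻¹)⁻¹ by rw [inv_inv]]
      exact irr_conj_apply χ u _
    have hsumP : ∑ a : (P : Subgroup G), (χ : G → ℂ) a =
        (charDegree (χ : G → ℂ) : ℂ) + 6 * (v χ : ℂ) := by
      rw [← Finset.add_sum_erase _ _ (Finset.mem_univ (1 : (P : Subgroup G))), Subgroup.coe_one, irr_one_eq,
        Finset.sum_congr rfl (g := fun _ => (v χ : ℂ)) fun a ha => hxi a (Finset.mem_erase.mp ha).1,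
        Finset.sum_const, Finset.card_erase_of_mem (Finset.mem_univ _), Finset.card_univ,
        ← Nat.card_eq_fintype_card, hP]
      simp
    have hP' := CfsgLib.KGroups.M11Point.finrank_invariants_mul ρ (P : Subgroup G)
    have hA' := CfsgLib.KGroups.M11Point.finrank_invariants_mul ρ A
    rw [hρ, hsumP, hP] at hP'
    let f : (P : Subgroup G) ⊕ (P : Subgroup G) → A :=
      Sum.elim (fun a : (P : Subgroup G) => (⟨(a : G), Or.inl a.2⟩ : A))
        (fun a : (P : Subgroup G) => (⟨u * (a : G), Or.inr (by rw [← mul_assoc, huu, one_mul]; exact a.2)⟩ : A))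
    have huP : u ∉ (P : Subgroup G) := fun hm => by
      have h1 := (P : Subgroup G).orderOf_dvd_natCard hm
      rw [hP, hu] at h1
      norm_num at h1
    have hf : Function.Bijective f := by
      constructor
      · rintro (a | a) (b | b) e
        · exact congrArg Sum.inl (Subtype.ext (congrArg (fun z : A => (z : G)) e))
        · refine absurd ?_ huP
          have e' : (a : G) = u * b := congrArg (fun z : A => (z : G)) e
          rw [show u = (a : G) * (b : G)⁻¹ by rw [e', mul_inv_cancel_right]]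
          exact mul_mem a.2 (inv_mem b.2)
        · refine absurd ?_ huP
          have e' : u * (a : G) = b := congrArg (fun z : A => (z : G)) e
          rw [show u = (b : G) * (a : G)⁻¹ by rw [← e', mul_inv_cancel_right]]
          exact mul_mem b.2 (inv_mem a.2)
        · exact congrArg Sum.inr (Subtype.ext (mul_left_cancel (congrArg (fun z : A => (z : G)) e)))
      · rintro ⟨g, hg | hg⟩
        · exact ⟨Sum.inl ⟨g, hg⟩, rfl⟩
        · exact ⟨Sum.inr ⟨u * g, hg⟩, Subtype.ext (show u * (u * g) = g by rw [← mul_assoc, huu, one_mul])⟩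
    have hsumA : ∑ a : A, (χ : G → ℂ) a = (charDegree (χ : G → ℂ) : ℂ) + 6 * (v χ : ℂ) + 7 * (c : ℂ) := by
      rw [← Fintype.sum_equiv (Equiv.ofBijective f hf) (fun z => (χ : G → ℂ) (f z : G)) _ fun z => rfl,
        Fintype.sum_sum_type]
      show ∑ a : (P : Subgroup G), (χ : G → ℂ) a + ∑ a : (P : Subgroup G), (χ : G → ℂ) (u * a) = _
      rw [hsumP, Finset.sum_congr rfl fun a _ => huc a, Finset.sum_const, Finset.card_univ,
        ← Nat.card_eq_fintype_card, hP]
      simp
    have hcardA : Nat.card A = 14 := by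
      rw [← Nat.card_eq_of_bijective f hf, Nat.card_sum, hP]
    rw [hρ, hsumA, hcardA] at hA'
    have eP : (charDegree (χ : G → ℂ) : ℤ) + 6 * v χ = 7 * mP := by exact_mod_cast hP'
    have eA : (charDegree (χ : G → ℂ) : ℤ) + 6 * v χ + 7 * c = 14 * mA := by exact_mod_cast hA'
    have ec : c = 2 * (mA : ℤ) - (mP : ℤ) := by linarith
    exact ⟨c, mP, hc, eP, by omega, by omega, ValueTools.mod_four hG χ hu hc,
      ValueTools.lt_degree hG hχt hu1 hc⟩
  have hall : ∀ χ : {χ : IrrCharacter G // χ ∈ S}, ∃ c : ℤ, (χ.1 : G → ℂ) u = c ∧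
      ((charDegree (χ.1 : G → ℂ) : ℤ), v χ.1, c) ∈ Order5040Search.triples := by
    rintro ⟨χ, hχ⟩
    obtain ⟨hχt, hv0⟩ := hmemS χ hχ
    obtain ⟨c, m, hc, hm, hcm, hpar, h4, hlt⟩ := hdata χ hχt hv0
    refine ⟨c, hc, Order5040Search.mem_triples (h ▸ charDegree_dvd χ) ?_ ?_ ?_ hm hcm hpar h4 hlt⟩
    · have h0 := charDegree_pos χ
      have h1 : charDegree (χ : G → ℂ) ≠ 1 := fun e => hχt (BlockDegrees.eq_trivChar hG χ e)
      show 2 ≤ charDegree (χ : G → ℂ)
      omega
    · have := Finset.single_le_sum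
        (f := fun ψ : IrrCharacter G => (charDegree (ψ : G → ℂ) : ℤ) * (charDegree (ψ : G → ℂ) : ℤ))
        (fun _ _ => mul_self_nonneg _) hχ
      exact_mod_cast this.trans_lt hsqd
    · have hle := Finset.single_le_sum (f := fun ψ => v ψ * v ψ) (fun _ _ => mul_self_nonneg _) hχ
      rw [hS6] at hle
      have : -2 ≤ v χ ∧ v χ ≤ 2 := by constructor <;> nlinarith
      show v χ = 1 ∨ v χ = -1 ∨ v χ = 2 ∨ v χ = -2
      omega
  choose cS hcS htS using hall
  set w : IrrCharacter G → ℤ := fun χ => if hχ : χ ∈ S then cS ⟨χ, hχ⟩ else if χ = t then 1 else 0 with hw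
  have hwv : ∀ χ : IrrCharacter G, (v χ : ℂ) * (χ : G → ℂ) u = (v χ : ℂ) * (w χ : ℂ) := by
    intro χ
    by_cases hχ : χ ∈ S
    · simp only [hw, dif_pos hχ]; rw [hcS ⟨χ, hχ⟩]
    · by_cases hχt : χ = t
      · have hw1 : w χ = 1 := by simp only [hw, dif_neg hχ, if_pos hχt]
        rw [hw1, hχt, show (t : G → ℂ) u = 1 from trivChar_apply u]
        norm_num
      · have : v χ = 0 := by
          by_contra hne
          exact hχ (Finset.mem_filter.mpr ⟨Finset.mem_erase.mpr ⟨hχt, Finset.mem_univ _⟩, hne⟩)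
        simp [this]
  have htnot : t ∉ S := fun h' => (hmemS t h').1 rfl
  have hwt : w t = 1 := by simp [hw, dif_neg htnot]
  have hlin : ∑ χ ∈ S, v χ * w χ = -1 := by
    have h1 := sum_irr_mul_conj u x
    rw [if_neg hnu] at h1
    simp only [hvc] at h1
    rw [Finset.sum_congr rfl fun χ _ => (mul_comm _ _).trans (hwv χ)] at h1
    have h2 : ∑ χ, v χ * w χ = 0 := by exact_mod_cast h1
    rw [Finset.sum_congr rfl fun χ _ => mul_comm (v χ) (w χ), hsumS w, hwt] at h2
    rw [Finset.sum_congr rfl fun χ _ => mul_comm (v χ) (w χ)]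
    linarith
  set T : IrrCharacter G → ℤ × ℤ × ℤ := fun χ => ((charDegree (χ : G → ℂ) : ℤ), v χ, w χ) with hT
  have hTmem : ∀ χ ∈ S, T χ ∈ Order5040Search.triples := fun χ hχ => by
    simp only [hT, hw, dif_pos hχ]
    exact htS ⟨χ, hχ⟩
  have h720 : ∀ a ∈ Order5040Search.triples, a.1 ∣ (720 : ℤ) ∧ a.1 ≠ 0 := by decide +kernel
  have h1 := InvertingInvolution.class_equation (p := 7) (by norm_num) hP hcent huu hinv ⟨x, hxP⟩
    (fun e => hx1 (congrArg Subtype.val e))
  simp only [hvc, irr_one_eq, h] at h1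
  have hterm : ∀ χ : IrrCharacter G,
      (v χ : ℂ) * ((χ : G → ℂ) u) ^ 2 / (charDegree (χ : G → ℂ) : ℂ) * 720 =
        if χ = t then 720 else if χ ∈ S then ((Order5040Search.term (T χ) : ℤ) : ℂ) else 0 := by
    intro χ
    rw [pow_two, ← mul_assoc, hwv χ, mul_assoc (v χ : ℂ), mul_comm (w χ : ℂ), ← mul_assoc, hwv χ]
    by_cases hχt : χ = t
    · rw [if_pos hχt, hχt, hvt, hwt, htd]
      norm_num
    rw [if_neg hχt]
    by_cases hχS : χ ∈ S
    · rw [if_pos hχS]
      obtain ⟨hdv, hd0⟩ := h720 _ (hTmem χ hχS)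
      simp only [hT] at hdv hd0
      have hd0' : (((charDegree (χ : G → ℂ) : ℕ) : ℤ) : ℂ) ≠ 0 := Int.cast_ne_zero.mpr hd0
      simp only [Order5040Search.term, hT]
      rw [Int.cast_mul (v χ * w χ * w χ), Int.cast_div hdv hd0']
      push_cast
      push_cast at hd0'
      field_simp
    · rw [if_neg hχS]
      have : v χ = 0 := by
        by_contra hne
        exact hχS (Finset.mem_filter.mpr ⟨Finset.mem_erase.mpr ⟨hχt, Finset.mem_univ _⟩, hne⟩)
      simp [this]
  have hsum : (∑ χ : IrrCharacter G, (v χ : ℂ) * ((χ : G → ℂ) u) ^ 2 / (charDegree (χ : G → ℂ) : ℂ)) * 720 =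
      ((720 + ∑ χ ∈ S, Order5040Search.term (T χ) : ℤ) : ℂ) := by
    rw [Finset.sum_mul, Finset.sum_congr rfl fun χ _ => hterm χ,
      ← Finset.add_sum_erase _ _ (Finset.mem_univ t), if_pos rfl]
    push_cast
    congr 1
    rw [Finset.sum_congr rfl fun χ hχ => if_neg (Finset.mem_erase.mp hχ).1, ← Finset.sum_filter]
    refine Finset.sum_congr ?_ fun _ _ => rfl
    ext χ
    simp only [Finset.mem_filter, Finset.mem_erase, Finset.mem_univ, and_true]
    exact ⟨fun h' => h'.2, fun h' => ⟨(hmemS χ h').1, h'⟩⟩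
  have hC : ((Nat.card (Subgroup.centralizer ({u} : Set G)) : ℤ)) * Nat.card (Subgroup.centralizer ({u} : Set G)) =
      720 + ∑ χ ∈ S, Order5040Search.term (T χ) := by
    have h2 : ((5040 * ((Nat.card (Subgroup.centralizer ({u} : Set G)) : ℤ) *
        Nat.card (Subgroup.centralizer ({u} : Set G))) : ℤ) : ℂ) =
        ((5040 * (720 + ∑ χ ∈ S, Order5040Search.term (T χ)) : ℤ) : ℂ) := by
      rw [Int.cast_mul 5040, Int.cast_mul 5040, ← hsum]
      push_cast at h1 ⊢
      linear_combination (720 : ℂ) * h1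
    have := Int.cast_injective h2
    linarith
  exact Order5040Search.no_column S T hTmem hS6 hsqd hSd hlin _ Nat.card_pos.ne' hC

/-- Exclusion of a simple group of order 5040. -/
theorem card_ne (G : Type*) [Group G] [Finite G] [IsSimpleGroup G] : Nat.card G ≠ 5040 := by
  intro h
  have := Fintype.ofFinite G
  have : Fact (Nat.Prime 7) := ⟨by norm_num⟩
  have hG : ¬ IsMulCommutative G := SimpleTools.not_comm_of_card (by rw [h]; norm_num)
  obtain ⟨P, e, k, hP, he1, hed, hnek, hN, hC⟩ :=
    OrdersBelow1092.prime_order_setup hG (p := 7) (m := 720) (by rw [h]) (by norm_num) rfl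
  have hne := SimpleTools.card_sylow_ne_one hG (p := 7) (by rw [h]; norm_num)
  have hmem := SimpleTools.card_sylow_mem (G := G) (p := 7) (k := 1) (m := 720) (by rw [h]; norm_num) (by norm_num)
  rw [show (Nat.divisors 720).filter (fun n => n % 7 = 1) = {1, 8, 15, 36, 120} from by decide +kernel] at hmem
  simp only [Finset.mem_insert, Finset.mem_singleton] at hmem
  set C := Subgroup.centralizer ((P : Subgroup G) : Set G) with hCdef
  have hNC : Nat.card (Subgroup.normalizer ((P : Subgroup G) : Set G)) = e * Nat.card C := by rw [hN, hC]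
  have he6 : e ≤ 6 := Nat.le_of_dvd (by norm_num) hed
  have he : e = 2 ∨ e = 3 ∨ e = 6 := by
    interval_cases e <;> first | omega | (norm_num at hed)
  have hfind : ∀ (q : ℕ), q.Prime → q ∣ Nat.card C → ∃ y ∈ C, orderOf y = q := fun q hq hd => by
    have := Fact.mk hq
    obtain ⟨⟨y, hy⟩, hy'⟩ := exists_prime_orderOf_dvd_card' (G := C) q hd
    exact ⟨y, hy, by rwa [← Subgroup.orderOf_coe] at hy'⟩
  rcases hmem with h' | h' | h' | h' | h'
  · exact hne h'
  · have h9 := index_bound hG h (Subgroup.normalizer ((P : Subgroup G) : Set G)) fun e' => by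
      have := P.card_eq_index_normalizer
      rw [h', show Subgroup.normalizer (P : Set G) = ⊤ from e', Subgroup.index_top] at this
      omega
    have := P.card_eq_index_normalizer
    rw [h'] at this
    change 8 = (Subgroup.normalizer ((P : Subgroup G) : Set G)).index at this
    omega
  · have : Fact (Nat.Prime 2) := ⟨Nat.prime_two⟩
    obtain ⟨T, hT⟩ := Sylow.exists_subgroup_card_pow_prime (G := C) 2 (n := 2) (by
      rw [hC]
      rw [h'] at hnek
      rcases he with rfl | rfl | rfl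
      · exact ⟨42, by omega⟩
      · exact ⟨28, by omega⟩
      · exact ⟨14, by omega⟩)
    refine no_four hG h' P hP (T.map C.subtype) (Subgroup.map_subtype_le T) ?_
    rw [← Nat.card_congr (T.equivMapOfInjective _ C.subtype_injective).toEquiv, hT]
    norm_num
  · rw [h'] at hnek
    rcases he with rfl | rfl | rfl <;> try omega
    obtain ⟨y, hy, hy2⟩ := hfind 2 Nat.prime_two ⟨35, by rw [hC]; omega⟩
    exact no_commuting hG h P hP (Or.inl rfl) hNC (Or.inl rfl) hy2 hy
  · rw [h'] at hnek
    rcases he with rfl | rfl | rfl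
    · obtain ⟨y, hy, hy3⟩ := hfind 3 Nat.prime_three ⟨7, by rw [hC]; omega⟩
      exact no_commuting hG h P hP (Or.inl rfl) hNC (Or.inr ⟨rfl, rfl⟩) hy3 hy
    · obtain ⟨y, hy, hy2⟩ := hfind 2 Nat.prime_two ⟨7, by rw [hC]; omega⟩
      exact no_commuting hG h P hP (Or.inr rfl) hNC (Or.inl rfl) hy2 hy
    · obtain rfl : k = 1 := by omega
      have hPC : (P : Subgroup G) ≤ C := by
        intro a ha
        have hcyc : IsCyclic ↥(P : Subgroup G) := isCyclic_of_prime_card hP
        exact Subgroup.mem_centralizer_iff.mpr fun b hb =>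
          congrArg Subtype.val (hcyc.isMulCommutative.is_comm.comm ⟨b, hb⟩ ⟨a, ha⟩)
      exact no_self_centralizing hG h P hP
        (Subgroup.eq_of_le_of_card_ge hPC (by rw [hC, hP])).symm (by rw [hN])

end CfsgLib.SmallGroups.Order5040
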