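import Cfsg.Agent.Lib.SmallGroups.SelfInverse
import Cfsg.Agent.Lib.SmallGroups.CofactorTools

/-!
# Every involution inverts a Sylow subgroup of prime order that is self-centralizing and self-inverse

Otherwise the double count of products of two conjugates forces the value of a character to be its degree.
-/

set_option autoImplicit false

namespace CfsgLib.SmallGroups.SelfInverse

open Cfsg CfsgLib.Char CfsgLib.Blocks

variable {G : Type*} [Group G] [Fintype G] [IsSimpleGroup G] {p : ℕ} [Fact p.Prime] {P : Sylow p G}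
  [DecidablePred (· ∈ (P : Subgroup G))] [Fintype ↥(P : Subgroup G)]

/-- Every involution has a conjugate in the normaliser. -/
theorem exists_conj_mem (h : Hyp P) (hp5 : 5 ≤ p) (hperf : commutator G = ⊤) {z : G} (hz : z * z = 1)
    (hz1 : z ≠ 1) : ∃ g : G, g * z * g⁻¹ ∈ Subgroup.normalizer ((P : Subgroup G) : Set G) := by
  classical
  have hp : p.Prime := Fact.out
  by_contra hno
  push Not at hno
  obtain ⟨χ, X, b, c, d, x, hχ, hX, hχ1, hX1, hd2, hx2, -, -, hb, hc, heq, -, l, ⟨y, hy⟩, hpsi⟩ :=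
    degree_eq h hp5 hperf
  obtain ⟨s, hs⟩ := exists_int_of_sq_one hχ hz
  set f : ↥(P : Subgroup G) → ℂ := pw l 0 - pw l 1
  have hf1 : f 1 = 0 := by simp [f, pw]
  have hphi : ∀ g, Cfsg.indFun (P : Subgroup G) f g = psi P l 1 g + 1 := fun g => by
    rw [psi, Pi.sub_apply, sub_add_cancel]
  have hinv : ∀ (v a : G), a ∈ (P : Subgroup G) → a ≠ 1 → v * a * v⁻¹ = a⁻¹ →
      v ∈ Subgroup.normalizer ((P : Subgroup G) : Set G) := by
    intro v a ha ha1 hva
    have hzg : Subgroup.zpowers a = P := Subgroup.eq_of_le_of_card_ge (Subgroup.zpowers_le.mpr ha) (by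
      rw [h.card, Nat.card_zpowers, ((Nat.dvd_prime hp).mp (((P : Subgroup G).orderOf_dvd_natCard ha).trans
        (dvd_of_eq h.card))).resolve_left (orderOf_eq_one_iff.not.mpr ha1)])
    rw [Subgroup.mem_normalizer_iff]
    intro w
    rw [← hzg, Subgroup.mem_zpowers_iff, Subgroup.mem_zpowers_iff]
    constructor
    · rintro ⟨k, rfl⟩
      exact ⟨-k, by rw [← conj_zpow, hva, inv_zpow, zpow_neg]⟩
    · rintro ⟨k, hk⟩
      refine ⟨-k, ?_⟩
      have h1 : v * a ^ (-k) * v⁻¹ = a ^ k := by rw [← conj_zpow, hva, inv_zpow, zpow_neg, inv_inv]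
      rw [hk] at h1
      exact mul_left_cancel (mul_right_cancel h1)
  have hzero : ∀ k : G, Cfsg.indFun (P : Subgroup G) f (z * (k * z * k⁻¹)) = 0 := by
    intro k
    rw [indFun_def, Finset.sum_eq_zero, mul_zero]
    intro g _
    by_cases hm : g⁻¹ * (z * (k * z * k⁻¹)) * g ∈ (P : Subgroup G)
    swap
    · exact extendByZero_apply_notMem _ _ hm
    rw [extendByZero_apply_mem _ _ hm]
    have h1 : g⁻¹ * (z * (k * z * k⁻¹)) * g = 1 := by
      by_contra hne
      have hzi : z⁻¹ = z := inv_eq_of_mul_eq_one_right hz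
      refine hno g⁻¹ ?_
      rw [inv_inv]
      refine hinv _ _ hm hne ?_
      calc g⁻¹ * z * g * (g⁻¹ * (z * (k * z * k⁻¹)) * g) * (g⁻¹ * z * g)⁻¹
          = g⁻¹ * (z * z * (k * z * k⁻¹) * z⁻¹) * g := by group
        _ = g⁻¹ * (k * z * k⁻¹ * z⁻¹) * g := by rw [hz, one_mul]
        _ = g⁻¹ * (k * z⁻¹ * k⁻¹ * z⁻¹) * g := by rw [hzi]
        _ = (g⁻¹ * (z * (k * z * k⁻¹)) * g)⁻¹ := by group
    rw [show (⟨_, hm⟩ : ↥(P : Subgroup G)) = 1 from Subtype.ext h1, hf1]
  have hz0 : Cfsg.indFun (P : Subgroup G) f z = 0 := by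
    refine indFun_eq_zero_of_forall _ _ fun g hg => hz1 ?_
    have h1 : (g⁻¹ * z * g) * (g⁻¹ * z * g) = 1 := by
      calc (g⁻¹ * z * g) * (g⁻¹ * z * g) = g⁻¹ * (z * z) * g := by group
        _ = 1 := by rw [hz]; group
    have h2 : orderOf (g⁻¹ * z * g) ∣ p := ((P : Subgroup G).orderOf_dvd_natCard hg).trans (dvd_of_eq h.card)
    have h3 : orderOf (g⁻¹ * z * g) ∣ 2 := orderOf_dvd_of_pow_eq_one (by rw [pow_two, h1])
    have h4 := Nat.eq_one_of_dvd_coprimes ((Nat.coprime_primes hp Nat.prime_two).mpr (by omega)) h2 h3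
    rw [orderOf_eq_one_iff] at h4
    calc z = g * (g⁻¹ * z * g) * g⁻¹ := by group
      _ = 1 := by rw [h4]; group
  have hXz : (b : ℂ) * s + (c : ℂ) * X z = -1 := by
    have h1 := hphi z
    rw [hz0, hpsi] at h1
    simp only [Pi.add_apply, Pi.smul_apply, smul_eq_mul, hs] at h1
    linear_combination -h1
  have hA : ∑ k : G, Cfsg.indFun (P : Subgroup G) f (z * (k * z * k⁻¹)) =
      (Nat.card G : ℂ) * (1 + (b : ℂ) * s ^ 2 / d + (c : ℂ) * (X z) ^ 2 / x) := by
    simp only [hphi, hpsi, Pi.add_apply, Pi.smul_apply, smul_eq_mul, Finset.sum_add_distrib, ← Finset.mul_sum,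
      IsIrrCharacter.sum_mul_conjugate hχ, IsIrrCharacter.sum_mul_conjugate hX, hs, hχ1, hX1,
      Finset.sum_const, Finset.card_univ, nsmul_eq_mul, mul_one, ← Nat.card_eq_fintype_card]
    ring
  rw [Finset.sum_eq_zero fun k _ => hzero k] at hA
  have hmain := (mul_eq_zero.mp hA.symm).resolve_left CfsgLib.Char.card_ne_zero
  have hd0 : (d : ℂ) ≠ 0 := by exact_mod_cast (by omega : d ≠ 0)
  have hx0 : (x : ℂ) ≠ 0 := by exact_mod_cast (by omega : x ≠ 0)
  have hb2 : (b : ℂ) * b = 1 := by rcases hb with e | e <;> rw [e] <;> norm_num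
  have hc2 : (c : ℂ) * c = 1 := by rcases hc with e | e <;> rw [e] <;> norm_num
  have heqC : (b : ℂ) * d + (c : ℂ) * x = -1 := by exact_mod_cast heq
  have hXv : X z = -(c : ℂ) * (1 + b * s) := by linear_combination (c : ℂ) * hXz - (X z) * hc2
  have hxv : (x : ℂ) = -(c : ℂ) * (1 + b * d) := by linear_combination (c : ℂ) * heqC - (x : ℂ) * hc2
  have h1bd : (1 + (b : ℂ) * d) ≠ 0 := fun e => hx0 (by rw [hxv, e, mul_zero])
  have hc0 : (c : ℂ) ≠ 0 := by intro e; rw [e, mul_zero] at hc2; exact zero_ne_one hc2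
  rw [hXv, hxv] at hmain
  field_simp at hmain
  have hb0 : (b : ℂ) ≠ 0 := by intro e; rw [e, mul_zero] at hb2; exact zero_ne_one hb2
  have hsd : ((d : ℂ) - s) ^ 2 = 0 := by
    rcases hb with rfl | rfl <;> rcases hc with rfl | rfl <;> push_cast at hmain ⊢ <;>
      first
        | linear_combination hmain
        | linear_combination -hmain
  have hsd' : (s : ℂ) = d := (sub_eq_zero.mp (pow_eq_zero_iff (by norm_num) |>.mp hsd)).symm
  refine hz1 (CfsgLib.SmallGroups.Cofactor.faithful (χ := ⟨χ, hχ⟩) (fun e => ?_) z ?_)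
  · have h1 : χ 1 = 1 := by rw [show χ = ((trivChar G : IrrCharacter G) : G → ℂ) from congrArg Subtype.val e, trivChar_apply]
    rw [hχ1] at h1
    have : d = 1 := by exact_mod_cast h1
    omega
  · show χ z = χ 1
    rw [hs, hχ1, hsd']

end CfsgLib.SmallGroups.SelfInverse
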