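import Cfsg.Agent.Lib.SmallGroups.SteinerCode22
import Mathlib.Combinatorics.SimpleGraph.StronglyRegular

/-!
# A strongly regular graph with parameters `(100, 22, 0, 6)` is the graph of an `S(3, 6, 22)`

For a vertex `o` and a vertex `m` not joined to it, the other such vertices meet `m` in 0 or 2 of
the neighbours of `o`: the variance of these intersection numbers is zero.
-/

set_option autoImplicit false

namespace CfsgLib.SmallGroups.HSGraph

open Cfsg Finset

variable {V : Type*} [Fintype V] [DecidableEq V] {G : SimpleGraph V} [DecidableRel G.Adj]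

section local_structure

variable (G) (o : V)

/-- The neighbours of the chosen vertex. -/
abbrev Pt : Type _ := {n : V // G.Adj o n}

/-- The other vertices, not joined to it. -/
abbrev Blk : Type _ := {m : V // m ≠ o ∧ ¬ G.Adj o m}

/-- The neighbours of the chosen vertex joined to `m`. -/
def blk (m : V) : Finset (Pt G o) := univ.filter fun n => G.Adj m n.1

/-- The family of blocks. -/
def blks : Set (Finset (Pt G o)) := Set.range fun m : Blk G o => blk G o m.1

/-- The vertex of a position in the graph of the system. -/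
noncomputable def vertex : Option (Pt G o ⊕ blks G o) → V
  | none => o
  | some (Sum.inl n) => n.1
  | some (Sum.inr b) => b.2.choose.1

end local_structure

variable (hG : G.IsSRGWith 100 22 0 6)

include hG

theorem no_triangle {a b c : V} (hab : G.Adj a b) (hac : G.Adj a c) : ¬ G.Adj b c := fun hbc => by
  have h := hG.of_adj a b hab
  rw [Fintype.card_eq_zero_iff] at h
  exact h.false ⟨c, G.mem_commonNeighbors.2 ⟨hac, hbc⟩⟩

theorem card_common {a b : V} (hne : a ≠ b) (h : ¬ G.Adj a b) :
    (univ.filter fun c => G.Adj a c ∧ G.Adj b c).card = 6 := by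
  rw [← Fintype.card_subtype, ← hG.of_not_adj hne h]
  exact Fintype.card_congr (Equiv.subtypeEquivRight fun c => G.mem_commonNeighbors.symm)

theorem card_nbr (a : V) : (univ.filter fun c => G.Adj a c).card = 22 := by
  rw [← SimpleGraph.neighborFinset_eq_filter, SimpleGraph.card_neighborFinset_eq_degree]
  exact hG.regular a

variable (o : V)

theorem card_pt : Fintype.card (Pt G o) = 22 := by
  rw [Fintype.card_subtype, card_nbr hG o]

theorem card_blk (m : Blk G o) : (blk G o m.1).card = 6 := by
  rw [← card_common hG m.2.1 (fun h => m.2.2 h.symm), ← Finset.card_map (Function.Embedding.subtype _)]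
  congr 1
  ext c
  simp [blk, and_comm]

theorem card_M : Fintype.card (Blk G o) = 77 := by
  rw [Fintype.card_subtype]
  have e : (univ.filter fun m => m ≠ o ∧ ¬ G.Adj o m) =
      univ \ insert o (univ.filter fun c => G.Adj o c) := by
    ext c
    simp
  rw [e, card_sdiff_of_subset (subset_univ _), card_univ, hG.card,
    card_insert_of_notMem (by simp), card_nbr hG o]

/-- The number of the other vertices joined to a neighbour of `o` is 21. -/
theorem card_through (n : Pt G o) : (univ.filter fun m : Blk G o => G.Adj m.1 n.1).card = 21 := by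
  rw [← Finset.card_map (Function.Embedding.subtype _)]
  have e : (univ.filter fun m : Blk G o => G.Adj m.1 n.1).map (Function.Embedding.subtype _) =
      (univ.filter fun c => G.Adj n.1 c).erase o := by
    ext c
    simp only [mem_map, mem_filter, mem_univ, true_and, Function.Embedding.coe_subtype, mem_erase]
    constructor
    · rintro ⟨m, hm, rfl⟩
      exact ⟨m.2.1, hm.symm⟩
    · rintro ⟨hco, hc⟩
      exact ⟨⟨c, hco, fun h => no_triangle hG n.2 h hc⟩, hc.symm, rfl⟩
  rw [e, card_erase_of_mem (by simpa using n.2.symm), card_nbr hG]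

/-- Two neighbours of `o` have five further common neighbours. -/
theorem card_through_two {n n' : Pt G o} (hne : n ≠ n') :
    (univ.filter fun m : Blk G o => G.Adj m.1 n.1 ∧ G.Adj m.1 n'.1).card = 5 := by
  rw [← Finset.card_map (Function.Embedding.subtype _)]
  have e : (univ.filter fun m : Blk G o => G.Adj m.1 n.1 ∧ G.Adj m.1 n'.1).map
      (Function.Embedding.subtype _) = (univ.filter fun c => G.Adj n.1 c ∧ G.Adj n'.1 c).erase o := by
    ext c
    simp only [mem_map, mem_filter, mem_univ, true_and, Function.Embedding.coe_subtype, mem_erase]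
    constructor
    · rintro ⟨m, hm, rfl⟩
      exact ⟨m.2.1, hm.1.symm, hm.2.symm⟩
    · rintro ⟨hco, hc, hc'⟩
      exact ⟨⟨c, hco, fun h => no_triangle hG n.2 h hc⟩, ⟨hc.symm, hc'.symm⟩, rfl⟩
  rw [e, card_erase_of_mem (by simpa using ⟨n.2.symm, n'.2.symm⟩),
    card_common hG (fun e => hne (Subtype.ext e)) (no_triangle hG n.2 n'.2)]

theorem inter_eq_two {m m' : Blk G o} (hne : m' ≠ m) (hna : ¬ G.Adj m.1 m'.1) :
    (blk G o m.1 ∩ blk G o m'.1).card = 2 := by
  classical
  set T := (univ : Finset (Blk G o)).erase m with hT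
  let i : Blk G o → ℤ := fun m' => ∑ n ∈ blk G o m.1, if G.Adj m'.1 n.1 then (1 : ℤ) else 0
  have hi : ∀ c : Blk G o, i c = (blk G o m.1 ∩ blk G o c.1).card := fun c => by
    simp only [i, sum_boole]
    congr 1
    congr 1
    ext n
    simp [blk]
  have hmem : ∀ n ∈ blk G o m.1, G.Adj m.1 n.1 := fun n hn => (mem_filter.1 hn).2
  have hcount : ∀ n ∈ blk G o m.1, ∑ c ∈ T, (if G.Adj c.1 n.1 then (1 : ℤ) else 0) = 20 := fun n hn => by
    rw [hT, sum_erase_eq_sub (mem_univ m), sum_boole, if_pos (hmem n hn), card_through hG o n]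
    norm_num
  have hcount2 : ∀ n ∈ blk G o m.1, ∀ n' ∈ blk G o m.1, n ≠ n' →
      ∑ c ∈ T, ((if G.Adj c.1 n.1 then (1 : ℤ) else 0) * if G.Adj c.1 n'.1 then 1 else 0) = 4 := by
    intro n hn n' hn' hnn
    simp only [mul_ite, mul_one, mul_zero, ← ite_and]
    rw [hT, sum_erase_eq_sub (mem_univ m), sum_boole, if_pos ⟨hmem n' hn', hmem n hn⟩,
      card_through_two hG o hnn.symm]
    norm_num
  have h1 : ∑ c ∈ T, i c = 120 := by
    rw [sum_comm, sum_congr rfl hcount, sum_const, card_blk hG o m]
    norm_num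
  have h2 : ∑ c ∈ T, i c * i c = 240 := by
    simp only [i, sum_mul_sum]
    rw [sum_comm]
    have key : ∀ n ∈ blk G o m.1, ∑ c ∈ T, ∑ n' ∈ blk G o m.1,
        ((if G.Adj c.1 n.1 then (1 : ℤ) else 0) * if G.Adj c.1 n'.1 then 1 else 0) = 40 := by
      intro n hn
      rw [sum_comm, ← add_sum_erase _ _ hn,
        sum_congr rfl fun n' hn' => hcount2 n hn n' (mem_of_mem_erase hn') (ne_of_mem_erase hn').symm,
        sum_const, card_erase_of_mem hn, card_blk hG o m,
        sum_congr rfl fun c _ => show _ = (if G.Adj c.1 n.1 then (1 : ℤ) else 0) by split <;> simp,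
        hcount n hn]
      norm_num
    rw [sum_congr rfl key, sum_const, card_blk hG o m]
    norm_num
  -- the neighbours of `m` contribute nothing, the sixty others the whole
  have hadj0 : ∀ c : Blk G o, G.Adj m.1 c.1 → i c = 0 := fun c hc =>
    sum_eq_zero fun n hn => if_neg (no_triangle hG hc (hmem n hn))
  have hA : (T.filter fun c => G.Adj m.1 c.1).card = 16 := by
    have e : T.filter (fun c => G.Adj m.1 c.1) = univ.filter fun c : Blk G o => G.Adj m.1 c.1 := by
      ext c
      simp only [hT, mem_filter, mem_erase, mem_univ, and_true, true_and, and_iff_right_iff_imp]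
      rintro h rfl
      exact G.irrefl h
    rw [e, ← Finset.card_map (Function.Embedding.subtype _)]
    have e' : (univ.filter fun c : Blk G o => G.Adj m.1 c.1).map (Function.Embedding.subtype _) =
        (univ.filter fun c => G.Adj m.1 c) \ (univ.filter fun c => G.Adj o c ∧ G.Adj m.1 c) := by
      ext c
      simp only [mem_map, mem_filter, mem_univ, true_and, Function.Embedding.coe_subtype, mem_sdiff,
        not_and]
      constructor
      · rintro ⟨d, hd, rfl⟩
        exact ⟨hd, fun h => absurd h d.2.2⟩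
      · rintro ⟨hc, hno⟩
        exact ⟨⟨c, fun e => m.2.2 (e ▸ hc.symm), fun h => hno h hc⟩, hc, rfl⟩
    rw [e', card_sdiff_of_subset (fun c hc => by simp only [mem_filter, mem_univ, true_and] at hc ⊢; exact hc.2),
      card_nbr hG, card_common hG (Ne.symm m.2.1) m.2.2]
  have hTc : T.card = 76 := by rw [hT, card_erase_of_mem (mem_univ m), card_univ, card_M hG o]
  have hN : (T.filter fun c => ¬ G.Adj m.1 c.1).card = 60 := by
    have := card_filter_add_card_filter_not (s := T) fun c => G.Adj m.1 c.1
    omega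
  have hzero : ∑ c ∈ T.filter (fun c => ¬ G.Adj m.1 c.1), (i c - 2) * (i c - 2) = 0 := by
    have hz : ∀ f : ℤ → ℤ, f 0 = 0 →
        ∑ c ∈ T.filter (fun c => ¬ G.Adj m.1 c.1), f (i c) = ∑ c ∈ T, f (i c) := fun f hf => by
      rw [sum_filter]
      exact sum_congr rfl fun c _ => by
        split
        · rfl
        · rw [hadj0 c (not_not.1 ‹_›), hf]
    have e1 := hz (fun t => t) rfl
    have e2 := hz (fun t => t * t) (by norm_num)
    simp only [sub_mul, mul_sub, sum_sub_distrib]
    rw [e2, ← Finset.sum_mul, ← Finset.mul_sum, e1, h1, h2, sum_const, hN]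
    norm_num
  have := (sum_eq_zero_iff_of_nonneg fun c _ => mul_self_nonneg _).1 hzero m'
    (mem_filter.2 ⟨mem_erase.2 ⟨hne, mem_univ _⟩, hna⟩)
  rw [hi, mul_self_eq_zero, sub_eq_zero] at this
  exact_mod_cast this

theorem inter_le_two {m m' : Blk G o} (hne : m' ≠ m) : (blk G o m.1 ∩ blk G o m'.1).card ≤ 2 := by
  by_cases h : G.Adj m.1 m'.1
  · refine le_trans (le_of_eq (card_eq_zero.2 (eq_empty_of_forall_notMem fun n hn => ?_))) (Nat.zero_le 2)
    simp only [blk, mem_inter, mem_filter, mem_univ, true_and] at hn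
    exact no_triangle hG h hn.1 hn.2
  · exact (inter_eq_two hG o hne h).le

theorem blk_injective : Function.Injective fun m : Blk G o => blk G o m.1 := fun m m' e => by
  by_contra hne
  have h := inter_le_two hG o (m := m) (m' := m') (Ne.symm hne)
  simp only at e
  rw [← e, inter_self, card_blk hG o m] at h
  omega

theorem isSteiner : IsSteinerSystem 3 6 (blks G o) := by
  classical
  refine ⟨by rintro _ ⟨m, rfl⟩; exact card_blk hG o m, fun s hs => ?_⟩
  let D : Finset (Σ _ : Blk G o, Finset (Pt G o)) := univ.sigma fun m => powersetCard 3 (blk G o m.1)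
  have hmaps : ∀ x ∈ D, x.2 ∈ powersetCard 3 (univ : Finset (Pt G o)) := fun x hx =>
    mem_powersetCard.2 ⟨subset_univ _, (mem_powersetCard.1 (mem_sigma.1 hx).2).2⟩
  have huniq : ∀ (m m' : Blk G o) (t : Finset (Pt G o)), t.card = 3 → t ⊆ blk G o m.1 →
      t ⊆ blk G o m'.1 → m = m' := fun m m' t ht h h' => by
    by_contra hne
    have := (card_le_card (subset_inter h h')).trans (inter_le_two hG o (Ne.symm hne))
    omega
  have hinj : Set.InjOn (fun x : Σ _ : Blk G o, Finset (Pt G o) => x.2) D := by
    rintro ⟨m, t⟩ hx ⟨m', t'⟩ hy e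
    simp only at e
    subst e
    simp only [D, coe_sigma, Set.mem_sigma_iff, mem_coe, mem_univ, true_and, mem_powersetCard] at hx hy
    rw [huniq m m' t hx.2 hx.1 hy.1]
  have hcard : (powersetCard 3 (univ : Finset (Pt G o))).card ≤ D.card := by
    rw [card_powersetCard, card_univ, card_pt hG o, card_sigma,
      sum_congr rfl fun m _ => by rw [card_powersetCard, card_blk hG o m], sum_const, card_univ,
      card_M hG o]
    decide
  obtain ⟨⟨m, t⟩, hD, e⟩ := surj_on_of_inj_on_of_card_le (fun x _ => x.2) hmaps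
    (fun x y hx hy h => hinj hx hy h) hcard s (mem_powersetCard.2 ⟨subset_univ _, hs⟩)
  simp only [D, mem_sigma, mem_univ, true_and, mem_powersetCard] at hD
  dsimp only at e
  subst e
  refine ⟨blk G o m.1, ⟨⟨m, rfl⟩, hD.1⟩, ?_⟩
  rintro _ ⟨⟨m', rfl⟩, hs'⟩
  show blk G o m'.1 = blk G o m.1
  rw [huniq m m' _ hs hD.1 hs']

omit [DecidableEq V] in
theorem nonempty_vertex : Nonempty V := Fintype.card_pos_iff.1 (by rw [hG.card]; norm_num)

theorem vertex_blk (m : Blk G o) :
    vertex G o (some (Sum.inr ⟨blk G o m.1, m, rfl⟩)) = m.1 := by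
  have h := (⟨m, rfl⟩ : blk G o m.1 ∈ blks G o).choose_spec
  exact congrArg Subtype.val (blk_injective hG o h)

theorem exists_iso : Nonempty (pointBlockGraph (blks G o) ≃g G) := by
  classical
  have hrepr : ∀ b : blks G o, ∃ m : Blk G o, b = ⟨blk G o m.1, m, rfl⟩ := fun b => by
    obtain ⟨_, m, rfl⟩ := b
    exact ⟨m, rfl⟩
  have hbij : Function.Bijective (vertex G o) := by
    refine ⟨?_, fun v => ?_⟩
    · rintro (_ | n | b) (_ | n' | b') e
      · rfl
      · exact absurd (show G.Adj o n'.1 from n'.2) (by rw [← show o = n'.1 from e]; exact G.irrefl)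
      · obtain ⟨m, rfl⟩ := hrepr b'
        rw [vertex_blk hG o m] at e
        exact absurd e.symm m.2.1
      · exact absurd (show G.Adj o n.1 from n.2) (by rw [show n.1 = o from e]; exact G.irrefl)
      · rw [show n = n' from Subtype.ext e]
      · obtain ⟨m, rfl⟩ := hrepr b'
        rw [vertex_blk hG o m] at e
        exact absurd (show G.Adj o m.1 from e ▸ n.2) m.2.2
      · obtain ⟨m, rfl⟩ := hrepr b
        rw [vertex_blk hG o m] at e
        exact absurd e m.2.1
      · obtain ⟨m, rfl⟩ := hrepr b
        rw [vertex_blk hG o m] at e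
        exact absurd (show G.Adj o m.1 from e.symm ▸ n'.2) m.2.2
      · obtain ⟨m, rfl⟩ := hrepr b
        obtain ⟨m', rfl⟩ := hrepr b'
        rw [vertex_blk hG o m, vertex_blk hG o m'] at e
        rw [show m = m' from Subtype.ext e]
    · by_cases hv : v = o
      · exact ⟨none, hv.symm⟩
      by_cases ha : G.Adj o v
      · exact ⟨some (Sum.inl ⟨v, ha⟩), rfl⟩
      · exact ⟨_, vertex_blk hG o ⟨v, hv, ha⟩⟩
  have hmem : ∀ (n : Pt G o) (m : Blk G o), n ∈ blk G o m.1 ↔ G.Adj m.1 n.1 := fun n m => by
    simp [blk]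
  have hdisj : ∀ m m' : Blk G o, m ≠ m' →
      (Disjoint (blk G o m.1) (blk G o m'.1) ↔ G.Adj m.1 m'.1) := fun m m' hne => by
    constructor
    · intro hd
      by_contra hna
      have h2 := inter_eq_two hG o (Ne.symm hne) hna
      rw [disjoint_iff_inter_eq_empty.1 hd, card_empty] at h2
      omega
    · exact fun h => disjoint_left.2 fun n hn hn' =>
        no_triangle hG h ((hmem n m).1 hn) ((hmem n m').1 hn')
  refine ⟨⟨Equiv.ofBijective _ hbij, fun {x y} => ?_⟩⟩
  rw [Equiv.ofBijective_apply, Equiv.ofBijective_apply, pointBlockGraph, SimpleGraph.fromRel_adj]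
  rcases x with _ | n | b <;> rcases y with _ | n' | b'
  · simp [vertex]
  · simpa [vertex, pointBlockRel] using n'.2
  · obtain ⟨m, rfl⟩ := hrepr b'
    rw [vertex_blk hG o m]
    simpa [vertex, pointBlockRel] using m.2.2
  · simpa [vertex, pointBlockRel] using n.2.symm
  · simpa [vertex, pointBlockRel] using no_triangle hG n.2 n'.2
  · obtain ⟨m, rfl⟩ := hrepr b'
    rw [vertex_blk hG o m]
    simp [vertex, pointBlockRel, hmem, SimpleGraph.adj_comm]
  · obtain ⟨m, rfl⟩ := hrepr b
    rw [vertex_blk hG o m]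
    simpa [vertex, pointBlockRel] using fun h => m.2.2 (SimpleGraph.Adj.symm h)
  · obtain ⟨m, rfl⟩ := hrepr b
    rw [vertex_blk hG o m]
    simp [vertex, pointBlockRel, hmem]
  · obtain ⟨m, rfl⟩ := hrepr b
    obtain ⟨m', rfl⟩ := hrepr b'
    rw [vertex_blk hG o m, vertex_blk hG o m']
    by_cases e : m = m'
    · subst e; simp
    · have hb : (⟨blk G o m.1, m, rfl⟩ : blks G o) ≠ ⟨blk G o m'.1, m', rfl⟩ :=
        fun h => e (blk_injective hG o (congrArg Subtype.val h))
      have hb' : some (Sum.inr (α := Pt G o) (⟨blk G o m.1, m, rfl⟩ : blks G o)) ≠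
          some (Sum.inr ⟨blk G o m'.1, m', rfl⟩) := fun h => hb (by simpa using h)
      simp [pointBlockRel, hb', disjoint_comm (a := blk G o m'.1), hdisj m m' e]

omit hG in
/-- Isomorphic systems have isomorphic graphs. -/
theorem iso_of_setSystemIso {α β : Type*} [DecidableEq β] {B : Set (Finset α)} {B' : Set (Finset β)}
    (h : SetSystemIso B B') : Nonempty (pointBlockGraph B ≃g pointBlockGraph B') := by
  obtain ⟨e, he⟩ := h
  have hbij : Function.Bijective fun b : B =>
      (⟨b.1.image e, he ▸ ⟨b.1, b.2, rfl⟩⟩ : B') := by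
    refine ⟨fun b c h => Subtype.ext (image_injective e.injective (congrArg Subtype.val h)), fun b' => ?_⟩
    obtain ⟨b, hb, hbe⟩ : (b' : Finset β) ∈ (fun b => b.image e) '' B := he.symm ▸ b'.2
    exact ⟨⟨b, hb⟩, Subtype.ext hbe⟩
  refine ⟨⟨(e.sumCongr (Equiv.ofBijective _ hbij)).optionCongr, fun {x y} => ?_⟩⟩
  have key : ∀ u w, pointBlockRel B' ((e.sumCongr (Equiv.ofBijective _ hbij)).optionCongr u)
      ((e.sumCongr (Equiv.ofBijective _ hbij)).optionCongr w) ↔ pointBlockRel B u w := by
    rintro (_ | a | b) (_ | a' | b') <;> simp [pointBlockRel, disjoint_image e.injective]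
  simp only [pointBlockGraph, SimpleGraph.fromRel_adj, key, ne_eq, EmbeddingLike.apply_eq_iff_eq]

omit hG in
/-- Uniqueness of the graph. -/
theorem unique {W : Type*} [Fintype W] [DecidableEq W] {H : SimpleGraph W} [DecidableRel H.Adj]
    (hG : G.IsSRGWith 100 22 0 6) (hH : H.IsSRGWith 100 22 0 6) : Nonempty (G ≃g H) := by
  classical
  obtain ⟨o⟩ := nonempty_vertex hG
  obtain ⟨o'⟩ := nonempty_vertex hH
  obtain ⟨f⟩ := exists_iso hG o
  obtain ⟨f'⟩ := exists_iso hH o'
  obtain ⟨g⟩ := iso_of_setSystemIso (SteinerCode.iso22 (card_pt hG o) (card_pt hH o')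
    (isSteiner hG o) (isSteiner hH o'))
  exact ⟨f.symm.trans (g.trans f')⟩

end CfsgLib.SmallGroups.HSGraph
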