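import Cfsg.Agent.Lib.SmallGroups.LeechVectorStab
import Cfsg.Prelude.Def_Sporadic

/-!
# The stabiliser of a vector with square norm 32 is simple

By the element of order 23 a proper nontrivial normal subgroup has order 2048, so it is abelian and
lies in every Sylow 2-subgroup.  One of these consists of monomial maps fixing `(4, 4, 0, ..., 0)`,
where the normal subgroup would have to consist of sign changes, of which there are only 1024.
-/

set_option autoImplicit false
set_option maxRecDepth 10000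

namespace CfsgLib.SmallGroups.LeechCo2

open Cfsg CfsgLib.SmallGroups.Golay CfsgLib.SmallGroups.GolayOctads CfsgLib.SmallGroups.M24Group
  CfsgLib.SmallGroups.LeechGroup CfsgLib.SmallGroups.LeechVectorStab CfsgLib.Sporadic
open LeechMonomial (mono CS)
open scoped Pointwise

theorem count32 : {x : GolayPt → ℤ | x ∈ leechLattice ∧ sqNorm x = 32}.ncard = 196560 := by
  have h := LeechCount.count (fun _ => true) 32 8 1 (by norm_num) (by norm_num) (by norm_num)
  have hc : LeechCount.parityCount (fun _ => true) 0 8 +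
      LeechCount.parityCount (fun _ => true) 1 1 = 196560 := by
    decide +kernel
  simpa [hc] using h

theorem card_stab : Nat.card (MulAction.stabilizer Co0 v32) = 42305421312000 := by
  have h := card_stab_mul v32 norm_v32
    (fun w hw => LeechTransitive.transitive32 v32 w norm_v32 hw) count32
  omega

/-- The first special point. -/
abbrev pa : GolayPt := none

/-- The second special point. -/
abbrev pb : GolayPt := some 0

/-- The vector supported at the two points. -/
noncomputable def v44 : leechLattice :=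
  ⟨LeechReach.pv 0 [4, 4], LeechBasic.mem_lattice.2 (LeechReach.good_of_ok (m := 0) (by decide +kernel))⟩

theorem norm_v44 : sqNorm (v44 : GolayPt → ℤ) = 32 :=
  (by decide +kernel : sqNorm (LeechReach.pv 0 [4, 4]) = 32)

theorem v44_apply (q : GolayPt) :
    (v44 : GolayPt → ℤ) q = if q = pa ∨ q = pb then 4 else 0 :=
  (by decide +kernel : ∀ q : GolayPt,
    LeechReach.pv 0 [4, 4] q = if q = pa ∨ q = pb then 4 else 0) q

/-- The pair is fixed. -/
def PairFix (σ : Equiv.Perm GolayPt) : Prop :=
  (σ pa = pa ∧ σ pb = pb) ∨ (σ pa = pb ∧ σ pb = pa)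

theorem fix_iff (p : M24 × CS) :
    mono p • v44 = v44 ↔ PairFix (p.1 : Equiv.Perm GolayPt) ∧
      pa ∉ (p.2 : Finset GolayPt) ∧ pb ∉ (p.2 : Finset GolayPt) := by
  rw [Subtype.ext_iff, LeechMonomial.mono_apply]
  set σ := (p.1 : Equiv.Perm GolayPt)
  constructor
  · intro h
    have key : ∀ q, (q = pa ∨ q = pb) →
        (σ.symm q = pa ∨ σ.symm q = pb) ∧ q ∉ (p.2 : Finset GolayPt) := by
      intro q hq
      have e := congrFun h q
      simp only [signedPerm, v44_apply, if_pos hq] at e
      split_ifs at e with h1 h2 <;> first | omega | exact ⟨‹_›, h1⟩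
    obtain ⟨ha, hca⟩ := key pa (Or.inl rfl)
    obtain ⟨hb, hcb⟩ := key pb (Or.inr rfl)
    refine ⟨?_, hca, hcb⟩
    simp only [Equiv.symm_apply_eq] at ha hb
    rcases ha with ha | ha <;> rcases hb with hb | hb
    · exact absurd (ha.trans hb.symm) (by decide +kernel)
    · exact Or.inl ⟨ha.symm, hb.symm⟩
    · exact Or.inr ⟨hb.symm, ha.symm⟩
    · exact absurd (ha.trans hb.symm) (by decide +kernel)
  · rintro ⟨hσ, hca, hcb⟩
    funext q
    have e : (σ.symm q = pa ∨ σ.symm q = pb) ↔ (q = pa ∨ q = pb) := by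
      rw [Equiv.symm_apply_eq, Equiv.symm_apply_eq]
      rcases hσ with ⟨h1, h2⟩ | ⟨h1, h2⟩ <;> rw [h1, h2]
      exact or_comm
    simp only [signedPerm, v44_apply, e]
    split_ifs with h1 h2 <;> simp_all
    rcases h2 with rfl | rfl <;> contradiction

/-- The monomial maps fixing the vector. -/
noncomputable def K2 : Subgroup (MulAction.stabilizer Co0 v44) := monoSub.subgroupOf _

/-- Their permutation part. -/
noncomputable def psi : K2 →* M24 :=
  permOf.comp (MonoidHom.mk' (fun k : K2 => (⟨((k : MulAction.stabilizer Co0 v44) : Co0), k.2⟩ : monoSub))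
    fun _ _ => rfl)

theorem exists_pair (k : K2) : ∃ p : M24 × CS, mono p = ((k : MulAction.stabilizer Co0 v44) : Co0) ∧
    psi k = p.1 ∧ PairFix (p.1 : Equiv.Perm GolayPt) ∧
      pa ∉ (p.2 : Finset GolayPt) ∧ pb ∉ (p.2 : Finset GolayPt) := by
  obtain ⟨p, hp⟩ := exists_mono' ⟨_, k.2⟩
  refine ⟨p, hp, permOf_spec hp, ?_⟩
  exact (fix_iff p).1 (hp.symm ▸ (k : MulAction.stabilizer Co0 v44).2)

/-- A monomial map in the subgroup. -/
noncomputable def mkK2 (p : M24 × CS) (h : PairFix (p.1 : Equiv.Perm GolayPt) ∧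
    pa ∉ (p.2 : Finset GolayPt) ∧ pb ∉ (p.2 : Finset GolayPt)) : K2 :=
  ⟨⟨mono p, (fix_iff p).2 h⟩, mono_mem p⟩

theorem psi_mkK2 (p : M24 × CS) (h) : psi (mkK2 p h) = p.1 := permOf_spec rfl

/-- The sign sets avoiding the pair. -/
abbrev CS2 : Type := {c : CS // pa ∉ (c : Finset GolayPt) ∧ pb ∉ (c : Finset GolayPt)}

theorem card_CS2 : Nat.card CS2 = 1024 := by
  have hcount : ((cw.filter fun n => !n.testBit 23 && !n.testBit 0).length) = 1024 := by
    decide +kernel
  have hlt : ∀ n ∈ cw, n < 2 ^ 24 := fun n hn => by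
    obtain ⟨k, hk, rfl⟩ := mem_cw.1 hn
    exact (enc_lt k hk).1
  let Φ : (cw.filter fun n => !n.testBit 23 && !n.testBit 0).toFinset → CS2 := fun n =>
    ⟨⟨toSet n, mem_supports.2 ⟨n, (List.mem_filter.1 (List.mem_toFinset.1 n.2)).1, rfl⟩⟩, by
      have h := (List.mem_filter.1 (List.mem_toFinset.1 n.2)).2
      simp only [Bool.and_eq_true, Bool.not_eq_true'] at h
      constructor <;> intro hm <;> rw [mem_toSet] at hm
      · exact Bool.noConfusion (h.1.symm.trans hm)
      · exact Bool.noConfusion (h.2.symm.trans hm)⟩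
  have hΦ : Function.Bijective Φ := by
    constructor
    · intro a b h
      exact Subtype.ext (toSet_inj (hlt _ (List.mem_filter.1 (List.mem_toFinset.1 a.2)).1)
        (hlt _ (List.mem_filter.1 (List.mem_toFinset.1 b.2)).1)
        (congrArg (fun c : CS2 => ((c : CS) : Finset GolayPt)) h))
    · rintro ⟨⟨c, hc⟩, hn1, hn2⟩
      obtain ⟨n, hn', rfl⟩ := mem_supports.1 hc
      refine ⟨⟨n, List.mem_toFinset.2 (List.mem_filter.2 ⟨hn', ?_⟩)⟩, rfl⟩
      rw [mem_toSet] at hn1 hn2
      simp only [M24Config.idx_none] at hn1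
      rw [show idx pb = 0 from M24Config.idx_zero] at hn2
      simp [hn1, hn2]
  rw [← Nat.card_eq_of_bijective _ hΦ, Nat.card_eq_fintype_card, Fintype.card_coe,
    List.toFinset_card_of_nodup (cw_nodup.filter _), hcount]

theorem card_K2 : Nat.card K2 = 908328960 := by
  classical
  obtain ⟨⟨τ, hτ⟩, hτa, hτb⟩ :=
    MathieuSimple.exists_two (p := pa) (q := pb) (p' := pb) (q' := pa) (by decide +kernel)
      (by decide +kernel)
  set T := MulAction.stabilizer M24 pa ⊓ MulAction.stabilizer M24 pb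
  let w : Bool → M24 := fun e => if e then ⟨τ, hτ⟩ else 1
  have hw : ∀ (e : Bool) (h : T), PairFix ((w e * h : M24) : Equiv.Perm GolayPt) ∧
      ((w e * h : M24) • pa = if e then pb else pa) := by
    intro e h
    have h1 : (h : M24) • pa = pa := h.2.1
    have h2 : (h : M24) • pb = pb := h.2.2
    cases e with
    | false =>
      simp only [w, Bool.false_eq_true, if_false, one_mul]
      exact ⟨Or.inl ⟨h1, h2⟩, h1⟩
    | true =>
      simp only [w, if_true]
      have e1 : (⟨τ, hτ⟩ * (h : M24) : M24) • pa = pb := by rw [mul_smul, h1]; exact hτa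
      have e2 : (⟨τ, hτ⟩ * (h : M24) : M24) • pb = pa := by rw [mul_smul, h2]; exact hτb
      exact ⟨Or.inr ⟨e1, e2⟩, e1⟩
  let Φ : (Bool × T) × CS2 → K2 := fun x =>
    mkK2 (w x.1.1 * x.1.2, x.2.1) ⟨(hw _ _).1, x.2.2⟩
  have hΦ : Function.Bijective Φ := by
    constructor
    · rintro ⟨⟨e, h⟩, c⟩ ⟨⟨e', h'⟩, c'⟩ heq
      have h0 := LeechMonomial.mono_injective
        (congrArg (fun k : K2 => ((k : MulAction.stabilizer Co0 v44) : Co0)) heq)
      have hp : w e * (h : M24) = w e' * h' := congrArg Prod.fst h0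
      have he : e = e' := by
        have := (hw e h).2.symm.trans ((congrArg (· • pa) hp).trans (hw e' h').2)
        cases e <;> cases e' <;> simp at this ⊢
      subst he
      obtain rfl : h = h' := Subtype.ext (mul_left_cancel hp)
      obtain rfl : c = c' := Subtype.ext (congrArg Prod.snd h0)
      rfl
    · intro k
      obtain ⟨p, hp, -, hσ, hc⟩ := exists_pair k
      rcases hσ with ⟨h1, h2⟩ | ⟨h1, h2⟩
      · refine ⟨((false, ⟨p.1, ⟨h1, h2⟩⟩), ⟨p.2, hc⟩), Subtype.ext (Subtype.ext ?_)⟩
        show mono _ = _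
        simp [w, hp]
      · refine ⟨((true, ⟨(⟨τ, hτ⟩ : M24)⁻¹ * p.1, ⟨?_, ?_⟩⟩), ⟨p.2, hc⟩), Subtype.ext (Subtype.ext ?_)⟩
        · show ((⟨τ, hτ⟩ : M24)⁻¹ * p.1) • pa = pa
          rw [mul_smul, inv_smul_eq_iff, hτa]
          exact h1
        · show ((⟨τ, hτ⟩ : M24)⁻¹ * p.1) • pb = pb
          rw [mul_smul, inv_smul_eq_iff, hτb]
          exact h2
        · show mono _ = _
          simp [w, hp]
  rw [← Nat.card_eq_of_bijective Φ hΦ, Nat.card_prod, Nat.card_prod, card_CS2,
    MathieuSimple.card_stab_two (by decide +kernel), Nat.card_eq_fintype_card, Fintype.card_bool]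

/-- Words avoiding the pair separate the other points. -/
theorem separates (i j : GolayPt) (hi : i ≠ pa ∧ i ≠ pb) (hij : i ≠ j) :
    ∃ c : CS2, ¬ (i ∈ ((c : CS) : Finset GolayPt) ↔ j ∈ ((c : CS) : Finset GolayPt)) := by
  have h : ∀ i j : GolayPt, i ≠ pa ∧ i ≠ pb → i ≠ j → ∃ k : Fin 4096, (enc k).testBit 23 = false ∧
      (enc k).testBit 0 = false ∧ (enc k).testBit (idx i) ≠ (enc k).testBit (idx j) := by
    have hg : ∀ i j : GolayPt, i ≠ pa ∧ i ≠ pb → i ≠ j →
        ((List.range 4096).any fun k => !(enc k).testBit 23 && !(enc k).testBit 0 &&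
          ((enc k).testBit (idx i) != (enc k).testBit (idx j))) = true := by decide +kernel
    intro i j hi hij
    obtain ⟨k, hk, hb⟩ := List.any_eq_true.1 (hg i j hi hij)
    simp only [Bool.and_eq_true, Bool.not_eq_true', bne_iff_ne] at hb
    exact ⟨⟨k, List.mem_range.1 hk⟩, hb.1.1, hb.1.2, hb.2⟩
  obtain ⟨k, h1, h2, h3⟩ := h i j hi hij
  refine ⟨⟨⟨toSet (enc k), by rw [← support₂_word]; exact LeechBasic.mem_supports_word (word_enc_mem k)⟩,
    ?_, ?_⟩, fun hiff => h3 ?_⟩
  · rw [mem_toSet, M24Config.idx_none, h1]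
    exact Bool.false_ne_true
  · rw [mem_toSet, show idx pb = 0 from M24Config.idx_zero, h2]
    exact Bool.false_ne_true
  · simp only [mem_toSet] at hiff
    exact Bool.eq_iff_iff.2 hiff

theorem pair_word : word (enc 4) pa + word (enc 4) pb = 1 ∧ word (enc 4) pb + word (enc 4) pa = 1 := by
  decide +kernel

/-- An abelian normal subgroup of order 2048 does not exist. -/
theorem no_normal_2048 (N : Subgroup (MulAction.stabilizer Co0 v44)) [N.Normal]
    (hN : Nat.card N = 2 ^ 11) (hab : ∀ x ∈ N, ∀ y ∈ N, x * y = y * x)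
    (hG : Nat.card (MulAction.stabilizer Co0 v44) = 42305421312000) : False := by
  classical
  have : Finite (MulAction.stabilizer Co0 v44) := Nat.finite_of_card_ne_zero (by rw [hG]; norm_num)
  have := Fact.mk Nat.prime_two
  have hNK : N ≤ K2 := by
    let Q : Sylow 2 K2 := default
    have hQ : Nat.card (Q : Subgroup K2) = 2 ^ 18 := by
      rw [Q.card_eq_multiplicity, card_K2, show (908328960 : ℕ) = 2 ^ 18 * 3465 by norm_num,
        Nat.factorization_mul (by norm_num) (by norm_num), Finsupp.add_apply,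
        Nat.Prime.factorization_pow Nat.prime_two, Finsupp.single_eq_same,
        Nat.factorization_eq_zero_of_not_dvd (n := 3465) (p := 2) (by norm_num)]
    set Q' := (Q : Subgroup K2).map K2.subtype with hQ'
    have hQ'c : Nat.card Q' = 2 ^ 18 :=
      (Nat.card_congr ((Q : Subgroup K2).equivMapOfInjective _ K2.subtype_injective).toEquiv).symm.trans hQ
    have hp : IsPGroup 2 ↥(N ⊔ Q') :=
      IsPGroup.to_sup_of_normal_left (IsPGroup.of_card hN) (IsPGroup.of_card hQ'c)
    obtain ⟨k, hk⟩ := IsPGroup.iff_card.1 hp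
    have hk18 : k ≤ 18 := by
      by_contra hk18
      have h19 : 2 ^ 19 ∣ 42305421312000 := by
        rw [← hG]
        exact ((pow_dvd_pow 2 (show 19 ≤ k by omega)).trans (by rw [← hk])).trans
          (Subgroup.card_subgroup_dvd_card _)
      norm_num at h19
    have he : Q' = N ⊔ Q' := Subgroup.eq_of_le_of_card_ge le_sup_right (by
      rw [hQ'c, hk]; exact Nat.pow_le_pow_right two_pos hk18)
    exact le_sup_left.trans (he.symm.le.trans (Subgroup.map_subtype_le _))
  set N' := N.subgroupOf K2 with hN'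
  have hN'c : Nat.card N' = 2 ^ 11 := (Nat.card_congr (Subgroup.subgroupOfEquivOfLe hNK).toEquiv).trans hN
  set T := MulAction.stabilizer M24 pa ⊓ MulAction.stabilizer M24 pb with hT
  have hTsimple : IsSimpleGroup T := MathieuSimple.isSimple_M22 (by decide +kernel)
  have hTrange : ∀ t ∈ T, ∃ k : K2, psi k = t := fun t ht =>
    ⟨mkK2 (t, ⟨∅, LeechReach.empty_mem_CS⟩) ⟨Or.inl ⟨ht.1, ht.2⟩, Finset.notMem_empty _,
      Finset.notMem_empty _⟩, psi_mkK2 _ _⟩
  have hJ : (N'.map psi).subgroupOf T = ⊥ := by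
    have hn : ((N'.map psi).subgroupOf T).Normal := by
      refine ⟨fun j hj g => ?_⟩
      obtain ⟨n, hn, e⟩ := hj
      obtain ⟨k, hk⟩ := hTrange g g.2
      have hn' : (N.subgroupOf K2).Normal := inferInstance
      refine ⟨k * n * k⁻¹, hn'.conj_mem n hn k, ?_⟩
      rw [map_mul, map_mul, map_inv, hk, e]
      rfl
    refine hn.eq_bot_or_eq_top.resolve_right fun h => ?_
    rw [Subgroup.subgroupOf_eq_top] at h
    have h1 := (Subgroup.card_dvd_of_le h).trans (Subgroup.card_map_dvd _ psi)
    rw [hN'c, MathieuSimple.card_stab_two (by decide +kernel)] at h1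
    norm_num at h1
  -- the sign part of the subgroup
  set A := (psi.comp N'.subtype).ker with hA
  have himage : Nat.card (psi.comp N'.subtype).range ≤ 2 := by
    rw [← Fintype.card_bool, ← Nat.card_eq_fintype_card]
    refine Nat.card_le_card_of_injective (fun x : (psi.comp N'.subtype).range =>
      decide ((x : M24) • pa = pa)) ?_
    rintro ⟨x, n, rfl⟩ ⟨y, m, rfl⟩ h
    simp only [decide_eq_decide] at h
    have hpair : ∀ n : N', (psi n • pa = pa ∧ psi n • pb = pb) ∨ (psi n • pa = pb ∧ psi n • pb = pa) :=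
      fun n => by
        obtain ⟨p, -, hψ, hσ, -⟩ := exists_pair n
        rw [hψ]
        exact hσ
    have hmem : (psi n)⁻¹ * psi m ∈ (N'.map psi) ⊓ T := by
      refine ⟨⟨(n : K2)⁻¹ * m, mul_mem (inv_mem n.2) m.2, by rw [map_mul, map_inv]⟩, ?_⟩
      have hne : pb ≠ pa := by decide +kernel
      change (psi n • pa = pa ↔ psi m • pa = pa) at h
      rcases hpair n with ⟨h1, h2⟩ | ⟨h1, h2⟩ <;> rcases hpair m with ⟨h3, h4⟩ | ⟨h3, h4⟩
      · exact ⟨by simp [MulAction.mem_stabilizer_iff, mul_smul, inv_smul_eq_iff, h1, h3],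
          by simp [MulAction.mem_stabilizer_iff, mul_smul, inv_smul_eq_iff, h2, h4]⟩
      · exact absurd (h3.symm.trans (h.1 h1)) hne
      · exact absurd (h1.symm.trans (h.2 h3)) hne
      · exact ⟨by simp [MulAction.mem_stabilizer_iff, mul_smul, inv_smul_eq_iff, h2, h3, h1],
          by simp [MulAction.mem_stabilizer_iff, mul_smul, inv_smul_eq_iff, h1, h4, h2]⟩
    have hbot : (⟨_, hmem.2⟩ : T) ∈ (N'.map psi).subgroupOf T := hmem.1
    rw [hJ, Subgroup.mem_bot] at hbot
    exact Subtype.ext (inv_mul_eq_one.1 (congrArg Subtype.val hbot))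
  have hAsign : ∀ x : A, ∃ c : CS2, mono ((1 : M24), (c : CS)) =
      (((x : N') : K2) : MulAction.stabilizer Co0 v44).1 := by
    intro x
    obtain ⟨⟨σ, c⟩, hp, hψ, -, hc⟩ := exists_pair ((x : N') : K2)
    obtain rfl : σ = 1 := hψ.symm.trans x.2
    exact ⟨⟨c, hc⟩, hp⟩
  choose f hf using hAsign
  have hfinj : Function.Injective f := fun x y e => by
    refine Subtype.ext (Subtype.ext (Subtype.ext (Subtype.ext ?_)))
    rw [← hf x, ← hf y, e]
  have hcard : 2 ^ 11 ≤ Nat.card A * 2 := by
    rw [← hN'c, Subgroup.card_eq_card_quotient_mul_card_subgroup A,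
      Nat.card_congr (QuotientGroup.quotientKerEquivRange (psi.comp N'.subtype)).toEquiv, mul_comm]
    exact Nat.mul_le_mul_left _ himage
  have hA1024 : Nat.card A ≤ 1024 := card_CS2 ▸ Nat.card_le_card_of_injective f hfinj
  have hfsurj : Function.Surjective f :=
    ((Nat.bijective_iff_injective_and_card f).2 ⟨hfinj, by rw [card_CS2]; omega⟩).2
  -- commuting with all of them forces a trivial permutation
  have hall : ∀ n : N', psi n = 1 := by
    intro n
    obtain ⟨⟨σ, c⟩, hp, hψ, hσ, -, -⟩ := exists_pair (n : K2)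
    rw [hψ]
    have hfix : ∀ i, i ≠ pa → i ≠ pb → (σ : Equiv.Perm GolayPt) i = i := by
      intro i hia hib
      by_contra hne
      obtain ⟨c', hc'⟩ := separates i ((σ : Equiv.Perm GolayPt) i) ⟨hia, hib⟩ (Ne.symm hne)
      obtain ⟨x, rfl⟩ := hfsurj c'
      refine hc' ?_
      have hcomm : (x : N').1.1 * (n : K2).1 = (n : K2).1 * (x : N').1.1 := hab _ (x : N').2 _ n.2
      have h := congrArg (fun g : MulAction.stabilizer Co0 v44 =>
        ((((g : Co0) • LeechCenter.unitVec i : leechLattice) : GolayPt → ℤ)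
          ((σ : Equiv.Perm GolayPt) i))) hcomm
      simp only [Subgroup.coe_mul, mul_smul, ← hp, ← hf x, LeechMonomial.mono_apply] at h
      simp only [signedPerm, LeechCenter.unitVec, Equiv.symm_apply_apply, OneMemClass.coe_one,
        Pi.single_eq_same, show ∀ q : GolayPt, (1 : Equiv.Perm GolayPt).symm q = q from fun _ => rfl]
        at h
      constructor <;> intro hi <;> by_contra hj <;> revert h <;>
        by_cases hcσ : (σ : Equiv.Perm GolayPt) i ∈ (c : Finset GolayPt) <;> simp [hi, hj, hcσ]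
    refine Subtype.ext (eq_one_of_fix_base σ.2 fun l hl => ?_)
    have hfacts : bpt 0 = pa ∧ bpt 1 = pb ∧ ∀ l < 7, 2 ≤ l → bpt l ≠ pa ∧ bpt l ≠ pb := by
      decide +kernel
    rcases (show l = 0 ∨ l = 1 ∨ 2 ≤ l by omega) with rfl | rfl | h2
    rotate_right
    · exact hfix _ (hfacts.2.2 l hl h2).1 (hfacts.2.2 l hl h2).2
    all_goals
      rcases hσ with ⟨h1, h2⟩ | ⟨h1, h2⟩
      · first
          | rw [hfacts.1]; exact h1
          | rw [hfacts.2.1]; exact h2
      · exfalso
        -- a transposition does not preserve the code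
        have hw : word (enc 4) ∈ golayCode := word_enc_mem 4
        have hw' := add_mem (LeechBasic.comp_mem_code σ.2 hw) hw
        have hval : ∀ q, ((fun i => word (enc 4) ((σ : Equiv.Perm GolayPt) i)) + word (enc 4)) q =
            if q = pa ∨ q = pb then 1 else 0 := by
          intro q
          simp only [Pi.add_apply]
          rcases eq_or_ne q pa with rfl | hqa
          · rw [h1, if_pos (Or.inl rfl)]; exact pair_word.2
          · rcases eq_or_ne q pb with rfl | hqb
            · rw [h2, if_pos (Or.inr rfl)]; exact pair_word.1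
            · rw [hfix q hqa hqb, if_neg (by tauto)]
              exact CharTwo.add_self_eq_zero _
        have h8 := (LeechBasic.card_support hw').2 fun e0 => by
          have := congrFun e0 pa
          rw [hval, if_pos (Or.inl rfl)] at this
          exact one_ne_zero this
        have hle : (support₂ ((fun i => word (enc 4) ((σ : Equiv.Perm GolayPt) i)) + word (enc 4))).card
            ≤ 2 := by
          refine (Finset.card_le_card (t := {pa, pb}) fun q hq => ?_).trans Finset.card_le_two
          simp only [support₂, Finset.mem_filter, hval] at hq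
          by_contra hne
          simp only [Finset.mem_insert, Finset.mem_singleton] at hne
          rw [if_neg hne] at hq
          exact hq.2 rfl
        omega
  have hAtop : A = ⊤ := eq_top_iff.2 fun n _ => hall n
  rw [hAtop, Subgroup.card_top, hN'c] at hA1024
  norm_num at hA1024

theorem prime_cases (p e : ℕ) (hp : p.Prime) (he : 1 ≤ e) (hpe : p ^ e ∣ 42305421312000)
    (hmod : p ^ e % 23 = 1) : p = 2 ∧ e = 11 := by
  have hp' : p = 2 ∨ p = 3 ∨ p = 5 ∨ p = 7 ∨ p = 11 ∨ p = 23 := by
    have h1 : p ∣ 2 ^ 18 * 3 ^ 6 * 5 ^ 3 * 7 * 11 * 23 := (dvd_pow_self p (by omega : e ≠ 0)).trans hpe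
    have q : ∀ r : ℕ, r.Prime → p ∣ r → p = r := fun r hr h => (Nat.prime_dvd_prime_iff_eq hp hr).1 h
    simp only [Nat.Prime.dvd_mul hp] at h1
    rcases h1 with ((((h1 | h1) | h1) | h1) | h1) | h1
    · exact Or.inl (q 2 Nat.prime_two (hp.dvd_of_dvd_pow h1))
    · exact Or.inr (Or.inl (q 3 Nat.prime_three (hp.dvd_of_dvd_pow h1)))
    · exact Or.inr (Or.inr (Or.inl (q 5 Nat.prime_five (hp.dvd_of_dvd_pow h1))))
    · exact Or.inr (Or.inr (Or.inr (Or.inl (q 7 (by norm_num) h1))))
    · exact Or.inr (Or.inr (Or.inr (Or.inr (Or.inl (q 11 (by norm_num) h1)))))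
    · exact Or.inr (Or.inr (Or.inr (Or.inr (Or.inr (q 23 (by norm_num) h1)))))
  have he' : e ≤ 18 := by
    by_contra he'
    have h7 : p ^ 19 ∣ 42305421312000 := (pow_dvd_pow p (by omega)).trans hpe
    rcases hp' with rfl | rfl | rfl | rfl | rfl | rfl <;> norm_num at h7
  rcases hp' with rfl | rfl | rfl | rfl | rfl | rfl <;> interval_cases e <;> simp_all

theorem isSimpleGroup_stab : IsSimpleGroup (MulAction.stabilizer Co0 v32) := by
  have : Finite (MulAction.stabilizer Co0 v32) :=
    Nat.finite_of_card_ne_zero (by rw [card_stab]; norm_num)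
  have : Nontrivial (MulAction.stabilizer Co0 v32) := by
    rw [← Finite.one_lt_card_iff_nontrivial, card_stab]
    norm_num
  have key : ∀ M : Subgroup (MulAction.stabilizer Co0 v32), M.Normal → M ≠ ⊤ → M ≠ ⊥ →
      Nat.card M = 2 ^ 11 := by
    intro M hM htop hbot
    rcases @eq_top_or_mod (-3) odd_ok.1 (by norm_num)
      (show ¬ 23 ^ 2 ∣ Nat.card (MulAction.stabilizer Co0 v32) by rw [card_stab]; norm_num) M hM
      with h | h
    · exact absurd h htop
    have hd : Nat.card M ∣ 42305421312000 := card_stab ▸ Subgroup.card_subgroup_dvd_card M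
    have h2 : ∀ p, p.Prime → p ∣ Nat.card M → p = 2 ∧ (Nat.card M).factorization p = 11 := by
      intro p hp hpd
      have hmod : p ^ (Nat.card M).factorization p % 23 = 1 := h p hp
      exact prime_cases p _ hp ((hp.dvd_iff_one_le_factorization Nat.card_pos.ne').1 hpd)
        ((Nat.ordProj_dvd _ p).trans hd) hmod
    have h1 : Nat.card M ≠ 1 := fun h1 => hbot (Subgroup.eq_bot_of_card_eq _ h1)
    have hpow := Nat.eq_prime_pow_of_unique_prime_dvd Nat.card_pos.ne' fun {d} hd1 hd2 => (h2 d hd1 hd2).1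
    obtain ⟨p, hp, hpd⟩ := Nat.exists_prime_and_dvd h1
    have := (h2 p hp hpd).2
    rw [(h2 p hp hpd).1] at this
    have e : (Nat.card M).primeFactorsList.length = (Nat.card M).factorization 2 := by
      conv_rhs => rw [hpow]
      rw [Nat.Prime.factorization_pow Nat.prime_two, Finsupp.single_eq_same]
    rw [hpow, e, this]
  refine ⟨fun N hN => ?_⟩
  by_contra! hcon
  obtain ⟨hbot, htop⟩ := hcon
  have hc := key N hN htop hbot
  have : Fact (Nat.Prime 2) := ⟨Nat.prime_two⟩
  have hNp : IsPGroup 2 N := IsPGroup.of_card hc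
  have : Nontrivial N := Finite.one_lt_card_iff_nontrivial.1 (by rw [hc]; norm_num)
  have hZne := hNp.center_nontrivial
  set Z := (Subgroup.center N).map N.subtype with hZ
  have hZn : Z.Normal := ConjAct.normal_of_characteristic_of_normal
  have hZb : Z ≠ ⊥ := by
    rw [hZ, ne_eq, Subgroup.map_eq_bot_iff_of_injective _ N.subtype_injective]
    exact (Subgroup.nontrivial_iff_ne_bot _).1 hZne
  have hZt : Z ≠ ⊤ := fun e => htop (eq_top_iff.2 (e ▸ Subgroup.map_subtype_le _))
  have hZc := key Z hZn hZt hZb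
  rw [hZ, Nat.card_congr ((Subgroup.center N).equivMapOfInjective _ N.subtype_injective).toEquiv.symm]
    at hZc
  have hcomm : Subgroup.center N = ⊤ := Subgroup.eq_top_of_card_eq _ (hZc.trans hc.symm)
  obtain ⟨g, hg⟩ := LeechTransitive.transitive32 v32 v44 norm_v32 norm_v44
  let e := MulAction.stabilizerEquivStabilizer hg.symm
  have hnormal : (N.map e.toMonoidHom).Normal := hN.map _ e.surjective
  refine no_normal_2048 (N.map e.toMonoidHom) ?_ ?_ ?_
  · rw [← hc]
    exact (Nat.card_congr (N.equivMapOfInjective _ e.injective).toEquiv).symm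
  · rintro _ ⟨x, hx, rfl⟩ _ ⟨y, hy, rfl⟩
    have hxy : (⟨x, hx⟩ : N) * ⟨y, hy⟩ = ⟨y, hy⟩ * ⟨x, hx⟩ := by
      have hmem : (⟨y, hy⟩ : N) ∈ Subgroup.center N := hcomm ▸ Subgroup.mem_top _
      exact Subgroup.mem_center_iff.1 hmem _
    rw [← map_mul, ← map_mul]
    exact congrArg e.toMonoidHom (congrArg Subtype.val hxy)
  · rw [← Nat.card_congr e.toEquiv, card_stab]

theorem isCo2 (v : leechLattice) (hv : sqNorm (v : GolayPt → ℤ) = 32) :
    IsCo2 (MulAction.stabilizer Co0 v) := by
  obtain ⟨g, hg⟩ := LeechTransitive.transitive32 v32 v norm_v32 hv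
  let e := MulAction.stabilizerEquivStabilizer hg.symm
  refine ⟨?_, ?_⟩
  · have := isSimpleGroup_stab
    exact MathieuSimple.isSimpleGroup_congr' e
  · rw [← Nat.card_congr e.toEquiv, card_stab]

end CfsgLib.SmallGroups.LeechCo2
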