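import Cfsg.Agent.Lib.SmallGroups.LeechEnum

/-!
# Bounding the number of minimal vectors with a property by the parameters of the shapes

The minimal vectors are given by a pair of positions and signs, an octad with an even set of signs,
or a code word and a position; a property read off from the parameters bounds its number.
-/

set_option autoImplicit false
set_option maxRecDepth 10000

namespace CfsgLib.SmallGroups.LeechParamCount

open Cfsg CfsgLib.SmallGroups.Golay CfsgLib.SmallGroups.GolayOctads CfsgLib.SmallGroups.M24Group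
  CfsgLib.SmallGroups.LeechBasic CfsgLib.SmallGroups.LeechEnum
open scoped Pointwise

attribute [local irreducible] pc enc cw cwOfWeight

/-- Tests on the parameters. -/
structure Test where
  /-- The test on pairs. -/
  pair : ℕ → ℕ → ℤ → ℤ → Bool
  /-- The test on octads with signs. -/
  oct : ℕ → ℕ → ℕ → Bool
  /-- A test on code words that is implied by the next one. -/
  oddPre : ℕ → Bool
  /-- The test on code words with a position. -/
  odd : ℕ → ℕ → Bool

/-- The signs of a pair. -/
def signs : List (ℤ × ℤ) := [(4, 4), (4, -4), (-4, 4), (-4, -4)]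

/-- The number of pair parameters passing a test. -/
def cntPair (t : Test) : ℕ :=
  ((List.range 24).map fun i => ((List.range 24).map fun j =>
    if i < j then signs.countP fun ab => t.pair i j ab.1 ab.2 else 0).sum).sum

/-- The number of octad parameters passing a test. -/
def cntOct (t : Test) : ℕ :=
  ((cwOfWeight 8).map fun o => ([0, 2, 4, 6, 8].map fun k =>
    (combos (bitsOf o) k).countP fun n => t.oct o k n).sum).sum

/-- The number of odd parameters passing a test. -/
def cntOdd (t : Test) : ℕ :=
  ((List.range 4096).map fun k =>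
    if t.oddPre (enc k) then (List.range 24).countP fun p => t.odd (enc k) p else 0).sum

/-- The number of parameters passing a test. -/
def cnt (t : Test) : ℕ := cntPair t + cntOct t + cntOdd t

/-- The vector of position data. -/
def ofPos (f : ℕ → ℤ) : GolayPt → ℤ := fun r => f (idx r)

/-- The vectors of the pair parameters passing a test. -/
def lPair (t : Test) : List (GolayPt → ℤ) :=
  (List.range 24).flatMap fun i => (List.range 24).flatMap fun j =>
    if i < j then (signs.filter fun ab => t.pair i j ab.1 ab.2).map fun ab =>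
      ofPos (pairF i j ab.1 ab.2) else []

/-- The vectors of the octad parameters passing a test. -/
def lOct (t : Test) : List (GolayPt → ℤ) :=
  (cwOfWeight 8).flatMap fun o => [0, 2, 4, 6, 8].flatMap fun k =>
    ((combos (bitsOf o) k).filter fun n => t.oct o k n).map fun n => ofPos (octF o n)

/-- The vectors of the odd parameters passing a test. -/
def lOdd (t : Test) : List (GolayPt → ℤ) :=
  (List.range 4096).flatMap fun k =>
    if t.oddPre (enc k) then ((List.range 24).filter fun p => t.odd (enc k) p).map fun p =>
      ofPos (oddF (enc k) p) else []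

theorem length_lists (t : Test) : (lPair t ++ lOct t ++ lOdd t).length = cnt t := by
  have h1 : ∀ (c : Prop) [Decidable c] (l : List (GolayPt → ℤ)),
      (if c then l else []).length = if c then l.length else 0 := by
    intro c _ l; split <;> rfl
  simp only [cnt, cntPair, cntOct, cntOdd, lPair, lOct, lOdd, List.length_append,
    List.length_flatMap, h1, List.length_map, List.countP_eq_length_filter]

/-- The test holds at the parameters of every vector with the property. -/
structure Sound (t : Test) (P : (GolayPt → ℤ) → Prop) : Prop where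
  /-- Pairs. -/
  pair : ∀ i j a b, i < 24 → j < 24 → i ≠ j → P (ofPos (pairF i j a b)) → t.pair i j a b = true
  /-- Octads. -/
  oct : ∀ o n k, o ∈ cwOfWeight 8 → toSet n ⊆ toSet o → pc n = k → P (ofPos (octF o n)) →
    t.oct o k n = true
  /-- Odd vectors. -/
  odd : ∀ c p, p < 24 → P (ofPos (oddF c p)) → t.oddPre c = true ∧ t.odd c p = true

theorem ncard_le {t : Test} {P : (GolayPt → ℤ) → Prop} (ht : Sound t P) :
    {x : GolayPt → ℤ | Good x ∧ sqNorm x = 32 ∧ P x}.ncard ≤ cnt t := by
  classical
  rw [← length_lists]
  refine le_trans (Set.ncard_le_ncard (t := ↑(lPair t ++ lOct t ++ lOdd t).toFinset) ?_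
    (Finset.finite_toSet _)) ((Set.ncard_coe_finset _).trans_le (List.toFinset_card_le _))
  rintro x ⟨hx, hN, hP⟩
  simp only [List.coe_toFinset, Set.mem_ofPred_eq, List.mem_append]
  rcases shapes32 hx hN with ⟨p, q, a, b, hpq, ha, hb, hval⟩ | ⟨o, ho, n, hsub, hpar, hval⟩ |
    ⟨k, p, hk, hval⟩
  · refine Or.inl (Or.inl ?_)
    have hne : idx p ≠ idx q := fun e => hpq (idx_injective e)
    simp only [lPair, List.mem_flatMap, List.mem_range]
    have hab : (a, b) ∈ signs ∧ (b, a) ∈ signs := by
      rcases ha with rfl | rfl <;> rcases hb with rfl | rfl <;> simp [signs]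
    have key : ∀ i j a b, i < 24 → j < 24 → i < j → (a, b) ∈ signs → x = ofPos (pairF i j a b) →
        ∃ i' < 24, ∃ j' < 24, x ∈ if i' < j' then
          (signs.filter fun ab => t.pair i' j' ab.1 ab.2).map fun ab =>
            ofPos (pairF i' j' ab.1 ab.2) else [] := by
      intro i j a b hi hj hij hs he
      refine ⟨i, hi, j, hj, ?_⟩
      rw [if_pos hij, List.mem_map]
      exact ⟨(a, b), List.mem_filter.2 ⟨hs, ht.pair i j a b hi hj hij.ne (he ▸ hP)⟩, he.symm⟩
    rcases lt_or_gt_of_ne hne with hlt | hgt
    · exact key _ _ a b (idx_lt p) (idx_lt q) hlt hab.1 (funext hval)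
    · refine key _ _ b a (idx_lt q) (idx_lt p) hgt hab.2 (funext fun r => ?_)
      rw [hval r]
      simp only [ofPos, pairF, beq_iff_eq]
      split_ifs with h1 h2 <;> first | rfl | exact absurd (h1.symm.trans h2) hne
  · refine Or.inl (Or.inr ?_)
    have hnd : (bitsOf o).Nodup := List.nodup_range.filter _
    have hS : ((toSet n).image idx) ⊆ (bitsOf o).toFinset := fun i hi => by
      obtain ⟨r, hr, rfl⟩ := Finset.mem_image.1 hi
      simp only [bitsOf, List.mem_toFinset, List.mem_filter, List.mem_range]
      exact ⟨idx_lt r, mem_toSet.1 (hsub hr)⟩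
    obtain ⟨m, hm, hmbit⟩ := exists_combo (bitsOf o) (pc n) hnd _ hS
      (by rw [Finset.card_image_of_injective _ idx_injective, card_toSet])
    have hbit : ∀ r, m.testBit (idx r) = n.testBit (idx r) := fun r => by
      rw [Bool.eq_iff_iff, hmbit, ← mem_toSet]
      exact idx_injective.mem_finset_image
    have hset : toSet m = toSet n := by ext r; simp [hbit r]
    have he : x = ofPos (octF o m) := funext fun r => by
      rw [hval r]; simp only [ofPos, octF, hbit]
    have hkle : pc n ≤ 8 := by
      rw [← card_toSet, ← (mem_cwOfWeight.1 ho).2, ← card_toSet o]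
      exact Finset.card_le_card hsub
    simp only [lOct, List.mem_flatMap]
    refine ⟨o, ho, pc n, ?_, List.mem_map.2 ⟨m, List.mem_filter.2 ⟨hm, ?_⟩, he.symm⟩⟩
    · simp only [List.mem_cons, List.not_mem_nil, or_false]
      omega
    · exact ht.oct o m _ ho (hset ▸ hsub) (by rw [← card_toSet, hset, card_toSet]) (he ▸ hP)
  · refine Or.inr ?_
    have he : x = ofPos (oddF (enc k) (idx p)) := funext hval
    obtain ⟨h1, h2⟩ := ht.odd (enc k) (idx p) (idx_lt p) (he ▸ hP)
    simp only [lOdd, List.mem_flatMap, List.mem_range]
    refine ⟨k, hk, ?_⟩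
    rw [if_pos h1, List.mem_map]
    exact ⟨idx p, List.mem_filter.2 ⟨List.mem_range.2 (idx_lt p), h2⟩, he.symm⟩

/-! ### The inner product with `(5, 1, ..., 1)` -/

theorem sum_pairF {i j : ℕ} (hi : i < 24) (hj : j < 24) (hij : i ≠ j) (a b : ℤ) :
    ∑ r : GolayPt, pairF i j a b (idx r) = a + b := by
  have hne : pt i ≠ pt j := fun e => hij (by rw [← idx_pt hi, ← idx_pt hj, e])
  rw [← Finset.sum_subset (Finset.subset_univ ({pt i, pt j} : Finset GolayPt)) fun r _ hr => by
      simp only [Finset.mem_insert, Finset.mem_singleton, not_or] at hr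
      have h1 : idx r ≠ i := fun e => hr.1 (by rw [← pt_idx r, e])
      have h2 : idx r ≠ j := fun e => hr.2 (by rw [← pt_idx r, e])
      simp [pairF, h1, h2],
    Finset.sum_pair hne, idx_pt hi, idx_pt hj]
  simp [pairF, hij.symm]

/-- The test for the inner product `d` with `(5, 1, ..., 1)`. -/
def test48 (d : ℤ) : Test where
  pair i j a b := 4 * pairF i j a b 23 + (a + b) == d
  oct o k n := dOct o n k == d
  oddPre c := oddPossible d c
  odd c p := dOdd c p == d

theorem sound48 (d : ℤ) :
    Sound (test48 d) fun x => dotInt (LeechReach.pv 1 [5]) x = d := by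
  refine ⟨?_, ?_, ?_⟩
  · intro i j a b hi hj hij h
    simp only [dot48, ofPos, sum_pairF hi hj hij, Sporadic.M24Config.idx_none] at h
    exact beq_iff_eq.2 h
  · intro o n k ho hsub hk h
    simp only [dot48, ofPos, sum_octF hsub, (mem_cwOfWeight.1 ho).2, Sporadic.M24Config.idx_none,
      hk] at h
    refine beq_iff_eq.2 ?_
    rw [dOct_eq, ← h]
    norm_num
  · intro c p hp h
    obtain ⟨r, rfl⟩ : ∃ r, idx r = p := ⟨pt p, idx_pt hp⟩
    simp only [dot48, ofPos, sum_oddF, Sporadic.M24Config.idx_none] at h
    have h' : dOdd c (idx r) = d := h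
    exact ⟨h' ▸ oddPossible_self c (idx r), beq_iff_eq.2 h'⟩

/-! ### The inner product with `(4, 4, 0, ..., 0)` -/

/-- The test for the inner product with `(4, 4, 0, ..., 0)` being, or not being, `d`. -/
def test44 (d : ℤ) (eq : Bool) : Test where
  pair i j a b := (4 * (pairF i j a b 23 + pairF i j a b 0) == d) == eq
  oct o _ n := (4 * (octF o n 23 + octF o n 0) == d) == eq
  oddPre _ := true
  odd c p := (4 * (oddF c p 23 + oddF c p 0) == d) == eq

theorem sound44 (d : ℤ) (eq : Bool) : Sound (test44 d eq)
    fun x => (decide (4 * (x none + x (some 0)) = d)) = eq := by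
  have key : ∀ (f : ℕ → ℤ), decide (4 * (ofPos f none + ofPos f (some 0)) = d) = eq →
      ((4 * (f 23 + f 0) == d) == eq) = true := fun f h => by
    simp only [ofPos, Sporadic.M24Config.idx_none, Sporadic.M24Config.idx_zero] at h
    rw [← h]
    exact beq_iff_eq.2 rfl
  exact ⟨fun i j a b _ _ _ h => key _ h, fun o n k _ _ _ h => key _ h,
    fun c p _ h => ⟨rfl, key _ h⟩⟩

theorem count16 : cnt (test48 16) = 11178 := by decide +kernel

end CfsgLib.SmallGroups.LeechParamCount
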