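import Cfsg.Agent.Lib.SmallGroups.LeechMcL
import Cfsg.Agent.Lib.SmallGroups.LeechHSData
import Cfsg.Agent.Lib.SmallGroups.LeechCo2
import Cfsg.Agent.Lib.SmallGroups.LeechParamCount

/-!
# The Higman–Sims configuration in the lattice

Two vectors of square norm 48 with inner product `-32` have a joint stabiliser that is simple of
order 44352000 and has rank 3 on 100 points.
-/

set_option autoImplicit false
set_option maxRecDepth 10000

namespace CfsgLib.SmallGroups.LeechHS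

open Cfsg CfsgLib.SmallGroups.Golay CfsgLib.SmallGroups.LeechOrbit CfsgLib.SmallGroups.LeechEnum
  CfsgLib.SmallGroups.LeechLists CfsgLib.SmallGroups.LeechVectorStab CfsgLib.SmallGroups.LeechPairs
  CfsgLib.SmallGroups.LeechMcL
open scoped Pointwise

/-- The code number of `(4, -4, 0, ..., 0)`. -/
def kZ : ℕ := 62062060636173731114942761092

theorem facts : LeechReach.okGood 0 (Pk kZ) = true ∧ dotK kU kZ = 16 ∧ dotK kZ kZ = 32 ∧
    dotK kZ kV = 0 ∧ (Pk kZ none = 4 ∧ Pk kZ LeechTwoPoint.pb = -4 ∧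
      ∀ q, q ≠ none → q ≠ LeechTwoPoint.pb → Pk kZ q = 0) ∧
    (∀ q, Pk kV q + Pk kZ q = (Pi.single none 8 : GolayPt → ℤ) q) ∧
    LeechHSData.tree100.has kV = true ∧
    LeechHSData.tree100.has 47536897508558602556126370137 = true ∧
    LeechHSData.tree100.has 52777520413600321436643788938 = true ∧
    dotK kV 47536897508558602556126370137 = 8 ∧ dotK kV 52777520413600321436643788938 = 16 := by
  decide +kernel

theorem kZ_mem : Pk kZ ∈ leechLattice :=
  LeechBasic.mem_lattice.2 (LeechReach.good_of_ok facts.1)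

/-- The lattice vector `(4, -4, 0, ..., 0)`. -/
noncomputable def vZ : leechLattice := ⟨Pk kZ, kZ_mem⟩

theorem coe_vZ : (vZ : GolayPt → ℤ) = Pk kZ := rfl

theorem two_vZ : LeechTwoPoint.Two vZ (-4) := ⟨Or.inr rfl, facts.2.2.2.2.1⟩

theorem vV_add_vZ : vV + vZ = LeechOrder.base8 :=
  Subtype.ext (funext facts.2.2.2.2.2.1)

theorem sqNorm_key {a : leechLattice} {k : ℕ} (ha : (a : GolayPt → ℤ) = Pk k) :
    sqNorm (a : GolayPt → ℤ) = dotK k k := by rw [ha, sqNorm_eq, dotK_eq]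

theorem norm_vZ : sqNorm (vZ : GolayPt → ℤ) = 32 := (sqNorm_key coe_vZ).trans facts.2.2.1

theorem norm_vV : sqNorm (vV : GolayPt → ℤ) = 32 := vV_mem.1

/-- The points: members of `vset v` orthogonal to `z`. -/
def pts (v z : leechLattice) : Set leechLattice :=
  {x | x ∈ vset v ∧ dotInt (z : GolayPt → ℤ) (x : GolayPt → ℤ) = 0}

theorem smul_mem_pts (g : Co0) (v z y : leechLattice) :
    g • y ∈ pts (g • v) (g • z) ↔ y ∈ pts v z := by
  simp only [pts, Set.mem_ofPred_eq, smul_mem_vset_iff, dot_smul]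

theorem pts_base : pts v48 vZ = vecs LeechHSData.tree100 := by
  ext x
  constructor
  · rintro ⟨hx, hd⟩
    rw [vset_base] at hx
    refine filter_sound LeechHSData.filter100 hx ?_
    intro c hc
    rw [List.mem_singleton] at hc
    subst hc
    exact hd
  · intro hx
    have h1 := norm_of_mem LeechHSData.cert100 kV_mem hx key_facts.2.2.2
    have h2 := dot_of_mem LeechHSData.cert100 kV_mem hx (List.mem_cons_self ..) coe_v48 key_facts.2.2.1
    exact ⟨⟨h1, (sub_norm_iff v48 x norm_v48 h1).2 h2⟩,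
      dot_of_mem LeechHSData.cert100 kV_mem hx (List.mem_cons_of_mem _ (List.mem_cons_self ..))
        coe_vZ facts.2.2.2.1⟩

theorem vV_mem_pts : vV ∈ pts v48 vZ := by
  rw [pts_base]
  exact ⟨kV, VTree.find_mem _ _ facts.2.2.2.2.2.2.1, rfl⟩

/-- The joint stabiliser of the three vectors consists of the permutations. -/
theorem card_stab3 :
    Nat.card ↥(LeechTwoPoint.G2 vZ ⊓ MulAction.stabilizer Co0 vV) = 443520 := by
  rw [← LeechTwoPoint.card_range two_vV]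
  refine Nat.card_congr
    { toFun := fun g => ⟨⟨(g : Co0), g.2.1.1, g.2.2⟩, LeechTwoPoint.mem_range_of_fix two_vV _ ?_⟩
      invFun := fun g => ⟨((g : LeechTwoPoint.G2 vV) : Co0),
        ⟨(g : LeechTwoPoint.G2 vV).2.1, ?_⟩, (g : LeechTwoPoint.G2 vV).2.2⟩
      left_inv := fun _ => rfl
      right_inv := fun _ => rfl }
  · show (g : Co0) • LeechOrder.base8 = LeechOrder.base8
    rw [← vV_add_vZ, smul_add', show (g : Co0) • vV = vV from g.2.2,
      show (g : Co0) • vZ = vZ from g.2.1.2]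
  · obtain ⟨σ, hσ⟩ := g.2
    rw [← hσ]
    exact LeechTwoPoint.mono_fixes_w two_vZ σ

theorem card_G2 : Nat.card (LeechTwoPoint.G2 vZ) = 44352000 := by
  have h := card_mul (LeechTwoPoint.G2 vZ) vV (pts v48 vZ) fun x => by
    constructor
    · intro hx
      obtain ⟨g, hfix, hg⟩ := transitive_vecs LeechHSData.cert100 kV_mem
        (pts_base ▸ vV_mem_pts) (pts_base ▸ hx)
      exact ⟨g, ⟨hfix kU (List.mem_cons_self ..) v48 coe_v48,
        hfix kZ (List.mem_cons_of_mem _ (List.mem_cons_self ..)) vZ coe_vZ⟩, hg⟩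
    · rintro ⟨g, ⟨hg1, hg2⟩, rfl⟩
      have h := (smul_mem_pts g v48 vZ vV).2 vV_mem_pts
      rwa [show g • v48 = v48 from hg1, show g • vZ = vZ from hg2] at h
  rw [card_stab3, pts_base, ncard_vecs LeechHSData.cert100 kV_mem LeechHSData.canon100,
    LeechHSData.length100] at h
  omega

theorem finite32 : {x : GolayPt → ℤ | x ∈ leechLattice ∧ sqNorm x = 32}.Finite :=
  Set.finite_of_ncard_ne_zero (by rw [LeechCo2.count32]; norm_num)

theorem transitive16 (z : leechLattice) (hz : sqNorm (z : GolayPt → ℤ) = 32)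
    (hd : dotInt (v48 : GolayPt → ℤ) (z : GolayPt → ℤ) = 16) :
    ∃ g : Co0, g • v48 = v48 ∧ g • vZ = z := by
  classical
  let S : Set leechLattice := {x | sqNorm (x : GolayPt → ℤ) = 32 ∧
    dotInt (v48 : GolayPt → ℤ) (x : GolayPt → ℤ) = 16}
  let O : Set leechLattice := {x | ∃ g ∈ MulAction.stabilizer Co0 v48, g • vZ = x}
  have hO := card_mul (MulAction.stabilizer Co0 v48) vZ O fun _ => Iff.rfl
  rw [LeechCo3.card_stab, show Nat.card ↥(MulAction.stabilizer Co0 v48 ⊓ MulAction.stabilizer Co0 vZ)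
    = 44352000 from card_G2] at hO
  have hsub : O ⊆ S := by
    rintro _ ⟨g, hg, rfl⟩
    refine ⟨(norm_smul g vZ).trans norm_vZ, ?_⟩
    rw [← show g • v48 = v48 from hg, dot_smul, coe_v48, coe_vZ, dotK_eq, facts.2.1]
  have hfin : S.Finite :=
    Set.Finite.of_finite_image (finite32.subset (by
      rintro _ ⟨x, hx, rfl⟩
      exact ⟨x.2, hx.1⟩)) Subtype.val_injective.injOn
  have hle : S.ncard ≤ 11178 := by
    rw [← Set.ncard_image_of_injective _ Subtype.val_injective, ← LeechParamCount.count16]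
    refine le_trans (Set.ncard_le_ncard ?_ ?_)
      (LeechParamCount.ncard_le (LeechParamCount.sound48 16))
    · rintro _ ⟨x, hx, rfl⟩
      exact ⟨LeechBasic.mem_lattice.1 x.2, hx⟩
    · exact finite32.subset fun x hx => ⟨LeechBasic.mem_lattice.2 hx.1, hx.2.1⟩
  have e : O = S := Set.eq_of_subset_of_ncard_le hsub (by omega) hfin
  obtain ⟨g, hg, hgz⟩ := (e ▸ (⟨hz, hd⟩ : z ∈ S) : z ∈ O)
  exact ⟨g, hg, hgz⟩

theorem exists_map (v z : leechLattice) (hv : sqNorm (v : GolayPt → ℤ) = 48)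
    (hz : sqNorm (z : GolayPt → ℤ) = 32) (hd : dotInt (v : GolayPt → ℤ) (z : GolayPt → ℤ) = 16) :
    ∃ g : Co0, g • v48 = v ∧ g • vZ = z := by
  obtain ⟨a, rfl⟩ := LeechTransitive.transitive48 v48 v norm_v48 hv
  obtain ⟨y, rfl⟩ : ∃ y, a • y = z := ⟨a⁻¹ • z, smul_inv_smul a z⟩
  rw [norm_smul] at hz
  rw [dot_smul] at hd
  obtain ⟨h, h1, h2⟩ := transitive16 y hz hd
  exact ⟨a * h, by rw [mul_smul, h1], by rw [mul_smul, h2]⟩

theorem dot_add_left (a b c : GolayPt → ℤ) : dotInt (a + b) c = dotInt a c + dotInt b c := by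
  simp only [dotInt, Pi.add_apply, add_mul, Finset.sum_add_distrib]

theorem pair_facts {v w : leechLattice} (hv : sqNorm (v : GolayPt → ℤ) = 48)
    (hw : sqNorm (w : GolayPt → ℤ) = 48) (hvw : dotInt (v : GolayPt → ℤ) (w : GolayPt → ℤ) = -32) :
    sqNorm ((v + w : leechLattice) : GolayPt → ℤ) = 32 ∧
      dotInt (v : GolayPt → ℤ) ((v + w : leechLattice) : GolayPt → ℤ) = 16 ∧
      dotInt (w : GolayPt → ℤ) ((v + w : leechLattice) : GolayPt → ℤ) = 16 := by
  rw [sqNorm_eq] at hv hw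
  have h2 : dotInt (w : GolayPt → ℤ) (v : GolayPt → ℤ) = -32 := (dot_comm _ _).trans hvw
  refine ⟨?_, ?_, ?_⟩
  · rw [AddSubgroup.coe_add, sqNorm_add, sqNorm_eq, sqNorm_eq, hv, hw, hvw]
    norm_num
  · rw [dot_comm, AddSubgroup.coe_add, dot_add_left, hv, h2]
    norm_num
  · rw [dot_comm, AddSubgroup.coe_add, dot_add_left, hvw, hw]
    norm_num

theorem isHS_base : IsHS ↥(LeechTwoPoint.G2 vZ) :=
  ⟨LeechTwoPoint.isSimple two_vZ (by rw [card_G2]; norm_num) (by rw [card_G2]; norm_num), card_G2⟩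

theorem isHS_congr {G H : Type*} [Group G] [Group H] (e : G ≃* H) (h : IsHS G) : IsHS H := by
  have := h.1
  exact ⟨MathieuSimple.isSimpleGroup_congr' e, (Nat.card_congr e.toEquiv).symm.trans h.2⟩

theorem isHS (v w : leechLattice) (hv : sqNorm (v : GolayPt → ℤ) = 48)
    (hw : sqNorm (w : GolayPt → ℤ) = 48)
    (hvw : dotInt (v : GolayPt → ℤ) (w : GolayPt → ℤ) = -32) :
    IsHS ↥(MulAction.stabilizer Co0 v ⊓ MulAction.stabilizer Co0 w) := by
  obtain ⟨h1, h2, -⟩ := pair_facts hv hw hvw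
  obtain ⟨g, hg1, hg2⟩ := exists_map v _ hv h1 h2
  refine isHS_congr ((conjPair hg1 hg2).trans (MulEquiv.subgroupCongr ?_)) isHS_base
  ext x
  simp only [Subgroup.mem_inf, MulAction.mem_stabilizer_iff, smul_add']
  constructor
  · rintro ⟨e1, e2⟩
    rw [e1] at e2
    exact ⟨e1, add_left_cancel e2⟩
  · rintro ⟨e1, e2⟩
    exact ⟨e1, by rw [e1, e2]⟩

theorem swap (v w : leechLattice) (hv : sqNorm (v : GolayPt → ℤ) = 48)
    (hw : sqNorm (w : GolayPt → ℤ) = 48)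
    (hvw : dotInt (v : GolayPt → ℤ) (w : GolayPt → ℤ) = -32) :
    ∃ g : Co0, g • v = w ∧ g • w = v := by
  obtain ⟨h1, h2, h3⟩ := pair_facts hv hw hvw
  obtain ⟨a, ha1, ha2⟩ := exists_map v _ hv h1 h2
  obtain ⟨b, hb1, hb2⟩ := exists_map w _ hw h1 h3
  have e1 : (b * a⁻¹) • v = w := by rw [mul_smul, inv_smul_eq_iff.2 ha1.symm, hb1]
  have e2 : (b * a⁻¹) • (v + w) = v + w := by rw [mul_smul, inv_smul_eq_iff.2 ha2.symm, hb2]
  refine ⟨b * a⁻¹, e1, ?_⟩
  rw [smul_add', e1, add_comm v w] at e2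
  exact add_left_cancel e2

theorem mem_pts_iff {v w x : leechLattice} (hv : sqNorm (v : GolayPt → ℤ) = 48) :
    (sqNorm (x : GolayPt → ℤ) = 32 ∧ dotInt (v : GolayPt → ℤ) (x : GolayPt → ℤ) = 24 ∧
      dotInt (w : GolayPt → ℤ) (x : GolayPt → ℤ) = -24) ↔ x ∈ pts v (v + w) := by
  simp only [pts, vset, Set.mem_ofPred_eq, AddSubgroup.coe_add, dot_add_left]
  constructor
  · rintro ⟨h1, h2, h3⟩
    exact ⟨⟨h1, (sub_norm_iff v x hv h1).2 h2⟩, by rw [h2, h3]; norm_num⟩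
  · rintro ⟨⟨h1, h2⟩, h3⟩
    have h4 := (sub_norm_iff v x hv h1).1 h2
    exact ⟨h1, h4, by rw [h4] at h3; omega⟩

/-- Every such triple is the image of the base triple. -/
theorem exists_map3 (v z x : leechLattice) (hv : sqNorm (v : GolayPt → ℤ) = 48)
    (hz : sqNorm (z : GolayPt → ℤ) = 32) (hd : dotInt (v : GolayPt → ℤ) (z : GolayPt → ℤ) = 16)
    (hx : x ∈ pts v z) : ∃ g : Co0, g • v48 = v ∧ g • vZ = z ∧ g • vV = x := by
  obtain ⟨a, rfl, rfl⟩ := exists_map v z hv hz hd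
  obtain ⟨y, rfl⟩ : ∃ y, a • y = x := ⟨a⁻¹ • x, smul_inv_smul a x⟩
  rw [smul_mem_pts, pts_base] at hx
  obtain ⟨h, hfix, hh⟩ := transitive_vecs LeechHSData.cert100 kV_mem (pts_base ▸ vV_mem_pts) hx
  refine ⟨a * h, ?_, ?_, ?_⟩
  · rw [mul_smul, hfix kU (List.mem_cons_self ..) v48 coe_v48]
  · rw [mul_smul, hfix kZ (List.mem_cons_of_mem _ (List.mem_cons_self ..)) vZ coe_vZ]
  · rw [mul_smul, hh]

theorem ncard_pts (v z : leechLattice) (hv : sqNorm (v : GolayPt → ℤ) = 48)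
    (hz : sqNorm (z : GolayPt → ℤ) = 32) (hd : dotInt (v : GolayPt → ℤ) (z : GolayPt → ℤ) = 16) :
    (pts v z).ncard = 100 := by
  obtain ⟨g, rfl, rfl⟩ := exists_map v z hv hz hd
  rw [ncard_transport fun y => smul_mem_pts g v48 vZ y, pts_base,
    ncard_vecs LeechHSData.cert100 kV_mem LeechHSData.canon100, LeechHSData.length100]

theorem transitive_pts (v z : leechLattice) (hv : sqNorm (v : GolayPt → ℤ) = 48)
    (hz : sqNorm (z : GolayPt → ℤ) = 32) (hd : dotInt (v : GolayPt → ℤ) (z : GolayPt → ℤ) = 16)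
    (x x' : leechLattice) (hx : x ∈ pts v z) (hx' : x' ∈ pts v z) :
    ∃ g : Co0, g • v = v ∧ g • z = z ∧ g • x = x' := by
  obtain ⟨a, ha1, ha2, ha3⟩ := exists_map3 v z x hv hz hd hx
  obtain ⟨b, hb1, hb2, hb3⟩ := exists_map3 v z x' hv hz hd hx'
  refine ⟨b * a⁻¹, ?_, ?_, ?_⟩
  · rw [mul_smul, inv_smul_eq_iff.2 ha1.symm, hb1]
  · rw [mul_smul, inv_smul_eq_iff.2 ha2.symm, hb2]
  · rw [mul_smul, inv_smul_eq_iff.2 ha3.symm, hb3]

theorem sub_base {r : ℕ} {T : VTree} (hr : Pk r ∈ leechLattice)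
    (h : cert LeechHSData.gens5 [kU, kZ, kV] r T = true)
    (hroot : LeechHSData.tree100.has r = true) {y : leechLattice} (hy : y ∈ vecs T) :
    y ∈ pts v48 vZ ∧ dotInt (vV : GolayPt → ℤ) (y : GolayPt → ℤ) = dotK kV r := by
  obtain ⟨n, hn, e⟩ := hy
  obtain ⟨g, hfix, hg⟩ := orbit_sound h ⟨_, hr⟩ rfl hn
  have ey : y = g • (⟨Pk r, hr⟩ : leechLattice) := Subtype.ext (e.trans hg.symm)
  refine ⟨?_, dot_of_mem h hr ⟨n, hn, e⟩ (by simp) coe_vV rfl⟩
  have h1 : (⟨Pk r, hr⟩ : leechLattice) ∈ pts v48 vZ := by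
    rw [pts_base]
    exact ⟨r, VTree.find_mem _ _ hroot, rfl⟩
  rw [ey]
  have h2 := (smul_mem_pts g v48 vZ _).2 h1
  rwa [hfix kU (by simp) v48 coe_v48, hfix kZ (by simp) vZ coe_vZ] at h2

theorem kA_mem : Pk 47536897508558602556126370137 ∈ leechLattice :=
  mem_lattice_keys LeechHSData.cert100 kV_mem (VTree.find_mem _ _ facts.2.2.2.2.2.2.2.1)

theorem kB_mem : Pk 52777520413600321436643788938 ∈ leechLattice :=
  mem_lattice_keys LeechHSData.cert100 kV_mem (VTree.find_mem _ _ facts.2.2.2.2.2.2.2.2.1)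

theorem sub22_base : {y | y ∈ pts v48 vZ ∧ dotInt (vV : GolayPt → ℤ) (y : GolayPt → ℤ) = 8} =
    vecs LeechHSData.tree22 := by
  ext y
  constructor
  · rintro ⟨hy, hd⟩
    rw [pts_base] at hy
    refine filter_sound LeechHSData.filter22 hy fun c hc => ?_
    rw [List.mem_singleton] at hc
    subst hc
    exact hd
  · intro hy
    obtain ⟨h1, h2⟩ := sub_base kA_mem LeechHSData.cert22 facts.2.2.2.2.2.2.2.1 hy
    exact ⟨h1, h2.trans facts.2.2.2.2.2.2.2.2.2.1⟩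

theorem dot_cases {y : leechLattice} (hy : y ∈ pts v48 vZ) (hne : y ≠ vV) :
    dotInt (vV : GolayPt → ℤ) (y : GolayPt → ℤ) = 8 ∨
      dotInt (vV : GolayPt → ℤ) (y : GolayPt → ℤ) = 16 := by
  rw [pts_base] at hy
  obtain ⟨n, hn, e⟩ := hy
  have h := List.all_eq_true.1 LeechHSData.dots100 n hn
  simp only [Bool.or_eq_true, beq_iff_eq] at h
  rcases h with (h | h) | h
  · left; rw [coe_vV, e, dotK_eq]; exact h
  · right; rw [coe_vV, e, dotK_eq]; exact h
  · exact absurd (Subtype.ext (e.trans (congrArg Pk h))) hne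

theorem sub77_base : {y | y ∈ pts v48 vZ ∧ y ≠ vV ∧
    dotInt (vV : GolayPt → ℤ) (y : GolayPt → ℤ) ≠ 8} = vecs LeechHSData.tree77 := by
  ext y
  constructor
  · rintro ⟨hy, hne, hd⟩
    have h16 := (dot_cases hy hne).resolve_left hd
    rw [pts_base] at hy
    refine filter_sound LeechHSData.filter77 hy fun c hc => ?_
    rw [List.mem_singleton] at hc
    subst hc
    exact h16
  · intro hy
    obtain ⟨h1, h2⟩ := sub_base kB_mem LeechHSData.cert77 facts.2.2.2.2.2.2.2.2.1 hy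
    rw [facts.2.2.2.2.2.2.2.2.2.2] at h2
    refine ⟨h1, ?_, by rw [h2]; norm_num⟩
    rintro rfl
    rw [coe_vV, dotK_eq, key_facts.2.2.2] at h2
    norm_num at h2

theorem ncard_sub22 (v z x : leechLattice) (hv : sqNorm (v : GolayPt → ℤ) = 48)
    (hz : sqNorm (z : GolayPt → ℤ) = 32) (hd : dotInt (v : GolayPt → ℤ) (z : GolayPt → ℤ) = 16)
    (hx : x ∈ pts v z) :
    {y | y ∈ pts v z ∧ dotInt (x : GolayPt → ℤ) (y : GolayPt → ℤ) = 8}.ncard = 22 := by
  obtain ⟨g, rfl, rfl, rfl⟩ := exists_map3 v z x hv hz hd hx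
  rw [ncard_transport (g := g) (s := {y | y ∈ pts v48 vZ ∧
      dotInt (vV : GolayPt → ℤ) (y : GolayPt → ℤ) = 8}) fun y => by
        simp only [Set.mem_ofPred_eq, smul_mem_pts, dot_smul],
    sub22_base, ncard_vecs LeechHSData.cert22 kA_mem LeechHSData.canon22,
    LeechHSData.length22]

theorem ncard_sub77 (v z x : leechLattice) (hv : sqNorm (v : GolayPt → ℤ) = 48)
    (hz : sqNorm (z : GolayPt → ℤ) = 32) (hd : dotInt (v : GolayPt → ℤ) (z : GolayPt → ℤ) = 16)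
    (hx : x ∈ pts v z) :
    {y | y ∈ pts v z ∧ y ≠ x ∧ dotInt (x : GolayPt → ℤ) (y : GolayPt → ℤ) ≠ 8}.ncard = 77 := by
  obtain ⟨g, rfl, rfl, rfl⟩ := exists_map3 v z x hv hz hd hx
  rw [ncard_transport (g := g) (s := {y | y ∈ pts v48 vZ ∧ y ≠ vV ∧
      dotInt (vV : GolayPt → ℤ) (y : GolayPt → ℤ) ≠ 8}) fun y => by
        simp only [Set.mem_ofPred_eq, smul_mem_pts, dot_smul, ne_eq, smul_left_cancel_iff],
    sub77_base, ncard_vecs LeechHSData.cert77 kB_mem LeechHSData.canon77,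
    LeechHSData.length77]

theorem rank_three (v z x : leechLattice) (hv : sqNorm (v : GolayPt → ℤ) = 48)
    (hz : sqNorm (z : GolayPt → ℤ) = 32) (hd : dotInt (v : GolayPt → ℤ) (z : GolayPt → ℤ) = 16)
    (hx : x ∈ pts v z) (y y' : leechLattice) (hy : y ∈ pts v z) (hy' : y' ∈ pts v z)
    (hne : y ≠ x) (hne' : y' ≠ x)
    (hiff : dotInt (x : GolayPt → ℤ) (y : GolayPt → ℤ) = 8 ↔
      dotInt (x : GolayPt → ℤ) (y' : GolayPt → ℤ) = 8) :
    ∃ g : Co0, g • v = v ∧ g • z = z ∧ g • x = x ∧ g • y = y' := by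
  obtain ⟨a, rfl, rfl, rfl⟩ := exists_map3 v z x hv hz hd hx
  obtain ⟨b, rfl⟩ : ∃ b, a • b = y := ⟨a⁻¹ • y, smul_inv_smul a y⟩
  obtain ⟨b', rfl⟩ : ∃ b', a • b' = y' := ⟨a⁻¹ • y', smul_inv_smul a y'⟩
  rw [smul_mem_pts] at hy hy'
  rw [ne_eq, smul_left_cancel_iff] at hne hne'
  rw [dot_smul, dot_smul] at hiff
  suffices ∃ h : Co0, (∀ f ∈ [kU, kZ, kV], ∀ w : leechLattice, (w : GolayPt → ℤ) = Pk f → h • w = w) ∧
      h • b = b' by
    obtain ⟨h, hfix, hh⟩ := this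
    refine ⟨a * h * a⁻¹, ?_, ?_, ?_, ?_⟩ <;> simp only [mul_smul, inv_smul_smul]
    · rw [hfix kU (by simp) v48 coe_v48]
    · rw [hfix kZ (by simp) vZ coe_vZ]
    · rw [hfix kV (by simp) vV coe_vV]
    · rw [hh]
  by_cases h8 : dotInt (vV : GolayPt → ℤ) (b : GolayPt → ℤ) = 8
  · exact transitive_vecs LeechHSData.cert22 kA_mem (sub22_base ▸ ⟨hy, h8⟩)
      (sub22_base ▸ ⟨hy', hiff.1 h8⟩)
  · exact transitive_vecs LeechHSData.cert77 kB_mem (sub77_base ▸ ⟨hy, hne, h8⟩)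
      (sub77_base ▸ ⟨hy', hne', fun e => h8 (hiff.2 e)⟩)

end CfsgLib.SmallGroups.LeechHS
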