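import Mathlib
import Cfsg.Agent.Lib.SmallGroups.Steiner

/-!
# Disjointness counts in an S(3,6,22)
-/

set_option autoImplicit false

namespace CfsgLib.SmallGroups.Steiner22

open Cfsg Finset CfsgLib.SmallGroups.Steiner

variable {α : Type*} [Fintype α] [DecidableEq α] {B : Set (Finset α)}

theorem inter_cases (hα : Fintype.card α = 22) (hB : IsSteinerSystem 3 6 B) {b c : Finset α}
    (hb : b ∈ B) (hc : c ∈ B) (hne : c ≠ b) : (c ∩ b).card = 0 ∨ (c ∩ b).card = 2 := by
  have h1 := inter_card_ne hB hb hc (fun T hT => inter22 hα hB hb hT) (i := 1) rfl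
  have h3 : (c ∩ b).card < 3 := by
    by_contra h
    exact hne (eq_of_le_inter hB hc hb (not_lt.mp h))
  omega

theorem card_disjoint (hα : Fintype.card α = 22) (hB : IsSteinerSystem 3 6 B) {b : Finset α}
    (hb : b ∈ B) : ((blocks B).filter fun d => Disjoint b d).card = 16 := by
  have e := inter22 hα hB hb (Finset.empty_subset b)
  rw [show mu22 (∅ : Finset α).card = 16 from rfl] at e
  rw [← e]
  congr 1
  ext d
  simp [disjoint_iff_inter_eq_empty, inter_comm]

theorem card_through (hα : Fintype.card α = 22) (hB : IsSteinerSystem 3 6 B) (x : α) :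
    ((blocks B).filter (x ∈ ·)).card = 21 := by
  simpa using count_eq hB (by norm_num) hα (s := {x}) (lam := 21) (card_singleton x) (by norm_num)
    (by decide)

theorem card_through_two (hα : Fintype.card α = 22) (hB : IsSteinerSystem 3 6 B) {x y : α}
    (hxy : x ≠ y) : ((blocks B).filter fun d => x ∈ d ∧ y ∈ d).card = 5 := by
  simpa [insert_subset_iff] using
    count_eq hB (by norm_num) hα (s := {x, y}) (lam := 5) (card_pair hxy) (by norm_num) (by decide)

/-- Through a point off a block `b` there are six blocks disjoint from `b`. -/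
theorem card_through_disjoint (hα : Fintype.card α = 22) (hB : IsSteinerSystem 3 6 B)
    {b : Finset α} (hb : b ∈ B) {x : α} (hx : x ∉ b) :
    ((blocks B).filter fun d => x ∈ d ∧ Disjoint b d).card = 6 := by
  have h1 := card_through hα hB x
  have h2 : (((blocks B).filter (x ∈ ·)).filter fun d => ¬ Disjoint b d).card = 15 := by
    rw [card_eq_sum_card_fiberwise (f := (· ∩ b)) (t := b.powersetCard 2)]
    · rw [show (15 : ℕ) = (b.powersetCard 2).card • 1 by rw [card_powersetCard, hB.1 b hb]; rfl,
        ← sum_const]
      refine sum_congr rfl fun T hT => ?_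
      rw [mem_powersetCard] at hT
      obtain ⟨d, ⟨hd, hsub⟩, hu⟩ := hB.2 (insert x T)
        (by rw [card_insert_of_notMem (fun h => hx (hT.1 h)), hT.2])
      rw [insert_subset_iff] at hsub
      have hdb : d ≠ b := fun h => hx (h ▸ hsub.1)
      have hTd : T ⊆ d ∩ b := subset_inter hsub.2 hT.1
      have hcard : d ∩ b = T := (eq_of_subset_of_card_le hTd (by
        have := inter_cases hα hB hb hd hdb
        omega)).symm
      refine card_eq_one.mpr ⟨d, eq_singleton_iff_unique_mem.mpr ⟨?_, fun e he => hu e ?_⟩⟩
      · simp only [mem_filter, mem_blocks]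
        refine ⟨⟨⟨hd, hsub.1⟩, fun h => ?_⟩, hcard⟩
        rw [disjoint_iff_inter_eq_empty, inter_comm, hcard] at h
        simp [h] at hT
      · simp only [mem_filter, mem_blocks] at he
        exact ⟨he.1.1.1, insert_subset_iff.mpr ⟨he.1.1.2, he.2 ▸ inter_subset_left⟩⟩
    · intro d hd
      simp only [Finset.mem_coe, mem_filter, mem_blocks, mem_powersetCard] at hd ⊢
      refine ⟨inter_subset_right, ?_⟩
      rcases inter_cases hα hB hb hd.1.1 (fun h => hx (h ▸ hd.1.2)) with h | h
      · exact absurd (disjoint_iff_inter_eq_empty.mpr (by rw [inter_comm]; exact card_eq_zero.mp h)) hd.2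
      · exact h
  have h3 := card_filter_add_card_filter_not (s := (blocks B).filter (x ∈ ·)) (fun d => Disjoint b d)
  rw [h2, h1, filter_filter] at h3
  omega

/-- Double count: the blocks disjoint from `b`, weighted by their intersection with `c`. -/
theorem sum_inter (hα : Fintype.card α = 22) (hB : IsSteinerSystem 3 6 B) {b c : Finset α}
    (hb : b ∈ B) :
    ∑ d ∈ (blocks B).filter (fun d => Disjoint b d), (d ∩ c).card = 6 * (c \ b).card := by
  have e : ∀ x ∈ c, (((blocks B).filter fun d => Disjoint b d).filter (x ∈ ·)).card =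
      if x ∈ b then 0 else 6 := by
    intro x hx
    rw [filter_filter]
    split
    · next hxb =>
      rw [card_eq_zero, filter_eq_empty_iff]
      rintro d - ⟨hd, hxd⟩
      exact disjoint_left.mp hd hxb hxd
    · next hxb =>
      rw [← card_through_disjoint hα hB hb hxb]
      congr 1
      exact filter_congr fun d _ => and_comm
  calc ∑ d ∈ (blocks B).filter (fun d => Disjoint b d), (d ∩ c).card
      = ∑ x ∈ c, (((blocks B).filter fun d => Disjoint b d).filter (x ∈ ·)).card := by
        simp_rw [inter_comm _ c, ← filter_mem_eq_inter, card_filter]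
        exact sum_comm
    _ = ∑ x ∈ c, if x ∈ b then 0 else 6 := sum_congr rfl e
    _ = 6 * (c \ b).card := by
        rw [sum_ite, sum_const_zero, sum_const, zero_add, smul_eq_mul, mul_comm, sdiff_eq_filter]

theorem common_disjoint (hα : Fintype.card α = 22) (hB : IsSteinerSystem 3 6 B) {b c : Finset α}
    (hb : b ∈ B) (hc : c ∈ B) (hne : c ≠ b) :
    ((blocks B).filter fun d => Disjoint b d ∧ Disjoint c d).card = if Disjoint b c then 0 else 4 := by
  have hs := sum_inter hα hB (c := c) hb
  have hsplit := card_filter_add_card_filter_not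
    (s := (blocks B).filter fun d => Disjoint b d) (fun d => Disjoint c d)
  rw [filter_filter, card_disjoint hα hB hb] at hsplit
  rw [card_sdiff, hB.1 c hc] at hs
  have hsum : ∑ d ∈ (blocks B).filter (fun d => Disjoint b d), (d ∩ c).card =
      2 * (((blocks B).filter fun d => Disjoint b d).filter fun d => ¬ Disjoint c d).card +
        if Disjoint b c then 4 else 0 := by
    have e : ∀ d ∈ (blocks B).filter (fun d => Disjoint b d), (d ∩ c).card =
        (if ¬ Disjoint c d then 2 else 0) + if d = c then 4 else 0 := by
      intro d hd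
      rw [mem_filter, mem_blocks] at hd
      rcases eq_or_ne d c with rfl | hdc
      · have : ¬ Disjoint d d := fun h => by
          have h6 := hB.1 d hd.1
          rw [disjoint_iff_inter_eq_empty, inter_self] at h
          simp [h] at h6
        rw [if_pos this, if_pos rfl, Finset.inter_self, hB.1 d hd.1]
      · rw [if_neg hdc, add_zero]
        rcases inter_cases hα hB hc hd.1 hdc with h | h
        · rw [h, if_neg (not_not.mpr (disjoint_iff_inter_eq_empty.mpr
            (by rw [inter_comm]; exact card_eq_zero.mp h)))]
        · rw [h, if_pos fun h' => ?_]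
          rw [disjoint_iff_inter_eq_empty.mp h'.symm] at h
          simp at h
    rw [sum_congr rfl e, sum_add_distrib, ← sum_filter, sum_const, smul_eq_mul, mul_comm,
      sum_ite_eq']
    simp [hc]
  rw [hsum] at hs
  rcases inter_cases hα hB hb hc hne with h | h
  · have hd : Disjoint b c :=
      disjoint_iff_inter_eq_empty.mpr (by rw [inter_comm]; exact card_eq_zero.mp h)
    rw [if_pos hd] at hs ⊢
    rw [inter_comm c b] at h
    rw [h] at hs
    omega
  · have hd : ¬ Disjoint b c := fun h' => by
      rw [inter_comm, disjoint_iff_inter_eq_empty.mp h'] at h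
      simp at h
    rw [if_neg hd] at hs ⊢
    rw [inter_comm c b] at h
    rw [h] at hs
    omega

end CfsgLib.SmallGroups.Steiner22
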