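import Cfsg.Agent.Lib.SmallGroups.HSGraph
import Cfsg.Agent.Lib.SmallGroups.LeechHS
import Cfsg.Agent.S0428

/-!
# The graph of an `S(3, 6, 22)` has the simple group of order 44352000 among its automorphisms

The 100 lattice vectors form such a graph, two being joined when their inner product is 8.
-/

set_option autoImplicit false
set_option maxRecDepth 10000

namespace CfsgLib.SmallGroups.HSGraphAut

open Cfsg CfsgLib.SmallGroups.LeechOrbit CfsgLib.SmallGroups.LeechEnum CfsgLib.SmallGroups.LeechLists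
  CfsgLib.SmallGroups.LeechPairs CfsgLib.SmallGroups.LeechVectorStab CfsgLib.SmallGroups.LeechHS

/-- The points. -/
abbrev W : Type := {x : leechLattice // x ∈ pts v48 vZ}

theorem card_W : Nat.card W = 100 := by
  rw [show Nat.card W = (pts v48 vZ).ncard from Nat.card_coe_set_eq _,
    LeechHS.ncard_pts v48 vZ norm_v48 norm_vZ
      ((congrArg₂ dotInt coe_v48 coe_vZ).trans ((dotK_eq _ _).trans facts.2.1))]

instance : Finite W := Nat.finite_of_card_ne_zero (by rw [card_W]; norm_num)

noncomputable instance : Fintype W := Fintype.ofFinite W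

/-- Joined when the inner product is 8. -/
def graph : SimpleGraph W where
  Adj x y := dotInt ((x : leechLattice) : GolayPt → ℤ) ((y : leechLattice) : GolayPt → ℤ) = 8
  symm := ⟨fun x y h => (dot_comm _ _).trans h⟩
  loopless := ⟨fun x h => by
    rw [← sqNorm_eq, x.2.1.1] at h
    norm_num at h⟩

theorem dot_v48_vZ : dotInt (v48 : GolayPt → ℤ) (vZ : GolayPt → ℤ) = 16 :=
  (congrArg₂ dotInt coe_v48 coe_vZ).trans ((dotK_eq _ _).trans facts.2.1)

/-- The number of vectors of a certified set with a property read off from their code numbers. -/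
theorem ncard_filter {gens : List (List Step)} {fix : List ℕ} {root : ℕ} {T : VTree}
    (h : cert gens fix root T = true) (hr : Pk root ∈ leechLattice) (hc : canon T = true)
    (q : ℕ → Bool) (P : leechLattice → Prop)
    (hP : ∀ (x : leechLattice) n, n ∈ T.keys → (x : GolayPt → ℤ) = Pk n → (P x ↔ q n = true)) :
    {x : leechLattice | x ∈ vecs T ∧ P x}.ncard = T.keys.countP q := by
  classical
  rw [← Set.ncard_image_of_injective _ Subtype.val_injective]
  have e : Subtype.val '' {x : leechLattice | x ∈ vecs T ∧ P x} =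
      ↑((T.keys.filter q).toFinset.image Pk) := by
    ext y
    simp only [Set.mem_image, vecs, Set.mem_ofPred_eq, Finset.coe_image, List.coe_toFinset, List.mem_filter]
    constructor
    · rintro ⟨x, ⟨⟨n, hn, hx⟩, hp⟩, rfl⟩
      exact ⟨n, ⟨hn, (hP x n hn hx).1 hp⟩, hx.symm⟩
    · rintro ⟨n, ⟨hn, hq⟩, rfl⟩
      exact ⟨⟨_, mem_lattice_keys h hr hn⟩, ⟨⟨n, hn, rfl⟩, (hP _ n hn rfl).2 hq⟩, rfl⟩
  rw [e, Set.ncard_coe_finset, Finset.card_image_of_injOn, List.toFinset_card_of_nodup
    ((keys_nodup h).filter _), List.countP_eq_length_filter]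
  intro a ha b hb hab
  simp only [List.coe_toFinset, Set.mem_ofPred_eq, List.mem_filter] at ha hb
  exact Pk_inj hc ha.1 hb.1 hab

theorem srg_counts : (LeechHSData.tree100.keys.all fun y =>
    y == kV || LeechHSData.tree22.keys.countP (fun n => dotK y n == 8) ==
      if dotK kV y == 8 then 0 else 6) = true := by
  decide +kernel

/-- Common neighbours of `vV` and another point. -/
theorem common_base {y : leechLattice} (hy : y ∈ pts v48 vZ) (hne : y ≠ vV) :
    {c : leechLattice | c ∈ pts v48 vZ ∧ dotInt (vV : GolayPt → ℤ) (c : GolayPt → ℤ) = 8 ∧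
      dotInt (y : GolayPt → ℤ) (c : GolayPt → ℤ) = 8}.ncard =
    if dotInt (vV : GolayPt → ℤ) (y : GolayPt → ℤ) = 8 then 0 else 6 := by
  rw [pts_base] at hy
  obtain ⟨n, hn, e⟩ := hy
  have hk := List.all_eq_true.1 srg_counts n hn
  simp only [Bool.or_eq_true, beq_iff_eq] at hk
  rcases hk with hk | hk
  · exact absurd (Subtype.ext (e.trans (congrArg Pk hk))) hne
  have hset : {c : leechLattice | c ∈ pts v48 vZ ∧ dotInt (vV : GolayPt → ℤ) (c : GolayPt → ℤ) = 8 ∧
      dotInt (y : GolayPt → ℤ) (c : GolayPt → ℤ) = 8} =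
      {c | c ∈ vecs LeechHSData.tree22 ∧ dotInt (y : GolayPt → ℤ) (c : GolayPt → ℤ) = 8} := by
    rw [← sub22_base]
    ext c
    exact ⟨fun h => ⟨⟨h.1, h.2.1⟩, h.2.2⟩, fun h => ⟨h.1.1, h.1.2, h.2⟩⟩
  rw [hset, ncard_filter LeechHSData.cert22 kA_mem LeechHSData.canon22 (fun m => dotK n m == 8) _
    fun c m _ hc => by rw [e, hc, dotK_eq, beq_iff_eq], hk, coe_vV, e, dotK_eq]

theorem common [DecidableRel graph.Adj] (x y : W) (hne : x ≠ y) :
    Nat.card (graph.commonNeighbors x y) = if graph.Adj x y then 0 else 6 := by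
  classical
  obtain ⟨g, hg1, hg2, hg3⟩ := exists_map3 v48 vZ x norm_v48 norm_vZ dot_v48_vZ x.2
  obtain ⟨z, hz⟩ : ∃ z, g • z = (y : leechLattice) := ⟨g⁻¹ • (y : leechLattice), smul_inv_smul g _⟩
  have hzp : z ∈ pts v48 vZ := by
    rw [← LeechHS.smul_mem_pts g, hg1, hg2, hz]
    exact y.2
  have hzne : z ≠ vV := fun e => hne (Subtype.ext (by rw [← hg3, ← hz, e]))
  have hd : ∀ a b : leechLattice, dotInt ((g • a : leechLattice) : GolayPt → ℤ)
      ((g • b : leechLattice) : GolayPt → ℤ) = dotInt (a : GolayPt → ℤ) (b : GolayPt → ℤ) := dot_smul g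
  have hadj : graph.Adj x y ↔ dotInt (vV : GolayPt → ℤ) (z : GolayPt → ℤ) = 8 := by
    show dotInt _ _ = 8 ↔ _
    rw [← hg3, ← hz, hd]
  have hmem : ∀ c : leechLattice, g • c ∈ pts v48 vZ ↔ c ∈ pts v48 vZ := fun c => by
    conv_lhs => rw [← hg1, ← hg2]
    rw [LeechHS.smul_mem_pts]
  have key := common_base hzp hzne
  simp only [← hadj] at key
  rw [← key, ← Nat.card_coe_set_eq]
  refine ((Nat.card_congr (α := {c : leechLattice | c ∈ pts v48 vZ ∧
      dotInt (vV : GolayPt → ℤ) (c : GolayPt → ℤ) = 8 ∧ dotInt (z : GolayPt → ℤ) (c : GolayPt → ℤ) = 8})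
      (β := graph.commonNeighbors x y))
    { toFun := fun c => ⟨⟨g • c.1, (hmem _).2 c.2.1⟩, ?_⟩
      invFun := fun c => ⟨g⁻¹ • c.1.1, ?_⟩
      left_inv := fun c => Subtype.ext (inv_smul_smul g _)
      right_inv := fun c => Subtype.ext (Subtype.ext (smul_inv_smul g _)) }).symm
  · rw [SimpleGraph.mem_commonNeighbors]
    refine ⟨?_, ?_⟩
    · show dotInt _ _ = 8
      rw [← hg3, hd]
      exact c.2.2.1
    · show dotInt _ _ = 8
      rw [← hz, hd]
      exact c.2.2.2
  · obtain ⟨h1, h2⟩ := (SimpleGraph.mem_commonNeighbors _).1 c.2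
    refine ⟨(hmem _).1 (by rw [smul_inv_smul]; exact (c : W).2), ?_, ?_⟩
    · rw [← hd, hg3, smul_inv_smul]
      exact h1
    · rw [← hd, hz, smul_inv_smul]
      exact h2

theorem degree (x : W) [Fintype (graph.neighborSet x)] : graph.degree x = 22 := by
  rw [← SimpleGraph.card_neighborSet_eq_degree, ← Nat.card_eq_fintype_card,
    ← ncard_sub22 v48 vZ x norm_v48 norm_vZ dot_v48_vZ x.2, ← Nat.card_coe_set_eq]
  exact Nat.card_congr
    { toFun := fun c => ⟨((c : W) : leechLattice), (c : W).2, c.2⟩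
      invFun := fun c => ⟨⟨(c : leechLattice), c.2.1⟩, c.2.2⟩
      left_inv := fun _ => rfl
      right_inv := fun _ => rfl }

theorem isSRG [DecidableRel graph.Adj] : graph.IsSRGWith 100 22 0 6 where
  card := by rw [← Nat.card_eq_fintype_card, card_W]
  regular x := degree x
  of_adj x y h := by rw [← Nat.card_eq_fintype_card, common x y h.ne, if_pos h]
  of_not_adj x y hne h := by rw [← Nat.card_eq_fintype_card, common x y hne, if_neg h]

theorem smul_mem (g : LeechTwoPoint.G2 vZ) (x : W) : (g : Co0) • (x : leechLattice) ∈ pts v48 vZ := by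
  have h := (LeechHS.smul_mem_pts (g : Co0) v48 vZ x).2 x.2
  rwa [show (g : Co0) • v48 = v48 from g.2.1, show (g : Co0) • vZ = vZ from g.2.2] at h

/-- An element acting on the graph. -/
noncomputable def autOf (g : LeechTwoPoint.G2 vZ) : graph ≃g graph where
  toFun x := ⟨(g : Co0) • (x : leechLattice), smul_mem g x⟩
  invFun x := ⟨((g⁻¹ : LeechTwoPoint.G2 vZ) : Co0) • (x : leechLattice), smul_mem g⁻¹ x⟩
  left_inv x := Subtype.ext (inv_smul_smul (g : Co0) (x : leechLattice))
  right_inv x := Subtype.ext (smul_inv_smul (g : Co0) (x : leechLattice))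
  map_rel_iff' {x y} := by
    show dotInt _ _ = 8 ↔ dotInt _ _ = 8
    rw [← dot_smul (g : Co0) (x : leechLattice) (y : leechLattice)]
    rfl

theorem exists_subgroup {α : Type*} [Fintype α] (hα : Fintype.card α = 22) {B : Set (Finset α)}
    (hB : IsSteinerSystem 3 6 B) :
    ∃ H : Subgroup (pointBlockGraph B ≃g pointBlockGraph B), IsHS H := by
  classical
  have : Fintype B := Fintype.ofFinite B
  obtain ⟨f⟩ := HSGraph.unique isSRG (Cfsg.Agent.S0428.result hα hB)
  let φ : LeechTwoPoint.G2 vZ →* (pointBlockGraph B ≃g pointBlockGraph B) :=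
    MonoidHom.mk' (fun g => f.symm.trans ((autOf g).trans f)) fun g h => RelIso.ext fun v => by
      simp only [RelIso.mul_apply, RelIso.trans_apply, RelIso.symm_apply_apply]
      refine congrArg f (Subtype.ext ?_)
      show ((g * h : LeechTwoPoint.G2 vZ) : Co0) • ((f.symm v : W) : leechLattice) = _
      rw [Subgroup.coe_mul, mul_smul]
      rfl
  have := isHS_base.1
  have hker : φ.ker = ⊥ := by
    refine (φ.normal_ker).eq_bot_or_eq_top.resolve_right fun htop => ?_
    obtain ⟨x, y, hne⟩ : ∃ x y : W, x ≠ y := by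
      have : Nontrivial W := Finite.one_lt_card_iff_nontrivial.1 (by rw [card_W]; norm_num)
      exact exists_pair_ne W
    obtain ⟨g, g1, g2, g3⟩ := transitive_pts v48 vZ norm_v48 norm_vZ dot_v48_vZ x y x.2 y.2
    have h1 : φ ⟨g, g1, g2⟩ = 1 := MonoidHom.mem_ker.1 (htop ▸ Subgroup.mem_top _)
    have h2 : φ ⟨g, g1, g2⟩ (f x) = f x := by rw [h1]; rfl
    simp only [φ, MonoidHom.mk'_apply, RelIso.trans_apply, RelIso.symm_apply_apply] at h2
    have h3 : ((autOf ⟨g, g1, g2⟩ x : W) : leechLattice) = (x : leechLattice) :=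
      congrArg Subtype.val (f.injective h2)
    exact hne (Subtype.ext (h3.symm.trans g3))
  exact ⟨φ.range, isHS_congr (MonoidHom.ofInjective ((MonoidHom.ker_eq_bot_iff φ).1 hker)) isHS_base⟩

end CfsgLib.SmallGroups.HSGraphAut
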