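import Cfsg.Agent.Lib.SmallGroups.SharpMathieu

/-!
# Jordan's theorem on sharply multiply transitive groups

In a sharply 4-transitive group let `x` be an involution with two fixed points `p3`, `p4`.  Its
centraliser `A` in the stabiliser of the two is regular on the points moved by `x`, and involutions
fixing `p1` and `p2 = x p1` act on `A` fixing only `1` and `x`.  In even degree `A` has exponent two,
so has order at most four.  In odd degree three such involutions each invert at least half of `A`,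
with pairwise common inverted elements `1` and `x` only, so `A` has order at most eight.
-/

set_option autoImplicit false

namespace CfsgLib.SmallGroups.JordanSharp

open Equiv

variable {α : Type*}

/-- Four distinct points. -/
def D4 (a b c d : α) : Prop := a ≠ b ∧ a ≠ c ∧ a ≠ d ∧ b ≠ c ∧ b ≠ d ∧ c ≠ d

/-- Sharp 4-transitivity. -/
structure Sharp4 (G : Subgroup (Perm α)) : Prop where
  /-- Transitivity. -/
  trans : ∀ {a b c d a' b' c' d' : α}, D4 a b c d → D4 a' b' c' d' →
    ∃ g ∈ G, g a = a' ∧ g b = b' ∧ g c = c' ∧ g d = d'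
  /-- Only the identity fixes four points. -/
  sharp : ∀ {g : Perm α}, g ∈ G → ∀ {a b c d : α}, D4 a b c d → g a = a → g b = b → g c = c → g d = d →
    g = 1

section main

variable {G : Subgroup (Perm α)} (hG : Sharp4 G)

include hG

theorem ext4 {g h : Perm α} (hg : g ∈ G) (hh : h ∈ G) {a b c d : α} (hd : D4 a b c d)
    (ea : g a = h a) (eb : g b = h b) (ec : g c = h c) (ed : g d = h d) : g = h := by
  have h1 := hG.sharp (mul_mem (inv_mem hh) hg) hd (by simp [ea]) (by simp [eb]) (by simp [ec]) (by simp [ed])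
  exact (inv_mul_eq_one.1 h1).symm

variable [Fintype α] [DecidableEq α]

theorem card_fix_le {g : Perm α} (hg : g ∈ G) (hne : g ≠ 1) :
    (Finset.univ.filter fun p => g p = p).card ≤ 3 := by
  by_contra h
  obtain ⟨s, hs, hs4⟩ := Finset.exists_subset_card_eq (show 4 ≤ (Finset.univ.filter fun p => g p = p).card by omega)
  obtain ⟨a, b, c, d, h1, h2, h3, h4, h5, h6, rfl⟩ := Finset.card_eq_four.1 hs4
  have hm : ∀ q ∈ ({a, b, c, d} : Finset α), g q = q := fun q hq => (Finset.mem_filter.1 (hs hq)).2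
  exact hne (hG.sharp hg ⟨h1, h2, h3, h4, h5, h6⟩ (hm a (by simp)) (hm b (by simp)) (hm c (by simp))
    (hm d (by simp)))

theorem card_fix_involution {g : Perm α} (hg : g ∈ G) (hne : g ≠ 1) (hg2 : g * g = 1) {a b : α}
    (hab : a ≠ b) (ha : g a = a) (hb : g b = b) :
    (Finset.univ.filter fun p => g p = p).card = if Fintype.card α % 2 = 0 then 2 else 3 := by
  have h3 := card_fix_le hG hg hne
  have h2 : 2 ≤ (Finset.univ.filter fun p => g p = p).card := by
    refine le_trans (le_of_eq (Finset.card_pair hab).symm) (Finset.card_le_card ?_)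
    simp [Finset.insert_subset_iff, ha, hb]
  have hpar : g.supportᶜ.card ≡ Fintype.card α [MOD 2] := by
    have : Fact (Nat.Prime 2) := ⟨Nat.prime_two⟩
    exact Perm.card_compl_support_modEq (n := 1) (by rw [pow_one, sq, hg2])
  have e : g.supportᶜ = Finset.univ.filter fun p => g p = p := by ext p; simp
  rw [e, Nat.ModEq] at hpar
  split <;> omega

variable {p1 p2 p3 p4 : α}

/-- The set-up: `x` swaps `p1`, `p2` and fixes `p3`, `p4`. -/
theorem exists_x (hd : D4 p1 p2 p3 p4) :
    ∃ x ∈ G, x p1 = p2 ∧ x p2 = p1 ∧ x p3 = p3 ∧ x p4 = p4 ∧ x * x = 1 ∧ x ≠ 1 := by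
  obtain ⟨x, hx, e1, e2, e3, e4⟩ := hG.trans hd
    (show D4 p2 p1 p3 p4 from ⟨hd.1.symm, hd.2.2.2.1, hd.2.2.2.2.1, hd.2.1, hd.2.2.1, hd.2.2.2.2.2⟩)
  refine ⟨x, hx, e1, e2, e3, e4, ?_, fun h => hd.1 (by rw [← e1, h]; rfl)⟩
  exact ext4 hG (mul_mem hx hx) (one_mem _) hd (by simp [e1, e2]) (by simp [e1, e2]) (by simp [e3]) (by simp [e4])

variable {x : Perm α}

/-- The facts about `x`. -/
structure Base (G : Subgroup (Perm α)) (p1 p2 p3 p4 : α) (x : Perm α) : Prop where
  /-- Distinctness. -/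
  d4 : D4 p1 p2 p3 p4
  /-- Membership. -/
  mem : x ∈ G
  /-- `p1` to `p2`. -/
  e1 : x p1 = p2
  /-- `p2` to `p1`. -/
  e2 : x p2 = p1
  /-- `p3` fixed. -/
  e3 : x p3 = p3
  /-- `p4` fixed. -/
  e4 : x p4 = p4
  /-- Involution. -/
  sq : x * x = 1

omit hG [Fintype α] [DecidableEq α] in
theorem Base.invol (hb : Base G p1 p2 p3 p4 x) (p : α) : x (x p) = p :=
  congrArg (fun e : Perm α => e p) hb.sq

omit hG [Fintype α] [DecidableEq α] in
theorem Base.ne_one (hb : Base G p1 p2 p3 p4 x) : x ≠ 1 := fun h => hb.d4.1 (by rw [← hb.e1, h]; rfl)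

/-- The centraliser of `x` in the stabiliser of `p3` and `p4`. -/
def inA (G : Subgroup (Perm α)) (x : Perm α) (p3 p4 : α) (a : Perm α) : Prop :=
  a ∈ G ∧ a * x = x * a ∧ a p3 = p3 ∧ a p4 = p4

omit hG [Fintype α] [DecidableEq α] in
theorem inA_mul {a b : Perm α} (ha : inA G x p3 p4 a) (hb : inA G x p3 p4 b) : inA G x p3 p4 (a * b) :=
  ⟨mul_mem ha.1 hb.1, by rw [mul_assoc, hb.2.1, ← mul_assoc, ha.2.1, mul_assoc],
    by simp [ha.2.2.1, hb.2.2.1], by simp [ha.2.2.2, hb.2.2.2]⟩

omit hG [Fintype α] [DecidableEq α] in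
theorem inA_inv {a : Perm α} (ha : inA G x p3 p4 a) : inA G x p3 p4 a⁻¹ :=
  ⟨inv_mem ha.1, (Commute.inv_left (show Commute a x from ha.2.1)).eq,
    by rw [Perm.inv_eq_iff_eq]; exact ha.2.2.1.symm, by rw [Perm.inv_eq_iff_eq]; exact ha.2.2.2.symm⟩

omit hG [Fintype α] [DecidableEq α] in
theorem inA_x (hb : Base G p1 p2 p3 p4 x) : inA G x p3 p4 x := ⟨hb.mem, rfl, hb.e3, hb.e4⟩

omit hG [Fintype α] [DecidableEq α] in
theorem comm_apply {a : Perm α} (h : a * x = x * a) (p : α) : a (x p) = x (a p) :=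
  congrArg (fun e : Perm α => e p) h

theorem D4_moved (hb : Base G p1 p2 p3 p4 x) {p : α} (hp : x p ≠ p) : D4 p (x p) p3 p4 := by
  refine ⟨Ne.symm hp, ?_, ?_, ?_, ?_, hb.d4.2.2.2.2.2⟩
  · rintro rfl; exact hp hb.e3
  · rintro rfl; exact hp hb.e4
  · intro h
    have h1 := congrArg x h
    rw [hb.invol, hb.e3] at h1
    exact hp (h.trans h1.symm)
  · intro h
    have h1 := congrArg x h
    rw [hb.invol, hb.e4] at h1
    exact hp (h.trans h1.symm)

theorem eq_one_of_fix (hb : Base G p1 p2 p3 p4 x) {a : Perm α} (ha : inA G x p3 p4 a) {p : α}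
    (hp : x p ≠ p) (hap : a p = p) : a = 1 :=
  hG.sharp ha.1 (D4_moved hG hb hp) hap (by rw [comm_apply ha.2.1, hap]) ha.2.2.1 ha.2.2.2

theorem moved_p1 (hb : Base G p1 p2 p3 p4 x) : x p1 ≠ p1 := by rw [hb.e1]; exact hb.d4.1.symm

theorem moved_image (hb : Base G p1 p2 p3 p4 x) {a : Perm α} (ha : inA G x p3 p4 a) :
    x (a p1) ≠ a p1 := by
  rw [← comm_apply ha.2.1]
  exact fun h => moved_p1 hG hb (a.injective h)

theorem eq_of_image (hb : Base G p1 p2 p3 p4 x) {a b : Perm α} (ha : inA G x p3 p4 a)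
    (hb' : inA G x p3 p4 b) (h : a p1 = b p1) : a = b := by
  have h1 := eq_one_of_fix hG hb (inA_mul (inA_inv hb') ha) (moved_p1 hG hb) (by simp [h])
  exact (inv_mul_eq_one.1 h1).symm

theorem exists_inA (hb : Base G p1 p2 p3 p4 x) {p : α} (hp : x p ≠ p) :
    ∃ a, inA G x p3 p4 a ∧ a p1 = p := by
  obtain ⟨a, ha, f1, f2, f3, f4⟩ := hG.trans hb.d4 (D4_moved hG hb hp)
  exact ⟨a, ⟨ha, ext4 hG (mul_mem ha hb.mem) (mul_mem hb.mem ha) hb.d4
    (by simp [hb.e1, f1, f2]) (by simp [hb.e2, f1, f2, hb.invol p]) (by simp [hb.e3, f3])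
    (by simp [hb.e4, f4]), f3, f4⟩, f1⟩

theorem card_A (hb : Base G p1 p2 p3 p4 x) :
    Nat.card {a : Perm α // inA G x p3 p4 a} +
      (Finset.univ.filter fun p => x p = p).card = Fintype.card α := by
  classical
  have e : Nat.card {a : Perm α // inA G x p3 p4 a} = (Finset.univ.filter fun p => ¬ x p = p).card := by
    rw [← Nat.card_eq_finsetCard]
    refine Nat.card_eq_of_bijective
      (fun a => ⟨a.1 p1, Finset.mem_filter.2 ⟨Finset.mem_univ _, moved_image hG hb a.2⟩⟩) ⟨?_, ?_⟩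
    · exact fun a b h => Subtype.ext (eq_of_image hG hb a.2 b.2 (congrArg Subtype.val h))
    · rintro ⟨p, hp⟩
      obtain ⟨a, ha, h⟩ := exists_inA hG hb (Finset.mem_filter.1 hp).2
      exact ⟨⟨a, ha⟩, Subtype.ext h⟩
  rw [e, add_comm, Finset.card_filter_add_card_filter_not, Finset.card_univ]

/-- The elements of `A` fix all fixed points of `x`. -/
theorem fix_F (hb : Base G p1 p2 p3 p4 x) {a : Perm α} (ha : inA G x p3 p4 a) {p : α} (hp : x p = p) :
    a p = p := by
  by_contra hne
  have h3 := card_fix_le hG hb.mem hb.ne_one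
  have q3 : a p ≠ p3 := fun h => hne (by
    have : p = p3 := a.injective (h.trans ha.2.2.1.symm)
    rw [this]; exact ha.2.2.1)
  have q4 : a p ≠ p4 := fun h => hne (by
    have : p = p4 := a.injective (h.trans ha.2.2.2.symm)
    rw [this]; exact ha.2.2.2)
  have r3 : p ≠ p3 := fun h => hne (by rw [h]; exact ha.2.2.1)
  have r4 : p ≠ p4 := fun h => hne (by rw [h]; exact ha.2.2.2)
  have hfix : x (a p) = a p := by rw [← comm_apply ha.2.1, hp]
  have hsub : ({p3, p4, p, a p} : Finset α) ⊆ Finset.univ.filter fun q => x q = q := by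
    simp [Finset.insert_subset_iff, hb.e3, hb.e4, hp, hfix]
  have h4 : ({p3, p4, p, a p} : Finset α).card = 4 :=
    Finset.card_eq_four.2 ⟨p3, p4, p, a p, hb.d4.2.2.2.2.2, r3.symm, q3.symm, r4.symm, q4.symm,
      Ne.symm hne, rfl⟩
  have := Finset.card_le_card hsub
  omega

/-- An involution acting on `A` with the least possible fixed points. -/
structure Acts (G : Subgroup (Perm α)) (p1 p2 : α) (x y : Perm α) : Prop where
  /-- Membership. -/
  mem : y ∈ G
  /-- Commutation with `x`. -/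
  comm : y * x = x * y
  /-- Involution. -/
  sq : y * y = 1
  /-- Fixing `p1`. -/
  f1 : y p1 = p1
  /-- No further fixed moved point. -/
  only : ∀ p, x p ≠ p → y p = p → p = p1 ∨ p = p2

theorem conj_inA (hb : Base G p1 p2 p3 p4 x) {y a : Perm α} (hy : Acts G p1 p2 x y)
    (ha : inA G x p3 p4 a) : inA G x p3 p4 (y * a * y) := by
  have hyy : ∀ p, y (y p) = p := fun p => congrArg (fun e : Perm α => e p) hy.sq
  have hF : ∀ p, x p = p → (y * a * y) p = p := fun p hp => by
    have h1 : x (y p) = y p := by rw [← comm_apply hy.comm, hp]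
    show y (a (y p)) = p
    rw [fix_F hG hb ha h1, hyy]
  exact ⟨mul_mem (mul_mem hy.mem ha.1) hy.mem,
    ((show Commute y x from hy.comm).mul_left ha.2.1).mul_left hy.comm, hF p3 hb.e3, hF p4 hb.e4⟩

theorem fixed_conj (hb : Base G p1 p2 p3 p4 x) {y a : Perm α} (hy : Acts G p1 p2 x y)
    (ha : inA G x p3 p4 a) (h : y * a * y = a) : a = 1 ∨ a = x := by
  have h1 : y (a p1) = a p1 := by
    conv_rhs => rw [← h]
    simp [hy.f1]
  rcases hy.only _ (moved_image hG hb ha) h1 with e | e
  · exact Or.inl (eq_one_of_fix hG hb ha (moved_p1 hG hb) e)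
  · exact Or.inr (eq_of_image hG hb ha (inA_x hb) (e.trans hb.e1.symm))

/-- An abelian `A` is inverted up to `x`. -/
theorem conj_mul_self (hb : Base G p1 p2 p3 p4 x) {y a : Perm α} (hy : Acts G p1 p2 x y)
    (habel : ∀ u v, inA G x p3 p4 u → inA G x p3 p4 v → u * v = v * u)
    (ha : inA G x p3 p4 a) : y * a * y * a = 1 ∨ y * a * y * a = x := by
  refine fixed_conj hG hb hy (inA_mul (conj_inA hG hb hy ha) ha) ?_
  calc y * (y * a * y * a) * y = (y * y) * a * (y * a * y) := by simp only [mul_assoc]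
    _ = a * (y * a * y) := by rw [hy.sq, one_mul]
    _ = y * a * y * a := habel _ _ ha (conj_inA hG hb hy ha)

theorem x_central (hb : Base G p1 p2 p3 p4 x) {y : Perm α} (hy : Acts G p1 p2 x y) : y * x * y = x := by
  rw [hy.comm, mul_assoc, hy.sq, mul_one]

/-! ### Even degree -/

theorem exponent_two (hb : Base G p1 p2 p3 p4 x) (hev : Fintype.card α % 2 = 0) {a : Perm α}
    (ha : inA G x p3 p4 a) : a * a = 1 := by
  classical
  by_cases ha1 : a = 1
  · rw [ha1, mul_one]
  obtain ⟨d12, d13, d14, d23, d24, d34⟩ := hb.d4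
  set R := ((Finset.univ : Finset α).erase p3).erase p4 with hR
  have hRm : ∀ p, p ∈ R ↔ p ≠ p4 ∧ p ≠ p3 := fun p => by simp [hR]
  have hRc : R.card + 2 = Fintype.card α := by
    have h1 := Finset.card_erase_add_one (Finset.mem_univ p3)
    have h2 := Finset.card_erase_add_one
      (show p4 ∈ (Finset.univ : Finset α).erase p3 by simp [d34.symm])
    rw [Finset.card_univ] at h1
    rw [hR]
    omega
  set S := (Finset.univ : Finset (Perm α)).filter fun g => g ∈ G ∧ g p3 = p3 ∧ g p4 = p4 with hS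
  have hSm : ∀ g, g ∈ S ↔ g ∈ G ∧ g p3 = p3 ∧ g p4 = p4 := fun g => by simp [hS]
  have hpres : ∀ g ∈ S, ∀ p ∈ R, g p ∈ R := fun g hg p hp => by
    obtain ⟨-, g3, g4⟩ := (hSm g).1 hg
    rw [hRm] at hp ⊢
    exact ⟨fun e => hp.1 (g.injective (e.trans g4.symm)), fun e => hp.2 (g.injective (e.trans g3.symm))⟩
  have hD : ∀ r s : α, r ∈ R → s ∈ R → r ≠ s → D4 r s p3 p4 := fun r s hr hs hrs => by
    rw [hRm] at hr hs
    exact ⟨hrs, hr.2, hr.1, hs.2, hs.1, d34⟩
  have hp1R : p1 ∈ R := (hRm p1).2 ⟨d14, d13⟩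
  have hp2R : p2 ∈ R := (hRm p2).2 ⟨d24, d23⟩
  have hScard : S.card = R.offDiag.card := by
    refine Finset.card_nbij (fun g => (g p1, g p2)) (fun g hg => ?_) (fun g hg h hh e => ?_) fun rs hrs => ?_
    · rw [Finset.mem_coe] at hg ⊢
      exact Finset.mem_offDiag.2 ⟨hpres g hg _ hp1R, hpres g hg _ hp2R, fun e => d12 (g.injective e)⟩
    · rw [Finset.mem_coe] at hg hh
      obtain ⟨g0, g3, g4⟩ := (hSm g).1 hg
      obtain ⟨h0, h3, h4⟩ := (hSm h).1 hh
      simp only [Prod.mk.injEq] at e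
      exact ext4 hG g0 h0 hb.d4 e.1 e.2 (g3.trans h3.symm) (g4.trans h4.symm)
    · rw [Finset.mem_coe, Finset.mem_offDiag] at hrs
      obtain ⟨g, hg, f1, f2, f3, f4⟩ := hG.trans hb.d4 (hD _ _ hrs.1 hrs.2.1 hrs.2.2)
      exact ⟨g, (hSm g).2 ⟨hg, f3, f4⟩, Prod.ext f1 f2⟩
  have hBcard : ∀ r ∈ R, (S.filter fun g => g r = r).card = R.card - 1 := fun r hr => by
    obtain ⟨s, hs, hsr⟩ : ∃ s ∈ R, s ≠ r := by
      rcases eq_or_ne p1 r with rfl | h
      · exact ⟨p2, hp2R, d12.symm⟩
      · exact ⟨p1, hp1R, h⟩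
    rw [← Finset.card_erase_of_mem hr]
    refine Finset.card_nbij (fun g => g s) (fun g hg => ?_) (fun g hg h hh e => ?_) fun q hq => ?_
    · rw [Finset.mem_coe, Finset.mem_filter] at hg
      exact Finset.mem_erase.2 ⟨fun e => hsr (g.injective (e.trans hg.2.symm)), hpres g hg.1 _ hs⟩
    · rw [Finset.mem_coe, Finset.mem_filter] at hg hh
      obtain ⟨g0, g3, g4⟩ := (hSm g).1 hg.1
      obtain ⟨h0, h3, h4⟩ := (hSm h).1 hh.1
      exact ext4 hG g0 h0 (hD r s hr hs hsr.symm) (hg.2.trans hh.2.symm) e (g3.trans h3.symm)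
        (g4.trans h4.symm)
    · rw [Finset.mem_coe, Finset.mem_erase] at hq
      obtain ⟨g, hg, f1, f2, f3, f4⟩ := hG.trans (hD r s hr hs hsr.symm) (hD r q hr hq.2 hq.1.symm)
      exact ⟨g, Finset.mem_filter.2 ⟨(hSm g).2 ⟨hg, f3, f4⟩, f1⟩, f2⟩
  set U := (S.erase 1).filter fun g => ∀ r ∈ R, g r ≠ r with hU
  have hone : (1 : Perm α) ∈ S := (hSm 1).2 ⟨one_mem _, rfl, rfl⟩
  have hUcard : U.card + R.card * (R.card - 2) = R.offDiag.card - 1 := by
    have hsplit := Finset.card_filter_add_card_filter_not (s := S.erase 1) fun g => ∀ r ∈ R, g r ≠ r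
    rw [← hU, Finset.card_erase_of_mem hone, hScard] at hsplit
    have e : ((S.erase 1).filter fun g => ¬ ∀ r ∈ R, g r ≠ r) =
        R.biUnion fun r => (S.filter fun g => g r = r).erase 1 := by
      ext g
      simp only [Finset.mem_filter, Finset.mem_erase, Finset.mem_biUnion]
      constructor
      · rintro ⟨⟨h1, h2⟩, h3⟩
        push Not at h3
        obtain ⟨r, hr, e⟩ := h3
        exact ⟨r, hr, h1, h2, e⟩
      · rintro ⟨r, hr, h1, h2, e⟩
        exact ⟨⟨h1, h2⟩, fun h => h r hr e⟩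
    have hdisj : (R : Set α).PairwiseDisjoint fun r => (S.filter fun g => g r = r).erase 1 := by
      intro r hr s hs hrs
      refine Finset.disjoint_left.2 fun g hg hg' => ?_
      simp only [Finset.mem_erase, Finset.mem_filter] at hg hg'
      obtain ⟨g0, g3, g4⟩ := (hSm g).1 hg.2.1
      exact hg.1 (hG.sharp g0 (hD r s hr hs hrs) hg.2.2 hg'.2.2 g3 g4)
    have hterm : ∀ r ∈ R, ((S.filter fun g => g r = r).erase 1).card = R.card - 2 := fun r hr => by
      rw [Finset.card_erase_of_mem (Finset.mem_filter.2 ⟨hone, by simp⟩), hBcard r hr]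
      omega
    rw [e, Finset.card_biUnion hdisj, Finset.sum_congr rfl hterm, Finset.sum_const, smul_eq_mul]
      at hsplit
    exact hsplit
  set T := U.filter fun g => g * g = 1
  have hT : R.card - 1 ≤ T.card := by
    rw [← Finset.card_erase_of_mem hp1R]
    refine Finset.card_le_card_of_surjOn (fun g => g p1) fun q hq => ?_
    rw [Finset.mem_coe, Finset.mem_erase] at hq
    obtain ⟨g, hg, f1, f2, f3, f4⟩ := hG.trans (hD p1 q hp1R hq.2 hq.1.symm) (hD q p1 hq.2 hp1R hq.1)
    have hne : g ≠ 1 := fun e => hq.1 (by rw [← f1, e]; rfl)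
    have hsq : g * g = 1 := ext4 hG (mul_mem hg hg) (one_mem _) (hD p1 q hp1R hq.2 hq.1.symm)
      (by simp [f1, f2]) (by simp [f1, f2]) (by simp [f3]) (by simp [f4])
    refine ⟨g, Finset.mem_filter.2 ⟨Finset.mem_filter.2 ⟨Finset.mem_erase.2
      ⟨hne, (hSm g).2 ⟨hg, f3, f4⟩⟩, fun r hr e => ?_⟩, hsq⟩, f1⟩
    have h2 := card_fix_involution hG hg hne hsq d34 f3 f4
    rw [if_pos hev] at h2
    have hr' := (hRm r).1 hr
    have hsub : ({p3, p4, r} : Finset α) ⊆ Finset.univ.filter fun p => g p = p := by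
      simp [Finset.insert_subset_iff, f3, f4, e]
    have h3 : ({p3, p4, r} : Finset α).card = 3 :=
      Finset.card_eq_three.2 ⟨p3, p4, r, d34, hr'.2.symm, hr'.1.symm, rfl⟩
    have := Finset.card_le_card hsub
    omega
  have hUT : T = U := by
    refine Finset.eq_of_subset_of_card_le (Finset.filter_subset _ _) ?_
    have hoff : R.offDiag.card = R.card * (R.card - 1) := by
      rw [Finset.offDiag_card, Nat.mul_sub, mul_one]
    rw [hoff] at hUcard
    have h2 : 2 ≤ R.card := by
      refine le_trans (le_of_eq (Finset.card_pair d12).symm) (Finset.card_le_card ?_)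
      simp [Finset.insert_subset_iff, hp1R, hp2R]
    obtain ⟨m, hm⟩ : ∃ m, R.card = m + 2 := ⟨R.card - 2, by omega⟩
    rw [hm] at hUcard hT
    have e1 : (m + 2) * (m + 2 - 1) = (m + 2) * (m + 2 - 2) + (m + 2) := by
      rw [show m + 2 - 1 = m + 1 by omega, show m + 2 - 2 = m by omega]; ring
    omega
  have haU : a ∈ U := by
    refine Finset.mem_filter.2 ⟨Finset.mem_erase.2 ⟨ha1, (hSm a).2 ⟨ha.1, ha.2.2.1, ha.2.2.2⟩⟩,
      fun r hr e => ?_⟩
    by_cases hxr : x r = r
    · have h2 := card_fix_involution hG hb.mem hb.ne_one hb.sq d34 hb.e3 hb.e4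
      rw [if_pos hev] at h2
      have hr' := (hRm r).1 hr
      have hsub : ({p3, p4, r} : Finset α) ⊆ Finset.univ.filter fun p => x p = p := by
        simp [Finset.insert_subset_iff, hb.e3, hb.e4, hxr]
      have h3 : ({p3, p4, r} : Finset α).card = 3 :=
        Finset.card_eq_three.2 ⟨p3, p4, r, d34, hr'.2.symm, hr'.1.symm, rfl⟩
      have := Finset.card_le_card hsub
      omega
    · exact ha1 (eq_one_of_fix hG hb ha hxr e)
  rw [← hUT] at haU
  exact (Finset.mem_filter.1 haU).2

theorem even_case (hb : Base G p1 p2 p3 p4 x) (hev : Fintype.card α % 2 = 0) :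
    Fintype.card α ≤ 6 := by
  classical
  obtain ⟨d12, d13, d14, d23, d24, d34⟩ := hb.d4
  have habel : ∀ u v, inA G x p3 p4 u → inA G x p3 p4 v → u * v = v * u := fun u v hu hv => by
    have h1 := exponent_two hG hb hev hu
    have h2 := exponent_two hG hb hev hv
    have h3 := exponent_two hG hb hev (inA_mul hu hv)
    calc u * v = (u * v)⁻¹ := (inv_eq_of_mul_eq_one_right h3).symm
      _ = v⁻¹ * u⁻¹ := mul_inv_rev u v
      _ = v * u := by rw [inv_eq_of_mul_eq_one_right h1, inv_eq_of_mul_eq_one_right h2]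
  obtain ⟨y, hy, f1, f2, f3, f4⟩ := hG.trans hb.d4
    (show D4 p1 p2 p4 p3 from ⟨d12, d14, d13, d24, d23, d34.symm⟩)
  have hne : y ≠ 1 := fun e => d34.symm (by rw [← f3, e]; rfl)
  have hsq : y * y = 1 := ext4 hG (mul_mem hy hy) (one_mem _) hb.d4 (by simp [f1]) (by simp [f2])
    (by simp [f3, f4]) (by simp [f3, f4])
  have hact : Acts G p1 p2 x y := by
    refine ⟨hy, ext4 hG (mul_mem hy hb.mem) (mul_mem hb.mem hy) hb.d4 (by simp [f1, f2, hb.e1])
      (by simp [f1, f2, hb.e2]) (by simp [f3, hb.e3, hb.e4]) (by simp [f4, hb.e3, hb.e4]), hsq, f1,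
      fun p _ hp => ?_⟩
    by_contra hcon
    push Not at hcon
    have h2 := card_fix_involution hG hy hne hsq d12 f1 f2
    rw [if_pos hev] at h2
    have hsub : ({p1, p2, p} : Finset α) ⊆ Finset.univ.filter fun q => y q = q := by
      simp [Finset.insert_subset_iff, f1, f2, hp]
    have h3 : ({p1, p2, p} : Finset α).card = 3 :=
      Finset.card_eq_three.2 ⟨p1, p2, p, d12, hcon.1.symm, hcon.2.symm, rfl⟩
    have := Finset.card_le_card hsub
    omega
  have hA := card_A hG hb
  have hfx := card_fix_involution hG hb.mem hb.ne_one hb.sq d34 hb.e3 hb.e4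
  rw [if_pos hev] at hfx
  suffices hle : Nat.card {a : Perm α // inA G x p3 p4 a} ≤ 4 by omega
  by_contra hlt
  -- elements off `{1, x}` go to `x` times themselves, so there is one coset only
  have hcase : ∀ a, inA G x p3 p4 a → a = 1 ∨ a = x ∨ y * a * y = x * a := fun a ha => by
    rcases conj_mul_self hG hb hact habel ha with h | h
    · have h1 : y * a * y = a := by
        rw [mul_eq_one_iff_eq_inv.1 h]
        exact inv_eq_of_mul_eq_one_right (exponent_two hG hb hev ha)
      exact (fixed_conj hG hb hact ha h1).imp id Or.inl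
    · exact Or.inr (Or.inr (by
        rw [← mul_one (y * a * y), ← exponent_two hG hb hev ha, ← mul_assoc, h]))
  obtain ⟨a, ha, ha1, hax⟩ : ∃ a, inA G x p3 p4 a ∧ a ≠ 1 ∧ a ≠ x := by
    by_contra hcon
    push Not at hcon
    have h2 : Nat.card {a : Perm α // inA G x p3 p4 a} ≤ 2 := by
      refine le_trans (Nat.card_le_card_of_injective
        (fun a => decide (a.1 = 1)) fun u v e => Subtype.ext ?_) (by simp)
      simp only [decide_eq_decide] at e
      by_cases h : u.1 = 1
      · rw [h, e.1 h]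
      · rw [hcon u.1 u.2 h, hcon v.1 v.2 fun h' => h (e.2 h')]
    omega
  have hall : ∀ b, inA G x p3 p4 b → b = 1 ∨ b = x ∨ b = a ∨ b = x * a := fun b hb' => by
    rcases hcase b hb' with h | h | h
    · exact Or.inl h
    · exact Or.inr (Or.inl h)
    have hya : y * a * y = x * a := ((hcase a ha).resolve_left ha1).resolve_left hax
    have hfix : y * (a * b) * y = a * b := by
      calc y * (a * b) * y = (y * a * y) * (y * b * y) := by
            simp only [mul_assoc]; rw [← mul_assoc y y, hsq, one_mul]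
        _ = x * a * (x * b) := by rw [hya, h]
        _ = a * (x * x) * b := by
            rw [← mul_assoc, ← ha.2.1]
            simp only [mul_assoc]
        _ = a * b := by rw [hb.sq, mul_one]
    have hab : b = a * (a * b) := by rw [← mul_assoc, exponent_two hG hb hev ha, one_mul]
    rcases fixed_conj hG hb hact (inA_mul ha hb') hfix with e | e
    · exact Or.inr (Or.inr (Or.inl (by rw [hab, e, mul_one])))
    · exact Or.inr (Or.inr (Or.inr (by rw [hab, e, ha.2.1])))
  have h4 : Nat.card {a : Perm α // inA G x p3 p4 a} ≤ 4 := by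
    refine le_trans (Nat.card_le_card_of_injective
      (fun b => (decide (b.1 = 1 ∨ b.1 = x), decide (b.1 = 1 ∨ b.1 = a))) fun u v e => Subtype.ext ?_)
      (by simp)
    simp only [Prod.mk.injEq, decide_eq_decide] at e
    have hxa : x * a ≠ 1 ∧ x * a ≠ x ∧ x * a ≠ a := by
      refine ⟨fun h => hax ?_, fun h => ha1 ?_, fun h => hb.ne_one ?_⟩
      · rw [mul_eq_one_iff_inv_eq.1 h |>.symm, inv_eq_of_mul_eq_one_right hb.sq]
      · exact mul_eq_left.1 h
      · exact mul_eq_right.1 h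
    rcases hall u.1 u.2 with hu | hu | hu | hu <;> rcases hall v.1 v.2 with hv | hv | hv | hv <;>
      simp [hu, hv, ha1, hax, hax.symm, hb.ne_one, hxa.1, hxa.2.1, hxa.2.2] at e ⊢
  exact hlt h4

/-! ### Odd degree -/

omit hG [DecidableEq α] in
theorem half_inverted {y : Perm α} [DecidableEq α] (A : Finset (Perm α)) (hsq : y * y = 1)
    (hmul : ∀ a ∈ A, ∀ b ∈ A, a * b ∈ A) (hinv : ∀ a ∈ A, a⁻¹ ∈ A)
    (hconj : ∀ a ∈ A, y * a * y ∈ A)
    (hfix : ∀ a ∈ A, y * a * y = a → a = 1 ∨ a = x) :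
    A.card ≤ 2 * (A.filter fun a => y * a * y = a⁻¹).card := by
  classical
  have hyy : ∀ u v : Perm α, y * u * y * (y * v * y) = y * (u * v) * y := fun u v => by
    simp only [mul_assoc]; rw [← mul_assoc y y, hsq, one_mul]
  have hyinv : y⁻¹ = y := inv_eq_of_mul_eq_one_right hsq
  refine (Finset.card_le_mul_card_image A 2 fun c hc => ?_).trans (Nat.mul_le_mul_left 2
    (Finset.card_le_card (s := A.image fun b => b⁻¹ * (y * b * y)) ?_))
  · obtain ⟨b, hb, rfl⟩ := Finset.mem_image.1 hc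
    refine le_trans (Finset.card_le_card (t := ({b, x * b} : Finset (Perm α))) fun u hu => ?_)
      Finset.card_le_two
    rw [Finset.mem_filter] at hu
    have hui : y * b⁻¹ * y = (y * b * y)⁻¹ := by rw [mul_inv_rev, mul_inv_rev, hyinv, mul_assoc]
    have h1 : y * (u * b⁻¹) * y = u * b⁻¹ := by
      have h2 := hu.2
      rw [inv_mul_eq_iff_eq_mul] at h2
      rw [← hyy, hui, h2]
      group
    rcases hfix _ (hmul _ hu.1 _ (hinv _ hb)) h1 with e | e
    · simp [mul_inv_eq_one.1 e]
    · simp [mul_inv_eq_iff_eq_mul.1 e]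
  · intro c hc
    obtain ⟨b, hb, rfl⟩ := Finset.mem_image.1 hc
    refine Finset.mem_filter.2 ⟨hmul _ (hinv _ hb) _ (hconj _ hb), ?_⟩
    rw [mul_inv_rev, mul_inv_rev, mul_inv_rev, hyinv, inv_inv]
    simp only [mul_assoc, hsq, mul_one]

theorem abelian_of_small (hb : Base G p1 p2 p3 p4 x)
    (hc : Nat.card {a : Perm α // inA G x p3 p4 a} = 4 ∨
      Nat.card {a : Perm α // inA G x p3 p4 a} = 6) {u v : Perm α}
    (hu : inA G x p3 p4 u) (hv : inA G x p3 p4 v) : u * v = v * u := by
  let A : Subgroup (Perm α) :=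
    { carrier := {a | inA G x p3 p4 a}
      one_mem' := ⟨one_mem _, by rw [one_mul, mul_one], rfl, rfl⟩
      mul_mem' := inA_mul
      inv_mem' := inA_inv }
  change Nat.card A = 4 ∨ Nat.card A = 6 at hc
  have hcomm : ∀ a b : A, a * b = b * a := by
    rcases hc with h | h
    · have : Fact (Nat.Prime 2) := ⟨Nat.prime_two⟩
      exact IsPGroup.commutative_of_card_eq_prime_sq (p := 2) (by rw [h]; rfl)
    · have : Fact (Nat.Prime 3) := ⟨Nat.prime_three⟩
      obtain ⟨a, ha⟩ := exists_prime_orderOf_dvd_card' (G := A) 3 (by rw [h]; norm_num)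
      set z : A := ⟨x, inA_x hb⟩
      have hz : orderOf z = 2 := orderOf_eq_prime (by rw [sq]; exact Subtype.ext hb.sq)
        fun e => hb.ne_one (congrArg Subtype.val e)
      have hcz : Commute a z := Subtype.ext a.2.2.1
      have hord : orderOf (a * z) = 6 := by
        rw [hcz.orderOf_mul_eq_mul_orderOf_of_coprime (by rw [ha, hz]; norm_num), ha, hz]
      have : IsCyclic A := isCyclic_of_orderOf_eq_card (a * z) (by rw [hord, h])
      exact fun a b => IsCyclic.commGroup.mul_comm a b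
  exact congrArg Subtype.val (hcomm ⟨u, hu⟩ ⟨v, hv⟩)

theorem odd_case (hb : Base G p1 p2 p3 p4 x) (hodd : Fintype.card α % 2 = 1) :
    Fintype.card α = 5 ∨ Fintype.card α = 11 := by
  classical
  obtain ⟨d12, d13, d14, d23, d24, d34⟩ := hb.d4
  have hfx := card_fix_involution hG hb.mem hb.ne_one hb.sq d34 hb.e3 hb.e4
  rw [if_neg (by omega)] at hfx
  obtain ⟨p5, hp5, h53, h54⟩ : ∃ p, x p = p ∧ p ≠ p3 ∧ p ≠ p4 := by
    by_contra hcon
    push Not at hcon
    have hsub : (Finset.univ.filter fun p => x p = p) ⊆ {p3, p4} := fun p hp => by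
      simp only [Finset.mem_filter] at hp
      simp only [Finset.mem_insert, Finset.mem_singleton]
      by_cases h : p = p3
      · exact Or.inl h
      · exact Or.inr (hcon p hp.2 h)
    have := (Finset.card_le_card hsub).trans Finset.card_le_two
    omega
  have hF : ∀ p, x p = p → p = p3 ∨ p = p4 ∨ p = p5 := fun p hp => by
    by_contra hcon
    push Not at hcon
    have hsub : ({p3, p4, p5, p} : Finset α) ⊆ Finset.univ.filter fun q => x q = q := by
      simp [Finset.insert_subset_iff, hb.e3, hb.e4, hp5, hp]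
    have h4 : ({p3, p4, p5, p} : Finset α).card = 4 := Finset.card_eq_four.2 ⟨p3, p4, p5, p, d34,
      h53.symm, hcon.1.symm, h54.symm, hcon.2.1.symm, hcon.2.2.symm, rfl⟩
    have := Finset.card_le_card hsub
    omega
  have hmoved : ∀ q, x q = q → p1 ≠ q ∧ p2 ≠ q := fun q hq =>
    ⟨fun e => by rw [← e, hb.e1] at hq; exact d12.symm hq, fun e => by rw [← e, hb.e2] at hq; exact d12 hq⟩
  have mk : ∀ u v w : α, x u = u → x v = v → x w = w → u ≠ v → u ≠ w → v ≠ w →
      (∀ p, x p = p → p = u ∨ p = v ∨ p = w) →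
      ∃ y, Acts G p1 p2 x y ∧ y p2 = p2 ∧ y u = u ∧ y v = w ∧ y w = v := by
    intro u v w hu hv hw huv huw hvw hall
    obtain ⟨y, hy, f1, f2, f3, f4⟩ := hG.trans
      (show D4 p1 p2 u v from ⟨d12, (hmoved u hu).1, (hmoved v hv).1, (hmoved u hu).2, (hmoved v hv).2, huv⟩)
      (show D4 p1 p2 u w from ⟨d12, (hmoved u hu).1, (hmoved w hw).1, (hmoved u hu).2, (hmoved w hw).2, huw⟩)
    have hcomm : y * x = x * y := ext4 hG (mul_mem hy hb.mem) (mul_mem hb.mem hy)
      (show D4 p1 p2 u v from ⟨d12, (hmoved u hu).1, (hmoved v hv).1, (hmoved u hu).2, (hmoved v hv).2, huv⟩)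
      (by simp [f1, f2, hb.e1]) (by simp [f1, f2, hb.e2]) (by simp [f3, hu]) (by simp [f4, hv, hw])
    have f5 : y w = v := by
      rcases hall (y w) (by rw [← comm_apply hcomm, hw]) with h | h | h
      · exact absurd (y.injective (h.trans f3.symm)) huw.symm
      · exact h
      · exact absurd (y.injective (h.trans f4.symm)) hvw.symm
    have hne : y ≠ 1 := fun e => hvw (by rw [← f4, e]; rfl)
    have hsq : y * y = 1 := ext4 hG (mul_mem hy hy) (one_mem _)
      (show D4 p1 p2 u v from ⟨d12, (hmoved u hu).1, (hmoved v hv).1, (hmoved u hu).2, (hmoved v hv).2, huv⟩)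
      (by simp [f1]) (by simp [f2]) (by simp [f3]) (by simp [f4, f5])
    refine ⟨y, ⟨hy, hcomm, hsq, f1, fun p hp hpy => ?_⟩, f2, f3, f4, f5⟩
    by_contra hcon
    push Not at hcon
    have h3 := card_fix_le hG hy hne
    have hsub : ({p1, p2, u, p} : Finset α) ⊆ Finset.univ.filter fun q => y q = q := by
      simp [Finset.insert_subset_iff, f1, f2, f3, hpy]
    have h4 : ({p1, p2, u, p} : Finset α).card = 4 := Finset.card_eq_four.2 ⟨p1, p2, u, p, d12,
      (hmoved u hu).1, hcon.1.symm, (hmoved u hu).2, hcon.2.symm, fun e => hp (e ▸ hu), rfl⟩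
    have := Finset.card_le_card hsub
    omega
  obtain ⟨y5, a5, a52, a55, a53, a54⟩ := mk p5 p3 p4 hp5 hb.e3 hb.e4 h53 h54 d34
    fun p hp => by rcases hF p hp with h | h | h <;> simp [h]
  obtain ⟨y3, a3, a32, a33, a34, a35⟩ := mk p3 p4 p5 hb.e3 hb.e4 hp5 d34 h53.symm h54.symm
    fun p hp => by rcases hF p hp with h | h | h <;> simp [h]
  obtain ⟨y4, a4, a42, a44, a43, a45⟩ := mk p4 p3 p5 hb.e4 hb.e3 hp5 d34.symm h54.symm h53.symm
    fun p hp => by rcases hF p hp with h | h | h <;> simp [h]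
  have n35 : y3 * y5 ≠ 1 := fun e => h53 (by
    have h := congrArg (fun f : Perm α => f p3) e
    simp only [Perm.mul_apply, a53, a34, Perm.one_apply] at h
    exact h)
  have n45 : y4 * y5 ≠ 1 := fun e => d34 (by
    have h := congrArg (fun f : Perm α => f p3) e
    simp only [Perm.mul_apply, a53, a44, Perm.one_apply] at h
    exact h.symm)
  have n34 : y3 * y4 ≠ 1 := fun e => d34 (by
    have h := congrArg (fun f : Perm α => f p3) e
    simp only [Perm.mul_apply, a43, a35, Perm.one_apply] at h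
    exact h.symm)
  have hA := card_A hG hb
  rw [hfx] at hA
  have key : ∀ y y', Acts G p1 p2 x y → y p2 = p2 → Acts G p1 p2 x y' → y' p2 = p2 → y * y' ≠ 1 →
      ∀ a, inA G x p3 p4 a → (y * y') * a = a * (y * y') → a = 1 ∨ a = x := by
    intro y y' hy hy2 hy' hy2' hne a ha hc
    by_contra hcon
    push Not at hcon
    have h1 : (y * y') (a p1) = a p1 := by
      rw [← Perm.mul_apply, hc, Perm.mul_apply, Perm.mul_apply, hy'.f1, hy.f1]
    have h2 : (y * y') (a p2) = a p2 := by
      rw [← Perm.mul_apply, hc, Perm.mul_apply, Perm.mul_apply, hy2', hy2]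
    have e2 : a p2 = x (a p1) := by rw [← hb.e1, comm_apply ha.2.1]
    have q11 : a p1 ≠ p1 := fun e => hcon.1 (eq_one_of_fix hG hb ha (moved_p1 hG hb) e)
    have q12 : a p1 ≠ p2 := fun e => hcon.2 (eq_of_image hG hb ha (inA_x hb) (e.trans hb.e1.symm))
    have q21 : a p2 ≠ p1 := fun e => q12 (by rw [← hb.invol (a p1), ← e2, e, hb.e1])
    have q22 : a p2 ≠ p2 := fun e => q11 (by rw [← hb.invol (a p1), ← e2, e, hb.e2])
    exact hne (hG.sharp (mul_mem hy.mem hy'.mem)
      (show D4 p1 p2 (a p1) (a p2) from ⟨d12, q11.symm, q21.symm, q12.symm, q22.symm,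
        fun e => d12 (a.injective e)⟩)
      (by simp [hy.f1, hy'.f1]) (by simp [hy2, hy2']) h1 h2)
  set As := (Finset.univ : Finset (Perm α)).filter fun a => inA G x p3 p4 a with hAs
  have hAsm : ∀ a, a ∈ As ↔ inA G x p3 p4 a := fun a => by simp [hAs]
  have hAsc : As.card = Nat.card {a : Perm α // inA G x p3 p4 a} := by
    rw [Nat.card_eq_fintype_card, Fintype.card_subtype, hAs]
  let I : Perm α → Finset (Perm α) := fun y => As.filter fun a => y * a * y = a⁻¹
  have half : ∀ y, Acts G p1 p2 x y → As.card ≤ 2 * (I y).card := fun y hy =>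
    half_inverted (x := x) As hy.sq (fun a ha b hb' => (hAsm _).2 (inA_mul ((hAsm a).1 ha) ((hAsm b).1 hb')))
      (fun a ha => (hAsm _).2 (inA_inv ((hAsm a).1 ha)))
      (fun a ha => (hAsm _).2 (conj_inA hG hb hy ((hAsm a).1 ha)))
      fun a ha h => fixed_conj hG hb hy ((hAsm a).1 ha) h
  have common : ∀ y y', Acts G p1 p2 x y → y p2 = p2 → Acts G p1 p2 x y' → y' p2 = p2 → y * y' ≠ 1 →
      Disjoint ((I y) \ {1, x}) ((I y') \ {1, x}) := by
    intro y y' hy hy2 hy' hy2' hne
    refine Finset.disjoint_left.2 fun a ha ha' => ?_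
    simp only [I, Finset.mem_sdiff, Finset.mem_filter, Finset.mem_insert, Finset.mem_singleton] at ha ha'
    refine ha.2 (key y y' hy hy2 hy' hy2' hne a ((hAsm a).1 ha.1.1) ?_)
    have e1 : y' * a = a⁻¹ * y' := by rw [← ha'.1.2, mul_assoc, hy'.sq, mul_one]
    have e2 : y * a⁻¹ = a * y := by
      have h := congrArg (·⁻¹) ha.1.2
      simp only [mul_inv_rev, inv_inv, inv_eq_of_mul_eq_one_right hy.sq] at h
      conv_rhs => rw [← h]
      simp only [mul_assoc, hy.sq, mul_one]
    rw [mul_assoc, e1, ← mul_assoc, e2, mul_assoc]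
  have hcount : ∀ y, (I y).card - 2 ≤ ((I y) \ {1, x}).card := fun y =>
    le_trans (Nat.sub_le_sub_left (Finset.card_le_two) _) (Finset.le_card_sdiff _ _)
  have hle8 : As.card ≤ 8 := by
    have hsub : ((I y5 \ {1, x}) ∪ (I y3 \ {1, x})) ∪ (I y4 \ {1, x}) ⊆ As \ {1, x} := by
      refine Finset.union_subset (Finset.union_subset ?_ ?_) ?_ <;>
        exact Finset.sdiff_subset_sdiff (Finset.filter_subset _ _) (subset_refl _)
    have n53 : y5 * y3 ≠ 1 := fun e => n35 (mul_eq_one_comm.1 e)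
    have n54 : y5 * y4 ≠ 1 := fun e => n45 (mul_eq_one_comm.1 e)
    have hcard := Finset.card_le_card hsub
    rw [Finset.card_union_of_disjoint (Finset.disjoint_union_left.2
        ⟨common y5 y4 a5 a52 a4 a42 n54, common y3 y4 a3 a32 a4 a42 n34⟩),
      Finset.card_union_of_disjoint (common y5 y3 a5 a52 a3 a32 n53),
      Finset.card_sdiff_of_subset (show ({1, x} : Finset (Perm α)) ⊆ As by
        simp [Finset.insert_subset_iff, hAsm, inA_x hb,
          show inA G x p3 p4 1 from ⟨one_mem _, by rw [one_mul, mul_one], rfl, rfl⟩]),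
      Finset.card_pair (Ne.symm hb.ne_one)] at hcard
    have := half y5 a5
    have := half y3 a3
    have := half y4 a4
    have := hcount y5
    have := hcount y3
    have := hcount y4
    omega
  have hnot : Nat.card {a : Perm α // inA G x p3 p4 a} ≠ 4 ∧
      Nat.card {a : Perm α // inA G x p3 p4 a} ≠ 6 := by
    rw [← not_or]
    intro hc
    obtain ⟨a, ha, ha1, hax⟩ : ∃ a, inA G x p3 p4 a ∧ a ≠ 1 ∧ a ≠ x := by
      by_contra hcon
      push Not at hcon
      have hsub : As ⊆ {1, x} := fun a ha => by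
        simp only [Finset.mem_insert, Finset.mem_singleton]
        by_cases h : a = 1
        · exact Or.inl h
        · exact Or.inr (hcon a ((hAsm a).1 ha) h)
      have := (Finset.card_le_card hsub).trans Finset.card_le_two
      omega
    have habel : ∀ u v, inA G x p3 p4 u → inA G x p3 p4 v → u * v = v * u :=
      fun u v hu hv => abelian_of_small hG hb hc hu hv
    set θ := y3 * y5 with hθ
    obtain ⟨c, hcx, hc5⟩ : ∃ c, (c = 1 ∨ c = x) ∧ y5 * a * y5 = c * a⁻¹ :=
      ⟨_, conj_mul_self hG hb a5 habel ha, by rw [mul_inv_cancel_right]⟩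
    obtain ⟨d, hdx, hd3⟩ : ∃ d, (d = 1 ∨ d = x) ∧ y3 * a⁻¹ * y3 = d * a := by
      refine ⟨_, conj_mul_self hG hb a3 habel (inA_inv ha), ?_⟩
      rw [mul_assoc _ a⁻¹ a, inv_mul_cancel, mul_one]
    have hcfix : y3 * c = c * y3 := by
      rcases hcx with rfl | rfl
      · rw [one_mul, mul_one]
      · exact a3.comm
    have hex : c * d = 1 ∨ c * d = x := by
      rcases hcx with rfl | rfl <;> rcases hdx with rfl | rfl <;> simp [hb.sq]
    have hθa : θ * a = c * d * a * θ := by
      have e5 : y5 * a = c * a⁻¹ * y5 := by rw [← hc5, mul_assoc, a5.sq, mul_one]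
      have e3 : y3 * a⁻¹ = d * a * y3 := by rw [← hd3, mul_assoc, a3.sq, mul_one]
      calc θ * a = y3 * (y5 * a) := by rw [hθ, mul_assoc]
        _ = (y3 * c) * (a⁻¹ * y5) := by rw [e5]; simp only [mul_assoc]
        _ = c * (y3 * a⁻¹) * y5 := by rw [hcfix]; simp only [mul_assoc]
        _ = c * d * a * θ := by rw [e3, hθ]; simp only [mul_assoc]
    rcases hex with he | he
    · rw [he, one_mul] at hθa
      exact (key y3 y5 a3 a32 a5 a52 n35 a ha hθa).elim ha1 hax
    · rw [he] at hθa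
      have hθx : θ * x = x * θ := ((show Commute y3 x from a3.comm).mul_left a5.comm).eq
      have h3 : θ * θ * θ = 1 := ext4 hG
        (mul_mem (mul_mem (mul_mem a3.mem a5.mem) (mul_mem a3.mem a5.mem)) (mul_mem a3.mem a5.mem))
        (one_mem _) hb.d4 (by simp [hθ, a3.f1, a5.f1]) (by simp [hθ, a32, a52])
        (by simp [hθ, a53, a54, a55, a33, a34, a35]) (by simp [hθ, a53, a54, a55, a33, a34, a35])
      have hcube : θ * θ * θ * a = x * a * (θ * θ * θ) := by
        calc θ * θ * θ * a = θ * θ * (θ * a) := by rw [mul_assoc]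
          _ = θ * θ * (x * a * θ) := by rw [hθa]
          _ = θ * ((θ * x) * a * θ) := by simp only [mul_assoc]
          _ = θ * (x * (θ * a) * θ) := by rw [hθx]; simp only [mul_assoc]
          _ = θ * (x * (x * a * θ) * θ) := by rw [hθa]
          _ = θ * ((x * x) * a * θ * θ) := by simp only [mul_assoc]
          _ = (θ * a) * θ * θ := by rw [hb.sq, one_mul]; simp only [mul_assoc]
          _ = x * a * (θ * θ * θ) := by rw [hθa]; simp only [mul_assoc]
      rw [h3, one_mul, mul_one] at hcube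
      exact hb.ne_one (mul_eq_right.1 hcube.symm)
  have h2 : 2 ≤ As.card := by
    refine le_trans (le_of_eq (Finset.card_pair (Ne.symm hb.ne_one)).symm) (Finset.card_le_card ?_)
    simp [Finset.insert_subset_iff, hAsm, inA_x hb,
      show inA G x p3 p4 1 from ⟨one_mem _, by rw [one_mul, mul_one], rfl, rfl⟩]
  rw [hAsc] at hle8 h2
  omega

theorem degree (h4 : 4 ≤ Fintype.card α) :
    Fintype.card α = 4 ∨ Fintype.card α = 5 ∨ Fintype.card α = 6 ∨ Fintype.card α = 11 := by
  obtain ⟨f⟩ : Nonempty (Fin 4 ↪ α) := Function.Embedding.nonempty_of_card_le (by simpa using h4)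
  have hd : D4 (f 0) (f 1) (f 2) (f 3) :=
    ⟨f.injective.ne (by decide), f.injective.ne (by decide), f.injective.ne (by decide),
      f.injective.ne (by decide), f.injective.ne (by decide), f.injective.ne (by decide)⟩
  obtain ⟨x, hx, e1, e2, e3, e4, hsq, -⟩ := exists_x hG hd
  have hb : Base G (f 0) (f 1) (f 2) (f 3) x := ⟨hd, hx, e1, e2, e3, e4, hsq⟩
  rcases Nat.mod_two_eq_zero_or_one (Fintype.card α) with h | h
  · have := even_case hG hb h
    omega
  · rcases odd_case hG hb h with h' | h' <;> omega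

end main

end CfsgLib.SmallGroups.JordanSharp
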