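import Cfsg.Agent.Lib.SmallGroups.JordanSharp

/-!
# Degrees of sharply k-transitive groups, k at least 4

Descend to point stabilisers down to Jordan's case `k = 4`.  For `k ≥ 6` only degree 13 with `k = 6`
needs a separate exclusion, by counting Sylow 13-subgroups.
-/

set_option autoImplicit false

namespace CfsgLib.SmallGroups.JordanSharpK

open Equiv

universe u

variable {α : Type u}

/-- Sharp `k`-transitivity. -/
structure SharpK (G : Subgroup (Perm α)) (k : ℕ) : Prop where
  /-- Transitivity. -/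
  trans : ∀ f g : Fin k ↪ α, ∃ σ ∈ G, ∀ i, σ (f i) = g i
  /-- Only the identity fixes `k` points. -/
  sharp : ∀ σ ∈ G, ∀ f : Fin k ↪ α, (∀ i, σ (f i) = f i) → σ = 1

theorem of_pretransitive (G : Subgroup (Perm α)) (k : ℕ) [MulAction.IsMultiplyPretransitive G α k]
    (hsharp : ∀ x : Fin k ↪ α, MulAction.stabilizer G x = ⊥) : SharpK G k := by
  constructor
  · intro f g
    obtain ⟨σ, hσ⟩ := MulAction.exists_smul_eq G f g
    exact ⟨σ.1, σ.2, fun i => congrArg (fun e : Fin k ↪ α => e i) hσ⟩
  · intro σ hσ f hf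
    have hm : (⟨σ, hσ⟩ : G) ∈ MulAction.stabilizer G f :=
      MulAction.mem_stabilizer_iff.2 (Function.Embedding.ext hf)
    rw [hsharp f, Subgroup.mem_bot] at hm
    exact congrArg Subtype.val hm

/-- The stabiliser of `a` as a group on the other points. -/
def stab (G : Subgroup (Perm α)) (a : α) : Subgroup (Perm {p // p ≠ a}) where
  carrier := {h | ∃ g ∈ G, g a = a ∧ ∀ p, g p.1 = (h p).1}
  one_mem' := ⟨1, one_mem _, rfl, fun _ => rfl⟩
  mul_mem' := by
    rintro h h' ⟨g, hg, ga, gp⟩ ⟨g', hg', ga', gp'⟩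
    exact ⟨g * g', mul_mem hg hg', by simp [ga, ga'], fun p => by simp [gp', gp]⟩
  inv_mem' := by
    rintro h ⟨g, hg, ga, gp⟩
    refine ⟨g⁻¹, inv_mem hg, by rw [Perm.inv_eq_iff_eq]; exact ga.symm, fun p => ?_⟩
    rw [Perm.inv_eq_iff_eq, gp]
    simp

/-- A tuple of points other than `a`, with `a` put in front. -/
def consEmb {k : ℕ} {a : α} (f : Fin k ↪ {p // p ≠ a}) : Fin (k + 1) ↪ α :=
  ⟨Fin.cons a fun i => (f i).1, Fin.cons_injective_iff.2
    ⟨fun ⟨i, hi⟩ => (f i).2 hi, Subtype.val_injective.comp f.injective⟩⟩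

theorem descend {G : Subgroup (Perm α)} {k : ℕ} (h : SharpK G (k + 1)) (a : α) :
    SharpK (stab G a) k := by
  constructor
  · intro f g
    obtain ⟨σ, hσ, he⟩ := h.trans (consEmb f) (consEmb g)
    have ha : σ a = a := by simpa [consEmb] using he 0
    have hp : ∀ p, σ p ≠ a ↔ p ≠ a := fun p => by
      conv_lhs => rw [← ha]
      exact σ.injective.ne_iff
    exact ⟨σ.subtypePerm hp, ⟨σ, hσ, ha, fun p => rfl⟩,
      fun i => Subtype.ext (by simpa [consEmb] using he i.succ)⟩
  · rintro h' ⟨g, hg, ga, gp⟩ f hf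
    have h1 := h.sharp g hg (consEmb f) fun i => by
      induction i using Fin.cases with
      | zero => simpa [consEmb] using ga
      | succ i => simp [consEmb, gp, hf i]
    ext p
    rw [← gp p, h1]
    rfl

theorem four [Fintype α] [DecidableEq α] {G : Subgroup (Perm α)} (h : SharpK G 4)
    (h4 : 4 ≤ Fintype.card α) :
    Fintype.card α = 4 ∨ Fintype.card α = 5 ∨ Fintype.card α = 6 ∨ Fintype.card α = 11 := by
  have emb : ∀ {a b c d : α}, JordanSharp.D4 a b c d → Function.Injective ![a, b, c, d] := by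
    intro a b c d hd i j e
    obtain ⟨h1, h2, h3, h4, h5, h6⟩ := hd
    fin_cases i <;> fin_cases j <;> first | rfl | exact absurd e (by simp [h1, h2, h3, h4, h5, h6, h1.symm, h2.symm, h3.symm, h4.symm, h5.symm, h6.symm])
  refine JordanSharp.degree (G := G) ⟨fun {a b c d a' b' c' d'} hd hd' => ?_, fun {g} hg {a b c d} hd ha hb hc he => ?_⟩ h4
  · obtain ⟨σ, hσ, e⟩ := h.trans ⟨_, emb hd⟩ ⟨_, emb hd'⟩
    exact ⟨σ, hσ, e 0, e 1, e 2, e 3⟩
  · exact h.sharp g hg ⟨_, emb hd⟩ fun i => by fin_cases i <;> assumption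

theorem five [Fintype α] [DecidableEq α] {G : Subgroup (Perm α)} (h : SharpK G 5)
    (h5 : 5 ≤ Fintype.card α) :
    Fintype.card α = 5 ∨ Fintype.card α = 6 ∨ Fintype.card α = 7 ∨ Fintype.card α = 12 := by
  obtain ⟨a⟩ : Nonempty α := Fintype.card_pos_iff.1 (by omega)
  have hc : Fintype.card {p // p ≠ a} + 1 = Fintype.card α := by
    rw [Fintype.card_subtype_compl, Fintype.card_subtype_eq]
    omega
  have := four (descend h a) (by omega)
  omega

theorem card_eq [Fintype α] {G : Subgroup (Perm α)} {k : ℕ} (h : SharpK G k)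
    (hk : k ≤ Fintype.card α) : Nat.card G = (Fintype.card α).descFactorial k := by
  obtain ⟨f⟩ : Nonempty (Fin k ↪ α) := Function.Embedding.nonempty_of_card_le (by simpa using hk)
  have e : (Fintype.card α).descFactorial k = Nat.card (Fin k ↪ α) := by
    classical
    rw [Nat.card_eq_fintype_card, Fintype.card_embedding_eq, Fintype.card_fin]
  rw [e]
  refine Nat.card_eq_of_bijective (fun σ : G => f.trans σ.1.toEmbedding) ⟨fun σ τ e => ?_, fun g => ?_⟩
  · have he : ∀ i, σ.1 (f i) = τ.1 (f i) := fun i => congrArg (fun e : Fin k ↪ α => e i) e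
    have := h.sharp (τ.1⁻¹ * σ.1) (mul_mem (inv_mem τ.2) σ.2) f fun i => by simp [he i]
    exact Subtype.ext (inv_mul_eq_one.1 this).symm
  · obtain ⟨σ, hσ, e⟩ := h.trans f g
    exact ⟨⟨σ, hσ⟩, Function.Embedding.ext e⟩

theorem no_six_thirteen [Fintype α] [DecidableEq α] {G : Subgroup (Perm α)} (h : SharpK G 6)
    (hn : Fintype.card α = 13) : False := by
  have h13 : Nat.Prime 13 := by norm_num
  have : Fact (Nat.Prime 13) := ⟨h13⟩
  have hG : Nat.card G = 13 * 95040 := by rw [card_eq h (by omega), hn]; rfl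
  obtain ⟨P⟩ : Nonempty (Sylow 13 G) := inferInstance
  have hP : Nat.card P = 13 := by
    rw [Sylow.card_eq_multiplicity, hG, Nat.factorization_mul (by norm_num) (by norm_num)]
    simp [h13.factorization_self, Nat.factorization_eq_zero_of_not_dvd (show ¬ 13 ∣ 95040 by norm_num)]
  obtain ⟨⟨c, hcP⟩, hc⟩ := exists_prime_orderOf_dvd_card' (G := P) 13 (by rw [hP])
  have hcord : orderOf (c : Perm α) = 13 := by
    rw [← hc]
    exact (orderOf_injective G.subtype Subtype.val_injective c).trans
      (orderOf_injective (P : Subgroup G).subtype Subtype.val_injective ⟨c, hcP⟩)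
  have hcyc : (c : Perm α).IsCycle := Perm.isCycle_of_prime_order'' (by rw [hn]; exact h13) (by rw [hn, hcord])
  have hmove : ∀ p, (c : Perm α) p ≠ p := fun p => Perm.mem_support.1 (by
    rw [Finset.eq_univ_of_card _ (by rw [← hcyc.orderOf, hcord, hn] : (c : Perm α).support.card = Fintype.card α)]
    exact Finset.mem_univ p)
  -- the centraliser of the Sylow subgroup is itself
  have hcent : ∀ z ∈ Subgroup.centralizer (P : Set G), z ∈ (P : Subgroup G) := by
    intro z hz
    have hzc : Commute (c : Perm α) (z : Perm α) :=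
      congrArg Subtype.val (Subgroup.mem_centralizer_iff.1 hz c hcP)
    obtain ⟨p⟩ : Nonempty α := Fintype.card_pos_iff.1 (by omega)
    obtain ⟨i, hi⟩ := hcyc.sameCycle (hmove p) (hmove ((z : Perm α) p))
    have : z = c ^ i := Subtype.ext (Equiv.ext fun q => by
      obtain ⟨j, rfl⟩ := hcyc.sameCycle (hmove p) (hmove q)
      have h1 : ((c : Perm α) ^ j) ((z : Perm α) p) = (z : Perm α) (((c : Perm α) ^ j) p) :=
        congrArg (fun e : Perm α => e p) (hzc.zpow_left j).eq
      rw [← h1, ← hi, SubgroupClass.coe_zpow, ← Perm.mul_apply, ← Perm.mul_apply, ← zpow_add, ← zpow_add,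
        add_comm])
    rw [this]
    exact zpow_mem hcP i
  let N := Subgroup.normalizer ((P : Subgroup G) : Set G)
  let f := (P : Subgroup G).normalizerMonoidHom
  have hker : Nat.card f.ker = 13 := by
    rw [Subgroup.normalizerMonoidHom_ker]
    have hle : (P : Subgroup G) ≤ Subgroup.centralizer (P : Set G) := by
      have : IsCyclic P := isCyclic_of_prime_card hP
      obtain ⟨g, hg⟩ := IsCyclic.exists_generator (α := P)
      intro u hu
      rw [Subgroup.mem_centralizer_iff]
      intro v hv
      obtain ⟨i, hi⟩ := Subgroup.mem_zpowers_iff.1 (hg ⟨v, hv⟩)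
      obtain ⟨j, hj⟩ := Subgroup.mem_zpowers_iff.1 (hg ⟨u, hu⟩)
      have hcm := congrArg (fun w : P => (w : G)) ((Commute.zpow_zpow_self g i j).eq)
      simp only [hi, hj] at hcm
      exact hcm
    have heq : Subgroup.centralizer (P : Set G) = (P : Subgroup G) := le_antisymm hcent hle
    rw [Nat.card_congr (Subgroup.subgroupOfEquivOfLe (Subgroup.centralizer_le_normalizer _)).toEquiv,
      show Subgroup.centralizer (((P : Subgroup G)) : Set G) = (P : Subgroup G) from heq, hP]
  have hrange : Nat.card f.range ∣ 12 := by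
    have : IsCyclic (P : Subgroup G) := isCyclic_of_prime_card hP
    have h1 : Nat.card (MulAut (P : Subgroup G)) = 12 := by
      rw [IsCyclic.card_mulAut, hP, Nat.totient_prime h13]
    exact h1 ▸ Subgroup.card_subgroup_dvd_card _
  have hN : Nat.card N = 13 * Nat.card f.range := by
    have h1 := Subgroup.card_mul_index f.ker
    rw [hker, Subgroup.index_ker] at h1
    exact h1.symm
  have hidx := Subgroup.card_mul_index N
  rw [show N.index = Nat.card (Sylow 13 G) from (Sylow.card_eq_index_normalizer P).symm, hN, hG,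
    mul_assoc] at hidx
  have hmul : Nat.card f.range * Nat.card (Sylow 13 G) = 95040 := Nat.eq_of_mul_eq_mul_left (by norm_num) hidx
  have hmod : Nat.card f.range * Nat.card (Sylow 13 G) ≡ Nat.card f.range * 1 [MOD 13] :=
    (card_sylow_modEq_one 13 G).mul_left _
  rw [hmul, Nat.ModEq, mul_one] at hmod
  have hb : Nat.card f.range ≤ 12 := Nat.le_of_dvd (by norm_num) hrange
  interval_cases hv : Nat.card f.range <;> (norm_num at hmod) <;> norm_num at hrange

theorem large (m : ℕ) : ∀ {β : Type u} [Fintype β] [DecidableEq β] (G : Subgroup (Perm β)),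
    SharpK G (6 + m) → 6 + m ≤ Fintype.card β →
    Fintype.card β = 6 + m ∨ Fintype.card β = 6 + m + 1 ∨ Fintype.card β = 6 + m + 2 := by
  induction m with
  | zero =>
    intro β _ _ G h hn
    obtain ⟨a⟩ : Nonempty β := Fintype.card_pos_iff.1 (by omega)
    have hc : Fintype.card {p // p ≠ a} + 1 = Fintype.card β := by
      rw [Fintype.card_subtype_compl, Fintype.card_subtype_eq]
      omega
    rcases five (descend (k := 5) h a) (by omega) with h' | h' | h' | h'
    · omega
    · omega
    · omega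
    · exact (no_six_thirteen h (by omega)).elim
  | succ m ih =>
    intro β _ _ G h hn
    obtain ⟨a⟩ : Nonempty β := Fintype.card_pos_iff.1 (by omega)
    have hc : Fintype.card {p // p ≠ a} + 1 = Fintype.card β := by
      rw [Fintype.card_subtype_compl, Fintype.card_subtype_eq]
      omega
    have := ih (stab G a) (descend (k := 6 + m) h a) (by omega)
    omega

end CfsgLib.SmallGroups.JordanSharpK
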