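import Cfsg.Agent.Lib.SmallGroups.LeechParamCount

/-!
# Parameter counts of the minimal vectors by inner product with `(4, 4, 0, ..., 0)`

Only the two positions of the fours matter, so the parameters are counted by classes.
-/

set_option autoImplicit false
set_option maxRecDepth 10000

namespace CfsgLib.SmallGroups.LeechCensusData

open CfsgLib.SmallGroups.Golay CfsgLib.SmallGroups.LeechEnum CfsgLib.SmallGroups.LeechParamCount

/-- The class of a position. -/
def cls (a : ℕ) : Bool × Bool := (decide (a = 23), decide (a = 0))

/-- Counting subsets by classes of positions. -/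
def cc : List (Bool × Bool) → ℕ → (Bool → Bool → Bool) → ℕ
  | _, 0, f => if f false false then 1 else 0
  | [], _ + 1, _ => 0
  | t :: ts, k + 1, f => cc ts (k + 1) f + cc ts k fun x y => f (t.1 || x) (t.2 || y)

theorem countP_combos : ∀ (l : List ℕ) (k : ℕ) (f : Bool → Bool → Bool),
    ((combos l k).countP fun n => f (n.testBit 23) (n.testBit 0)) = cc (l.map cls) k f
  | l, 0, f => by
    cases l <;> cases h : f false false <;> simp [combos, cc, h]
  | [], _ + 1, _ => rfl
  | a :: l, k + 1, f => by
    have e : ((fun n => f (n.testBit 23) (n.testBit 0)) ∘ fun m => 2 ^ a ||| m) =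
        fun n => f ((cls a).1 || n.testBit 23) ((cls a).2 || n.testBit 0) := funext fun n => by
      simp [cls, Nat.testBit_or, Nat.testBit_two_pow]
    rw [combos, List.countP_append, List.countP_map, e, countP_combos l (k + 1) f,
      countP_combos l k fun x y => f ((cls a).1 || x) ((cls a).2 || y)]
    rfl

/-- The classes of the positions of an octad. -/
def patt (b0 b23 : Bool) : List (Bool × Bool) :=
  (if b0 then [(false, true)] else []) ++
    List.replicate (8 - b0.toNat - b23.toNat) (false, false) ++
      (if b23 then [(true, false)] else [])

theorem patt_spec : ((cwOfWeight 8).all fun o =>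
    (bitsOf o).map cls == patt (o.testBit 0) (o.testBit 23)) = true := by
  decide +kernel

/-- The value at a position in an octad. -/
def octVal (b m : Bool) : ℤ := if b then (if m then -2 else 2) else 0

/-- The octad parameters of one class. -/
def octCls (d : ℤ) (eq : Bool) (b0 b23 : Bool) : ℕ :=
  ([0, 2, 4, 6, 8].map fun k => cc (patt b0 b23) k fun x y =>
    (4 * (octVal b23 x + octVal b0 y) == d) == eq).sum

/-- Both bits select among four constants. -/
def spread (g : Bool → Bool → ℕ) (b b' : Bool) : ℕ :=
  if b then (if b' then g true true else g true false) else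
    (if b' then g false true else g false false)

theorem spread_eq (g : Bool → Bool → ℕ) (b b' : Bool) : spread g b b' = g b b' := by
  cases b <;> cases b' <;> rfl

theorem cntOct_eq (d : ℤ) (eq : Bool) : cntOct (test44 d eq) =
    ((cwOfWeight 8).map fun o => spread (octCls d eq) (o.testBit 0) (o.testBit 23)).sum := by
  refine congrArg List.sum (List.map_congr_left fun o ho => ?_)
  rw [spread_eq, octCls]
  refine congrArg List.sum (List.map_congr_left fun k _ => ?_)
  rw [← beq_iff_eq.1 (List.all_eq_true.1 patt_spec o ho), ← countP_combos]
  rfl

/-- The value of an odd vector at a position. -/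
def oddVal (b : Bool) (l p : ℕ) : ℤ := 
  if l == p then (if b then 3 else -3) else if b then -1 else 1

/-- The odd parameters of one class. -/
def oddCls (d : ℤ) (eq : Bool) (b0 b23 : Bool) : ℕ :=
  (List.range 24).countP fun p => (4 * (oddVal b23 23 p + oddVal b0 0 p) == d) == eq

theorem cntOdd_eq (d : ℤ) (eq : Bool) : cntOdd (test44 d eq) =
    ((List.range 4096).map fun k =>
      spread (oddCls d eq) ((enc k).testBit 0) ((enc k).testBit 23)).sum := by
  refine congrArg List.sum (List.map_congr_left fun k _ => ?_)
  rw [spread_eq, oddCls, show (test44 d eq).oddPre (enc k) = true from rfl, if_pos rfl]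
  refine List.countP_congr fun p _ => ?_
  simp only [test44, oddVal, oddF]

theorem count (d : ℤ) (eq : Bool) (a : ℕ)
    (h : cntPair (test44 d eq) +
      ((cwOfWeight 8).map fun o => spread (octCls d eq) (o.testBit 0) (o.testBit 23)).sum +
      ((List.range 4096).map fun k =>
        spread (oddCls d eq) ((enc k).testBit 0) ((enc k).testBit 23)).sum = a) :
    cnt (test44 d eq) = a := by
  rw [cnt, cntOct_eq, cntOdd_eq, h]

theorem count16neg : cnt (test44 (-16) true) = 4600 := count _ _ _ (by decide +kernel)

theorem count16neg' : cnt (test44 (-16) false) = 191960 := count _ _ _ (by decide +kernel)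

theorem count8neg : cnt (test44 (-8) true) = 47104 := count _ _ _ (by decide +kernel)

theorem count8neg' : cnt (test44 (-8) false) = 149456 := count _ _ _ (by decide +kernel)

theorem count0 : cnt (test44 0 true) = 93150 := count _ _ _ (by decide +kernel)

theorem count0' : cnt (test44 0 false) = 103410 := count _ _ _ (by decide +kernel)

end CfsgLib.SmallGroups.LeechCensusData
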