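import Cfsg.Agent.Lib.SmallGroups.LeechHS
import Cfsg.Agent.Lib.SmallGroups.LeechCensusData

/-!
# The census of minimal vectors by inner product with a fixed one

The classes are counted at most by their parameters and so are the complements; both add up to the
number of all minimal vectors.
-/

set_option autoImplicit false
set_option maxRecDepth 10000

namespace CfsgLib.SmallGroups.LeechCensus

open Cfsg CfsgLib.SmallGroups.Golay CfsgLib.SmallGroups.LeechOrbit CfsgLib.SmallGroups.LeechEnum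
  CfsgLib.SmallGroups.LeechPairs CfsgLib.SmallGroups.LeechParamCount
open scoped Pointwise

theorem dot_vV (x : GolayPt → ℤ) : dotInt (Pk kV) x = 4 * (x none + x (some 0)) := by
  obtain ⟨h1, h2, h3⟩ := LeechMcL.two_facts
  rw [dotInt, ← Finset.sum_subset (Finset.subset_univ ({none, some 0} : Finset GolayPt))
      fun r _ hr => by
        simp only [Finset.mem_insert, Finset.mem_singleton, not_or] at hr
        rw [h3 r hr.1 hr.2, zero_mul],
    Finset.sum_pair (fun e => by simp at e), h1]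
  change _ + Pk kV LeechTwoPoint.pb * _ = _
  rw [h2]
  ring

theorem class_base (d : ℤ) (a b : ℕ) (ha : cnt (test44 d true) = a) (hb : cnt (test44 d false) = b)
    (hab : a + b = 196560) :
    {x : GolayPt → ℤ | x ∈ leechLattice ∧ sqNorm x = 32 ∧ dotInt (Pk kV) x = d}.ncard = a := by
  classical
  have h1 : {x : GolayPt → ℤ | x ∈ leechLattice ∧ sqNorm x = 32 ∧ dotInt (Pk kV) x = d}.ncard ≤ a := by
    rw [← ha]
    refine le_trans (Set.ncard_le_ncard ?_ ?_) (ncard_le (sound44 d true))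
    · rintro x ⟨hx, hN, hd⟩
      rw [dot_vV] at hd
      exact ⟨LeechBasic.mem_lattice.1 hx, hN, decide_eq_true hd⟩
    · exact LeechHS.finite32.subset fun x hx => ⟨LeechBasic.mem_lattice.2 hx.1, hx.2.1⟩
  have h2 : {x : GolayPt → ℤ | x ∈ leechLattice ∧ sqNorm x = 32 ∧ dotInt (Pk kV) x ≠ d}.ncard ≤ b := by
    rw [← hb]
    refine le_trans (Set.ncard_le_ncard ?_ ?_) (ncard_le (sound44 d false))
    · rintro x ⟨hx, hN, hd⟩
      rw [dot_vV] at hd
      exact ⟨LeechBasic.mem_lattice.1 hx, hN, decide_eq_false hd⟩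
    · exact LeechHS.finite32.subset fun x hx => ⟨LeechBasic.mem_lattice.2 hx.1, hx.2.1⟩
  have h3 : {x : GolayPt → ℤ | x ∈ leechLattice ∧ sqNorm x = 32} = {x : GolayPt → ℤ | x ∈ leechLattice ∧ sqNorm x = 32 ∧ dotInt (Pk kV) x = d} ∪
      {x : GolayPt → ℤ | x ∈ leechLattice ∧ sqNorm x = 32 ∧ dotInt (Pk kV) x ≠ d} := by
    ext x
    exact ⟨fun ⟨hx, hN⟩ => (em (dotInt (Pk kV) x = d)).elim (fun h => Or.inl ⟨hx, hN, h⟩)
      (fun h => Or.inr ⟨hx, hN, h⟩), fun h => h.elim (fun h => ⟨h.1, h.2.1⟩) fun h => ⟨h.1, h.2.1⟩⟩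
  have h4 := Set.ncard_union_le
    {x : GolayPt → ℤ | x ∈ leechLattice ∧ sqNorm x = 32 ∧ dotInt (Pk kV) x = d}
    {x : GolayPt → ℤ | x ∈ leechLattice ∧ sqNorm x = 32 ∧ dotInt (Pk kV) x ≠ d}
  rw [← h3, LeechCo2.count32] at h4
  omega

theorem as_image (u : leechLattice) (d : ℤ) :
    {x : GolayPt → ℤ | x ∈ leechLattice ∧ sqNorm x = 32 ∧ dotInt (u : GolayPt → ℤ) x = d}.ncard =
      {x : leechLattice | sqNorm (x : GolayPt → ℤ) = 32 ∧
        dotInt (u : GolayPt → ℤ) (x : GolayPt → ℤ) = d}.ncard := by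
  rw [← Set.ncard_image_of_injective _ Subtype.val_injective]
  congr 1
  ext x
  exact ⟨fun ⟨h1, h2⟩ => ⟨⟨x, h1⟩, h2, rfl⟩, fun ⟨y, hy, e⟩ => e ▸ ⟨y.2, hy⟩⟩

theorem class_card (v : GolayPt → ℤ) (hv : v ∈ leechLattice) (hvn : sqNorm v = 32) (d : ℤ)
    (a b : ℕ) (ha : cnt (test44 d true) = a) (hb : cnt (test44 d false) = b)
    (hab : a + b = 196560) :
    {w : GolayPt → ℤ | w ∈ leechLattice ∧ sqNorm w = 32 ∧ dotInt v w = d}.ncard = a := by
  obtain ⟨g, hg⟩ := LeechTransitive.transitive32 vV ⟨v, hv⟩ LeechHS.norm_vV hvn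
  have h := class_base d a b ha hb hab
  rw [← coe_vV, as_image] at h
  refine (as_image ⟨v, hv⟩ d).trans (Eq.trans ?_ h)
  rw [← hg]
  refine LeechMcL.ncard_transport (g := g) fun y => ?_
  simp only [Set.mem_ofPred_eq, norm_smul, dot_smul]

theorem census (v : GolayPt → ℤ) (hv : v ∈ leechLattice) (hvn : sqNorm v = 32) :
    {w : GolayPt → ℤ | w ∈ leechLattice ∧ sqNorm w = 32 ∧ dotInt v w = -16}.ncard = 4600 ∧
    {w : GolayPt → ℤ | w ∈ leechLattice ∧ sqNorm w = 32 ∧ dotInt v w = -8}.ncard = 47104 ∧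
    {w : GolayPt → ℤ | w ∈ leechLattice ∧ sqNorm w = 32 ∧ dotInt v w = 0}.ncard = 93150 :=
  ⟨class_card v hv hvn (-16) _ _ LeechCensusData.count16neg LeechCensusData.count16neg' rfl,
    class_card v hv hvn (-8) _ _ LeechCensusData.count8neg LeechCensusData.count8neg' rfl,
    class_card v hv hvn 0 _ _ LeechCensusData.count0 LeechCensusData.count0' rfl⟩

end CfsgLib.SmallGroups.LeechCensus
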