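import Cfsg.Agent.Lib.SmallGroups.LeechVectorStab
import Cfsg.Prelude.Def_Sporadic

/-!
# The stabiliser of a vector with square norm 48 is simple
-/

set_option autoImplicit false
set_option maxRecDepth 10000

namespace CfsgLib.SmallGroups.LeechCo3

open Cfsg CfsgLib.SmallGroups.LeechVectorStab

theorem count48 : {x : GolayPt → ℤ | x ∈ leechLattice ∧ sqNorm x = 48}.ncard = 16773120 := by
  have h := LeechCount.count (fun _ => true) 48 12 3 (by norm_num) (by norm_num) (by norm_num)
  have hc : LeechCount.parityCount (fun _ => true) 0 12 +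
      LeechCount.parityCount (fun _ => true) 1 3 = 16773120 := by
    decide +kernel
  simpa [hc] using h

theorem card_stab : Nat.card (MulAction.stabilizer Co0 v48) = 495766656000 := by
  have h := card_stab_mul v48 norm_v48
    (fun w hw => LeechTransitive.transitive48 v48 w norm_v48 hw) count48
  omega

theorem isSimpleGroup_stab : IsSimpleGroup (MulAction.stabilizer Co0 v48) := by
  have : Finite (MulAction.stabilizer Co0 v48) :=
    Nat.finite_of_card_ne_zero (by rw [card_stab]; norm_num)
  have : Nontrivial (MulAction.stabilizer Co0 v48) := by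
    rw [← Finite.one_lt_card_iff_nontrivial, card_stab]
    norm_num
  refine ⟨fun N hN => ?_⟩
  rcases @eq_top_or_mod 5 odd_ok.2 (by norm_num)
    (show ¬ 23 ^ 2 ∣ Nat.card (MulAction.stabilizer Co0 v48) by rw [card_stab]; norm_num) N hN with h | h
  · exact Or.inr h
  left
  refine Subgroup.eq_bot_of_card_eq _ ?_
  have hd : Nat.card N ∣ 495766656000 := card_stab ▸ Subgroup.card_subgroup_dvd_card N
  by_contra hne
  obtain ⟨p, hp, hpd⟩ := Nat.exists_prime_and_dvd hne
  have he : 1 ≤ (Nat.card N).factorization p := (hp.dvd_iff_one_le_factorization Nat.card_pos.ne').1 hpd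
  have hpe : p ^ (Nat.card N).factorization p ∣ 495766656000 := (Nat.ordProj_dvd _ p).trans hd
  have hp' : p = 2 ∨ p = 3 ∨ p = 5 ∨ p = 7 ∨ p = 11 ∨ p = 23 := by
    have h1 : p ∣ 2 ^ 10 * 3 ^ 7 * 5 ^ 3 * 7 * 11 * 23 := hpd.trans hd
    have q : ∀ r : ℕ, r.Prime → p ∣ r → p = r := fun r hr h => (Nat.prime_dvd_prime_iff_eq hp hr).1 h
    simp only [Nat.Prime.dvd_mul hp] at h1
    rcases h1 with ((((h1 | h1) | h1) | h1) | h1) | h1
    · exact Or.inl (q 2 Nat.prime_two (hp.dvd_of_dvd_pow h1))
    · exact Or.inr (Or.inl (q 3 Nat.prime_three (hp.dvd_of_dvd_pow h1)))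
    · exact Or.inr (Or.inr (Or.inl (q 5 Nat.prime_five (hp.dvd_of_dvd_pow h1))))
    · exact Or.inr (Or.inr (Or.inr (Or.inl (q 7 (by norm_num) h1))))
    · exact Or.inr (Or.inr (Or.inr (Or.inr (Or.inl (q 11 (by norm_num) h1)))))
    · exact Or.inr (Or.inr (Or.inr (Or.inr (Or.inr (q 23 (by norm_num) h1)))))
  have hmod : p ^ (Nat.card N).factorization p % 23 = 1 := h p hp
  generalize (Nat.card N).factorization p = e at he hpe hmod
  have he' : e ≤ 10 := by
    by_contra he'
    have h7 : p ^ 11 ∣ 495766656000 := (pow_dvd_pow p (by omega)).trans hpe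
    rcases hp' with rfl | rfl | rfl | rfl | rfl | rfl <;> norm_num at h7
  rcases hp' with rfl | rfl | rfl | rfl | rfl | rfl <;> interval_cases e <;> simp_all

theorem isCo3 (v : leechLattice) (hv : sqNorm (v : GolayPt → ℤ) = 48) :
    IsCo3 (MulAction.stabilizer Co0 v) := by
  obtain ⟨g, hg⟩ := LeechTransitive.transitive48 v48 v norm_v48 hv
  let e := MulAction.stabilizerEquivStabilizer hg.symm
  refine ⟨?_, ?_⟩
  · have := isSimpleGroup_stab
    exact MathieuSimple.isSimpleGroup_congr' e
  · rw [← Nat.card_congr e.toEquiv, card_stab]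

end CfsgLib.SmallGroups.LeechCo3
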