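import Cfsg.Agent.Lib.SmallGroups.LeechFrame
import Cfsg.Agent.Lib.Sporadic.LatticeModTwo

/-!
# An even lattice with the vector counts of the Leech lattice has frame coordinates
-/

set_option autoImplicit false

namespace CfsgLib.SmallGroups.LeechCoords

open Cfsg Finset Matrix
open CfsgLib.Sporadic.LatticeModTwo CfsgLib.SmallGroups.LeechFrame

variable {B : Matrix (Fin 24) (Fin 24) ℤ}

/-- A frame: 24 orthogonal vectors of norm 8 congruent modulo 2. -/
theorem exists_frame (hB : EvenRootless B) (h4 : {x : Fin 24 → ℤ | nrm B x = 4}.ncard = 196560)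
    (h6 : {x : Fin 24 → ℤ | nrm B x = 6}.ncard = 16773120)
    (h8 : {x : Fin 24 → ℤ | nrm B x = 8}.ncard = 398034000) :
    ∃ r : Fin 24 → Fin 24 → ℤ, (∀ i, nrm B (r i) = 8) ∧
      (∀ i j, i ≠ j → r i ⬝ᵥ (B *ᵥ r j) = 0) ∧ ∀ i j k, (2 : ℤ) ∣ (r i + r j) k := by
  classical
  obtain ⟨v, hv⟩ : {x : Fin 24 → ℤ | nrm B x = 8}.Nonempty :=
    Set.nonempty_of_ncard_ne_zero (by rw [h8]; norm_num)
  have hY := class_card_eq hB h4 h6 h8 (by norm_num) (by norm_num) (by norm_num) (by norm_num) hv
  have hfin : {y : Fin 24 → ℤ | nrm B y = 8 ∧ ∀ i, (2 : ℤ) ∣ (v - y) i}.Finite :=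
    Set.finite_of_ncard_ne_zero (by rw [hY]; norm_num)
  set T := hfin.toFinset
  have hmem : ∀ y, y ∈ T ↔ nrm B y = 8 ∧ ∀ i, (2 : ℤ) ∣ (v - y) i := fun y => hfin.mem_toFinset
  have hT : T.card = 48 := by rw [← Set.ncard_eq_toFinset_card _ hfin, hY]
  let p : (Fin 24 → ℤ) → Finset (Fin 24 → ℤ) := fun x => {x, -x}
  have hfib : T.card ≤ 2 * (T.image p).card := by
    refine card_le_mul_card_image T 2 fun b hb => ?_
    obtain ⟨x, -, rfl⟩ := mem_image.1 hb
    calc (T.filter fun a => p a = p x).card ≤ (p x).card := by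
          refine card_le_card fun a ha => ?_
          rw [← (mem_filter.1 ha).2]
          simp [p]
      _ ≤ 2 := card_le_two
  obtain ⟨t⟩ := Function.Embedding.nonempty_of_card_le
    (α := Fin 24) (β := (T.image p : Finset (Finset (Fin 24 → ℤ))))
    (by rw [Fintype.card_fin, Fintype.card_coe]; omega)
  have hrep : ∀ i, ∃ x ∈ T, p x = t i := fun i => mem_image.1 (t i).2
  choose r hrT hrp using hrep
  refine ⟨r, fun i => ((hmem _).1 (hrT i)).1, fun i j hij => ?_, fun i j k => ?_⟩
  · have hc : ∀ k, (2 : ℤ) ∣ (r i - r j) k := fun k => by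
      have a := ((hmem _).1 (hrT i)).2 k
      have b := ((hmem _).1 (hrT j)).2 k
      simp only [Pi.sub_apply] at a b ⊢
      omega
    rcases congr_dichotomy hB hc with h | h | h
    · exact absurd (t.injective (Subtype.ext (by rw [← hrp i, ← hrp j, h]))) hij
    · refine absurd (t.injective (Subtype.ext ?_)) hij
      rw [← hrp i, ← hrp j, h]
      simp [p, Finset.pair_comm]
    · exact h.2 (by rw [((hmem _).1 (hrT i)).1, ((hmem _).1 (hrT j)).1]; norm_num)
  · have a := ((hmem _).1 (hrT i)).2 k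
    have b := ((hmem _).1 (hrT j)).2 k
    simp only [Pi.sub_apply, Pi.add_apply] at a b ⊢
    omega

/-- Coordinates with respect to a frame. -/
def coord (B : Matrix (Fin 24) (Fin 24) ℤ) (r : Fin 24 → Fin 24 → ℤ) :
    (Fin 24 → ℤ) →+ (Fin 24 → ℤ) where
  toFun x i := x ⬝ᵥ (B *ᵥ r i)
  map_zero' := funext fun i => zero_dotProduct _
  map_add' x y := funext fun i => add_dotProduct _ _ _

theorem coord_apply (r : Fin 24 → Fin 24 → ℤ) (x : Fin 24 → ℤ) (i : Fin 24) :
    coord B r x i = x ⬝ᵥ (B *ᵥ r i) := rfl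

theorem eight_smul (hB : EvenRootless B) {r : Fin 24 → Fin 24 → ℤ} (hn : ∀ i, nrm B (r i) = 8)
    (ho : ∀ i j, i ≠ j → r i ⬝ᵥ (B *ᵥ r j) = 0) (x : Fin 24 → ℤ) :
    (8 : ℤ) • x = ∑ i, coord B r x i • r i := by
  have hrr : ∀ i j, r j ⬝ᵥ (B *ᵥ r i) = if j = i then 8 else 0 := fun i j => by
    split
    · subst_vars; exact hn _
    · exact ho _ _ (by assumption)
  set y := (8 : ℤ) • x - ∑ i, coord B r x i • r i with hy
  have hperp : ∀ i, y ⬝ᵥ (B *ᵥ r i) = 0 := fun i => by
    rw [hy, sub_dotProduct, smul_dotProduct, sum_dotProduct]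
    simp only [smul_dotProduct, hrr, smul_eq_mul, mul_ite, mul_zero, sum_ite_eq', mem_univ, if_true,
      coord_apply]
    ring
  by_contra hne
  have hy0 : y ≠ 0 := sub_ne_zero.mpr hne
  let w : Option (Fin 24) → Fin 24 → ℤ := fun o => o.elim y r
  have hli : LinearIndependent ℤ w := by
    rw [Fintype.linearIndependent_iff]
    intro g hg o
    have h0 : w o ⬝ᵥ (B *ᵥ ∑ c, g c • w c) = 0 := by rw [hg, mulVec_zero, dotProduct_zero]
    simp only [mulVec_sum, mulVec_smul, dotProduct_sum, dotProduct_smul, smul_eq_mul] at h0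
    rw [Fintype.sum_option] at h0
    rcases o with _ | i
    · simp only [w, Option.elim, hperp, mul_zero, sum_const_zero, add_zero] at h0
      have := hB.pos y hy0
      rcases mul_eq_zero.mp h0 with h | h
      · exact h
      · omega
    · simp only [w, Option.elim, hrr, mul_ite, mul_zero, sum_ite_eq, mem_univ, if_true] at h0
      rw [dot_comm hB.symm, hperp i] at h0
      omega
  have h2 := hli.fintype_card_le_finrank
  simp at h2

theorem eight_mul_dot (hB : EvenRootless B) {r : Fin 24 → Fin 24 → ℤ} (hn : ∀ i, nrm B (r i) = 8)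
    (ho : ∀ i j, i ≠ j → r i ⬝ᵥ (B *ᵥ r j) = 0) (x y : Fin 24 → ℤ) :
    8 * (x ⬝ᵥ (B *ᵥ y)) = dotInt (coord B r x) (coord B r y) := by
  have h := congrArg (fun z => z ⬝ᵥ (B *ᵥ y)) (eight_smul hB hn ho x)
  simp only [smul_dotProduct, sum_dotProduct, smul_eq_mul] at h
  rw [h, dotInt]
  refine sum_congr rfl fun i _ => ?_
  rw [dot_comm hB.symm, coord_apply r y i]

/-- The main result. -/
theorem exists_iso (hB : EvenRootless B) (h4 : {x : Fin 24 → ℤ | nrm B x = 4}.ncard = 196560)
    (h6 : {x : Fin 24 → ℤ | nrm B x = 6}.ncard = 16773120)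
    (h8 : {x : Fin 24 → ℤ | nrm B x = 8}.ncard = 398034000) :
    ∃ f : (Fin 24 → ℤ) ≃+ leechLattice,
      ∀ x : Fin 24 → ℤ, sqNorm ((f x : leechLattice) : GolayPt → ℤ) = 8 * nrm B x := by
  obtain ⟨r, hn, ho, hc⟩ := exists_frame hB h4 h6 h8
  have hdot := eight_mul_dot hB hn ho
  have hsq : ∀ x, sqNorm (coord B r x) = 8 * nrm B x := fun x => by
    rw [nrm, hdot x x, sqNorm, dotInt]
    exact sum_congr rfl fun i _ => sq _
  have hinj : Function.Injective (coord B r) := by
    rw [injective_iff_map_eq_zero]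
    intro x hx
    by_contra hne
    have := hB.pos x hne
    have e := hsq x
    rw [hx, nrm] at e
    simp [sqNorm] at e
    omega
  have hrc : ∀ i, coord B r (r i) = Pi.single i 8 := fun i => by
    funext j
    rw [coord_apply]
    by_cases hj : j = i
    · subst hj; rw [Pi.single_eq_same]; exact hn j
    · rw [Pi.single_eq_of_ne hj, ho i j (Ne.symm hj)]
  have hM : FramedLattice (coord B r).range := by
    refine ⟨Fintype.card_fin 24, ?_, ?_, ?_, fun i j => ?_, ?_⟩
    · rintro _ ⟨x, rfl⟩ _ ⟨y, rfl⟩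
      exact ⟨_, (hdot x y).symm⟩
    · rintro _ ⟨x, rfl⟩
      obtain ⟨k, hk⟩ := hB.even x
      exact ⟨k, by rw [hsq, nrm, hk]; ring⟩
    · rintro _ ⟨x, rfl⟩ hne
      have := four_le hB (x := x) fun e => hne (by rw [e, map_zero])
      rw [hsq]; omega
    · choose z hz using hc i j
      refine ⟨z, ?_⟩
      have he : r i + r j = z + z := funext fun k => by rw [Pi.add_apply z z, hz k]; ring
      have h2 := congrArg (coord B r) he
      rw [map_add, map_add, hrc, hrc] at h2
      funext k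
      have := congrFun h2 k
      simp only [Pi.add_apply, Pi.single_apply] at this ⊢
      split_ifs at this ⊢ <;> omega
    · have himg : {v | v ∈ (coord B r).range ∧ sqNorm v = 32} = coord B r '' {x | nrm B x = 4} := by
        ext v
        simp only [Set.mem_ofPred_eq, Set.mem_image]
        constructor
        · rintro ⟨hv', hv⟩
          obtain ⟨x, rfl⟩ := AddMonoidHom.mem_range.mp hv'
          exact ⟨x, by rw [hsq] at hv; omega, rfl⟩
        · rintro ⟨x, hx, rfl⟩
          exact ⟨AddMonoidHom.mem_range.mpr ⟨x, rfl⟩, by rw [hsq, hx]; norm_num⟩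
      rw [himg, Set.ncard_image_of_injective _ hinj, h4]
  obtain ⟨e, s, hs, hiff⟩ := hM.exists_monomial
  let Φ : (Fin 24 → ℤ) →+ leechLattice :=
    { toFun := fun x => ⟨fun q => s (e.symm q) * coord B r x (e.symm q),
        (hiff (coord B r x)).mp ⟨x, rfl⟩⟩
      map_zero' := Subtype.ext (funext fun q => by simp)
      map_add' := fun x y => Subtype.ext (funext fun q => by simp [mul_add]) }
  have hΦ : Function.Bijective Φ := by
    constructor
    · intro x y hxy
      refine hinj (funext fun i => ?_)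
      have := congrFun (congrArg Subtype.val hxy) (e i)
      simp only [Φ, AddMonoidHom.coe_mk, ZeroHom.coe_mk, e.symm_apply_apply] at this
      rcases hs i with h | h <;> rw [h] at this <;> omega
    · rintro ⟨v, hv⟩
      have hsq1 : ∀ i, s i * (s i * v (e i)) = v (e i) := fun i => by
        rcases hs i with h | h <;> rw [h] <;> ring
      have hval : (fun q => s (e.symm q) * (s (e.symm q) * v (e (e.symm q)))) = v :=
        funext fun q => by rw [hsq1, e.apply_symm_apply]
      obtain ⟨x, hx⟩ := (hiff fun i => s i * v (e i)).mpr (by rw [hval]; exact hv)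
      refine ⟨x, Subtype.ext ?_⟩
      simp only [Φ, AddMonoidHom.coe_mk, ZeroHom.coe_mk, hx]
      exact hval
  refine ⟨AddEquiv.ofBijective Φ hΦ, fun x => ?_⟩
  rw [AddEquiv.ofBijective_apply, ← hsq x]
  simp only [Φ, AddMonoidHom.coe_mk, ZeroHom.coe_mk, sqNorm]
  rw [← Equiv.sum_comp e]
  refine sum_congr rfl fun i _ => ?_
  rw [e.symm_apply_apply]
  rcases hs i with h | h <;> rw [h] <;> ring

end CfsgLib.SmallGroups.LeechCoords
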