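import Cfsg.Agent.Lib.Sporadic.M24Config
import Cfsg.Agent.Lib.Sporadic.CertOctad

/-!
Orbits of the stabiliser of the base octad on single points and on pairs of points: certified trees.
-/

set_option autoImplicit false
set_option maxRecDepth 10000

namespace CfsgLib.SmallGroups.LeechShapeData

open CfsgLib.SmallGroups.Golay CfsgLib.SmallGroups.M24Group CfsgLib.Sporadic.M24Orbits
  CfsgLib.Sporadic.M24Config CfsgLib.Sporadic

/-- Spanning tree on the points outside the base octad. -/
def treeOutOne : Tree := (.node 0 524288 (.node 0 256 (.node 0 2097152 (.node 0 32768 .leaf .leaf) (.node 1 1048576 (.node 0 64 .leaf (.node 1 1024 (.node 0 128 (.node 0 2048 .leaf .leaf) .leaf) .leaf)) .leaf)) (.node 1 512 (.node 0 4 .leaf (.node 1 16 .leaf .leaf)) .leaf)) (.node 1 32 (.node 0 8 .leaf (.node 1 8192 .leaf .leaf)) .leaf))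

theorem certOutOne : cert CertOctad.gens [octB] 2 treeOutOne fewKey fewDec
    ((sets 24 1).filter fun n => n &&& octB == 0) = true := by
  decide +kernel

/-- Spanning tree on the pairs outside the base octad. -/
def treeOutTwo : Tree := (.node 0 524304 (.node 0 1048832 (.node 0 2097216 (.node 0 32770 (.node 1 40 (.node 0 520 (.node 0 516 .leaf (.node 1 18 (.node 0 1572864 .leaf .leaf) .leaf)) .leaf) .leaf) (.node 1 32772 (.node 0 1040 (.node 0 1048704 .leaf (.node 1 524352 .leaf .leaf)) (.node 1 264 (.node 0 2097664 (.node 1 20 (.node 1 320 .leaf .leaf) .leaf) (.node 1 1048578 .leaf .leaf)) .leaf)) .leaf)) (.node 1 1049600 (.node 0 192 (.node 0 2050 (.node 0 524320 (.node 1 8704 .leaf .leaf) (.node 1 160 (.node 1 10240 (.node 0 8224 .leaf (.node 1 2097280 (.node 1 2052 .leaf .leaf) .leaf)) .leaf) .leaf)) (.node 1 34816 (.node 0 1056 .leaf (.node 1 136 (.node 0 2560 (.node 0 36 .leaf .leaf) .leaf) .leaf)) .leaf)) (.node 1 525312 (.node 0 384 (.node 0 2099200 (.node 1 132 (.node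 0 2064 .leaf .leaf) .leaf) (.node 1 1050624 (.node 0 96 (.node 1 40960 .leaf .leaf) .leaf) .leaf)) (.node 1 524800 (.node 0 260 (.node 0 2097168 (.node 0 1081344 .leaf .leaf) .leaf) (.node 1 528 (.node 0 1048580 (.node 1 1280 .leaf .leaf) (.node 1 80 .leaf .leaf)) .leaf)) .leaf)) .leaf)) .leaf)) (.node 1 576 (.node 1 32784 (.node 1 72 (.node 0 514 (.node 1 48 (.node 0 1048584 (.node 1 1026 .leaf .leaf) .leaf) .leaf) .leaf) .leaf) .leaf) .leaf)) (.node 1 288 (.node 0 2097160 (.node 0 33280 (.node 0 1028 (.node 0 144 (.node 1 2112 (.node 0 34 .leaf .leaf) .leaf) (.node 1 524544 (.node 0 2097408 .leaf .leaf) .leaf)) (.node 1 24 (.node 0 1049088 (.node 0 68 (.node 1 33024 .leaf .leaf) .leaf) (.node 1 66 (.node 0 524290 .leaf (.node 1 32800 (.node 0 1032 (.node 0 640 .leaf .leaf) (.node 1 8200 (.node 1 2097154 .leaf .leaf) .leaf)) .leaf)) .leaf)) .leaf)) .leaf) (.node 1 1056768 (.node 0 8256 (.node 0 8194 (.node 0 532480 (.node 0 8448 (.node 0 2105344 .leaf .leaf) .leaf) (.node 1 2097184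 (.node 0 32776 (.node 0 1536 .leaf (.node 1 10 .leaf .leaf)) (.node 1 8196 (.node 0 8208 .leaf .leaf) .leaf)) .leaf)) (.node 1 2129920 (.node 0 33792 (.node 0 1152 (.node 0 2176 .leaf (.node 1 526336 .leaf .leaf)) (.node 1 524296 .leaf .leaf)) (.node 1 12 (.node 1 258 (.node 0 2621440 .leaf (.node 1 1048608 (.node 1 9216 .leaf .leaf) .leaf)) .leaf) .leaf)) .leaf)) (.node 1 2098176 (.node 0 32896 (.node 0 3072 (.node 1 524416 (.node 0 2304 .leaf .leaf) .leaf) (.node 1 2056 (.node 0 544 .leaf (.node 1 130 (.node 1 2080 (.node 1 8320 .leaf .leaf) .leaf) .leaf)) .leaf)) (.node 1 524292 (.node 0 272 (.node 0 3145728 (.node 0 32832 .leaf .leaf) (.node 1 1048640 .leaf .leaf)) (.node 1 768 (.node 0 2097156 .leaf (.node 1 1048592 (.node 1 1088 (.node 1 557056 .leaf .leaf) .leaf) .leaf)) .leaf)) .leaf)) .leaf)) .leaf)) .leaf))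

theorem certOutTwo : cert CertOctad.gens [octB] 6 treeOutTwo fewKey fewDec
    ((sets 24 2).filter fun n => n &&& octB == 0) = true := by
  decide +kernel

/-- Spanning tree on the points of the base octad. -/
def treeInOne : Tree := (.node 0 262144 (.node 0 4096 (.node 0 65536 .leaf (.node 1 131072 .leaf .leaf)) (.node 1 4194304 (.node 1 8388608 (.node 0 16384 .leaf .leaf) .leaf) .leaf)) .leaf)

theorem certInOne : cert CertOctad.gens [octB] 1 treeInOne fewKey fewDec
    ((sets 24 1).filter fun n => n &&& octB == n) = true := by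
  decide +kernel

end CfsgLib.SmallGroups.LeechShapeData
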