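import Cfsg.Agent.Lib.SmallGroups.LeechReach
import Cfsg.Agent.Lib.SmallGroups.LeechShapeData
import Cfsg.Agent.Lib.SmallGroups.MathieuSimple

/-!
# The orbits of the monomial group on short vectors of the lattice

Vectors with square norm at most 64 have one of a short list of shapes, and every vector of a given
shape is moved by a monomial map to a standard vector of that shape.
-/

set_option autoImplicit false
set_option maxRecDepth 10000

namespace CfsgLib.SmallGroups.LeechShapes

open Cfsg CfsgLib.SmallGroups.Golay CfsgLib.SmallGroups.GolayOctads CfsgLib.SmallGroups.M24Group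
  CfsgLib.SmallGroups.LeechBasic CfsgLib.SmallGroups.LeechReach CfsgLib.SmallGroups.Mathieu
  CfsgLib.Sporadic CfsgLib.Sporadic.M24Orbits
open scoped Pointwise

/-- The absolute values of a shape. -/
def absOf (O A2 A3 : Finset GolayPt) (q : GolayPt) : ℤ :=
  if q ∈ A3 then 6 else if q ∈ A2 then 4 else if q ∈ O then 2 else 0

/-- `x` has the shape given by three sets of positions. -/
def Shape (x : GolayPt → ℤ) (O A2 A3 : Finset GolayPt) : Prop := ∀ q, |x q| = absOf O A2 A3 q

/-- The standard vector of a shape, with the negative positions marked. -/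
def sv (o a2 a3 neg : ℕ) (q : GolayPt) : ℤ :=
  (if neg.testBit (idx q) then -1 else 1) *
    if a3.testBit (idx q) then 6 else if a2.testBit (idx q) then 4 else if o.testBit (idx q) then 2 else 0

theorem abs_sv (o a2 a3 neg : ℕ) (q : GolayPt) :
    |sv o a2 a3 neg q| = absOf (toSet o) (toSet a2) (toSet a3) q := by
  simp only [sv, absOf, mem_toSet]
  split_ifs <;> norm_num

theorem shape_perm {x : GolayPt → ℤ} {O A2 A3 : Finset GolayPt} (h : Shape x O A2 A3)
    (σ : Equiv.Perm GolayPt) : Shape (fun q => x (σ.symm q)) (σ • O) (σ • A2) (σ • A3) := by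
  intro q
  have e : ∀ S : Finset GolayPt, q ∈ σ • S ↔ σ.symm q ∈ S := fun S => by
    rw [← mem_smul_iff (g := σ) (S := S), Equiv.apply_symm_apply]
  simp only [absOf, e]
  exact h _

/-- The properties of the positions of a standard vector. -/
def stdOK (o a2 a3 neg : ℕ) : Bool :=
  okGood 0 (sv o a2 a3 neg) &&
    decide (∀ q, (2 : ℤ) ∣ sv o a2 a3 neg q ∧ ((sv o a2 a3 neg q / 2 : ℤ) : ZMod 2) = word o q ∧
      (sv o a2 a3 neg q ≠ 0 → (o ||| a2).testBit (idx q) = true))

/-- A shape with sign classes determined by its odd part. -/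
theorem reach_shape {x : GolayPt → ℤ} {O A2 A3 : Finset GolayPt} {o a2 a3 neg : ℕ}
    (h : Shape x O A2 A3) {σ : Equiv.Perm GolayPt} (hσ : σ ∈ M24) (hO : σ • O = toSet o)
    (h2 : σ • A2 = toSet a2) (h3 : σ • A3 = toSet a3) (hT : stdOK o a2 a3 neg = true)
    (hok : insideOK (o ||| a2) [o] = true) : Reach x (sv o a2 a3 neg) := by
  refine (reach_perm hσ x).trans (Reach.of_good fun hx => ?_)
  simp only [stdOK, Bool.and_eq_true, decide_eq_true_eq] at hT
  have habs : ∀ q, |x (σ.symm q)| = |sv o a2 a3 neg q| := fun q => by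
    rw [abs_sv, shape_perm h σ q, hO, h2, h3]
  refine reach_signs habs (o ||| a2) [o] (fun q => (hT.2 q).2.2) hok fun g hg => ?_
  obtain rfl := List.mem_singleton.1 hg
  exact dot_flip hx (good_of_ok hT.1) (fun q => (hT.2 q).1) habs fun q => (hT.2 q).2.1

theorem toSet_zero : toSet 0 = ∅ := by
  rw [← Finset.card_eq_zero, card_toSet]
  decide +kernel

theorem exists_lt (S : Finset GolayPt) : ∃ n, n < 2 ^ 24 ∧ toSet n = S :=
  ⟨mask fun p => if p ∈ S then 1 else 0, Nat.ofBits_lt_two_pow _, by
    rw [toSet_mask]; ext; simp [support₂]⟩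

/-- An octad and some exceptional positions, moved to the standard position. -/
theorem exists_octad_pos {k root tgt : ℕ} {T : Tree} {q : ℕ → Bool}
    (hc : cert CertOctad.gens [octB] root T fewKey fewDec ((M24Config.sets 24 k).filter q) = true)
    (htgt : tgt ∈ (M24Config.sets 24 k).filter q) {O A : Finset GolayPt} (hO : O ∈ octads)
    (hA : A.card = k)
    (hq : ∀ (g : Equiv.Perm GolayPt) (n : ℕ), g • O = toSet octB → toSet n = g • A → n < 2 ^ 24 →
      q n = true) :
    ∃ σ ∈ M24, σ • O = toSet octB ∧ σ • A = toSet tgt := by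
  obtain ⟨g, hg, hgO⟩ := exists_to_octB hO
  obtain ⟨n, hn, hnA⟩ := M24Config.exists_set ((Finset.card_smul_finset g A).trans hA)
  have hlt : n < 2 ^ 24 := sets_lt 24 k n hn
  obtain ⟨g', hg', hfix, he⟩ :=
    orbit_transitive hc (List.mem_filter.2 ⟨hn, hq g n hgO hnA hlt⟩) htgt
  exact ⟨g' * g, mul_mem hg' hg, by rw [mul_smul, hgO, hfix octB List.mem_cons_self],
    by rw [mul_smul, ← hnA, he]⟩
where
  sets_lt : ∀ i k, ∀ n ∈ M24Config.sets i k, n < 2 ^ i := by
    intro i
    induction i with
    | zero => intro k n hn; cases k <;> simp_all [M24Config.sets]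
    | succ i ih =>
      intro k n hn
      cases k with
      | zero => simp_all [M24Config.sets]
      | succ k =>
        simp only [M24Config.sets, List.mem_append, List.mem_map] at hn
        rcases hn with hn | ⟨m, hm, rfl⟩
        · exact lt_of_lt_of_le (ih _ n hn) (Nat.pow_le_pow_right (by norm_num) (by omega))
        · exact Nat.or_lt_two_pow (Nat.pow_lt_pow_right (by norm_num) (by omega))
            (lt_of_lt_of_le (ih _ m hm) (Nat.pow_le_pow_right (by norm_num) (by omega)))

theorem smul_compl (σ : Equiv.Perm GolayPt) (S : Finset GolayPt) : σ • Sᶜ = (σ • S)ᶜ := by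
  ext q
  rw [← σ.apply_symm_apply q, mem_smul_iff, Finset.mem_compl, Finset.mem_compl, mem_smul_iff]

theorem smul_empty (σ : Equiv.Perm GolayPt) : σ • (∅ : Finset GolayPt) = toSet 0 := by
  rw [toSet_zero]
  exact Finset.smul_finset_empty σ

theorem out_q {O A : Finset GolayPt} (hd : Disjoint O A) (g : Equiv.Perm GolayPt) (n : ℕ)
    (hgO : g • O = toSet octB) (hn : toSet n = g • A) (hlt : n < 2 ^ 24) :
    (n &&& octB == 0) = true := by
  rw [beq_iff_eq]
  refine toSet_inj (lt_of_le_of_lt Nat.and_le_left hlt) (by norm_num) ?_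
  rw [← toSet_inter, toSet_zero, hn, ← hgO, ← Finset.smul_finset_inter,
    Finset.inter_comm, Finset.disjoint_iff_inter_eq_empty.1 hd, Finset.smul_finset_empty]

theorem in_q {O A : Finset GolayPt} (hs : A ⊆ O) (g : Equiv.Perm GolayPt) (n : ℕ)
    (hgO : g • O = toSet octB) (hn : toSet n = g • A) (hlt : n < 2 ^ 24) :
    (n &&& octB == n) = true := by
  rw [beq_iff_eq, Nat.and_comm, ← M24Config.subset_iff hlt, hn, ← hgO]
  exact Finset.smul_finset_subset_smul_finset hs

/-! ### The standard vectors -/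

theorem tgt_out_one : 2 ∈ (M24Config.sets 24 1).filter fun n => n &&& octB == 0 := by decide +kernel

theorem tgt_out_two : 6 ∈ (M24Config.sets 24 2).filter fun n => n &&& octB == 0 := by decide +kernel

theorem tgt_in_one : 1 ∈ (M24Config.sets 24 1).filter fun n => n &&& octB == n := by decide +kernel

theorem std_facts :
    (stdOK octB 0 0 0 = true ∧ insideOK (octB ||| 0) [octB] = true) ∧
    (stdOK octB 2 0 1 = true ∧ insideOK (octB ||| 2) [octB] = true) ∧
    (stdOK dodB 0 0 0 = true ∧ insideOK (dodB ||| 0) [dodB] = true) ∧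
    (stdOK octB 6 0 0 = true ∧ insideOK (octB ||| 6) [octB] = true) ∧
    (stdOK octB 0 1 1 = true ∧ insideOK (octB ||| 0) [octB] = true) ∧
    (stdOK dodB 4 0 1 = true ∧ insideOK (dodB ||| 4) [dodB] = true) := by
  decide +kernel

theorem reach_octad {x : GolayPt → ℤ} {O : Finset GolayPt} (hO : O ∈ octads)
    (h : Shape x O ∅ ∅) : Reach x (sv octB 0 0 0) := by
  obtain ⟨g, hg, hgO⟩ := exists_to_octB hO
  exact reach_shape h hg hgO (smul_empty g) (smul_empty g) std_facts.1.1 std_facts.1.2

theorem reach_octad_out_one {x : GolayPt → ℤ} {O A : Finset GolayPt} (hO : O ∈ octads)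
    (hA : A.card = 1) (hd : Disjoint O A) (h : Shape x O A ∅) : Reach x (sv octB 2 0 1) := by
  obtain ⟨σ, hσ, h1, h2⟩ :=
    exists_octad_pos LeechShapeData.certOutOne tgt_out_one hO hA (out_q hd)
  exact reach_shape h hσ h1 h2 (smul_empty σ) std_facts.2.1.1 std_facts.2.1.2

theorem reach_dodecad {x : GolayPt → ℤ} {O : Finset GolayPt} (hO : O ∈ dodecads)
    (h : Shape x O ∅ ∅) : Reach x (sv dodB 0 0 0) := by
  obtain ⟨g, hg, hgO⟩ := exists_to_dodB hO
  exact reach_shape h hg hgO (smul_empty g) (smul_empty g) std_facts.2.2.1.1 std_facts.2.2.1.2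

theorem reach_octad_out_two {x : GolayPt → ℤ} {O A : Finset GolayPt} (hO : O ∈ octads)
    (hA : A.card = 2) (hd : Disjoint O A) (h : Shape x O A ∅) : Reach x (sv octB 6 0 0) := by
  obtain ⟨σ, hσ, h1, h2⟩ :=
    exists_octad_pos LeechShapeData.certOutTwo tgt_out_two hO hA (out_q hd)
  exact reach_shape h hσ h1 h2 (smul_empty σ) std_facts.2.2.2.1.1 std_facts.2.2.2.1.2

theorem reach_octad_in_one {x : GolayPt → ℤ} {O A : Finset GolayPt} (hO : O ∈ octads)
    (hA : A.card = 1) (hs : A ⊆ O) (h : Shape x O ∅ A) : Reach x (sv octB 0 1 1) := by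
  obtain ⟨σ, hσ, h1, h2⟩ :=
    exists_octad_pos LeechShapeData.certInOne tgt_in_one hO hA (in_q hs)
  exact reach_shape h hσ h1 (smul_empty σ) h2 std_facts.2.2.2.2.1.1 std_facts.2.2.2.2.1.2

/-- A dodecad and a point off it, moved to the standard position. -/
theorem exists_dodecad_pos {O A : Finset GolayPt} (hO : O ∈ dodecads) (hA : A.card = 1)
    (hd : Disjoint O A) : ∃ σ ∈ M24, σ • O = toSet dodB ∧ σ • A = toSet 4 := by
  obtain ⟨p, rfl⟩ := Finset.card_eq_one.1 hA
  obtain ⟨g, hg, hgO⟩ := exists_to_dodB hO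
  have hc : (toSet dodB)ᶜ ∈ dodecads := MathieuSimple.compl_mem dodB_mem
  have hp : g p ∈ (toSet dodB)ᶜ := by
    rw [Finset.mem_compl, ← hgO, mem_smul_iff]
    exact Finset.disjoint_singleton_right.1 hd
  obtain ⟨r, hr, hrne⟩ : ∃ r ∈ (toSet dodB)ᶜ, r ≠ g p :=
    Finset.exists_mem_ne (by rw [hc.2]; norm_num) _
  have h2 : ∀ t : GolayPt, t = pt 2 → t ∈ (toSet dodB)ᶜ := by
    rintro t rfl
    decide +kernel
  obtain ⟨s, hs, hsne⟩ : ∃ s ∈ (toSet dodB)ᶜ, s ≠ pt 2 :=
    Finset.exists_mem_ne (by rw [hc.2]; norm_num) _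
  obtain ⟨k, hk⟩ := dodecad_transitive_points hc ⟨![g p, r], fun i j e => by
      fin_cases i <;> fin_cases j <;> simp_all⟩ ⟨![pt 2, s], fun i j e => by
      fin_cases i <;> fin_cases j <;> simp_all⟩
    (fun i => by fin_cases i <;> [exact hp; exact hr])
    (fun i => by fin_cases i <;> [exact h2 _ rfl; exact hs])
  have hkc : ((k : M24) : Equiv.Perm GolayPt) • (toSet dodB)ᶜ = (toSet dodB)ᶜ := k.2
  refine ⟨((k : M24) : Equiv.Perm GolayPt) * g, mul_mem (k : M24).2 hg, ?_, ?_⟩
  · rw [mul_smul, hgO]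
    have e := congrArg (·ᶜ) hkc
    rwa [← smul_compl, compl_compl] at e
  · rw [mul_smul, Finset.smul_finset_singleton, Finset.smul_finset_singleton, Equiv.Perm.smul_def,
      Equiv.Perm.smul_def]
    have hk0 : ((k : M24) : Equiv.Perm GolayPt) (g p) = pt 2 := hk 0
    rw [hk0]
    decide +kernel

theorem reach_dodecad_out_one {x : GolayPt → ℤ} {O A : Finset GolayPt} (hO : O ∈ dodecads)
    (hA : A.card = 1) (hd : Disjoint O A) (h : Shape x O A ∅) : Reach x (sv dodB 4 0 1) := by
  obtain ⟨σ, hσ, h1, h2⟩ := exists_dodecad_pos hO hA hd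
  exact reach_shape h hσ h1 h2 (smul_empty σ) std_facts.2.2.2.2.2.1 std_facts.2.2.2.2.2.2

/-! ### Sixteen positions -/

/-- The complement of the base octad. -/
def co16 : ℕ := 3715070

/-- A basis of the code words inside the complement of the base octad, after the word itself. -/
def gens16 : List ℕ := [10558, 36294, 525274, 1050548]

/-- The candidate sets of negative positions. -/
def negs16 : List ℕ := (List.range 24).filterMap fun j =>
  if j = 0 then some 0 else if co16.testBit j && j != 1 then some (2 + 2 ^ j) else none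

theorem negs16_spec : ∀ a b c d : ZMod 2, ∃ n ∈ negs16, ((pc (n &&& 10558) : ℕ) : ZMod 2) = a ∧
    ((pc (n &&& 36294) : ℕ) : ZMod 2) = b ∧ ((pc (n &&& 525274) : ℕ) : ZMod 2) = c ∧
    ((pc (n &&& 1050548) : ℕ) : ZMod 2) = d := by
  decide +kernel

theorem negs16_ok : (∀ n ∈ negs16, stdOK co16 0 0 n = true ∧ n &&& co16 = n ∧ n < 2 ^ 24) ∧
    insideOK co16 (co16 :: gens16) = true ∧
    ∀ n ∈ negs16, n = 0 ∨ (n ∈ (M24Config.sets 24 2).filter fun n => n &&& octB == 0) := by
  decide +kernel

theorem toSet_co16 : toSet co16 = (toSet octB)ᶜ := by decide +kernel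

theorem flip_neg {x : GolayPt → ℤ} {n : ℕ} (hn : n &&& co16 = n) (hlt : n < 2 ^ 24)
    (h : ∀ q, |x q| = |sv co16 0 0 0 q|) :
    LeechReach.flip x (sv co16 0 0 n) = LeechReach.flip x (sv co16 0 0 0) + word n := by
  funext q
  have hsub : n.testBit (idx q) = true → co16.testBit (idx q) = true := fun hq => by
    rw [← hn, Nat.testBit_and, Bool.and_eq_true] at hq
    exact hq.2
  have hx := h q
  simp only [sv, Nat.zero_testBit, Bool.false_eq_true, if_false, one_mul] at hx
  simp only [LeechReach.flip, sv, word, Pi.add_apply, Nat.zero_testBit, Bool.false_eq_true, if_false, one_mul]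
  by_cases hq : n.testBit (idx q) = true
  · have hc := hsub hq
    simp only [hq, hc, if_true] at hx ⊢
    rcases (abs_eq_abs.1 hx) with e | e <;> rw [e] <;> decide
  · simp [hq]

theorem reach_sixteen {x : GolayPt → ℤ} (hgood : Good x) {O : Finset GolayPt} (hO : Oᶜ ∈ octads)
    (h : Shape x O ∅ ∅) :
    Reach x (sv co16 0 0 0) ∨ Reach x (sv co16 0 0 (2 + 4)) := by
  obtain ⟨g, hg, hgO⟩ := exists_to_octB hO
  rw [smul_compl] at hgO
  have hgO' : g • O = toSet co16 := by rw [toSet_co16, ← hgO, compl_compl]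
  have hr := reach_perm hg x
  have hy : Good fun q => x (g.symm q) := hr.good hgood
  set y := fun q => x (g.symm q) with hy'
  have habs : ∀ q, |y q| = |sv co16 0 0 0 q| := fun q => by
    rw [abs_sv, hy', shape_perm h g q, hgO', smul_empty]
  have hdot : ∀ n : ℕ, stdOK co16 0 0 n = true → (∀ q, |y q| = |sv co16 0 0 n q|) →
      ∑ i, LeechReach.flip y (sv co16 0 0 n) i * word co16 i = 0 := fun n hn he => by
    simp only [stdOK, Bool.and_eq_true, decide_eq_true_eq] at hn
    exact dot_flip hy (good_of_ok hn.1) (fun q => (hn.2 q).1) he fun q => (hn.2 q).2.1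
  obtain ⟨n, hn, ha, hb, hc, hd⟩ := negs16_spec
    (∑ i, LeechReach.flip y (sv co16 0 0 0) i * word 10558 i) (∑ i, LeechReach.flip y (sv co16 0 0 0) i * word 36294 i)
    (∑ i, LeechReach.flip y (sv co16 0 0 0) i * word 525274 i) (∑ i, LeechReach.flip y (sv co16 0 0 0) i * word 1050548 i)
  obtain ⟨hstd, hsub, hlt⟩ := negs16_ok.1 n hn
  have habs' : ∀ q, |y q| = |sv co16 0 0 n q| := fun q => by rw [habs, abs_sv, abs_sv]
  have hflip := flip_neg hsub hlt habs
  have hsum : ∀ m : ℕ, ∑ i, LeechReach.flip y (sv co16 0 0 0) i * word m i = ((pc (n &&& m) : ℕ) : ZMod 2) →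
      ∑ i, LeechReach.flip y (sv co16 0 0 n) i * word m i = 0 := fun m hm => by
    simp only [hflip, Pi.add_apply, add_mul, Finset.sum_add_distrib, hm, dot_word]
    exact CharTwo.add_self_eq_zero _
  have hn' : Reach y (sv co16 0 0 n) := by
    refine reach_signs habs' co16 (co16 :: gens16) (fun q hq => ?_) negs16_ok.2.1 fun m hm => ?_
    · by_contra hne
      exact hq (by simp [sv, hne])
    · simp only [gens16, List.mem_cons, List.not_mem_nil, or_false] at hm
      rcases hm with rfl | rfl | rfl | rfl | rfl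
      exacts [hdot n hstd habs', hsum _ ha.symm, hsum _ hb.symm, hsum _ hc.symm, hsum _ hd.symm]
  rcases negs16_ok.2.2 n hn with rfl | hpair
  · exact Or.inl (hr.trans hn')
  · refine Or.inr ((hr.trans hn').trans ?_)
    obtain ⟨σ, hσ, hfix, he⟩ := orbit_transitive LeechShapeData.certOutTwo hpair tgt_out_two
    have ho : σ • toSet co16 = toSet co16 := by
      rw [toSet_co16, smul_compl, hfix octB List.mem_cons_self]
    convert reach_perm hσ (sv co16 0 0 n) using 1
    funext q
    have e : ∀ m m' : ℕ, σ • toSet m = toSet m' → (m'.testBit (idx q) = m.testBit (idx (σ.symm q))) := by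
      intro m m' hm
      rw [Bool.eq_iff_iff, ← mem_toSet, ← mem_toSet, ← hm]
      conv_lhs => rw [← σ.apply_symm_apply q]
      exact mem_smul_iff
    simp only [sv, e _ _ he, e _ _ ho, Nat.zero_testBit]

/-! ### The classification -/

/-- The exceptional positions of a vector with odd coordinates. -/
theorem reach_odd {x : GolayPt → ℤ} (hgood : Good x) {Q : ℕ} (hN : sqNorm x = 24 + 8 * (Q : ℤ))
    (hQ : Q ≤ 5) (hodd : x none % 2 = 1) :
    ∃ a b : ℕ, a + 3 * b = Q ∧ b = (Finset.univ.filter fun q => |x q| = 5).card ∧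
      Reach x (pv 1 (List.replicate a (-3) ++ List.replicate b 5)) := by
  obtain ⟨m, h1, h2, h3⟩ := mem_leechSet_iff.2 hgood
  have hxodd : ∀ q, x q % 2 = 1 := fun q => by
    have := (h1 q).dvd
    have := (h1 none).dvd
    omega
  set c := Finset.univ.filter fun q => x q ≡ 3 [ZMOD 4] with hc
  have hr := reach_sign (h3 3) x
  set y := fun q => if q ∈ c then -x q else x q with hy
  have hy4 : ∀ q, y q % 4 = 1 := fun q => by
    have := hxodd q
    simp only [hy]
    split_ifs with hq
    · have h3' : x q % 4 = 3 % 4 := (Finset.mem_filter.1 hq).2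
      omega
    · have h3' : ¬ x q % 4 = 3 % 4 := fun h => hq (Finset.mem_filter.2 ⟨Finset.mem_univ _, h⟩)
      omega
  have hyabs : ∀ q, |y q| = |x q| := fun q => by
    simp only [hy]
    split_ifs <;> simp
  set z : GolayPt → ℤ := fun q => y q / 4 with hz
  have hyz : ∀ q, y q = 1 + 4 * z q := fun q => by have := hy4 q; simp only [hz]; omega
  have hsum : ∑ q, (2 * z q ^ 2 + z q) = (Q : ℤ) := by
    have e : sqNorm x = 24 + 8 * ∑ q, (2 * z q ^ 2 + z q) := by
      rw [sqNorm, Finset.mul_sum, show (24 : ℤ) = ∑ _q : GolayPt, 1 by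
        rw [Finset.sum_const, Finset.card_univ, card_golayPt]; simp, ← Finset.sum_add_distrib]
      refine Finset.sum_congr rfl fun q _ => ?_
      rw [← sq_abs, ← hyabs, sq_abs, hyz]
      ring
    omega
  have hf : ∀ t : ℤ, 0 ≤ 2 * t ^ 2 + t := fun t => by
    rcases le_or_gt 0 t with ht | ht
    · positivity
    · nlinarith
  have hz3 : ∀ q, z q = 0 ∨ z q = -1 ∨ z q = 1 := fun q => by
    have h := Finset.single_le_sum (f := fun q => 2 * z q ^ 2 + z q) (fun q _ => hf _) (Finset.mem_univ q)
    rw [hsum] at h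
    have h5 : 2 * z q ^ 2 + z q ≤ 5 := h.trans (by exact_mod_cast hQ)
    have h1 : -2 ≤ z q := by nlinarith
    have h2 : z q ≤ 1 := by nlinarith
    interval_cases z q <;> omega
  set A := Finset.univ.filter fun q => z q = -1 with hA
  set B := Finset.univ.filter fun q => z q = 1 with hB
  have hAB : (A.card : ℤ) + 3 * B.card = Q := by
    rw [← hsum, hA, hB, ← Finset.sum_boole, ← Finset.sum_boole, Finset.mul_sum,
      ← Finset.sum_add_distrib]
    refine Finset.sum_congr rfl fun q _ => ?_
    rcases hz3 q with h | h | h <;> simp [h]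
  refine ⟨A.card, B.card, by exact_mod_cast hAB, ?_, hr.trans ?_⟩
  · refine congrArg Finset.card (Finset.filter_congr fun q _ => ?_)
    rw [← hyabs q, hyz q]
    rcases hz3 q with h | h | h <;> simp [h]
  · refine reach_levels (Finset.disjoint_filter.2 fun q _ h => by omega)
      (fun q hq => ?_) (fun q hq => ?_) (fun q hq hq' => ?_) (by omega)
    · rw [hyz q, (Finset.mem_filter.1 hq).2]; norm_num
    · rw [hyz q, (Finset.mem_filter.1 hq).2]; norm_num
    · simp only [hA, hB, Finset.mem_filter, Finset.mem_univ, true_and] at hq hq'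
      rcases hz3 q with h | h | h <;> first | contradiction | (rw [hyz q, h]; norm_num)

/-- A vector with all coordinates divisible by four. -/
theorem reach_four {x : GolayPt → ℤ} (hN : sqNorm x ≤ 64) (h4 : ∀ q, (4 : ℤ) ∣ x q) :
    ∃ a b : ℕ, sqNorm x = 16 * (a : ℤ) + 64 * b ∧ b = (Finset.univ.filter fun q => |x q| = 8).card ∧
      Reach x (pv 0 (List.replicate a 4 ++ List.replicate b 8)) := by
  have hval : ∀ q, |x q| = 0 ∨ |x q| = 4 ∨ |x q| = 8 := fun q => by
    obtain ⟨t, ht⟩ := h4 q
    have h := Finset.single_le_sum (f := fun q => x q ^ 2) (fun q _ => sq_nonneg _) (Finset.mem_univ q)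
    have h1 : x q ^ 2 ≤ 64 := h.trans hN
    rw [ht] at h1 ⊢
    have h2 : -2 ≤ t := by nlinarith
    have h3 : t ≤ 2 := by nlinarith
    interval_cases t <;> simp
  set A := Finset.univ.filter fun q => |x q| = 4 with hA
  set B := Finset.univ.filter fun q => |x q| = 8 with hB
  have e : sqNorm x = 16 * (A.card : ℤ) + 64 * B.card := by
    rw [sqNorm, hA, hB, ← Finset.sum_boole, ← Finset.sum_boole, Finset.mul_sum, Finset.mul_sum,
      ← Finset.sum_add_distrib]
    refine Finset.sum_congr rfl fun q _ => ?_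
    rw [← sq_abs]
    rcases hval q with h | h | h <;> simp [h]
  refine ⟨A.card, B.card, e, rfl, reach_levels_abs (by norm_num) (by norm_num)
    (Finset.disjoint_filter.2 fun q _ h => by omega) (fun q hq => (Finset.mem_filter.1 hq).2)
    (fun q hq => (Finset.mem_filter.1 hq).2) (fun q hq hq' => ?_) (by omega)⟩
  simp only [hA, hB, Finset.mem_filter, Finset.mem_univ, true_and] at hq hq'
  rcases hval q with h | h | h <;> first | exact abs_eq_zero.1 h | contradiction

/-- The sets of an even vector that is not divisible by four. -/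
theorem exists_shape {x : GolayPt → ℤ} (hx : Good x) (hN : sqNorm x ≤ 64) (hev : x none % 2 = 0)
    (h4 : ¬ ∀ q, (4 : ℤ) ∣ x q) :
    ∃ O A2 A3 : Finset GolayPt, O ∈ supports (golayCode : Set (GolayPt → ZMod 2)) ∧
      (O.card = 8 ∨ O.card = 12 ∨ O.card = 16) ∧ Disjoint O A2 ∧ A3 ⊆ O ∧ Shape x O A2 A3 ∧
      sqNorm x = 4 * (O.card : ℤ) + 16 * A2.card + 32 * A3.card ∧
      O = Finset.univ.filter (fun q => x q % 4 = 2) ∧
      A3 = Finset.univ.filter (fun q => |x q| = 6) := by
  obtain ⟨m, y, hm, hxy, -, hc⟩ := exists_halves hx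
  obtain rfl : m = 0 := by
    have := hxy none
    rcases hm with rfl | rfl <;> omega
  set O := Finset.univ.filter fun q => x q % 4 = 2 with hO
  set A2 := Finset.univ.filter fun q => |x q| = 4 with hA2
  set A3 := Finset.univ.filter fun q => |x q| = 6 with hA3
  have hO' : support₂ (fun i => (y i : ZMod 2)) = O := by
    ext q
    have := hxy q
    simp only [support₂, hO, Finset.mem_filter, Finset.mem_univ, true_and, cast_two_eq_ite]
    omega
  have hmem : O ∈ supports (golayCode : Set (GolayPt → ZMod 2)) := hO' ▸ mem_supports_word hc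
  have hne : (fun i => (y i : ZMod 2)) ≠ 0 := fun e => h4 fun q => by
    have h0 : ¬ ((y q : ZMod 2) ≠ 0) := by simpa using congrFun e q
    rw [cast_two_eq_ite] at h0
    have := hxy q
    omega
  have h8 : 8 ≤ O.card := hO' ▸ (card_support hc).2 hne
  have hle : ∀ q, (if q ∈ O then (4 : ℤ) else 0) ≤ x q ^ 2 := fun q => by
    split_ifs with h
    · rw [hO, Finset.mem_filter] at h
      have : x q ≠ 0 := by omega
      obtain ⟨t, ht⟩ : (2 : ℤ) ∣ x q := ⟨y q, by have := hxy q; omega⟩
      rw [ht] at this ⊢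
      have ht0 : t ≠ 0 := fun e => this (by rw [e]; rfl)
      have := Int.one_le_abs ht0
      nlinarith [sq_abs t]
    · exact sq_nonneg _
  have hsum : ∑ q, (x q ^ 2 - if q ∈ O then (4 : ℤ) else 0) = sqNorm x - 4 * O.card := by
    rw [Finset.sum_sub_distrib, sqNorm, Finset.sum_ite_mem, Finset.univ_inter, Finset.sum_const,
      nsmul_eq_mul]
    push_cast
    ring
  have hval : ∀ q, x q ^ 2 - (if q ∈ O then (4 : ℤ) else 0) =
      16 * (if |x q| = 4 then (1 : ℤ) else 0) + 32 * (if |x q| = 6 then (1 : ℤ) else 0) ∧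
      |x q| = absOf O A2 A3 q := fun q => by
    have h := Finset.single_le_sum (f := fun q => x q ^ 2 - if q ∈ O then (4 : ℤ) else 0)
      (fun q _ => sub_nonneg.2 (hle q)) (Finset.mem_univ q)
    rw [hsum] at h
    have h' : x q ^ 2 - (if q ∈ O then (4 : ℤ) else 0) ≤ 32 := h.trans (by omega)
    obtain ⟨t, ht⟩ : (2 : ℤ) ∣ x q := ⟨y q, by have := hxy q; omega⟩
    simp only [absOf, hA2, hA3, hO, Finset.mem_filter, Finset.mem_univ, true_and] at h' ⊢
    rw [ht] at h' ⊢
    have h1 : (2 * t) ^ 2 ≤ 36 := by split_ifs at h' <;> nlinarith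
    have h2 : -3 ≤ t := by nlinarith
    have h3 : t ≤ 3 := by nlinarith
    interval_cases t <;> simp at h' ⊢
  have hN' : sqNorm x = 4 * (O.card : ℤ) + 16 * A2.card + 32 * A3.card := by
    have e := Finset.sum_congr rfl fun q (_ : q ∈ (Finset.univ : Finset GolayPt)) => (hval q).1
    rw [hsum, Finset.sum_add_distrib, ← Finset.mul_sum, ← Finset.mul_sum, Finset.sum_boole,
      Finset.sum_boole] at e
    simp only [hA2, hA3]
    omega
  refine ⟨O, A2, A3, hmem, ?_, ?_, fun q hq => ?_, fun q => (hval q).2, hN', rfl, rfl⟩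
  · obtain ⟨k, hk, e⟩ := mem_code_iff.1 hc
    have := weights _ (mem_cw.2 ⟨k, hk, rfl⟩)
    rw [← card_toSet, ← support₂_word, e, hO'] at this
    omega
  · simp only [hO, hA2, Finset.disjoint_filter]
    intro q _ h1 h2
    rcases abs_choice (x q) with h | h <;> omega
  · simp only [hO, hA3, Finset.mem_filter, Finset.mem_univ, true_and] at hq ⊢
    rcases abs_choice (x q) with h | h <;> omega

theorem octad_of_compl {O : Finset GolayPt} (hO : O ∈ supports (golayCode : Set (GolayPt → ZMod 2)))
    (h : O.card = 16) : Oᶜ ∈ octads := by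
  obtain ⟨w, hw, rfl⟩ := hO
  refine ⟨⟨w + 1, add_mem hw one_mem_code, ?_⟩, by rw [Finset.card_compl, card_golayPt, h]⟩
  ext q
  simp only [support₂, Finset.mem_compl, Finset.mem_filter, Finset.mem_univ, true_and, Pi.add_apply,
    Pi.one_apply]
  generalize w q = t
  revert t
  decide

end CfsgLib.SmallGroups.LeechShapes
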