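import Cfsg.Agent.Lib.SmallGroups.LeechOrbit
import Cfsg.Agent.Lib.SmallGroups.LeechShapes

/-!
# The minimal vectors with given inner product with a vector of square norm 48

The minimal vectors have three shapes.  For the vector `(5, 1, ..., 1)` the inner product is read
off from the parameters of the shape, so that a search tree can be shown to contain all minimal
vectors with one inner product.
-/

set_option autoImplicit false
set_option maxRecDepth 10000
set_option maxHeartbeats 400000

namespace CfsgLib.SmallGroups.LeechEnum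

open Cfsg CfsgLib.SmallGroups.Golay CfsgLib.SmallGroups.GolayOctads CfsgLib.SmallGroups.M24Group
  CfsgLib.SmallGroups.LeechBasic CfsgLib.SmallGroups.LeechOrbit CfsgLib.Sporadic
open scoped Pointwise

attribute [local irreducible] pc enc cw cwOfWeight

/-! ### Isometries keep inner products -/

theorem sqNorm_add (a b : GolayPt → ℤ) : sqNorm (a + b) = sqNorm a + sqNorm b + 2 * dotInt a b := by
  simp only [sqNorm, dotInt, Pi.add_apply, Finset.mul_sum, ← Finset.sum_add_distrib]
  exact Finset.sum_congr rfl fun q _ => by ring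

theorem sqNorm_sub (a b : GolayPt → ℤ) : sqNorm (a - b) = sqNorm a + sqNorm b - 2 * dotInt a b := by
  simp only [sqNorm, dotInt, Pi.sub_apply, Finset.mul_sum, ← Finset.sum_add_distrib,
    ← Finset.sum_sub_distrib]
  exact Finset.sum_congr rfl fun q _ => by ring

theorem dot_comm (a b : GolayPt → ℤ) : dotInt a b = dotInt b a :=
  Finset.sum_congr rfl fun q _ => mul_comm _ _

theorem dot_smul (g : Co0) (a b : leechLattice) :
    dotInt ((g • a : leechLattice) : GolayPt → ℤ) ((g • b : leechLattice) : GolayPt → ℤ) =
      dotInt (a : GolayPt → ℤ) (b : GolayPt → ℤ) := by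
  have h := g.2.2 (a + b)
  rw [g.2.1, AddSubgroup.coe_add, AddSubgroup.coe_add, sqNorm_add, sqNorm_add] at h
  have ha : sqNorm ((g • a : leechLattice) : GolayPt → ℤ) = sqNorm (a : GolayPt → ℤ) := g.2.2 a
  have hb : sqNorm ((g • b : leechLattice) : GolayPt → ℤ) = sqNorm (b : GolayPt → ℤ) := g.2.2 b
  change sqNorm ((g • a : leechLattice) : GolayPt → ℤ) + sqNorm ((g • b : leechLattice) : GolayPt → ℤ)
    + 2 * dotInt ((g • a : leechLattice) : GolayPt → ℤ) ((g • b : leechLattice) : GolayPt → ℤ) = _ at h
  omega

theorem norm_smul (g : Co0) (a : leechLattice) :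
    sqNorm ((g • a : leechLattice) : GolayPt → ℤ) = sqNorm (a : GolayPt → ℤ) := g.2.2 a

/-! ### The three shapes -/

/-- Two fours. -/
def pairF (i j : ℕ) (a b : ℤ) (l : ℕ) : ℤ := if l == i then a else if l == j then b else 0

/-- An octad with signs. -/
def octF (o n l : ℕ) : ℤ := if o.testBit l then (if n.testBit l then -2 else 2) else 0

/-- A code word of signs and one three. -/
def oddF (c p l : ℕ) : ℤ :=
  if l == p then (if c.testBit l then 3 else -3) else if c.testBit l then -1 else 1

theorem sum_bits (m : ℕ) :
    (∑ q : GolayPt, if m.testBit (idx q) then (1 : ℤ) else 0) = (pc m : ℤ) := by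
  rw [Finset.sum_boole, ← card_toSet]
  rfl

theorem sum_octF {o n : ℕ} (h : toSet n ⊆ toSet o) :
    ∑ q : GolayPt, octF o n (idx q) = 2 * (pc o : ℤ) - 4 * (pc n : ℤ) := by
  rw [← sum_bits, ← sum_bits, Finset.mul_sum, Finset.mul_sum, ← Finset.sum_sub_distrib]
  refine Finset.sum_congr rfl fun q _ => ?_
  by_cases hn : n.testBit (idx q) = true
  · have ho : o.testBit (idx q) = true := mem_toSet.1 (h (mem_toSet.2 hn))
    simp [octF, hn, ho]
  · by_cases ho : o.testBit (idx q) = true <;> simp [octF, hn, ho]

theorem sum_oddF (c : ℕ) (p : GolayPt) :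
    ∑ q : GolayPt, oddF c (idx p) (idx q) =
      24 - 2 * (pc c : ℤ) + if c.testBit (idx p) then 4 else -4 := by
  have e : ∀ q : GolayPt, oddF c (idx p) (idx q) =
      1 - 2 * (if c.testBit (idx q) then (1 : ℤ) else 0) +
        if q = p then (if c.testBit (idx p) then 4 else -4) else 0 := fun q => by
    rcases eq_or_ne q p with rfl | hq
    · simp only [oddF, beq_self_eq_true, if_true]
      split_ifs <;> norm_num
    · have : idx q ≠ idx p := fun e => hq (idx_injective e)
      simp only [oddF, beq_iff_eq, if_neg this, if_neg hq]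
      split_ifs <;> norm_num
  rw [Finset.sum_congr rfl fun q _ => e q, Finset.sum_add_distrib, Finset.sum_sub_distrib,
    ← Finset.mul_sum, sum_bits, Finset.sum_ite_eq', if_pos (Finset.mem_univ _), Finset.sum_const,
    Finset.card_univ, card_golayPt]
  simp

theorem shapes32 {x : GolayPt → ℤ} (hx : Good x) (hN : sqNorm x = 32) :
    (∃ (p q : GolayPt) (a b : ℤ), p ≠ q ∧ (a = 4 ∨ a = -4) ∧ (b = 4 ∨ b = -4) ∧
      ∀ r, x r = pairF (idx p) (idx q) a b (idx r)) ∨
    (∃ o ∈ cwOfWeight 8, ∃ n, toSet n ⊆ toSet o ∧ pc n % 2 = 0 ∧ ∀ r, x r = octF o n (idx r)) ∨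
    ∃ (k : ℕ) (p : GolayPt), k < 4096 ∧ ∀ r, x r = oddF (enc k) (idx p) (idx r) := by
  have hsq : ∑ r, x r ^ 2 = 32 := hN
  by_cases hodd : x none % 2 = 1
  · refine Or.inr (Or.inr ?_)
    obtain ⟨m, h1, -, h3⟩ := mem_leechSet_iff.2 hx
    obtain ⟨n, hn, hns⟩ := mem_supports.1 (h3 3)
    obtain ⟨k, hk, rfl⟩ := mem_cw.1 hn
    have hc : ∀ r, (enc k).testBit (idx r) = true ↔ x r % 4 = 3 % 4 := fun r => by
      rw [← mem_toSet, hns, Finset.mem_filter]
      exact ⟨fun h => h.2, fun h => ⟨Finset.mem_univ _, h⟩⟩
    set y : GolayPt → ℤ := fun r => if (enc k).testBit (idx r) then -x r else x r with hy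
    have hy4 : ∀ r, y r % 4 = 1 := fun r => by
      have := (h1 r).dvd
      have := (h1 none).dvd
      simp only [hy]
      split_ifs with h
      · have := (hc r).1 h; omega
      · have : ¬ x r % 4 = 3 % 4 := fun e => h ((hc r).2 e)
        omega
    have hy2 : ∑ r, (y r ^ 2 - 1) = 8 := by
      rw [Finset.sum_sub_distrib, Finset.sum_const, Finset.card_univ, card_golayPt,
        Finset.sum_congr rfl fun r _ => show y r ^ 2 = x r ^ 2 by simp only [hy]; split_ifs <;> ring,
        hsq]
      norm_num
    have hpos : ∀ r, 0 ≤ y r ^ 2 - 1 := fun r => by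
      have : y r ≠ 0 := fun e => by have := hy4 r; rw [e] at this; norm_num at this
      nlinarith [Int.one_le_abs this, sq_abs (y r)]
    have hval : ∀ r, y r = 1 ∨ y r = -3 := fun r => by
      have h := Finset.single_le_sum (f := fun r => y r ^ 2 - 1) (fun r _ => hpos r) (Finset.mem_univ r)
      rw [hy2] at h
      have h' : y r ^ 2 ≤ 9 := by linarith
      have := hy4 r
      have h2 : -3 ≤ y r := by nlinarith
      have h3 : y r ≤ 3 := by nlinarith
      omega
    have hcard : (Finset.univ.filter fun r => y r = -3).card = 1 := by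
      have e : ∑ r, (y r ^ 2 - 1) = 8 * ((Finset.univ.filter fun r => y r = -3).card : ℤ) := by
        rw [← Finset.sum_boole, Finset.mul_sum]
        refine Finset.sum_congr rfl fun r _ => ?_
        rcases hval r with h | h <;> simp [h]
      omega
    obtain ⟨p, hp⟩ := Finset.card_eq_one.1 hcard
    refine ⟨k, p, hk, fun r => ?_⟩
    have hxy : x r = if (enc k).testBit (idx r) then -y r else y r := by
      simp only [hy]; split_ifs <;> ring
    rw [hxy]
    have hiff : y r = -3 ↔ r = p := by
      have := congrArg (r ∈ ·) hp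
      simpa using this
    rcases eq_or_ne r p with rfl | hrp
    · rw [hiff.2 rfl]
      simp [oddF]
    · have h1 : y r = 1 := (hval r).resolve_right fun e => hrp (hiff.1 e)
      have h2 : idx r ≠ idx p := fun e => hrp (idx_injective e)
      simp only [oddF, beq_iff_eq, if_neg h2, h1]
  by_cases h4 : ∀ r, (4 : ℤ) ∣ x r
  · refine Or.inl ?_
    choose z hz using h4
    have hz2 : ∑ r, z r ^ 2 = 2 := by
      have e : ∑ r, x r ^ 2 = 16 * ∑ r, z r ^ 2 := by
        rw [Finset.mul_sum]; exact Finset.sum_congr rfl fun r _ => by rw [hz r]; ring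
      omega
    have hval : ∀ r, z r = 0 ∨ z r = 1 ∨ z r = -1 := fun r => by
      have h := Finset.single_le_sum (f := fun r => z r ^ 2) (fun r _ => sq_nonneg _) (Finset.mem_univ r)
      rw [hz2] at h
      have h2 : -1 ≤ z r := by nlinarith
      have h3 : z r ≤ 1 := by nlinarith
      omega
    have hcard : (Finset.univ.filter fun r => z r ≠ 0).card = 2 := by
      have e : ∑ r, z r ^ 2 = ((Finset.univ.filter fun r => z r ≠ 0).card : ℤ) := by
        rw [← Finset.sum_boole]
        refine Finset.sum_congr rfl fun r _ => ?_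
        rcases hval r with h | h | h <;> simp [h]
      omega
    obtain ⟨p, q, hpq, he⟩ := Finset.card_eq_two.1 hcard
    have hiff : ∀ r, z r ≠ 0 ↔ (r = p ∨ r = q) := fun r => by
      have := congrArg (r ∈ ·) he
      simpa using this
    refine ⟨p, q, x p, x q, hpq, ?_, ?_, fun r => ?_⟩
    · have := (hval p).resolve_left ((hiff p).2 (Or.inl rfl)); rw [hz p]; omega
    · have := (hval q).resolve_left ((hiff q).2 (Or.inr rfl)); rw [hz q]; omega
    · rcases eq_or_ne r p with rfl | hrp
      · simp [pairF]
      rcases eq_or_ne r q with rfl | hrq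
      · have : idx r ≠ idx p := fun e => hrp (idx_injective e)
        simp [pairF, this]
      · have h0 : z r = 0 := by
          by_contra hne
          exact ((hiff r).1 hne).elim hrp hrq
        have h1 : idx r ≠ idx p := fun e => hrp (idx_injective e)
        have h2 : idx r ≠ idx q := fun e => hrq (idx_injective e)
        simp [pairF, h1, h2, hz r, h0]
  refine Or.inr (Or.inl ?_)
  obtain ⟨O, A2, A3, hmem, hc, -, -, hsh, hn, hO, -⟩ :=
    LeechShapes.exists_shape hx (by omega) (by omega) h4
  obtain rfl : A2 = ∅ := Finset.card_eq_zero.1 (by omega)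
  obtain rfl : A3 = ∅ := Finset.card_eq_zero.1 (by omega)
  simp only [Finset.card_empty] at hn
  obtain ⟨o, ho, rfl⟩ := mem_octads.1 (show O ∈ octads from ⟨hmem, by omega⟩)
  obtain ⟨n, -, hn'⟩ := LeechShapes.exists_lt (Finset.univ.filter fun r => x r = -2)
  have hval : ∀ r, x r = octF o n (idx r) := fun r => by
    have h := hsh r
    have hnr : n.testBit (idx r) = true ↔ x r = -2 := by
      rw [← mem_toSet, hn']; simp
    simp only [LeechShapes.absOf, Finset.notMem_empty, if_false, mem_toSet] at h
    simp only [octF]
    split_ifs at h ⊢ with h1 h2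
    · exact hnr.1 h2
    · rcases (abs_eq (by norm_num)).1 h with e | e
      · exact e
      · exact absurd (hnr.2 e) h2
    · exact abs_eq_zero.1 h
  have hsub : toSet n ⊆ toSet o := fun r hr => by
    have e := hval r
    have hr2 : x r = -2 := by rw [hn'] at hr; simpa using hr
    rw [mem_toSet]
    by_contra hne
    simp [octF, hne, hr2] at e
  refine ⟨o, ho, n, hsub, ?_, hval⟩
  obtain ⟨m, h1, h2, -⟩ := hx
  have hm : (2 : ℤ) ∣ m := by have := (h1 none).dvd; omega
  have hd := h2.dvd
  rw [Finset.sum_congr rfl fun r _ => hval r, sum_octF hsub, (mem_cwOfWeight.1 ho).2] at hd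
  omega

/-! ### The check -/

/-- Membership of an optional key in a tree. -/
def hitO (T : VTree) : Option ℕ → Bool
  | none => false
  | some n => T.has n

theorem hitO_sound {T : VTree} : ∀ {o : Option ℕ}, hitO T o = true → ∃ n ∈ T.keys, o = some n
  | some n, h => ⟨n, T.find_mem n h, rfl⟩

/-- Membership of a coordinate function in a tree. -/
def hit (T : VTree) (f : ℕ → ℤ) : Bool := hitO T (pack f)

theorem hit_sound {T : VTree} {f : ℕ → ℤ} (h : hit T f = true) {x : GolayPt → ℤ}
    (hx : ∀ r, x r = f (idx r)) : ∃ n ∈ T.keys, x = Pk n := by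
  obtain ⟨n, hn, hp⟩ := hitO_sound (o := pack f) h
  exact ⟨n, hn, funext fun r => (hx r).trans (pack_sound hp r).symm⟩

/-- The sets of `k` of the listed positions, as masks. -/
def combos : List ℕ → ℕ → List ℕ
  | _, 0 => [0]
  | [], _ + 1 => []
  | a :: l, k + 1 => combos l (k + 1) ++ (combos l k).map fun m => 2 ^ a ||| m

theorem exists_combo : ∀ (l : List ℕ) (k : ℕ), l.Nodup → ∀ S : Finset ℕ, S ⊆ l.toFinset → S.card = k →
    ∃ m ∈ combos l k, ∀ i, m.testBit i = true ↔ i ∈ S
  | l, 0, _, S, _, hk => by
    obtain rfl := Finset.card_eq_zero.1 hk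
    exact ⟨0, by cases l <;> simp [combos], by simp⟩
  | [], k + 1, _, S, hS, hk => by
    have : S = ∅ := Finset.subset_empty.1 (by simpa using hS)
    simp [this] at hk
  | a :: l, k + 1, hnd, S, hS, hk => by
    rw [List.nodup_cons] at hnd
    by_cases ha : a ∈ S
    · obtain ⟨m, hm, he⟩ := exists_combo l k hnd.2 (S.erase a) (fun i hi => by
        have := hS (Finset.mem_of_mem_erase hi)
        simp only [List.toFinset_cons, Finset.mem_insert] at this
        exact this.resolve_left (Finset.ne_of_mem_erase hi))
        (by rw [Finset.card_erase_of_mem ha, hk]; rfl)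
      refine ⟨2 ^ a ||| m, ?_, fun i => ?_⟩
      · simp only [combos, List.mem_append, List.mem_map]
        exact Or.inr ⟨m, hm, rfl⟩
      · rw [Nat.testBit_or, Bool.or_eq_true, Nat.testBit_two_pow, decide_eq_true_iff, he]
        constructor
        · rintro (rfl | h)
          · exact ha
          · exact Finset.mem_of_mem_erase h
        · intro h
          rcases eq_or_ne i a with rfl | hne
          · exact Or.inl rfl
          · exact Or.inr (Finset.mem_erase.2 ⟨hne, h⟩)
    · obtain ⟨m, hm, he⟩ := exists_combo l (k + 1) hnd.2 S (fun i hi => by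
        have := hS hi
        simp only [List.toFinset_cons, Finset.mem_insert] at this
        exact this.resolve_left fun e => ha (e ▸ hi)) hk
      exact ⟨m, by simp only [combos, List.mem_append]; exact Or.inl hm, he⟩

/-- The positions of a mask. -/
def bitsOf (o : ℕ) : List ℕ := (List.range 24).filter fun i => o.testBit i

/-- The inner product of an octad vector. -/
def dOct (o n k : ℕ) : ℤ :=
  16 - 4 * (k : ℤ) + if o.testBit 23 then (if n.testBit 23 then -8 else 8) else 0

/-- An inner product is possible for a subset of this size. -/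
def octPossible (d : ℤ) (o k : ℕ) : Bool :=
  if o.testBit 23 then 24 - 4 * (k : ℤ) == d || 8 - 4 * (k : ℤ) == d else 16 - 4 * (k : ℤ) == d

/-- All octad vectors with inner product `d` are in the tree. -/
def covOct (T : VTree) (d : ℤ) : Bool :=
  (cwOfWeight 8).all fun o => [0, 2, 4, 6, 8].all fun k =>
    !octPossible d o k || (combos (bitsOf o) k).all fun n => dOct o n k != d || hit T (octF o n)

/-- The inner product of an odd vector. -/
def dOdd (c p : ℕ) : ℤ :=
  4 * oddF c p 23 + (24 - 2 * (pc c : ℤ) + if c.testBit p then 4 else -4)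

/-- An inner product is possible for this code word. -/
def oddPossible (d : ℤ) (c : ℕ) : Bool :=
  let s : ℤ := 24 - 2 * (pc c : ℤ)
  let e : ℤ := if c.testBit 23 then -4 else 4
  e + s + 4 == d || e + s - 4 == d ||
    (if c.testBit 23 then (12 + s + 4 == d) else (-12 + s - 4 == d))

/-- All odd vectors with inner product `d` are in the tree. -/
def covOdd (T : VTree) (d : ℤ) : Bool :=
  (List.range 4096).all fun k =>
    let c := enc k
    !oddPossible d c || (List.range 24).all fun p => dOdd c p != d || hit T (oddF c p)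

/-- All vectors with two fours and inner product `d` are in the tree. -/
def covPair (T : VTree) (d : ℤ) : Bool :=
  (List.range 24).all fun i => (List.range 24).all fun j => i == j ||
    [4, -4].all fun a => [4, -4].all fun b =>
      4 * pairF i j a b 23 + (a + b) != d || hit T (pairF i j a b)

theorem dOct_eq (o n k : ℕ) : dOct o n k = 4 * octF o n 23 + (16 - 4 * (k : ℤ)) := by
  simp only [dOct, octF]
  generalize o.testBit 23 = a
  generalize n.testBit 23 = b
  cases a <;> cases b <;> simp <;> ring

theorem octPossible_self (o n k : ℕ) : octPossible (dOct o n k) o k = true := by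
  simp only [octPossible, dOct]
  generalize o.testBit 23 = a
  generalize n.testBit 23 = b
  generalize ((k : ℕ) : ℤ) = z
  cases a <;> cases b <;> simp <;> omega

theorem oddPossible_self (c : ℕ) (p : ℕ) : oddPossible (dOdd c p) c = true := by
  simp only [oddPossible, dOdd, oddF]
  generalize ((pc c : ℕ) : ℤ) = z
  rcases eq_or_ne (23 : ℕ) p with rfl | hp
  · generalize c.testBit 23 = a
    cases a <;> simp <;> omega
  · have e : ((23 : ℕ) == p) = false := by simpa using hp
    rw [e]
    generalize c.testBit 23 = a
    generalize c.testBit p = b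
    cases a <;> cases b <;> simp <;> omega

/-- The inner product with the vector `(5, 1, ..., 1)`. -/
theorem dot48 (x : GolayPt → ℤ) :
    dotInt (LeechReach.pv 1 [5]) x = 4 * x none + ∑ r, x r := by
  have e : ∀ r, LeechReach.pv 1 [5] r = 1 + if r = none then 4 else 0 := by decide +kernel
  rw [dotInt, Finset.sum_congr rfl fun r _ => by rw [e r, add_mul, one_mul], Finset.sum_add_distrib,
    add_comm]
  congr 1
  rw [Finset.sum_eq_single none (fun r _ hr => by simp [hr]) (by simp)]
  simp

theorem cover {T : VTree} {d : ℤ} (hp : covPair T d = true) (ho : covOct T d = true)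
    (hodd : covOdd T d = true) {x : GolayPt → ℤ} (hx : Good x) (hN : sqNorm x = 32)
    (hd : dotInt (LeechReach.pv 1 [5]) x = d) : ∃ n ∈ T.keys, x = Pk n := by
  rw [dot48] at hd
  rcases shapes32 hx hN with ⟨p, q, a, b, hpq, ha, hb, hval⟩ | ⟨o, ho', n, hsub, hpar, hval⟩ |
    ⟨k, p, hk, hval⟩
  · have hne : idx p ≠ idx q := fun e => hpq (idx_injective e)
    have h := List.all_eq_true.1 (List.all_eq_true.1 hp (idx p) (List.mem_range.2 (idx_lt p)))
      (idx q) (List.mem_range.2 (idx_lt q))
    rw [Bool.or_eq_true, beq_iff_eq, List.all_eq_true] at h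
    have h' := h.resolve_left hne
    have h'' := List.all_eq_true.1 (h' a (by rcases ha with rfl | rfl <;> simp)) b
      (by rcases hb with rfl | rfl <;> simp)
    rw [Bool.or_eq_true, bne_iff_ne] at h''
    refine hit_sound (h''.resolve_left fun hne' => hne' ?_) hval
    have hsum : ∑ r, x r = a + b := by
      rw [Finset.sum_congr rfl fun r _ => hval r, ← Finset.sum_pair (f := fun r => x r) hpq |>.trans
        (show x p + x q = a + b by rw [hval p, hval q]; simp [pairF, hne.symm])]
      rw [eq_comm, Finset.sum_congr rfl fun r (_ : r ∈ ({p, q} : Finset GolayPt)) => hval r]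
      refine Finset.sum_subset (Finset.subset_univ _) fun r _ hr => ?_
      simp only [Finset.mem_insert, Finset.mem_singleton, not_or] at hr
      have h1 : idx r ≠ idx p := fun e => hr.1 (idx_injective e)
      have h2 : idx r ≠ idx q := fun e => hr.2 (idx_injective e)
      simp [pairF, h1, h2]
    rw [← hd, hsum, hval none]
    rfl
  · have hsum : ∑ r, x r = 16 - 4 * (pc n : ℤ) := by
      rw [Finset.sum_congr rfl fun r _ => hval r, sum_octF hsub, (mem_cwOfWeight.1 ho').2]
      norm_num
    have hkle : pc n ≤ 8 := by
      rw [← card_toSet, ← (mem_cwOfWeight.1 ho').2, ← card_toSet o]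
      exact Finset.card_le_card hsub
    have hnd : (bitsOf o).Nodup := List.nodup_range.filter _
    have hS : ((toSet n).image idx) ⊆ (bitsOf o).toFinset := fun i hi => by
      obtain ⟨r, hr, rfl⟩ := Finset.mem_image.1 hi
      simp only [bitsOf, List.mem_toFinset, List.mem_filter, List.mem_range]
      exact ⟨idx_lt r, mem_toSet.1 (hsub hr)⟩
    obtain ⟨m, hm, hmbit⟩ := exists_combo (bitsOf o) (pc n) hnd _ hS
      (by rw [Finset.card_image_of_injective _ idx_injective, card_toSet])
    have hbit : ∀ r, m.testBit (idx r) = n.testBit (idx r) := fun r => by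
      rw [Bool.eq_iff_iff, hmbit, ← mem_toSet]
      exact idx_injective.mem_finset_image
    have hval' : ∀ r, x r = octF o m (idx r) := fun r => by
      rw [hval r]; simp only [octF, hbit]
    have hd' : dOct o m (pc n) = d := by
      rw [← hd, hsum, hval' none, M24Config.idx_none]
      exact dOct_eq o m (pc n)
    have h := List.all_eq_true.1 (List.all_eq_true.1 ho o ho') (pc n) (by
      simp only [List.mem_cons, List.not_mem_nil, or_false]
      omega)
    have hposs : octPossible d o (pc n) = true := hd' ▸ octPossible_self o m (pc n)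
    rw [hposs, Bool.not_true, Bool.false_or, List.all_eq_true] at h
    have h' := h m hm
    rw [Bool.or_eq_true, bne_iff_ne] at h'
    exact hit_sound (h'.resolve_left fun hne => hne hd') hval'
  · have h := List.all_eq_true.1 hodd k (List.mem_range.2 hk)
    have hd' : dOdd (enc k) (idx p) = d := by
      rw [← hd, Finset.sum_congr rfl fun r _ => hval r, sum_oddF, hval none, M24Config.idx_none]
      rfl
    have hposs : oddPossible d (enc k) = true := hd' ▸ oddPossible_self (enc k) (idx p)
    simp only [hposs, Bool.not_true, Bool.false_or, List.all_eq_true, List.mem_range] at h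
    have h' := h (idx p) (idx_lt p)
    rw [Bool.or_eq_true, bne_iff_ne] at h'
    exact hit_sound (h'.resolve_left fun hne => hne hd') hval

end CfsgLib.SmallGroups.LeechEnum
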