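import Cfsg.Agent.Lib.SmallGroups.LeechBasic
import Cfsg.Agent.Lib.SmallGroups.GolayUnique

/-!
# Lattices of rank 24 containing a frame

A lattice of integer vectors (norms scaled by 8) without roots, containing the vectors
`4 eᵢ + 4 eⱼ`, with 196560 vectors of the least norm, is the Leech lattice up to signs and a
renaming of the coordinates.
-/

set_option autoImplicit false

namespace CfsgLib.SmallGroups.LeechFrame

open Cfsg Finset
open CfsgLib.SmallGroups.CodeUnique CfsgLib.SmallGroups.LeechBasic

variable {ι : Type*} [Fintype ι] [DecidableEq ι]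

/-- The hypotheses. -/
structure FramedLattice (M : AddSubgroup (ι → ℤ)) : Prop where
  card : Fintype.card ι = 24
  dot : ∀ x ∈ M, ∀ y ∈ M, (8 : ℤ) ∣ dotInt x y
  sq : ∀ x ∈ M, (16 : ℤ) ∣ sqNorm x
  least : ∀ x ∈ M, x ≠ 0 → 32 ≤ sqNorm x
  frame : ∀ i j : ι, Pi.single i 4 + Pi.single j 4 ∈ M
  count : {x | x ∈ M ∧ sqNorm x = 32}.ncard = 196560

variable {M : AddSubgroup (ι → ℤ)}

theorem dot_single (x : ι → ℤ) (i : ι) (a : ℤ) : dotInt x (Pi.single i a) = x i * a := by
  simp [dotInt, Pi.single_apply]

theorem sqNorm_single (i : ι) (a : ℤ) : sqNorm (Pi.single i a) = a ^ 2 := by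
  simp [sqNorm, Pi.single_apply, ite_pow]

theorem FramedLattice.parity (h : FramedLattice M) {x : ι → ℤ} (hx : x ∈ M) (i j : ι) :
    x i % 2 = x j % 2 := by
  have h8 := h.dot x hx _ (h.frame i j)
  have e : dotInt x (Pi.single i 4 + Pi.single j 4) = x i * 4 + x j * 4 := by
    simp only [dotInt, Pi.add_apply, mul_add, sum_add_distrib]
    simpa [dotInt] using congrArg₂ (· + ·) (dot_single x i 4) (dot_single x j 4)
  rw [e] at h8
  omega

theorem FramedLattice.single_notMem (h : FramedLattice M) (i : ι) : Pi.single i (4 : ℤ) ∉ M := by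
  intro hm
  have := h.least _ hm fun e => by simpa using congrFun e i
  rw [sqNorm_single] at this
  norm_num at this

theorem FramedLattice.single_eight (h : FramedLattice M) (i : ι) : Pi.single i (8 : ℤ) ∈ M := by
  have := h.frame i i
  rwa [← Pi.single_add] at this

theorem FramedLattice.mem_of_four (h : FramedLattice M) {x : ι → ℤ} (h4 : ∀ i, (4 : ℤ) ∣ x i)
    (h8 : (8 : ℤ) ∣ ∑ i, x i) : x ∈ M := by
  have hne : Nonempty ι := Fintype.card_pos_iff.mp (by rw [h.card]; norm_num)
  obtain ⟨p⟩ := hne
  obtain ⟨t, ht⟩ := h8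
  choose z hz using h4
  have e : x = ∑ i, z i • (Pi.single i (4 : ℤ) + Pi.single p 4) - t • Pi.single p (8 : ℤ) := by
    funext j
    simp only [Pi.sub_apply, Finset.sum_apply, Pi.smul_apply, Pi.add_apply, smul_eq_mul, mul_add,
      sum_add_distrib, Pi.single_apply, mul_ite, mul_zero, sum_ite_eq, mem_univ, if_true]
    rw [hz j]
    by_cases hj : j = p
    · have hs : ∑ i, z i * 4 = t * 8 := by
        rw [mul_comm t, ← ht]; exact sum_congr rfl fun i _ => by rw [hz i, mul_comm]
      simp only [hj, if_true, hs]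
      ring
    · simp [hj]; ring
  rw [e]
  exact sub_mem (sum_mem fun i _ => zsmul_mem (h.frame i p) _) (zsmul_mem (h.single_eight p) _)

/-- The binary code of the halves of the even vectors. -/
def code (M : AddSubgroup (ι → ℤ)) : Submodule (ZMod 2) (ι → ZMod 2) where
  carrier := {w | ∃ y : ι → ℤ, (fun i => 2 * y i) ∈ M ∧ ∀ i, w i = (y i : ZMod 2)}
  zero_mem' := ⟨0, by
    have : (fun i => 2 * (0 : ι → ℤ) i) = 0 := funext fun i => by simp
    rw [this]; exact zero_mem M, fun i => by simp⟩
  add_mem' := by
    rintro v w ⟨y, hy, hv⟩ ⟨z, hz, hw⟩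
    refine ⟨y + z, ?_, fun i => by simp [hv, hw]⟩
    have : (fun i => 2 * (y + z) i) = (fun i => 2 * y i) + fun i => 2 * z i :=
      funext fun i => by simp [mul_add]
    rw [this]; exact add_mem hy hz
  smul_mem' := by
    rintro a w ⟨y, hy, hw⟩
    rcases z2_cases a with rfl | rfl
    · refine ⟨0, ?_, fun i => by simp⟩
      have : (fun i => 2 * (0 : ι → ℤ) i) = 0 := funext fun i => by simp
      rw [this]; exact zero_mem M
    · exact ⟨y, hy, fun i => by simp [hw i]⟩

/-- Any integer lift of a code word is, up to one `4 eᵢ`, half of a vector. -/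
theorem FramedLattice.lift (h : FramedLattice M) {w : ι → ZMod 2} (hw : w ∈ code M) (u : ι → ℤ)
    (hu : ∀ i, w i = (u i : ZMod 2)) (i : ι) :
    (fun j => 2 * u j) ∈ M ∨ (fun j => 2 * u j) + Pi.single i 4 ∈ M := by
  obtain ⟨y, hy, hwy⟩ := hw
  have h2 : ∀ j, (2 : ℤ) ∣ u j - y j := fun j => by
    have := (hwy j).symm.trans (hu j)
    rw [ZMod.intCast_eq_intCast_iff_dvd_sub] at this
    exact_mod_cast this
  have h4 : (4 : ℤ) ∣ ∑ j, (2 * u j - 2 * y j) :=
    dvd_sum fun j _ => by have := h2 j; omega
  by_cases h8 : (8 : ℤ) ∣ ∑ j, (2 * u j - 2 * y j)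
  · left
    have := h.mem_of_four (x := fun j => 2 * u j - 2 * y j) (fun j => by have := h2 j; omega) h8
    convert add_mem this hy using 1
    funext j; simp
  · right
    have hs : ∑ j, ((2 * u j - 2 * y j) + Pi.single (M := fun _ => ℤ) i 4 j)
        = ∑ j, (2 * u j - 2 * y j) + 4 := by
      rw [sum_add_distrib, Finset.sum_pi_single']
      simp
    have := h.mem_of_four (x := fun j => (2 * u j - 2 * y j) + Pi.single (M := fun _ => ℤ) i 4 j)
      (fun j => by
        have := h2 j
        rcases eq_or_ne j i with rfl | hj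
        · simp only [Pi.single_eq_same]; omega
        · simp only [Pi.single_eq_of_ne hj]; omega)
      (by rw [hs]; omega)
    convert add_mem this hy using 1
    funext j; simp; ring

theorem sq_cast_sub (y : ι → ℤ) :
    (4 : ℤ) ∣ ∑ i, y i ^ 2 - ((supp fun i => (y i : ZMod 2)).card : ℤ) := by
  have e : ((supp fun i => (y i : ZMod 2)).card : ℤ) = ∑ i, if y i % 2 = 1 then (1 : ℤ) else 0 := by
    rw [Finset.sum_boole]
    congr 2
    ext i
    simp [supp, cast_two_eq_ite]
  rw [e, ← Finset.sum_sub_distrib]
  refine Finset.dvd_sum fun i _ => ?_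
  rcases Int.even_or_odd' (y i) with ⟨b, hb | hb⟩ <;> rw [hb]
  · rw [if_neg (by omega)]; exact ⟨b ^ 2, by ring⟩
  · rw [if_pos (by omega)]; exact ⟨b ^ 2 + b, by ring⟩

theorem FramedLattice.code_orth (h : FramedLattice M) :
    ∀ v ∈ code M, ∀ w ∈ code M, ∑ i, v i * w i = 0 := by
  rintro v ⟨y, hy, hv⟩ w ⟨z, hz, hw⟩
  have h8 := h.dot _ hy _ hz
  have e : dotInt (fun i => 2 * y i) (fun i => 2 * z i) = 4 * ∑ i, y i * z i := by
    rw [dotInt, mul_sum]; exact sum_congr rfl fun i _ => by ring
  rw [e] at h8
  have h2 : (2 : ℤ) ∣ ∑ i, y i * z i := by omega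
  replace h2 : ((∑ i, y i * z i : ℤ) : ZMod 2) = 0 :=
    (ZMod.intCast_zmod_eq_zero_iff_dvd _ 2).mpr (by exact_mod_cast h2)
  simpa [hv, hw] using h2

theorem FramedLattice.code_four (h : FramedLattice M) {w : ι → ZMod 2} (hw : w ∈ code M) :
    4 ∣ (supp w).card := by
  obtain ⟨y, hy, hwy⟩ := hw
  have h16 := h.sq _ hy
  have e : sqNorm (fun i => 2 * y i) = 4 * ∑ i, y i ^ 2 := by
    rw [sqNorm, mul_sum]; exact sum_congr rfl fun i _ => by ring
  rw [e] at h16
  have h4 := sq_cast_sub y
  rw [show (fun i => (y i : ZMod 2)) = w from funext fun i => (hwy i).symm] at h4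
  omega

theorem FramedLattice.code_no_four (h : FramedLattice M) {w : ι → ZMod 2} (hw : w ∈ code M) :
    (supp w).card ≠ 4 := by
  intro h4
  obtain ⟨i, hi⟩ := Finset.card_pos.mp (by rw [h4]; norm_num : 0 < (supp w).card)
  let u : ι → ℤ := fun j => if j = i then -1 else if j ∈ supp w then 1 else 0
  have hu : ∀ j, w j = (u j : ZMod 2) := fun j => by
    simp only [u]
    by_cases hj : j = i
    · subst hj
      rw [if_pos rfl, z2_ne_zero (mem_supp.mp hi)]
      rw [Int.cast_neg, Int.cast_one]; decide
    · rw [if_neg hj]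
      by_cases hjs : j ∈ supp w
      · rw [if_pos hjs, z2_ne_zero (mem_supp.mp hjs)]; simp
      · rw [if_neg hjs]
        simpa [mem_supp] using hjs
  have key : ∀ x ∈ M, (∀ j, x j ^ 2 = if j ∈ supp w then 4 else 0) → False := by
    intro x hx hsq
    have e : sqNorm x = 16 := by
      rw [sqNorm, sum_congr rfl fun j _ => hsq j, ← sum_filter]
      simp [filter_mem_eq_inter, h4]
    have := h.least x hx fun e0 => by simp [e0, sqNorm] at e
    omega
  rcases h.lift hw u hu i with hm | hm <;> refine key _ hm fun j => ?_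
  · by_cases hj : j = i
    · subst hj; simp [u, hi]
    · by_cases hjs : j ∈ supp w <;> simp [u, hj, hjs]
  · by_cases hj : j = i
    · subst hj; simp [u, hi]
    · by_cases hjs : j ∈ supp w <;> simp [u, hj, hjs]

theorem FramedLattice.code_rank_le (h : FramedLattice M) : Module.finrank (ZMod 2) (code M) ≤ 12 := by
  have hle : code M ≤ (pairing (code M)).ker := fun c hc => mem_perp.mpr fun d hd => h.code_orth c hc d hd
  have h1 := Submodule.finrank_mono hle
  have h2 := finrank_perp (code M)
  rw [h.card] at h2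
  omega

theorem FramedLattice.inter_le (h : FramedLattice M) {S T : Finset ι} (hS : ind S ∈ code M)
    (hT : ind T ∈ code M) (hS8 : S.card = 8) (hT8 : T.card = 8) (hne : S ≠ T) : (S ∩ T).card ≤ 4 := by
  have hsum := add_mem hS hT
  rw [ind_add] at hsum
  have h4 := h.code_four hsum
  have hn4 := h.code_no_four hsum
  rw [supp_ind] at h4 hn4
  have hc := card_symmDiff' S T
  have hpos : (symmDiff S T).card ≠ 0 := by
    rw [Ne, card_eq_zero]
    exact fun e => hne (symmDiff_eq_bot.mp e)
  omega

/-- At most 759 code words of weight 8. -/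
theorem FramedLattice.octads_le (h : FramedLattice M) {Q : Finset (Finset ι)}
    (hQ : ∀ S ∈ Q, S.card = 8 ∧ ind S ∈ code M) : Q.card ≤ 759 := by
  have hdis : (Q : Set (Finset ι)).PairwiseDisjoint fun S => powersetCard 5 S := by
    intro S hS T hT hne
    rw [Function.onFun, disjoint_left]
    intro F hF hF'
    rw [mem_powersetCard] at hF hF'
    have h1 := h.inter_le (hQ S hS).2 (hQ T hT).2 (hQ S hS).1 (hQ T hT).1 hne
    have h2 := card_le_card (subset_inter hF.1 hF'.1)
    omega
  have h1 : (Q.biUnion fun S => powersetCard 5 S).card ≤ (powersetCard 5 (univ : Finset ι)).card := by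
    refine card_le_card fun F hF => ?_
    obtain ⟨S, -, hF⟩ := mem_biUnion.mp hF
    exact mem_powersetCard.mpr ⟨subset_univ _, (mem_powersetCard.mp hF).2⟩
  rw [card_biUnion hdis, sum_congr rfl (fun S hS => by rw [card_powersetCard, (hQ S hS).1]),
    sum_const, smul_eq_mul, card_powersetCard, card_univ, h.card] at h1
  norm_num [Nat.choose] at h1
  omega

/-- The negative coordinates. -/
def negSet (x : ι → ℤ) : Finset ι := univ.filter fun i => x i < 0

/-- The nonzero coordinates. -/
def nzSet (x : ι → ℤ) : Finset ι := univ.filter fun i => x i ≠ 0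

theorem eq_of_sets {x x' : ι → ℤ} {a : ℤ} (hx : ∀ i, x i ^ 2 = if i ∈ nzSet x then a ^ 2 else 0)
    (hx' : ∀ i, x' i ^ 2 = if i ∈ nzSet x' then a ^ 2 else 0) (h1 : nzSet x = nzSet x') {i : ι}
    (h2 : i ∈ negSet x ↔ i ∈ negSet x') : x i = x' i := by
  have e : x i ^ 2 = x' i ^ 2 := by rw [hx i, hx' i, h1]
  rcases sq_eq_sq_iff_eq_or_eq_neg.mp e with e' | e'
  · exact e'
  · simp only [negSet, mem_filter, mem_univ, true_and] at h2
    omega

/-- The shape of a vector of least norm. -/
theorem FramedLattice.shapes (h : FramedLattice M) {x : ι → ℤ} (hx : x ∈ M) (hn : sqNorm x = 32) :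
    ((∀ i, x i ^ 2 = if i ∈ nzSet x then (4 : ℤ) ^ 2 else 0) ∧ (nzSet x).card = 2) ∨
      ((∀ i, x i ^ 2 = if i ∈ nzSet x then (2 : ℤ) ^ 2 else 0) ∧ (nzSet x).card = 8 ∧
        ind (nzSet x) ∈ code M) ∨
      ∃ p, x p ^ 2 = 9 ∧ ∀ i, i ≠ p → x i ^ 2 = 1 := by
  have hne : Nonempty ι := Fintype.card_pos_iff.mp (by rw [h.card]; norm_num)
  obtain ⟨p₀⟩ := hne
  by_cases hev : x p₀ % 2 = 0
  · have hev' : ∀ i, (2 : ℤ) ∣ x i := fun i => by have := h.parity hx i p₀; omega
    choose y hy using hev'
    have hxe : x = fun i => 2 * y i := funext hy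
    have hy8 : ∑ i, y i ^ 2 = 8 := by
      have e : sqNorm x = 4 * ∑ i, y i ^ 2 := by
        rw [sqNorm, mul_sum]; exact sum_congr rfl fun i _ => by rw [hy i]; ring
      omega
    set w : ι → ZMod 2 := fun i => (y i : ZMod 2) with hw
    have hwC : w ∈ code M := ⟨y, hxe ▸ hx, fun i => rfl⟩
    by_cases hz : w = 0
    · left
      have hz' : ∀ i, (2 : ℤ) ∣ y i := fun i => by
        have := congrFun hz i
        rw [hw, Pi.zero_apply, ZMod.intCast_zmod_eq_zero_iff_dvd] at this
        exact this
      choose z hzz using hz'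
      have hz2 : ∑ i, z i ^ 2 = 2 := by
        have e : ∑ i, y i ^ 2 = 4 * ∑ i, z i ^ 2 := by
          rw [mul_sum]; exact sum_congr rfl fun i _ => by rw [hzz i]; ring
        omega
      have hle : ∀ i, z i ^ 2 ≤ 1 := fun i => by
        have h1 := single_le_sum (f := fun i => z i ^ 2) (fun j _ => sq_nonneg _) (mem_univ i)
        simp only [hz2] at h1
        by_contra h2
        have h3 : z i ≤ -2 ∨ 2 ≤ z i := by
          by_contra h4
          apply h2
          have : z i = -1 ∨ z i = 0 ∨ z i = 1 := by omega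
          rcases this with e | e | e <;> simp [e]
        rcases h3 with h3 | h3 <;> nlinarith
      have hnz : ∀ i, z i ^ 2 = if i ∈ nzSet x then 1 else 0 := fun i => by
        by_cases hi : z i = 0
        · have : i ∉ nzSet x := by simp [nzSet, hy i, hzz i, hi]
          simp [this, hi]
        · have : i ∈ nzSet x := by simp [nzSet, hy i, hzz i, hi]
          rw [if_pos this]
          have := hle i
          have h0 : 0 < z i ^ 2 := by positivity
          omega
      refine ⟨fun i => ?_, ?_⟩
      · rw [hy i, hzz i, show (2 * (2 * z i)) ^ 2 = 16 * z i ^ 2 by ring, hnz i]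
        split <;> norm_num
      · rw [sum_congr rfl fun i _ => hnz i, sum_boole, filter_mem_eq_inter, univ_inter] at hz2
        exact_mod_cast hz2
    · right; left
      have h4 := h.code_four hwC
      have hn4 := h.code_no_four hwC
      have hpos : (supp w).card ≠ 0 := by
        rw [Ne, card_eq_zero]
        intro e
        exact hz (by rw [← ind_supp w, e]; funext i; simp [ind])
      have hnn : ∀ i ∈ (univ : Finset ι), 0 ≤ y i ^ 2 - if i ∈ supp w then 1 else 0 := by
        intro i _
        split
        · rename_i hi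
          have : y i ≠ 0 := fun e => by simp [mem_supp, hw, e] at hi
          have : 0 < y i ^ 2 := by positivity
          omega
        · have := sq_nonneg (y i); omega
      have hsum : ∑ i, (y i ^ 2 - if i ∈ supp w then (1 : ℤ) else 0) = 8 - (supp w).card := by
        rw [sum_sub_distrib, hy8, sum_boole, filter_mem_eq_inter, univ_inter]
      have hs0 := sum_nonneg hnn
      have hcard : (supp w).card = 8 := by omega
      have hsum0 : ∑ i, (y i ^ 2 - if i ∈ supp w then (1 : ℤ) else 0) = 0 := by
        rw [hsum, hcard]; norm_num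
      have hval : ∀ i, y i ^ 2 = if i ∈ supp w then (1 : ℤ) else 0 := fun i => by
        have := (sum_eq_zero_iff_of_nonneg hnn).mp hsum0 i (mem_univ i)
        omega
      have hnzs : nzSet x = supp w := by
        ext i
        have := hval i
        simp only [nzSet, mem_filter, mem_univ, true_and, hy i]
        by_cases hi : i ∈ supp w <;> simp [hi] at this ⊢
        · rcases this with e | e <;> simp [e]
        · exact this
      refine ⟨fun i => ?_, by rw [hnzs, hcard], by rw [hnzs, ind_supp]; exact hwC⟩
      rw [hy i, hnzs, show (2 * y i) ^ 2 = 4 * y i ^ 2 by ring, hval i]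
      split <;> norm_num
  · right; right
    have hodd : ∀ i, x i % 2 = 1 := fun i => by have := h.parity hx i p₀; omega
    have hone : ∀ i, 1 ≤ x i ^ 2 := fun i => by
      have : x i ≠ 0 := fun e => by have := hodd i; omega
      have : 0 < x i ^ 2 := by positivity
      omega
    have hsum : ∑ i, (x i ^ 2 - 1) = 8 := by
      rw [sum_sub_distrib, sum_const, card_univ, h.card]
      rw [sqNorm] at hn
      rw [hn]; norm_num
    obtain ⟨p, hp⟩ : ∃ p, x p ^ 2 ≠ 1 := by
      by_contra hall
      push_neg at hall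
      simp [hall] at hsum
    have hp9 : 9 ≤ x p ^ 2 := by
      have : x p ≤ -3 ∨ 3 ≤ x p := by
        by_contra h4
        have := hodd p
        have : x p = -1 ∨ x p = 1 := by omega
        rcases this with e | e <;> simp [e] at hp
      rcases this with h3 | h3 <;> nlinarith
    rw [← add_sum_erase _ _ (mem_univ p)] at hsum
    have hnn : ∀ i ∈ univ.erase p, 0 ≤ x i ^ 2 - 1 := fun i _ => by have := hone i; omega
    have := sum_nonneg hnn
    refine ⟨p, by omega, fun i hi => ?_⟩
    have := (sum_eq_zero_iff_of_nonneg hnn).mp (by omega) i (mem_erase.mpr ⟨hi, mem_univ i⟩)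
    omega

/-- There is an odd vector of least norm and the code has dimension 12. -/
theorem FramedLattice.odd_and_rank (h : FramedLattice M) :
    (∃ x ∈ M, ∃ p, x p ^ 2 = 9 ∧ ∀ i, i ≠ p → x i ^ 2 = 1) ∧
      Module.finrank (ZMod 2) (code M) = 12 := by
  classical
  have hfin : {x | x ∈ M ∧ sqNorm x = 32}.Finite := Set.finite_of_ncard_ne_zero (by rw [h.count]; norm_num)
  set V := hfin.toFinset with hV
  have hmem : ∀ x, x ∈ V ↔ x ∈ M ∧ sqNorm x = 32 := fun x => hfin.mem_toFinset
  have hVcard : V.card = 196560 := by rw [hV, ← Set.ncard_eq_toFinset_card _ hfin, h.count]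
  set A := V.filter fun x => (∀ i, x i ^ 2 = if i ∈ nzSet x then (4 : ℤ) ^ 2 else 0) ∧ (nzSet x).card = 2
  set E := V.filter fun x => (∀ i, x i ^ 2 = if i ∈ nzSet x then (2 : ℤ) ^ 2 else 0) ∧
      (nzSet x).card = 8 ∧ ind (nzSet x) ∈ code M
  set O := V.filter fun x => ∃ p, x p ^ 2 = 9 ∧ ∀ i, i ≠ p → x i ^ 2 = 1
  have hcover : V ⊆ A ∪ E ∪ O := fun x hx => by
    obtain ⟨hxM, hxn⟩ := (hmem x).mp hx
    rcases h.shapes hxM hxn with h1 | h1 | h1
    · exact mem_union_left _ (mem_union_left _ (mem_filter.mpr ⟨hx, h1⟩))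
    · exact mem_union_left _ (mem_union_right _ (mem_filter.mpr ⟨hx, h1⟩))
    · exact mem_union_right _ (mem_filter.mpr ⟨hx, h1⟩)
  have htot : 196560 ≤ A.card + E.card + O.card := by
    rw [← hVcard]
    exact (card_le_card hcover).trans ((card_union_le _ _).trans
      (Nat.add_le_add_right (card_union_le _ _) _))
  -- vectors with two entries ±4
  have hA : A.card ≤ 1104 := by
    have hs : ((powersetCard 2 (univ : Finset ι)).sigma fun S => S.powerset).card = 1104 := by
      rw [card_sigma, sum_congr rfl (fun S hS => by rw [card_powerset, (mem_powersetCard.mp hS).2]),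
        sum_const, card_powersetCard, card_univ, h.card]
      norm_num [Nat.choose]
    rw [← hs]
    refine card_le_card_of_injOn (fun x => ⟨nzSet x, negSet x⟩) (fun x hx => ?_) ?_
    · obtain ⟨-, h1, h2⟩ := mem_filter.mp hx
      refine mem_sigma.mpr ⟨mem_powersetCard.mpr ⟨subset_univ _, h2⟩, mem_powerset.mpr fun i hi => ?_⟩
      simp only [negSet, mem_filter, mem_univ, true_and] at hi
      simp only [nzSet, mem_filter, mem_univ, true_and]
      omega
    · intro x hx x' hx' e
      simp only [Sigma.mk.injEq, heq_eq_eq] at e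
      obtain ⟨-, h1, -⟩ := mem_filter.mp hx
      obtain ⟨-, h1', -⟩ := mem_filter.mp hx'
      exact funext fun i => eq_of_sets h1 h1' e.1 (by rw [e.2])
  -- vectors with eight entries ±2
  have hE : E.card ≤ 97152 := by
    let g : Finset ι → Finset ι := fun S => if hS : S.Nonempty then S.erase hS.choose else S
    set Q := (univ : Finset (Finset ι)).filter fun S => S.card = 8 ∧ ind S ∈ code M
    have hQ := h.octads_le (Q := Q) fun S hS => (mem_filter.mp hS).2
    have hg : ∀ S ∈ Q, (g S).powerset.card = 128 := fun S hS => by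
      obtain ⟨h8, -⟩ := (mem_filter.mp hS).2
      have hne : S.Nonempty := card_pos.mp (by omega)
      simp only [g, dif_pos hne, card_powerset, card_erase_of_mem hne.choose_spec, h8]
      norm_num
    have hs : (Q.sigma fun S => (g S).powerset).card ≤ 97152 := by
      rw [card_sigma, sum_congr rfl hg, sum_const, smul_eq_mul]
      omega
    refine le_trans ?_ hs
    refine card_le_card_of_injOn (fun x => ⟨nzSet x, negSet x ∩ g (nzSet x)⟩) (fun x hx => ?_) ?_
    · obtain ⟨-, -, h2, h3⟩ := mem_filter.mp hx
      exact mem_sigma.mpr ⟨mem_filter.mpr ⟨mem_univ _, h2, h3⟩,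
        mem_powerset.mpr inter_subset_right⟩
    · intro x hx x' hx' e
      simp only [Sigma.mk.injEq, heq_eq_eq] at e
      obtain ⟨hxV, h1, h2, -⟩ := mem_filter.mp hx
      obtain ⟨hxV', h1', -, -⟩ := mem_filter.mp hx'
      have hne : (nzSet x).Nonempty := card_pos.mp (by omega)
      have hoff : ∀ i, i ≠ hne.choose → x i = x' i := by
        intro i hi
        by_cases hin : i ∈ nzSet x
        · refine eq_of_sets h1 h1' e.1 ?_
          have hig : i ∈ g (nzSet x) := by
            simp only [g, dif_pos hne, mem_erase]; exact ⟨hi, hin⟩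
          have := Finset.ext_iff.mp e.2 i
          rw [mem_inter, mem_inter, ← e.1] at this
          simpa [hig] using this
        · have hin' : i ∉ nzSet x' := e.1 ▸ hin
          simp only [nzSet, mem_filter, mem_univ, true_and, not_not] at hin hin'
          rw [hin, hin']
      set k := hne.choose
      have hxk : x k ^ 2 = x' k ^ 2 := by rw [h1 k, h1' k, e.1]
      rcases sq_eq_sq_iff_eq_or_eq_neg.mp hxk with e' | e'
      · exact funext fun i => if hi : i = k then hi ▸ e' else hoff i hi
      · exfalso
        have hm := sub_mem ((hmem x).mp hxV).1 ((hmem x').mp hxV').1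
        have hk4 : x k - x' k = 4 ∨ x k - x' k = -4 := by
          have := h1 k
          rw [if_pos hne.choose_spec] at this
          rcases sq_eq_sq_iff_eq_or_eq_neg.mp this with e2 | e2 <;> omega
        have hd : x - x' = Pi.single k (x k - x' k) := by
          funext i
          by_cases hi : i = k
          · subst hi; simp
          · simp [hi, hoff i hi]
        rw [hd] at hm
        rcases hk4 with e4 | e4 <;> rw [e4] at hm
        · exact h.single_notMem k hm
        · exact h.single_notMem k (by simpa [← Pi.single_neg] using neg_mem hm)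
  -- odd vectors
  obtain ⟨x₀, hx₀⟩ : O.Nonempty := card_pos.mp (by omega)
  obtain ⟨hx₀V, hx₀s⟩ := mem_filter.mp hx₀
  obtain ⟨hx₀M, hx₀n⟩ := (hmem x₀).mp hx₀V
  refine ⟨⟨x₀, hx₀M, hx₀s⟩, le_antisymm h.code_rank_le ?_⟩
  have hodd : ∀ x ∈ O, ∀ i, x i = 1 ∨ x i = -1 ∨ x i = 3 ∨ x i = -3 := by
    intro x hx i
    obtain ⟨p, hp, hr⟩ := (mem_filter.mp hx).2
    by_cases hi : i = p
    · subst hi
      rcases sq_eq_sq_iff_eq_or_eq_neg.mp (hp.trans (by norm_num : (9 : ℤ) = 3 ^ 2)) with e | e <;> omega
    · rcases sq_eq_one_iff.mp (hr i hi) with e | e <;> omega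
  have hO : O.card ≤ 24 * Nat.card (code M) := by
    let pos : (ι → ℤ) → Finset ι := fun x => univ.filter fun i => x i ^ 2 = 9
    let word : (ι → ℤ) → ι → ZMod 2 := fun x i => (((x i - x₀ i) / 2 : ℤ) : ZMod 2)
    have : Fintype (code M) := Fintype.ofFinite _
    set C := (univ : Finset (ι → ZMod 2)).filter fun w => w ∈ code M
    have hC : C.card = Nat.card (code M) := by
      rw [Nat.card_eq_fintype_card, Fintype.card_subtype]
    have hP : (powersetCard 1 (univ : Finset ι)).card = 24 := by
      rw [card_powersetCard, card_univ, h.card, Nat.choose_one_right]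
    rw [← hC, ← hP, ← card_product]
    refine card_le_card_of_injOn (fun x => (pos x, word x)) (fun x hx => ?_) ?_
    · obtain ⟨hxV, p, hp, hr⟩ := mem_filter.mp hx
      refine mem_product.mpr ⟨mem_powersetCard.mpr ⟨subset_univ _, card_eq_one.mpr ⟨p, ?_⟩⟩,
        mem_filter.mpr ⟨mem_univ _, fun i => (x i - x₀ i) / 2, ?_, fun i => rfl⟩⟩
      · ext i
        simp only [pos, mem_filter, mem_univ, true_and, mem_singleton]
        constructor
        · intro hi
          by_contra hip
          have := hr i hip
          omega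
        · rintro rfl; exact hp
      · convert sub_mem ((hmem x).mp hxV).1 hx₀M using 1
        funext i
        have a := hodd x hx i
        have b := hodd x₀ hx₀ i
        simp only [Pi.sub_apply]
        omega
    · intro x hx x' hx' e
      simp only [Prod.mk.injEq] at e
      funext i
      have a := hodd x hx i
      have a' := hodd x' hx' i
      have b := hodd x₀ hx₀ i
      have h4 : (4 : ℤ) ∣ x i - x' i := by
        have := congrFun e.2 i
        simp only [word, ZMod.intCast_eq_intCast_iff_dvd_sub] at this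
        push_cast at this
        omega
      have h9 : x i ^ 2 = 9 ↔ x' i ^ 2 = 9 := by
        simpa [pos] using Finset.ext_iff.mp e.1 i
      rcases a with a | a | a | a <;> rcases a' with a' | a' | a' | a' <;>
        simp_all <;> omega
  have hC : Nat.card (code M) = 2 ^ Module.finrank (ZMod 2) (code M) := by
    rw [Module.natCard_eq_pow_finrank (K := ZMod 2), Nat.card_zmod]
  by_contra hlt
  have : 2 ^ Module.finrank (ZMod 2) (code M) ≤ 2 ^ 11 := Nat.pow_le_pow_right (by norm_num) (by omega)
  omega

theorem FramedLattice.isDE (h : FramedLattice M) : IsDE (code M) where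
  card := h.card
  rank := h.odd_and_rank.2
  orth := h.code_orth
  four w hw := h.code_four hw
  no_four w hw := h.code_no_four hw

/-- The classification: signs and a renaming of coordinates carry the lattice onto the Leech lattice. -/
theorem FramedLattice.exists_monomial (h : FramedLattice M) :
    ∃ (e : ι ≃ GolayPt) (s : ι → ℤ), (∀ i, s i = 1 ∨ s i = -1) ∧
      ∀ x : ι → ℤ, x ∈ M ↔ (fun q => s (e.symm q) * x (e.symm q)) ∈ leechLattice := by
  obtain ⟨e, he⟩ := GolayUnique.exists_equiv_golay h.isDE
  obtain ⟨o, ho, p, hp, hr⟩ := h.odd_and_rank.1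
  let s : ι → ℤ := fun i => if o i % 4 = 1 then 1 else -1
  have hs : ∀ i, s i = 1 ∨ s i = -1 := fun i => by simp only [s]; split <;> simp
  have hso : ∀ i, s i * o i = if i = p then -3 else 1 := fun i => by
    simp only [s]
    by_cases hi : i = p
    · subst hi
      rw [if_pos rfl]
      rcases sq_eq_sq_iff_eq_or_eq_neg.mp (hp.trans (by norm_num : (9 : ℤ) = 3 ^ 2)) with e' | e' <;>
        simp [e']
    · rw [if_neg hi]
      rcases sq_eq_one_iff.mp (hr i hi) with e' | e' <;> simp [e']
  let f : (ι → ℤ) → GolayPt → ℤ := fun x q => s (e.symm q) * x (e.symm q)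
  have hfsub : ∀ x y, f (x - y) = f x - f y := fun x y => funext fun q => by simp [f, mul_sub]
  have hsumf : ∀ [Fintype GolayPt] x, ∑ q, f x q = ∑ i, s i * x i := by
    intro _ x
    exact Equiv.sum_comp e.symm fun i => s i * x i
  have hcode : ∀ y : ι → ℤ, (fun q => ((s (e.symm q) * y (e.symm q) : ℤ) : ZMod 2)) ∈ golayCode ↔
      (fun i => (y i : ZMod 2)) ∈ code M := by
    intro y
    rw [he]
    have : (fun i => ((s (e.symm (e i)) * y (e.symm (e i)) : ℤ) : ZMod 2)) = fun i => (y i : ZMod 2) := by
      funext i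
      rw [e.symm_apply_apply]
      rcases hs i with h1 | h1 <;> simp [h1, ZMod.neg_eq_self_mod_two]
    rw [this]
  have heven : ∀ y : ι → ℤ, (fun i => 2 * y i) ∈ M →
      (4 : ℤ) ∣ ∑ i, s i * y i ∧ (fun i => (y i : ZMod 2)) ∈ code M := by
    intro y hy
    refine ⟨?_, y, hy, fun i => rfl⟩
    have h8 := h.dot _ ho _ hy
    have : dotInt o (fun i => 2 * y i) = 2 * ∑ i, s i * y i - 8 * (s p * y p) := by
      rw [dotInt, mul_sum, show 8 * (s p * y p) = ∑ i, if i = p then 8 * (s i * y i) else 0 by simp,
        ← sum_sub_distrib]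
      refine sum_congr rfl fun i _ => ?_
      have := hso i
      by_cases hi : i = p
      · rw [if_pos hi] at this ⊢
        rcases hs i with h1 | h1 <;> rw [h1] at this ⊢
        · rw [show o i = -3 by omega]; ring
        · rw [show o i = 3 by omega]; ring
      · rw [if_neg hi] at this ⊢
        rcases hs i with h1 | h1 <;> rw [h1] at this ⊢
        · rw [show o i = 1 by omega]; ring
        · rw [show o i = -1 by omega]; ring
    omega
  have hgood_even : ∀ y : ι → ℤ, (fun i => 2 * y i) ∈ M → Good (f fun i => 2 * y i) := by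
    intro y hy
    obtain ⟨h4, hc⟩ := heven y hy
    refine ⟨0, fun q => ?_, ?_, ?_⟩
    · rw [Int.modEq_iff_dvd]; simp only [f]
      exact ⟨-(s (e.symm q) * y (e.symm q)), by ring⟩
    · rw [Int.modEq_iff_dvd]
      suffices H : (8 : ℤ) ∣ 4 * 0 - ∑ i, s i * (2 * y i) by
        convert H using 2
        convert hsumf (fun i => 2 * y i)
      rw [show ∑ i, s i * (2 * y i) = 2 * ∑ i, s i * y i by
          rw [mul_sum]; exact sum_congr rfl fun i _ => by ring]
      omega
    · have : wd (f fun i => 2 * y i) 0 = fun q => ((s (e.symm q) * y (e.symm q) : ℤ) : ZMod 2) := by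
        funext q
        simp only [wd, f, sub_zero]
        rw [show s (e.symm q) * (2 * y (e.symm q)) = 2 * (s (e.symm q) * y (e.symm q)) by ring,
          Int.mul_ediv_cancel_left _ (by norm_num : (2 : ℤ) ≠ 0)]
      rw [this, hcode]
      exact hc
  have hgood_o : Good (f o) := by
    refine ⟨1, fun q => ?_, ?_, ?_⟩
    · simp only [f, hso]; split <;> decide
    · rw [hsumf, sum_congr rfl fun i _ => hso i]
      have : ∑ i, (if i = p then (-3 : ℤ) else 1) = 20 := by
        rw [← add_sum_erase _ _ (mem_univ p), if_pos rfl,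
          sum_congr rfl (fun i hi => if_neg (ne_of_mem_erase hi)), sum_const,
          card_erase_of_mem (mem_univ p), card_univ, h.card]
        norm_num
      rw [this]; decide
    · have : wd (f o) 1 = 0 := by
        funext q
        simp only [wd, f, hso, Pi.zero_apply]
        split <;> decide
      rw [this]; exact zero_mem _
  have hfwd : ∀ x ∈ M, Good (f x) := by
    intro x hx
    by_cases hev : x p % 2 = 0
    · have hev' : ∀ i, (2 : ℤ) ∣ x i := fun i => by have := h.parity hx i p; omega
      choose y hy using hev'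
      have : x = fun i => 2 * y i := funext hy
      rw [this] at hx ⊢
      exact hgood_even y hx
    · have hev' : ∀ i, (2 : ℤ) ∣ x i - o i := fun i => by
        have h1 := h.parity hx i p
        have h2 := h.parity ho i p
        rcases sq_eq_sq_iff_eq_or_eq_neg.mp (hp.trans (by norm_num : (9 : ℤ) = 3 ^ 2)) with e' | e' <;> omega
      choose y hy using hev'
      have hxy : x - o = fun i => 2 * y i := funext hy
      have hg := hgood_even y (hxy ▸ sub_mem hx ho)
      rw [← hxy, hfsub] at hg
      have := goodSub.add_mem hg hgood_o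
      rwa [sub_add_cancel] at this
  have hsurj_even : ∀ y : ι → ℤ, Good (f fun i => 2 * y i) → (fun i => 2 * y i) ∈ M := by
    rintro y ⟨m, h1, h2, h3⟩
    have hm : (2 : ℤ) ∣ m := by
      have := (h1 (e p)).dvd
      simp only [f] at this
      rw [show s (e.symm (e p)) * (2 * y (e.symm (e p))) =
        2 * (s (e.symm (e p)) * y (e.symm (e p))) by ring] at this
      omega
    have h30 : wd (f fun i => 2 * y i) 0 ∈ golayCode := by
      rw [wd_shift (m := m) (by omega)]
      exact add_mem h3 (Submodule.smul_mem _ _ one_mem_code)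
    have hw : wd (f fun i => 2 * y i) 0 = fun q => ((s (e.symm q) * y (e.symm q) : ℤ) : ZMod 2) := by
      funext q
      simp only [wd, f, sub_zero]
      rw [show s (e.symm q) * (2 * y (e.symm q)) = 2 * (s (e.symm q) * y (e.symm q)) by ring,
        Int.mul_ediv_cancel_left _ (by norm_num : (2 : ℤ) ≠ 0)]
    rw [hw, hcode] at h30
    rcases h.lift h30 y (fun i => rfl) p with hm' | hm'
    · exact hm'
    · exfalso
      have hmm := (hfwd _ hm')
      obtain ⟨m'', y'', hm'', hxy'', hs'', -⟩ := exists_halves hmm
      have hev := hxy'' (e p)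
      simp only [f, Pi.add_apply, e.symm_apply_apply, Pi.single_eq_same] at hev
      have hm0 : m'' = 0 := by
        rcases hs p with h' | h' <;> rw [h'] at hev <;> omega
      have hsum'' : ∑ q, f ((fun i => 2 * y i) + Pi.single p 4) q = 2 * ∑ q, y'' q := by
        rw [mul_sum]
        exact sum_congr rfl fun q _ => by have := hxy'' q; rw [hm0, zero_add] at this; exact this
      rw [hsumf] at hsum''
      have e1 : ∑ i, s i * ((fun i => 2 * y i) + Pi.single p 4 : ι → ℤ) i =
          ∑ i, s i * (2 * y i) + s p * 4 := by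
        simp [Pi.single_apply, mul_add, sum_add_distrib]
      rw [e1] at hsum''
      have := h2.dvd
      replace this : 8 ∣ 4 * m - ∑ i, s i * (2 * y i) := by
        convert this using 2
        convert (hsumf (fun i => 2 * y i)).symm
      rcases hs p with h' | h' <;> rw [h'] at hsum'' <;> omega
  refine ⟨e, s, hs, fun x => ⟨fun hx => mem_lattice.mpr (hfwd x hx), fun hx => ?_⟩⟩
  have hg : Good (f x) := mem_lattice.mp hx
  obtain ⟨m, h1, h2, h3⟩ := id hg
  by_cases hm : (2 : ℤ) ∣ m
  · have hev' : ∀ i, (2 : ℤ) ∣ x i := fun i => by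
      have := (h1 (e i)).dvd
      simp only [f, e.symm_apply_apply] at this
      rcases hs i with h' | h' <;> rw [h'] at this <;> omega
    choose y hy using hev'
    have : x = fun i => 2 * y i := funext hy
    rw [this] at hg ⊢
    exact hsurj_even y hg
  · have hev' : ∀ i, (2 : ℤ) ∣ x i - o i := fun i => by
      have := (h1 (e i)).dvd
      simp only [f, e.symm_apply_apply] at this
      have ho' := hso i
      rcases hs i with h' | h' <;> rw [h'] at this ho' <;> split at ho' <;> omega
    choose y hy using hev'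
    have hxy : x - o = fun i => 2 * y i := funext hy
    have hg' := goodSub.sub_mem hg hgood_o
    rw [← hfsub, hxy] at hg'
    have := add_mem (hsurj_even y hg') ho
    rwa [← hxy, sub_add_cancel] at this

end CfsgLib.SmallGroups.LeechFrame
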