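import Cfsg.Agent.Lib.SmallGroups.LeechOrder
import Cfsg.Agent.Lib.SmallGroups.MathieuSimple
import Cfsg.Agent.Lib.ThreeTransp.GolayModule

/-!
# The monomial subgroup of the automorphism group of the lattice

It is generated with the non-monomial involution to the whole group; its permutation part is
`M24` and its sign part is the code, which has no proper invariant subspaces but the constants.
-/

set_option autoImplicit false
set_option maxRecDepth 10000

namespace CfsgLib.SmallGroups.LeechGroup

open Cfsg CfsgLib.SmallGroups.Golay CfsgLib.SmallGroups.GolayOctads CfsgLib.SmallGroups.M24Group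
  CfsgLib.SmallGroups.LeechReach CfsgLib.Sporadic
open LeechMonomial (mono Pres CS)
open scoped Pointwise

theorem stdCross_finite : stdCross.Finite :=
  Set.finite_of_ncard_pos (by rw [LeechOrder.ncard_stdCross]; norm_num)

theorem pres_inv {g : Co0} (hg : Pres g) : Pres g⁻¹ := by
  intro v hv
  have hfin : {w : leechLattice | (w : GolayPt → ℤ) ∈ stdCross}.Finite :=
    stdCross_finite.preimage Subtype.val_injective.injOn
  obtain ⟨w, hw, e⟩ := ((hfin.injOn_iff_bijOn_of_mapsTo (f := fun w => g • w) hg).1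
    (MulAction.injective g).injOn).surjOn (show v ∈ _ from hv)
  rw [← show g • w = v from e, inv_smul_smul]
  exact hw

/-- The monomial subgroup. -/
noncomputable def monoSub : Subgroup Co0 where
  carrier := {g | Pres g}
  one_mem' := fun v hv => by rw [one_smul]; exact hv
  mul_mem' := fun {a b} ha hb v hv => by rw [mul_smul]; exact ha _ (hb v hv)
  inv_mem' := pres_inv

theorem card_monoSub : Nat.card monoSub = 4096 * 244823040 := LeechMonomial.card_stabilizer

theorem mono_mem (p : M24 × CS) : mono p ∈ monoSub := LeechMonomial.mono_pres p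

theorem monoSub_le_gen : monoSub ≤ gen := fun g hg => by
  obtain ⟨p, rfl⟩ := LeechMonomial.exists_mono hg
  exact Subgroup.subset_closure (Or.inl ⟨p, rfl⟩)

theorem gen_eq_top : gen = ⊤ := by
  refine eq_top_iff.2 fun g _ => ?_
  have hn : sqNorm ((g • LeechOrder.base8 : leechLattice) : GolayPt → ℤ) = 64 :=
    (g.2.2 _).trans LeechOrder.norm_base8
  have h := (LeechTransitive.reach64 (LeechBasic.mem_lattice.1 LeechOrder.base8.2)
    LeechOrder.norm_base8).trans
    ((LeechTransitive.reach64 (LeechBasic.mem_lattice.1 (g • LeechOrder.base8).2) hn).symm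
      (g • LeechOrder.base8).2)
  obtain ⟨s, hs, he⟩ := h LeechOrder.base8.2
  have he' : s • LeechOrder.base8 = g • LeechOrder.base8 := Subtype.ext he
  have hfix : (s⁻¹ * g) • LeechOrder.base8 = LeechOrder.base8 := by
    rw [mul_smul, ← he', inv_smul_smul]
  have := mul_mem hs (monoSub_le_gen (LeechOrder.pres_of_fix hfix))
  rwa [mul_inv_cancel_left] at this

/-- A subgroup with the monomial maps and the involution is everything. -/
theorem eq_top_of_le {N : Subgroup Co0} (h : monoSub ≤ N) (hxi : ThreeTransp.LeechXi.xi ∈ N) :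
    N = ⊤ := by
  rw [eq_top_iff, ← gen_eq_top, gen, Subgroup.closure_le]
  rintro g (⟨p, rfl⟩ | rfl)
  · exact h (mono_mem p)
  · exact hxi

theorem smul_unit (p : M24 × CS) (i : GolayPt) :
    ((mono p • LeechCenter.unitVec i : leechLattice) : GolayPt → ℤ) =
      Pi.single ((p.1 : Equiv.Perm GolayPt) i)
        (if (p.1 : Equiv.Perm GolayPt) i ∈ (p.2 : Finset GolayPt) then -8 else 8) := by
  rw [LeechMonomial.mono_apply]
  exact LeechMonomial.signedPerm_single _ _ _ _

theorem exists_mono' (g : monoSub) : ∃ p, mono p = g := LeechMonomial.exists_mono g.2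

/-- The permutation of a monomial map. -/
noncomputable def permOf : monoSub →* M24 :=
  MonoidHom.mk' (fun g => (exists_mono' g).choose.1) fun a b => by
    refine Subtype.ext (Equiv.ext fun i => ?_)
    have ha := (exists_mono' a).choose_spec
    have hb := (exists_mono' b).choose_spec
    have hab := (exists_mono' (a * b)).choose_spec
    set p := (exists_mono' a).choose
    set q := (exists_mono' b).choose
    set r := (exists_mono' (a * b)).choose
    have e : mono r • LeechCenter.unitVec i = mono p • mono q • LeechCenter.unitVec i := by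
      rw [← mul_smul, ha, hb, hab]
      rfl
    have e' : ((mono r • LeechCenter.unitVec i : leechLattice) : GolayPt → ℤ) =
        ((mono p • mono q • LeechCenter.unitVec i : leechLattice) : GolayPt → ℤ) := by rw [e]
    rw [smul_unit, LeechMonomial.mono_apply, smul_unit, LeechMonomial.signedPerm_single] at e'
    show (r.1 : Equiv.Perm GolayPt) i = (p.1 : Equiv.Perm GolayPt) ((q.1 : Equiv.Perm GolayPt) i)
    by_contra hne
    have h := congrFun e' ((r.1 : Equiv.Perm GolayPt) i)
    rw [Pi.single_eq_same, Pi.single_eq_of_ne hne] at h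
    split at h <;> omega

theorem permOf_spec {g : monoSub} {p : M24 × CS} (h : mono p = g) : permOf g = p.1 :=
  congrArg Prod.fst (LeechMonomial.mono_injective ((exists_mono' g).choose_spec.trans h.symm))

/-- The sign change of a code word. -/
noncomputable def sgn (w : golayCode) : monoSub :=
  ⟨mono (1, ⟨support₂ (w : GolayPt → ZMod 2), LeechBasic.mem_supports_word w.2⟩), mono_mem _⟩

theorem sgn_apply (w : golayCode) (v : leechLattice) (i : GolayPt) :
    (((sgn w : Co0) • v : leechLattice) : GolayPt → ℤ) i =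
      if (w : GolayPt → ZMod 2) i ≠ 0 then -(v : GolayPt → ℤ) i else (v : GolayPt → ℤ) i := by
  show (if i ∈ support₂ (w : GolayPt → ZMod 2) then -(v : GolayPt → ℤ) i else (v : GolayPt → ℤ) i) = _
  simp [support₂]

theorem ext_apply {g h : monoSub} (e : ∀ (v : leechLattice) (i : GolayPt),
    (((g : Co0) • v : leechLattice) : GolayPt → ℤ) i =
      (((h : Co0) • v : leechLattice) : GolayPt → ℤ) i) : g = h :=
  Subtype.ext (Subtype.ext (Equiv.ext fun v => Subtype.ext (funext (e v))))

theorem sgn_add (w w' : golayCode) : sgn (w + w') = sgn w * sgn w' := by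
  refine ext_apply fun v i => ?_
  rw [Subgroup.coe_mul, mul_smul, sgn_apply, sgn_apply, sgn_apply, Submodule.coe_add, Pi.add_apply]
  rcases (show ∀ z : ZMod 2, z = 0 ∨ z = 1 by decide) ((w : GolayPt → ZMod 2) i) with h | h <;>
    rcases (show ∀ z : ZMod 2, z = 0 ∨ z = 1 by decide) ((w' : GolayPt → ZMod 2) i) with h' | h' <;>
    simp [h, h', show (1 : ZMod 2) + 1 = 0 from rfl]

theorem sgn_zero : sgn 0 = 1 := by
  refine ext_apply fun v i => ?_
  rw [sgn_apply, Subgroup.coe_one, one_smul]
  simp

theorem sgn_one_central :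
    ((sgn ⟨1, LeechBasic.one_mem_code⟩ : monoSub) : Co0) ∈ Subgroup.center Co0 := by
  rw [Subgroup.mem_center_iff]
  intro f
  have hneg : ∀ v : leechLattice, (sgn ⟨1, LeechBasic.one_mem_code⟩ : Co0) • v = -v := fun v =>
    Subtype.ext (funext fun i => by rw [sgn_apply]; simp)
  refine Subtype.ext (Equiv.ext fun v => ?_)
  show f • ((sgn ⟨1, LeechBasic.one_mem_code⟩ : Co0) • v) =
    (sgn ⟨1, LeechBasic.one_mem_code⟩ : Co0) • (f • v)
  rw [hneg, hneg]
  exact map_neg (AddMonoidHom.mk' (f : Equiv.Perm leechLattice) f.2.1) v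

/-- The word of a monomial map conjugate to a sign change. -/
def moved (σ : M24) (w : golayCode) : golayCode :=
  ⟨fun i => (w : GolayPt → ZMod 2) ((σ⁻¹ : M24).1 i), LeechBasic.comp_mem_code (σ⁻¹).2 w.2⟩

theorem sgn_conj (g : monoSub) (w : golayCode) : g * sgn w * g⁻¹ = sgn (moved (permOf g) w) := by
  rw [mul_inv_eq_iff_eq_mul]
  obtain ⟨p, hp⟩ := exists_mono' g
  rw [permOf_spec hp]
  refine ext_apply fun v i => ?_
  rw [Subgroup.coe_mul, mul_smul, Subgroup.coe_mul, mul_smul, sgn_apply, ← hp,
    LeechMonomial.mono_apply, LeechMonomial.mono_apply]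
  simp only [signedPerm, moved, Subgroup.coe_inv, Equiv.Perm.inv_def, sgn_apply]
  split_ifs <;> simp

theorem exists_sgn {g : monoSub} (hg : permOf g = 1) : ∃ w, g = sgn w := by
  obtain ⟨⟨σ, ⟨c, hc⟩⟩, hp⟩ := exists_mono' g
  obtain rfl : σ = 1 := (permOf_spec hp).symm.trans hg
  obtain ⟨w, hw, rfl⟩ := hc
  exact ⟨⟨w, hw⟩, Subtype.ext hp.symm⟩

theorem permOf_sgn (w : golayCode) : permOf (sgn w) = 1 := permOf_spec (p := (1, _)) rfl

/-- The words whose sign changes lie in a subgroup. -/
noncomputable def words (P : Subgroup monoSub) : Submodule (ZMod 2) (GolayPt → ZMod 2) where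
  carrier := {w | ∃ h : w ∈ golayCode, sgn ⟨w, h⟩ ∈ P}
  zero_mem' := ⟨zero_mem _, by
    rw [show (⟨0, zero_mem golayCode⟩ : golayCode) = 0 from rfl, sgn_zero]
    exact one_mem P⟩
  add_mem' := by
    rintro a b ⟨ha, ha'⟩ ⟨hb, hb'⟩
    refine ⟨add_mem ha hb, ?_⟩
    rw [show (⟨a + b, add_mem ha hb⟩ : golayCode) = ⟨a, ha⟩ + ⟨b, hb⟩ from rfl, sgn_add]
    exact mul_mem ha' hb'
  smul_mem' := by
    rintro c a ⟨ha, ha'⟩
    rcases (show ∀ z : ZMod 2, z = 0 ∨ z = 1 by decide) c with rfl | rfl
    · refine ⟨by rw [zero_smul]; exact zero_mem _, ?_⟩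
      simp only [zero_smul]
      rw [show (⟨0, zero_mem golayCode⟩ : golayCode) = 0 from rfl, sgn_zero]
      exact one_mem P
    · exact ⟨by rw [one_smul]; exact ha, by simp only [one_smul]; exact ha'⟩

theorem words_inv (P : Subgroup monoSub) [P.Normal] : ThreeTransp.GolayModule.Inv (words P) := by
  rintro g hg w ⟨hw, hw'⟩
  obtain ⟨h, hh⟩ : ∃ h : monoSub, permOf h = (⟨g, hg⟩ : M24)⁻¹ :=
    ⟨⟨mono ((⟨g, hg⟩ : M24)⁻¹, ⟨∅, LeechReach.empty_mem_CS⟩), mono_mem _⟩,
      permOf_spec (p := (_, _)) rfl⟩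
  have hc := ‹P.Normal›.conj_mem _ hw' h
  rw [sgn_conj, hh] at hc
  refine ⟨LeechBasic.comp_mem_code hg hw, ?_⟩
  convert hc using 2
  refine Subtype.ext (funext fun i => ?_)
  simp [moved]

theorem shift_facts : (∃ p : GolayPt,
    word (bas 0) ((sgen 0).symm p) + word (bas 0) p ≠
      word (bas 0) ((sgen 0).symm none) + word (bas 0) none) := by
  refine ⟨sgen 0 (pt 0), ?_⟩
  have h1 : (sgen 0).symm none = none := by
    rw [Equiv.symm_apply_eq, sgen_apply]
    decide +kernel
  rw [Equiv.symm_apply_apply, sgen_apply, h1]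
  decide +kernel

/-- A normal subgroup of the monomial group is central or contains all sign changes. -/
theorem central_or_all (P : Subgroup monoSub) [P.Normal] :
    (∀ g ∈ P, (g : Co0) ∈ Subgroup.center Co0) ∨ ∀ w, sgn w ∈ P := by
  rcases ThreeTransp.GolayModule.le_code (words_inv P) (fun w hw => hw.1) with hW | hW
  swap
  · refine Or.inr fun w => ?_
    obtain ⟨h, h'⟩ : (w : GolayPt → ZMod 2) ∈ words P := by rw [hW]; exact w.2
    exact h'
  left
  have : IsSimpleGroup M24 := MathieuSimple.isSimple_M24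
  have hsurj : Function.Surjective permOf := fun σ =>
    ⟨⟨mono (σ, ⟨∅, LeechReach.empty_mem_CS⟩), mono_mem _⟩, permOf_spec (p := (σ, _)) rfl⟩
  rcases (Subgroup.Normal.map ‹P.Normal› permOf hsurj).eq_bot_or_eq_top with hb | ht
  · intro g hg
    have hg1 : permOf g = 1 := by
      rw [← Subgroup.mem_bot, ← hb]
      exact Subgroup.mem_map_of_mem _ hg
    obtain ⟨w, rfl⟩ := exists_sgn hg1
    have hconst := hW w ⟨w.2, hg⟩
    rcases (show ∀ z : ZMod 2, z = 0 ∨ z = 1 by decide) ((w : GolayPt → ZMod 2) none) with h | h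
    · obtain rfl : w = 0 := Subtype.ext (funext fun i => (hconst i none).trans h)
      rw [sgn_zero]
      exact one_mem _
    · obtain rfl : w = ⟨1, LeechBasic.one_mem_code⟩ :=
        Subtype.ext (funext fun i => (hconst i none).trans h)
      exact sgn_one_central
  · exfalso
    obtain ⟨g, hg, hgσ⟩ : ∃ g ∈ P, permOf g = (⟨sgen 0, sgen_mem 0⟩ : M24) := by
      have : (⟨sgen 0, sgen_mem 0⟩ : M24) ∈ P.map permOf := by rw [ht]; exact Subgroup.mem_top _
      simpa using this
    set w : golayCode := ⟨word (bas 0), word_bas_mem (by norm_num)⟩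
    have hc : sgn (moved (permOf g) w + w) ∈ P := by
      rw [sgn_add, ← sgn_conj]
      have h2 : sgn w * g⁻¹ * (sgn w)⁻¹ ∈ P := ‹P.Normal›.conj_mem _ (inv_mem hg) _
      have h3 : (sgn w)⁻¹ = sgn w := by
        rw [inv_eq_iff_mul_eq_one, ← sgn_add, ← sgn_zero]
        exact congrArg sgn (Subtype.ext (funext fun i => CharTwo.add_self_eq_zero _))
      rw [h3] at h2
      have := mul_mem hg h2
      rwa [← mul_assoc, ← mul_assoc] at this
    obtain ⟨p, hp⟩ := shift_facts
    refine hp ?_
    have h := hW _ ⟨(moved (permOf g) w + w).2, hc⟩ p none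
    simpa [moved, hgσ, w, Equiv.Perm.inv_def] using h

/-- A subgroup with all sign changes and full permutation part. -/
theorem eq_top_of_sgn (P : Subgroup monoSub) (hs : ∀ w, sgn w ∈ P) (hp : P.map permOf = ⊤) :
    P = ⊤ := by
  refine eq_top_iff.2 fun g _ => ?_
  have : permOf g ∈ P.map permOf := hp ▸ Subgroup.mem_top _
  obtain ⟨h, hh, e⟩ := this
  obtain ⟨w, hw⟩ := exists_sgn (g := h⁻¹ * g) (by rw [map_mul, map_inv, e, inv_mul_cancel])
  rw [← mul_inv_cancel_left h g, hw]
  exact mul_mem hh (hs w)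

/-- A normal subgroup containing the sign changes and a map moving a point is everything. -/
theorem eq_top_of_moves (P : Subgroup monoSub) [P.Normal] (hs : ∀ w, sgn w ∈ P) {g : monoSub}
    (hg : g ∈ P) (hne : permOf g ≠ 1) : P = ⊤ := by
  have : IsSimpleGroup M24 := MathieuSimple.isSimple_M24
  have hsurj : Function.Surjective permOf := fun σ =>
    ⟨⟨mono (σ, ⟨∅, LeechReach.empty_mem_CS⟩), mono_mem _⟩, permOf_spec (p := (σ, _)) rfl⟩
  refine eq_top_of_sgn P hs ((Subgroup.Normal.map ‹P.Normal› permOf hsurj).eq_bot_or_eq_top.resolve_left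
    fun hb => hne ?_)
  rw [← Subgroup.mem_bot, ← hb]
  exact Subgroup.mem_map_of_mem _ hg

end CfsgLib.SmallGroups.LeechGroup
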