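import Mathlib
import Cfsg.Agent.Lib.SmallGroups.LeechBasic

/-!
# The index of `Cfsg.leechLattice`, by three successive kernels
-/

set_option autoImplicit false

namespace CfsgLib.SmallGroups.LeechIndex

open Cfsg CfsgLib.SmallGroups.Golay CfsgLib.SmallGroups.GolayOctads CfsgLib.SmallGroups.LeechBasic

/-- Parities relative to the extra point. -/
def parHom : (GolayPt → ℤ) →+ (ZMod 23 → ZMod 2) where
  toFun x j := ((x (some j) - x none : ℤ) : ZMod 2)
  map_zero' := by funext j; simp
  map_add' x y := by funext j; simp only [Pi.add_apply]; push_cast; ring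

theorem parHom_surjective : Function.Surjective parHom := fun f =>
  ⟨fun i => match i with | none => 0 | some j => ((f j).val : ℤ), funext fun j => by simp [parHom]⟩

theorem mem_ker_parHom {x : GolayPt → ℤ} (hx : x ∈ parHom.ker) (i : GolayPt) :
    (2 : ℤ) ∣ x i - x none := by
  cases i with
  | none => simp
  | some j =>
    have h := congrFun (AddMonoidHom.mem_ker.mp hx) j
    simp only [parHom, AddMonoidHom.coe_mk, ZeroHom.coe_mk, Pi.zero_apply,
      ZMod.intCast_zmod_eq_zero_iff_dvd] at h
    exact h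

/-- The halved deviations modulo the code. -/
def wdHom : parHom.ker →+ (GolayPt → ZMod 2) ⧸ golayCode.toAddSubgroup where
  toFun x := QuotientAddGroup.mk' _ (wd x.1 (x.1 none))
  map_zero' := by
    rw [show wd ((0 : parHom.ker) : GolayPt → ℤ) _ = 0 by funext i; simp [wd], map_zero]
  map_add' x y := by
    rw [← map_add]
    congr 1
    funext i
    simp only [wd, AddSubgroup.coe_add, Pi.add_apply, ← Int.cast_add]
    congr 1
    have a := mem_ker_parHom x.2 i
    have b := mem_ker_parHom y.2 i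
    omega

theorem wdHom_surjective : Function.Surjective wdHom := by
  intro q
  obtain ⟨f, rfl⟩ := QuotientAddGroup.mk'_surjective _ q
  refine ⟨⟨fun i => 2 * ((f i).val : ℤ), ?_⟩, ?_⟩
  · rw [AddMonoidHom.mem_ker]
    funext j
    simp [parHom, show (2 : ZMod 2) = 0 from rfl]
  · refine (QuotientAddGroup.eq).mpr ?_
    have : wd (fun i => 2 * ((f i).val : ℤ)) (2 * ((f none).val : ℤ)) =
        f + (f none) • (1 : GolayPt → ZMod 2) := by
      funext i
      simp only [wd, Pi.add_apply, Pi.smul_apply, Pi.one_apply, smul_eq_mul, mul_one]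
      rw [show (2 * ((f i).val : ℤ) - 2 * ((f none).val : ℤ)) / 2 = ((f i).val : ℤ) - (f none).val by omega]
      push_cast
      rw [ZMod.natCast_zmod_val, ZMod.natCast_zmod_val, CharTwo.sub_eq_add]
    show -wd _ _ + f ∈ golayCode
    rw [this, neg_add, add_assoc, add_comm (-((f none) • (1 : GolayPt → ZMod 2))) f, ← add_assoc,
      neg_add_cancel, zero_add]
    exact neg_mem (Submodule.smul_mem _ _ one_mem_code)

theorem four_dvd_sum {x : wdHom.ker} : (4 : ℤ) ∣ ∑ i, x.1.1 i - 4 * x.1.1 none := by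
  have hw : wd x.1.1 (x.1.1 none) ∈ golayCode := (QuotientAddGroup.eq_zero_iff _).mp x.2
  have hev : (2 : ℤ) ∣ ∑ i, (x.1.1 i - x.1.1 none) / 2 := by
    refine (ZMod.intCast_zmod_eq_zero_iff_dvd _ 2).mp ?_
    have d := dot_eq_zero one_mem_code hw
    simp only [Pi.one_apply, one_mul] at d
    rw [Int.cast_sum, ← d]
    rfl
  have e : ∑ i, x.1.1 i = 24 * x.1.1 none + 2 * ∑ i, (x.1.1 i - x.1.1 none) / 2 := by
    rw [Finset.mul_sum, show 24 * x.1.1 none = ∑ _i : GolayPt, x.1.1 none by
      rw [Finset.sum_const, Finset.card_univ, card_golayPt]; simp, ← Finset.sum_add_distrib]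
    exact Finset.sum_congr rfl fun i _ => by have a := mem_ker_parHom x.1.2 i; omega
  omega

/-- The coordinate sum condition. -/
def sumHom : wdHom.ker →+ ZMod 2 where
  toFun x := (((∑ i, x.1.1 i - 4 * x.1.1 none) / 4 : ℤ) : ZMod 2)
  map_zero' := by simp
  map_add' x y := by
    rw [← Int.cast_add]
    congr 1
    have a := four_dvd_sum (x := x)
    have b := four_dvd_sum (x := y)
    simp only [AddSubgroup.coe_add, Pi.add_apply, Finset.sum_add_distrib]
    omega

theorem sumHom_surjective : Function.Surjective sumHom := by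
  have hp : (Pi.single (some (0 : ZMod 23)) (4 : ℤ) : GolayPt → ℤ) ∈ parHom.ker := by
    rw [AddMonoidHom.mem_ker]
    funext j
    rcases eq_or_ne j 0 with rfl | hj
    · simp [parHom, show (4 : ZMod 2) = 0 from rfl]
    · simp [parHom, hj]
  have hw : (⟨_, hp⟩ : parHom.ker) ∈ wdHom.ker := by
    rw [AddMonoidHom.mem_ker]
    refine (QuotientAddGroup.eq_zero_iff _).mpr ?_
    have : wd (Pi.single (some (0 : ZMod 23)) (4 : ℤ)) 0 = 0 := by
      funext i
      rcases eq_or_ne i (some 0) with rfl | hi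
      · simp [wd, show (2 : ZMod 2) = 0 from rfl]
      · simp [wd, hi]
    simpa [this] using (zero_mem golayCode)
  intro z
  obtain rfl | rfl : z = 0 ∨ z = 1 := by revert z; decide
  · exact ⟨0, map_zero _⟩
  · refine ⟨⟨⟨_, hp⟩, hw⟩, ?_⟩
    show (((∑ i, (Pi.single (some (0 : ZMod 23)) 4 : GolayPt → ℤ) i -
      4 * (Pi.single (some (0 : ZMod 23)) 4 : GolayPt → ℤ) none) / 4 : ℤ) : ZMod 2) = 1
    rw [Finset.sum_pi_single']
    simp

theorem lattice_eq_map :
    leechLattice = ((sumHom.ker.map wdHom.ker.subtype).map parHom.ker.subtype) := by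
  ext x
  rw [mem_lattice]
  constructor
  · rintro ⟨m, h1, h2, h3⟩
    have hdvd : ∀ i, (2 : ℤ) ∣ x i - m := fun i => by
      have a := (h1 i).dvd
      omega
    have hp : x ∈ parHom.ker := by
      rw [AddMonoidHom.mem_ker]
      funext j
      have a := hdvd (some j)
      have b := hdvd none
      simp only [parHom, AddMonoidHom.coe_mk, ZeroHom.coe_mk, Pi.zero_apply,
        ZMod.intCast_zmod_eq_zero_iff_dvd]
      push_cast
      omega
    have hm : (2 : ℤ) ∣ m - x none := by have := hdvd none; omega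
    have hw : (⟨x, hp⟩ : parHom.ker) ∈ wdHom.ker := by
      refine (QuotientAddGroup.eq_zero_iff _).mpr ?_
      show wd x (x none) ∈ golayCode
      rw [wd_shift hm]
      exact add_mem h3 (Submodule.smul_mem _ _ one_mem_code)
    refine ⟨⟨x, hp⟩, ⟨⟨⟨x, hp⟩, hw⟩, ?_, rfl⟩, rfl⟩
    show (((∑ i, x i - 4 * x none) / 4 : ℤ) : ZMod 2) = 0
    rw [ZMod.intCast_zmod_eq_zero_iff_dvd]
    have := h2.dvd
    push_cast
    omega
  · rintro ⟨_, ⟨y, hy, rfl⟩, rfl⟩
    refine ⟨y.1.1 none, fun i => ?_, ?_, (QuotientAddGroup.eq_zero_iff _).mp y.2⟩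
    · show y.1.1 i ≡ _ [ZMOD 2]
      rw [Int.modEq_iff_dvd]
      have := mem_ker_parHom y.1.2 i
      omega
    · have h4 := four_dvd_sum (x := y)
      have hy' : (((∑ i, y.1.1 i - 4 * y.1.1 none) / 4 : ℤ) : ZMod 2) = 0 := hy
      rw [ZMod.intCast_zmod_eq_zero_iff_dvd] at hy'
      show ∑ i, y.1.1 i ≡ _ [ZMOD 8]
      rw [Int.modEq_iff_dvd]
      push_cast at hy'
      omega

theorem index_lattice : leechLattice.index = 2 ^ 36 := by
  rw [lattice_eq_map, AddSubgroup.index_map_subtype, AddSubgroup.index_map_subtype,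
    AddSubgroup.index_ker, AddSubgroup.index_ker, AddSubgroup.index_ker,
    AddMonoidHom.range_eq_top.mpr parHom_surjective, AddMonoidHom.range_eq_top.mpr wdHom_surjective,
    AddMonoidHom.range_eq_top.mpr sumHom_surjective, AddSubgroup.card_top, AddSubgroup.card_top,
    AddSubgroup.card_top, ← AddSubgroup.index_eq_card, Nat.card_zmod, Nat.card_fun]
  have h := golayCode.toAddSubgroup.index_mul_card
  have hc : Nat.card golayCode.toAddSubgroup = 2 ^ 12 := by
    show Nat.card golayCode = _
    rw [Module.natCard_eq_pow_finrank (K := ZMod 2), finrank_code, Nat.card_zmod]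
  rw [hc, Nat.card_fun, Nat.card_zmod, Nat.card_eq_fintype_card (α := GolayPt), card_golayPt] at h
  have hi : golayCode.toAddSubgroup.index = 2 ^ 12 :=
    Nat.eq_of_mul_eq_mul_right (by positivity) (h.trans (by rw [← pow_add]))
  rw [Nat.card_zmod, hi]
  norm_num

end CfsgLib.SmallGroups.LeechIndex
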