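import Cfsg.Agent.Lib.SmallGroups.LeechTwoPoint
import Cfsg.Agent.Lib.SmallGroups.LeechMcLData
import Cfsg.Agent.Lib.SmallGroups.LeechCo3

/-!
# The McLaughlin configuration in the lattice

The stabiliser of a minimal triangle is simple of order 898128000 and has rank 3 on 275 points.
-/

set_option autoImplicit false
set_option maxRecDepth 10000

namespace CfsgLib.SmallGroups.LeechMcL

open Cfsg CfsgLib.SmallGroups.Golay CfsgLib.SmallGroups.LeechOrbit CfsgLib.SmallGroups.LeechEnum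
  CfsgLib.SmallGroups.LeechLists CfsgLib.SmallGroups.LeechVectorStab CfsgLib.SmallGroups.LeechPairs
open scoped Pointwise

/-- Conjugation moves joint stabilisers. -/
noncomputable def conjPair {g : Co0} {a b a' b' : leechLattice} (ha : g • a = a') (hb : g • b = b') :
    ↥(MulAction.stabilizer Co0 a ⊓ MulAction.stabilizer Co0 b) ≃*
      ↥(MulAction.stabilizer Co0 a' ⊓ MulAction.stabilizer Co0 b') :=
  ((MulAut.conj g).subgroupMap _).trans (MulEquiv.subgroupCongr (by
    subst ha hb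
    rw [Subgroup.map_inf _ _ _ (MulAut.conj g).injective,
      MulAction.stabilizer_smul_eq_stabilizer_map_conj,
      MulAction.stabilizer_smul_eq_stabilizer_map_conj]
    rfl))

/-- The orbit of `b` under `H` counts the index of the stabiliser. -/
theorem card_mul (H : Subgroup Co0) (b : leechLattice) (s : Set leechLattice)
    (hs : ∀ x, x ∈ s ↔ ∃ g ∈ H, g • b = x) :
    s.ncard * Nat.card ↥(H ⊓ MulAction.stabilizer Co0 b) = Nat.card H := by
  have e : MulAction.orbit H b = s := by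
    ext x
    rw [hs]
    exact ⟨fun ⟨g, hg⟩ => ⟨g.1, g.2, hg⟩, fun ⟨g, hg, hx⟩ => ⟨⟨g, hg⟩, hx⟩⟩
  let f : MulAction.stabilizer H b ≃ ↥(H ⊓ MulAction.stabilizer Co0 b) :=
    { toFun := fun g => ⟨(g : H), (g : H).2, g.2⟩
      invFun := fun g => ⟨⟨(g : Co0), g.2.1⟩, g.2.2⟩
      left_inv := fun _ => rfl
      right_inv := fun _ => rfl }
  rw [← Nat.card_congr f, ← e, ← MulAction.index_stabilizer, mul_comm, Subgroup.card_mul_index]

/-- Bijective images keep their number. -/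
theorem ncard_transport {g : Co0} {s t : Set leechLattice} (h : ∀ y, g • y ∈ t ↔ y ∈ s) :
    t.ncard = s.ncard := by
  have e : (g • ·) '' s = t := image_eq _ (g⁻¹ • ·) (fun a ha => (h a).2 ha)
    (fun a ha => (h _).1 (by rwa [smul_inv_smul])) fun a _ => smul_inv_smul g a
  rw [← e, Set.ncard_image_of_injective _ (MulAction.injective g)]

theorem smul_mem_vset_iff (g : Co0) (u y : leechLattice) : g • y ∈ vset (g • u) ↔ y ∈ vset u :=
  ⟨fun h => by simpa using smul_mem_vset (g := g⁻¹) h, smul_mem_vset⟩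

theorem card_G2 : Nat.card (LeechTwoPoint.G2 vV) = 898128000 := by
  have h := card_mul (MulAction.stabilizer Co0 v48) vV (vset v48) fun x =>
    ⟨fun hx => transitive_vset v48 vV x norm_v48 vV_mem hx, fun ⟨g, hg, hx⟩ => by
      have := smul_mem_vset (g := g) vV_mem
      rwa [hx, show g • v48 = v48 from hg] at this⟩
  rw [ncard_vset v48 norm_v48, LeechCo3.card_stab] at h
  change Nat.card ↥(MulAction.stabilizer Co0 v48 ⊓ MulAction.stabilizer Co0 vV) = _
  omega

theorem two_facts : Pk kV none = 4 ∧ Pk kV LeechTwoPoint.pb = 4 ∧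
    ∀ q, q ≠ none → q ≠ LeechTwoPoint.pb → Pk kV q = 0 := by
  decide +kernel

theorem two_vV : LeechTwoPoint.Two vV 4 := ⟨Or.inl rfl, two_facts⟩

theorem isMcL_base : IsMcL ↥(LeechTwoPoint.G2 vV) :=
  ⟨LeechTwoPoint.isSimple two_vV (by rw [card_G2]; norm_num) (by rw [card_G2]; norm_num), card_G2⟩

theorem isMcL_congr {G H : Type*} [Group G] [Group H] (e : G ≃* H) (h : IsMcL G) : IsMcL H := by
  have := h.1
  exact ⟨MathieuSimple.isSimpleGroup_congr' e, (Nat.card_congr e.toEquiv).symm.trans h.2⟩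

theorem isMcL (v w : leechLattice) (hv : sqNorm (v : GolayPt → ℤ) = 32)
    (hw : sqNorm (w : GolayPt → ℤ) = 32)
    (hvw : dotInt (v : GolayPt → ℤ) (w : GolayPt → ℤ) = -8) :
    IsMcL ↥(MulAction.stabilizer Co0 v ⊓ MulAction.stabilizer Co0 w) := by
  have hu : sqNorm ((v + w : leechLattice) : GolayPt → ℤ) = 48 := by
    rw [AddSubgroup.coe_add, sqNorm_add, hv, hw, hvw]
    norm_num
  have hmem : v ∈ vset (v + w) := ⟨hv, by rw [AddSubgroup.coe_add, add_sub_cancel_left]; exact hw⟩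
  obtain ⟨g, hg1, hg2⟩ := exists_map _ v hu hmem
  refine isMcL_congr ((conjPair hg1 hg2).trans (MulEquiv.subgroupCongr ?_)) isMcL_base
  ext x
  simp only [Subgroup.mem_inf, MulAction.mem_stabilizer_iff, smul_add']
  constructor
  · rintro ⟨h1, h2⟩
    rw [h2] at h1
    exact ⟨h2, add_left_cancel h1⟩
  · rintro ⟨h1, h2⟩
    exact ⟨by rw [h1, h2], h1⟩

/-! ### The 275 points -/

/-- The points: members of `vset u` with inner product 16 with `v`. -/
def pts (u v : leechLattice) : Set leechLattice :=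
  {x | sqNorm (x : GolayPt → ℤ) = 32 ∧ sqNorm ((u - x) : GolayPt → ℤ) = 32 ∧
    dotInt (v : GolayPt → ℤ) (x : GolayPt → ℤ) = 16}

theorem mem_pts {u v x : leechLattice} :
    x ∈ pts u v ↔ x ∈ vset u ∧ dotInt (v : GolayPt → ℤ) (x : GolayPt → ℤ) = 16 :=
  ⟨fun h => ⟨⟨h.1, h.2.1⟩, h.2.2⟩, fun h => ⟨h.1.1, h.1.2, h.2⟩⟩

theorem smul_mem_pts (g : Co0) (u v y : leechLattice) :
    g • y ∈ pts (g • u) (g • v) ↔ y ∈ pts u v := by
  rw [mem_pts, mem_pts, smul_mem_vset_iff, dot_smul]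

/-- The code number of the root of the 275 points. -/
def kX : ℕ := 62062060636174857014849603720

theorem key275 : LeechCo3Data.tree552.has kX = true ∧ dotK kV kX = 16 ∧ dotK kU kX = 24 ∧
    dotK kX kX = 32 ∧ LeechMcLData.tree275.has 57440266707104622640025401209 = true ∧
    LeechMcLData.tree275.has 63300000675459111389841885320 = true ∧
    dotK kX 57440266707104622640025401209 = 8 ∧ dotK kX 63300000675459111389841885320 = 16 ∧
    LeechMcLData.tree275.has kX = true ∧ LeechMcLData.tree162.has kX = false := by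
  decide +kernel

theorem kX_mem : Pk kX ∈ leechLattice :=
  mem_lattice_keys LeechCo3Data.cert552 kV_mem (VTree.find_mem _ _ key275.1)

/-- The root of the 275 points. -/
noncomputable def vX : leechLattice := ⟨Pk kX, kX_mem⟩

theorem coe_vX : (vX : GolayPt → ℤ) = Pk kX := rfl

theorem pts_base : pts v48 vV = vecs LeechMcLData.tree275 := by
  ext x
  rw [mem_pts, vset_base]
  constructor
  · rintro ⟨hx, hd⟩
    refine filter_sound LeechMcLData.filter275 hx ?_
    intro c hc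
    rw [List.mem_singleton] at hc
    subst hc
    exact hd
  · intro hx
    refine ⟨?_, dot_of_mem LeechMcLData.cert275 kX_mem hx
      (List.mem_cons_of_mem _ (List.mem_cons_self ..)) coe_vV key275.2.1⟩
    have h1 := norm_of_mem LeechMcLData.cert275 kX_mem hx key275.2.2.2.1
    have h2 := dot_of_mem LeechMcLData.cert275 kX_mem hx (List.mem_cons_self ..) coe_v48 key275.2.2.1
    rw [← vset_base]
    exact ⟨h1, (sub_norm_iff v48 x norm_v48 h1).2 h2⟩

theorem vX_mem : vX ∈ pts v48 vV := by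
  rw [pts_base]
  exact ⟨kX, VTree.find_mem _ _ key275.2.2.2.2.2.2.2.2.1, rfl⟩

theorem ncard_pts (u v : leechLattice) (hu : sqNorm (u : GolayPt → ℤ) = 48) (hv : v ∈ vset u) :
    (pts u v).ncard = 275 := by
  obtain ⟨g, rfl, rfl⟩ := exists_map u v hu hv
  rw [ncard_transport fun y => smul_mem_pts g v48 vV y, pts_base,
    ncard_vecs LeechMcLData.cert275 kX_mem LeechMcLData.canon275, LeechMcLData.length275]

/-- Every such triple is the image of the base triple. -/
theorem exists_map3 (u v x : leechLattice) (hu : sqNorm (u : GolayPt → ℤ) = 48) (hv : v ∈ vset u)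
    (hx : x ∈ pts u v) : ∃ g : Co0, g • v48 = u ∧ g • vV = v ∧ g • vX = x := by
  obtain ⟨a, rfl, rfl⟩ := exists_map u v hu hv
  obtain ⟨y, rfl⟩ : ∃ y, a • y = x := ⟨a⁻¹ • x, smul_inv_smul a x⟩
  rw [smul_mem_pts, pts_base] at hx
  obtain ⟨h, hfix, hh⟩ := transitive_vecs LeechMcLData.cert275 kX_mem (pts_base ▸ vX_mem) hx
  refine ⟨a * h, ?_, ?_, ?_⟩
  · rw [mul_smul, hfix kU (List.mem_cons_self ..) v48 coe_v48]
  · rw [mul_smul, hfix kV (List.mem_cons_of_mem _ (List.mem_cons_self ..)) vV coe_vV]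
  · rw [mul_smul, hh]

theorem transitive_pts (u v : leechLattice) (hu : sqNorm (u : GolayPt → ℤ) = 48) (hv : v ∈ vset u)
    (x x' : leechLattice) (hx : x ∈ pts u v) (hx' : x' ∈ pts u v) :
    ∃ g : Co0, g • u = u ∧ g • v = v ∧ g • x = x' := by
  obtain ⟨a, ha1, ha2, ha3⟩ := exists_map3 u v x hu hv hx
  obtain ⟨b, hb1, hb2, hb3⟩ := exists_map3 u v x' hu hv hx'
  refine ⟨b * a⁻¹, ?_, ?_, ?_⟩
  · rw [mul_smul, inv_smul_eq_iff.2 ha1.symm, hb1]
  · rw [mul_smul, inv_smul_eq_iff.2 ha2.symm, hb2]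
  · rw [mul_smul, inv_smul_eq_iff.2 ha3.symm, hb3]

theorem kA_mem : Pk 57440266707104622640025401209 ∈ leechLattice :=
  mem_lattice_keys LeechMcLData.cert275 kX_mem (VTree.find_mem _ _ key275.2.2.2.2.1)

theorem kB_mem : Pk 63300000675459111389841885320 ∈ leechLattice :=
  mem_lattice_keys LeechMcLData.cert275 kX_mem (VTree.find_mem _ _ key275.2.2.2.2.2.1)

theorem sub_base {r : ℕ} {T : VTree} (hr : Pk r ∈ leechLattice)
    (h : cert LeechMcLData.gens3 [kU, kV, kX] r T = true)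
    (hroot : LeechMcLData.tree275.has r = true) {y : leechLattice} (hy : y ∈ vecs T) :
    y ∈ vecs LeechMcLData.tree275 ∧ dotInt (vX : GolayPt → ℤ) (y : GolayPt → ℤ) = dotK kX r := by
  obtain ⟨n, hn, e⟩ := hy
  obtain ⟨g, hfix, hg⟩ := orbit_sound h ⟨_, hr⟩ rfl hn
  have ey : y = g • (⟨Pk r, hr⟩ : leechLattice) := Subtype.ext (e.trans hg.symm)
  refine ⟨?_, dot_of_mem h hr ⟨n, hn, e⟩ (by simp) coe_vX rfl⟩
  have h1 : (⟨Pk r, hr⟩ : leechLattice) ∈ pts v48 vV := by
    rw [pts_base]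
    exact ⟨r, VTree.find_mem _ _ hroot, rfl⟩
  rw [← pts_base, ey]
  have h2 := (smul_mem_pts g v48 vV _).2 h1
  rwa [hfix kU (by simp) v48 coe_v48, hfix kV (by simp) vV coe_vV] at h2

theorem sub8_base : {y | y ∈ pts v48 vV ∧ dotInt (vX : GolayPt → ℤ) (y : GolayPt → ℤ) = 8} =
    vecs LeechMcLData.tree112 := by
  ext y
  constructor
  · rintro ⟨hy, hd⟩
    rw [pts_base] at hy
    refine filter_sound LeechMcLData.filter112 hy fun c hc => ?_
    rw [List.mem_singleton] at hc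
    subst hc
    exact hd
  · intro hy
    obtain ⟨h1, h2⟩ := sub_base kA_mem LeechMcLData.cert112 key275.2.2.2.2.1 hy
    exact ⟨pts_base ▸ h1, h2.trans key275.2.2.2.2.2.2.1⟩

theorem sub16_base : {y | y ∈ pts v48 vV ∧ y ≠ vX ∧
    dotInt (vX : GolayPt → ℤ) (y : GolayPt → ℤ) = 16} = vecs LeechMcLData.tree162 := by
  ext y
  constructor
  · rintro ⟨hy, -, hd⟩
    rw [pts_base] at hy
    refine filter_sound LeechMcLData.filter162Rest hy fun c hc => ?_
    rw [List.mem_singleton] at hc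
    subst hc
    exact hd
  · intro hy
    obtain ⟨h1, h2⟩ := sub_base kB_mem LeechMcLData.cert162 key275.2.2.2.2.2.1 hy
    rw [key275.2.2.2.2.2.2.2.1] at h2
    refine ⟨pts_base ▸ h1, ?_, h2⟩
    rintro rfl
    rw [coe_vX, dotK_eq, key275.2.2.2.1] at h2
    norm_num at h2

theorem dot_cases {y : leechLattice} (hy : y ∈ pts v48 vV) (hne : y ≠ vX) :
    dotInt (vX : GolayPt → ℤ) (y : GolayPt → ℤ) = 8 ∨
      dotInt (vX : GolayPt → ℤ) (y : GolayPt → ℤ) = 16 := by
  rw [pts_base] at hy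
  obtain ⟨n, hn, e⟩ := hy
  have h := List.all_eq_true.1 LeechMcLData.dots275 n hn
  simp only [Bool.or_eq_true, beq_iff_eq] at h
  rw [coe_vX, e, dotK_eq]
  rcases h with (h | h) | h
  · exact Or.inl h
  · exact Or.inr h
  · exfalso
    obtain ⟨m, hm, em⟩ := filter_sound LeechMcLData.filter162
      (x := y) ⟨n, hn, e⟩ fun c hc => by
        rw [List.mem_singleton] at hc
        subst hc
        rw [e]
        exact (dotK_eq _ _).trans h
    refine hne (Subtype.ext ?_)
    simp only [VTree.keys, List.nil_append, List.append_nil, List.mem_singleton] at hm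
    rw [em, hm]
    rfl

theorem smul_mem_sub (g : Co0) (u v x y : leechLattice) (d : ℤ) :
    (g • y ∈ pts (g • u) (g • v) ∧
        dotInt ((g • x : leechLattice) : GolayPt → ℤ) ((g • y : leechLattice) : GolayPt → ℤ) = d) ↔
      (y ∈ pts u v ∧ dotInt (x : GolayPt → ℤ) (y : GolayPt → ℤ) = d) := by
  rw [smul_mem_pts, dot_smul]

theorem ncard_sub8 (u v x : leechLattice) (hu : sqNorm (u : GolayPt → ℤ) = 48) (hv : v ∈ vset u)
    (hx : x ∈ pts u v) :
    {y | y ∈ pts u v ∧ dotInt (x : GolayPt → ℤ) (y : GolayPt → ℤ) = 8}.ncard = 112 := by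
  obtain ⟨g, rfl, rfl, rfl⟩ := exists_map3 u v x hu hv hx
  rw [ncard_transport (g := g) (s := {y | y ∈ pts v48 vV ∧
      dotInt (vX : GolayPt → ℤ) (y : GolayPt → ℤ) = 8}) fun y => smul_mem_sub g v48 vV vX y 8,
    sub8_base, ncard_vecs LeechMcLData.cert112 kA_mem LeechMcLData.canon112,
    LeechMcLData.length112]

theorem ncard_sub16 (u v x : leechLattice) (hu : sqNorm (u : GolayPt → ℤ) = 48) (hv : v ∈ vset u)
    (hx : x ∈ pts u v) :
    {y | y ∈ pts u v ∧ y ≠ x ∧ dotInt (x : GolayPt → ℤ) (y : GolayPt → ℤ) = 16}.ncard = 162 := by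
  obtain ⟨g, rfl, rfl, rfl⟩ := exists_map3 u v x hu hv hx
  rw [ncard_transport (g := g) (s := {y | y ∈ pts v48 vV ∧ y ≠ vX ∧
      dotInt (vX : GolayPt → ℤ) (y : GolayPt → ℤ) = 16}) fun y => by
        simp only [Set.mem_ofPred_eq, smul_mem_pts, dot_smul, ne_eq, smul_left_cancel_iff],
    sub16_base, ncard_vecs LeechMcLData.cert162 kB_mem LeechMcLData.canon162,
    LeechMcLData.length162]

theorem rank_three (u v x : leechLattice) (hu : sqNorm (u : GolayPt → ℤ) = 48) (hv : v ∈ vset u)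
    (hx : x ∈ pts u v) (y y' : leechLattice) (hy : y ∈ pts u v) (hy' : y' ∈ pts u v)
    (hne : y ≠ x) (hne' : y' ≠ x)
    (hd : dotInt (x : GolayPt → ℤ) (y : GolayPt → ℤ) = dotInt (x : GolayPt → ℤ) (y' : GolayPt → ℤ)) :
    ∃ g : Co0, g • u = u ∧ g • v = v ∧ g • x = x ∧ g • y = y' := by
  obtain ⟨a, rfl, rfl, rfl⟩ := exists_map3 u v x hu hv hx
  obtain ⟨z, rfl⟩ : ∃ z, a • z = y := ⟨a⁻¹ • y, smul_inv_smul a y⟩
  obtain ⟨z', rfl⟩ : ∃ z', a • z' = y' := ⟨a⁻¹ • y', smul_inv_smul a y'⟩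
  rw [smul_mem_pts] at hy hy'
  rw [ne_eq, smul_left_cancel_iff] at hne hne'
  rw [dot_smul, dot_smul] at hd
  suffices ∃ h : Co0, (∀ f ∈ [kU, kV, kX], ∀ w : leechLattice, (w : GolayPt → ℤ) = Pk f → h • w = w) ∧
      h • z = z' by
    obtain ⟨h, hfix, hh⟩ := this
    refine ⟨a * h * a⁻¹, ?_, ?_, ?_, ?_⟩ <;> simp only [mul_smul, inv_smul_smul]
    · rw [hfix kU (by simp) v48 coe_v48]
    · rw [hfix kV (by simp) vV coe_vV]
    · rw [hfix kX (by simp) vX coe_vX]
    · rw [hh]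
  rcases dot_cases hy hne with h8 | h16
  · exact transitive_vecs LeechMcLData.cert112 kA_mem (sub8_base ▸ ⟨hy, h8⟩)
      (sub8_base ▸ ⟨hy', hd ▸ h8⟩)
  · exact transitive_vecs LeechMcLData.cert162 kB_mem (sub16_base ▸ ⟨hy, hne, h16⟩)
      (sub16_base ▸ ⟨hy', hne', hd ▸ h16⟩)

end CfsgLib.SmallGroups.LeechMcL
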