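import Cfsg.Agent.Lib.SmallGroups.LeechReach

/-!
# Certified orbits of small sets of lattice vectors

A vector with coordinates between -8 and 7 is stored as one natural number with one hexadecimal
digit per position.  An automorphism is given as a word in monomial maps and the non-monomial
involution; a set of vectors as a search tree in which every node records its predecessor, so that
one check by the kernel shows that all nodes lie in one orbit of the group fixing given vectors.
-/

set_option autoImplicit false
set_option maxRecDepth 10000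

namespace CfsgLib.SmallGroups.LeechOrbit

open Cfsg CfsgLib.SmallGroups.Golay CfsgLib.SmallGroups.GolayOctads CfsgLib.SmallGroups.M24Group
  CfsgLib.Sporadic CfsgLib.ThreeTransp
open scoped Pointwise

/-- The coordinate at position `i`. -/
def dig (n i : ℕ) : ℤ := ((n / 16 ^ i % 16 : ℕ) : ℤ) - 8

/-- The vector of a code number. -/
def Pk (n : ℕ) : GolayPt → ℤ := fun q => dig n (idx q)

/-- The code number of coordinates given by position. -/
def encK (f : ℕ → ℤ) : ℕ := (List.range 24).foldr (fun i acc => (f i + 8).toNat * 16 ^ i + acc) 0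

/-- The code number, if it represents the coordinates exactly. -/
def pack (f : ℕ → ℤ) : Option ℕ :=
  let n := encK f
  if (List.range 24).all (fun i => dig n i == f i) then some n else none

theorem pack_sound {f : ℕ → ℤ} {n : ℕ} (h : pack f = some n) (q : GolayPt) : Pk n q = f (idx q) := by
  simp only [pack] at h
  split_ifs at h with hc
  obtain rfl := Option.some.inj h
  have := List.all_eq_true.1 hc (idx q) (List.mem_range.2 (idx_lt q))
  exact beq_iff_eq.1 this

/-- A step of a word: a monomial map, given by the inverse table and a code word, or the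
non-monomial involution. -/
inductive Step : Type
  | mono (t s : List ℕ) (k : ℕ) : Step
  | xi : Step

/-- The positions of the tetrad of a position. -/
def blk (i : ℕ) : List ℕ :=
  [[0, 1, 2, 23], [0, 1, 2, 23], [0, 1, 2, 23], [3, 5, 14, 17], [4, 13, 16, 22], [3, 5, 14, 17],
    [6, 7, 19, 21], [6, 7, 19, 21], [8, 11, 12, 18], [9, 10, 15, 20], [9, 10, 15, 20],
    [8, 11, 12, 18], [8, 11, 12, 18], [4, 13, 16, 22], [3, 5, 14, 17], [9, 10, 15, 20],
    [4, 13, 16, 22], [3, 5, 14, 17], [8, 11, 12, 18], [6, 7, 19, 21], [9, 10, 15, 20],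
    [6, 7, 19, 21], [4, 13, 16, 22], [0, 1, 2, 23]].getD i []

/-- The sign of the involution on a position. -/
def xsgn (i : ℕ) : ℤ := if i = 0 || i = 1 || i = 2 || i = 23 then -1 else 1

/-- The coordinates of the image under a step. -/
def stepFun : Step → ℕ → ℕ → ℤ
  | .mono _ s k, n, i => if (enc k).testBit i then -dig n (s.getD i 0) else dig n (s.getD i 0)
  | .xi, n, i => xsgn i * (dig n i - ((blk i).map (dig n)).sum / 2)

/-- The image under a word, applied from the left end. -/
def run : List Step → ℕ → Option ℕ
  | [], n => some n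
  | s :: w, n => (pack (stepFun s n)).bind (run w)

/-- The step is a valid element. -/
def okStep : Step → Bool
  | .mono t s _ =>
    M24Orbits.okTbl t && (List.range 24).all fun i => decide (s.getD i 0 < 24) &&
      M24Orbits.tblNat t (s.getD i 0) == i
  | .xi => true

theorem blk_spec : ∀ p r : GolayPt,
    LeechXi.entry p r = xsgn (idx p) *
      ((if p = r then 2 else 0) - if (blk (idx p)).contains (idx r) then 1 else 0) := by
  decide +kernel

theorem blk_ok : ∀ p : GolayPt, (blk (idx p)).Nodup ∧ ∀ i ∈ blk (idx p), i < 24 := by decide +kernel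

theorem dbl_eq (n : ℕ) (p : GolayPt) :
    LeechXi.dblHom (Pk n) p =
      xsgn (idx p) * (2 * dig n (idx p) - ((blk (idx p)).map (dig n)).sum) := by
  show (∑ r, LeechXi.entry p r * Pk n r) = _
  simp only [blk_spec, Pk]
  have h1 : ∑ r, (if (blk (idx p)).contains (idx r) then dig n (idx r) else 0) =
      ((blk (idx p)).map (dig n)).sum := by
    rw [← List.sum_toFinset _ (blk_ok p).1, ← Finset.sum_filter]
    refine Finset.sum_bij (fun r _ => idx r) (fun r hr => ?_) (fun _ _ _ _ e => idx_injective e)
      (fun i hi => ?_) (fun _ _ => rfl)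
    · simpa using (Finset.mem_filter.1 hr).2
    · have hi' : i ∈ blk (idx p) := List.mem_toFinset.1 hi
      refine ⟨pt i, Finset.mem_filter.2 ⟨Finset.mem_univ _, ?_⟩, idx_pt ((blk_ok p).2 i hi')⟩
      rw [idx_pt ((blk_ok p).2 i hi')]
      simpa using hi'
  rw [← h1, mul_sub (xsgn (idx p)), Finset.mul_sum]
  have h2 : xsgn (idx p) * (2 * dig n (idx p)) =
      ∑ r, if p = r then xsgn (idx p) * (2 * dig n (idx r)) else 0 := by
    rw [Finset.sum_ite_eq, if_pos (Finset.mem_univ _)]
  rw [h2, ← Finset.sum_sub_distrib]
  refine Finset.sum_congr rfl fun r _ => ?_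
  split_ifs <;> ring

theorem step_sound {s : Step} (h : okStep s = true) :
    ∃ g : Co0, ∀ n m : ℕ, pack (stepFun s n) = some m → ∀ v : leechLattice,
      (v : GolayPt → ℤ) = Pk n → ((g • v : leechLattice) : GolayPt → ℤ) = Pk m := by
  cases s with
  | mono t s k =>
    simp only [okStep, Bool.and_eq_true, List.all_eq_true, List.mem_range, decide_eq_true_eq,
      beq_iff_eq] at h
    obtain ⟨σ, hσ, hidx⟩ := M24Orbits.exists_elt h.1
    refine ⟨LeechMonomial.mono (⟨σ, hσ⟩, ⟨toSet (enc k),
      by rw [← support₂_word]; exact LeechBasic.mem_supports_word (word_enc_mem k)⟩),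
      fun n m hm v hv => funext fun q => ?_⟩
    rw [pack_sound hm q, LeechMonomial.mono_apply, hv]
    have hs := h.2 (idx q) (idx_lt q)
    have e : idx (σ.symm q) = s.getD (idx q) 0 := by
      have : σ (pt (s.getD (idx q) 0)) = q := idx_injective (by rw [hidx, idx_pt hs.1, hs.2])
      conv_lhs => rw [← this, Equiv.symm_apply_apply, idx_pt hs.1]
    simp only [signedPerm, mem_toSet, stepFun, Pk, e]
  | xi =>
    refine ⟨LeechXi.xi, fun n m hm v hv => funext fun q => ?_⟩
    rw [pack_sound hm q]
    have h2 := congrFun (LeechXi.two_xi v) q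
    rw [hv, dbl_eq] at h2
    change (2 : ℤ) * ((LeechXi.xi • v : leechLattice) : GolayPt → ℤ) q = _ at h2
    simp only [stepFun]
    have hs : xsgn (idx q) = 1 ∨ xsgn (idx q) = -1 := by simp only [xsgn]; split <;> simp
    generalize ((blk (idx q)).map (dig n)).sum = B at h2 ⊢
    generalize dig n (idx q) = a at h2 ⊢
    rcases hs with e | e <;> rw [e] at h2 ⊢ <;> omega

theorem run_sound : ∀ {w : List Step}, w.all okStep = true →
    ∃ g : Co0, ∀ n m : ℕ, run w n = some m → ∀ v : leechLattice,
      (v : GolayPt → ℤ) = Pk n → ((g • v : leechLattice) : GolayPt → ℤ) = Pk m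
  | [], _ => ⟨1, fun n m h v hv => by
      rw [one_smul, hv]
      exact congrArg Pk (Option.some.inj h)⟩
  | s :: w, h => by
    rw [List.all_cons, Bool.and_eq_true] at h
    obtain ⟨g₁, hg₁⟩ := step_sound h.1
    obtain ⟨g₂, hg₂⟩ := run_sound h.2
    refine ⟨g₂ * g₁, fun n m hr v hv => ?_⟩
    simp only [run, Option.bind_eq_some_iff] at hr
    obtain ⟨k, hk, hkm⟩ := hr
    rw [mul_smul]
    exact hg₂ k m hkm _ (hg₁ n k hk v hv)

/-- All words are valid and fix all the vectors in `fix`. -/
def gensOK (gens : List (List Step)) (fix : List ℕ) : Bool :=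
  gens.all fun w => w.all okStep && fix.all fun f => run w f == some f

/-- A search tree of code numbers; a node records its depth and its predecessor. -/
inductive VTree : Type
  | leaf : VTree
  | node (key depth gen par : ℕ) (l r : VTree) : VTree

/-- The data at a key. -/
def VTree.find : VTree → ℕ → Option (ℕ × ℕ × ℕ)
  | .leaf, _ => none
  | .node k d g p l r, n => if n == k then some (d, g, p) else if n < k then l.find n else r.find n

/-- The keys in order. -/
def VTree.keys : VTree → List ℕ
  | .leaf => []
  | .node k _ _ _ l r => l.keys ++ k :: r.keys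

/-- Whether a key occurs. -/
def VTree.has (T : VTree) (n : ℕ) : Bool := (T.find n).isSome

theorem VTree.find_mem : ∀ (T : VTree) (n : ℕ), (T.find n).isSome = true → n ∈ T.keys
  | .leaf, n, h => by simp [VTree.find] at h
  | .node k d g p l r, n, h => by
    simp only [VTree.find] at h
    simp only [VTree.keys, List.mem_append, List.mem_cons]
    split_ifs at h with h1 h2
    · exact Or.inr (Or.inl (beq_iff_eq.1 h1))
    · exact Or.inl (VTree.find_mem l n h)
    · exact Or.inr (Or.inr (VTree.find_mem r n h))

/-- The edge into one node is right. -/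
def nodeOK (gens : List (List Step)) (root : ℕ) (T : VTree) (n : ℕ) : Bool :=
  match T.find n with
  | none => false
  | some (d, g, p) =>
    if n == root then d == 0
    else decide (g < gens.length) && run (gens.getD g []) p == some n &&
      match T.find p with
      | none => false
      | some (d', _, _) => decide (d' < d)

/-- The certificate that the nodes are in one orbit. -/
def cert (gens : List (List Step)) (fix : List ℕ) (root : ℕ) (T : VTree) : Bool :=
  gensOK gens fix && (T.keys.all fun n => nodeOK gens root T n) &&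
    decide (List.IsChain (· < ·) T.keys)

theorem keys_nodup {gens : List (List Step)} {fix : List ℕ} {root : ℕ} {T : VTree}
    (h : cert gens fix root T = true) : T.keys.Nodup := by
  simp only [cert, Bool.and_eq_true, decide_eq_true_eq] at h
  exact ((List.isChain_iff_pairwise).1 h.2).imp fun h => ne_of_lt h

/-- An element fixing `fix` carrying `root` to `n`. -/
theorem orbit_sound {gens : List (List Step)} {fix : List ℕ} {root : ℕ} {T : VTree}
    (h : cert gens fix root T = true) (r : leechLattice) (hr : (r : GolayPt → ℤ) = Pk root) {n : ℕ}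
    (hn : n ∈ T.keys) :
    ∃ g : Co0, (∀ f ∈ fix, ∀ v : leechLattice, (v : GolayPt → ℤ) = Pk f → g • v = v) ∧
      ((g • r : leechLattice) : GolayPt → ℤ) = Pk n := by
  simp only [cert, Bool.and_eq_true] at h
  obtain ⟨⟨hg, hall⟩, -⟩ := h
  suffices ∀ (D n : ℕ), n ∈ T.keys → (∀ x, T.find n = some x → x.1 ≤ D) →
      ∃ g : Co0, (∀ f ∈ fix, ∀ v : leechLattice, (v : GolayPt → ℤ) = Pk f → g • v = v) ∧
        ((g • r : leechLattice) : GolayPt → ℤ) = Pk n by
    cases hf : T.find n with
    | none => exact this 0 n hn fun x hx => by rw [hf] at hx; simp at hx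
    | some y => exact this y.1 n hn fun x hx => by rw [hf] at hx; exact (Option.some.inj hx) ▸ le_rfl
  intro D
  induction D with
  | zero =>
    intro n hn hD
    have hk := List.all_eq_true.1 hall n hn
    simp only [nodeOK] at hk
    cases hf : T.find n with
    | none => simp [hf] at hk
    | some x =>
      obtain ⟨d, g, p⟩ := x
      have hd : d ≤ 0 := hD _ hf
      simp only [hf] at hk
      by_cases he : n = root
      · subst he
        exact ⟨1, fun _ _ v _ => one_smul _ _, by rw [one_smul]; exact hr⟩
      · rw [if_neg (by simpa using he), Bool.and_eq_true] at hk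
        cases hf' : T.find p with
        | none => simp [hf'] at hk
        | some y =>
          simp only [hf', decide_eq_true_eq] at hk
          omega
  | succ D ih =>
    intro n hn hD
    have hk := List.all_eq_true.1 hall n hn
    simp only [nodeOK] at hk
    cases hf : T.find n with
    | none => simp [hf] at hk
    | some x =>
      obtain ⟨d, g, p⟩ := x
      have hd : d ≤ D + 1 := hD _ hf
      simp only [hf] at hk
      by_cases he : n = root
      · subst he
        exact ⟨1, fun _ _ v _ => one_smul _ _, by rw [one_smul]; exact hr⟩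
      · rw [if_neg (by simpa using he)] at hk
        simp only [Bool.and_eq_true, decide_eq_true_eq, beq_iff_eq] at hk
        obtain ⟨⟨hglt, hrun⟩, hp⟩ := hk
        cases hf' : T.find p with
        | none => simp [hf'] at hp
        | some y =>
          simp only [hf', decide_eq_true_eq] at hp
          have hpk : p ∈ T.keys := T.find_mem p (by rw [hf']; rfl)
          obtain ⟨a, ha, har⟩ := ih p hpk fun z hz => by
            rw [hf'] at hz
            obtain rfl := Option.some.inj hz
            omega
          have hw := List.all_eq_true.1 hg (gens.getD g []) (by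
            rw [List.getD_eq_getElem _ _ hglt]; exact List.getElem_mem hglt)
          rw [Bool.and_eq_true] at hw
          obtain ⟨b, hb⟩ := run_sound hw.1
          refine ⟨b * a, fun f hf v hv => ?_, ?_⟩
          · rw [mul_smul, ha f hf v hv]
            exact Subtype.ext ((hb f f (beq_iff_eq.1 (List.all_eq_true.1 hw.2 f hf)) v hv).trans hv.symm)
          · rw [mul_smul]
            exact hb p n hrun _ har

/-- All nodes are one orbit. -/
theorem transitive {gens : List (List Step)} {fix : List ℕ} {root : ℕ} {T : VTree}
    (h : cert gens fix root T = true) (hmem : Pk root ∈ leechLattice) {n n' : ℕ} (hn : n ∈ T.keys)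
    (hn' : n' ∈ T.keys) {x x' : leechLattice} (hx : (x : GolayPt → ℤ) = Pk n)
    (hx' : (x' : GolayPt → ℤ) = Pk n') :
    ∃ g : Co0, (∀ f ∈ fix, ∀ v : leechLattice, (v : GolayPt → ℤ) = Pk f → g • v = v) ∧ g • x = x' := by
  obtain ⟨a, ha, har⟩ := orbit_sound h ⟨_, hmem⟩ rfl hn
  obtain ⟨b, hb, hbr⟩ := orbit_sound h ⟨_, hmem⟩ rfl hn'
  have e1 : a • (⟨_, hmem⟩ : leechLattice) = x := Subtype.ext (har.trans hx.symm)
  have e2 : b • (⟨_, hmem⟩ : leechLattice) = x' := Subtype.ext (hbr.trans hx'.symm)
  refine ⟨b * a⁻¹, fun f hf v hv => ?_, ?_⟩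
  · rw [mul_smul, inv_smul_eq_iff.2 (ha f hf v hv).symm, hb f hf v hv]
  · rw [mul_smul, ← e1, inv_smul_smul, e2]

end CfsgLib.SmallGroups.LeechOrbit
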