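import Cfsg.Agent.Lib.SmallGroups.LeechTransitive
import Cfsg.Agent.Lib.SmallGroups.LeechCount
import Cfsg.Agent.Lib.Sporadic.LeechModTwo

/-!
# The order of the automorphism group of the lattice

The orbit of a coordinate vector consists of all vectors with square norm 64, and its stabiliser
consists of monomial maps.
-/

set_option autoImplicit false
set_option maxRecDepth 10000

namespace CfsgLib.SmallGroups.LeechOrder

open Cfsg CfsgLib.SmallGroups.Golay CfsgLib.SmallGroups.GolayOctads CfsgLib.SmallGroups.M24Group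
  CfsgLib.Sporadic
open scoped Pointwise

/-- The base coordinate vector. -/
noncomputable def base8 : leechLattice := LeechCenter.unitVec none

theorem coe_base8 : (base8 : GolayPt → ℤ) = Pi.single none 8 := rfl

theorem norm_base8 : sqNorm (base8 : GolayPt → ℤ) = 64 := by
  rw [coe_base8, sqNorm, Finset.sum_eq_single none (fun i _ hi => by simp [hi]) (by simp)]
  simp

theorem stdCross_subset : stdCross ⊆ cross (base8 : GolayPt → ℤ) := by
  rintro _ ⟨i, t, ht, rfl⟩
  have hmem : (Pi.single i t : GolayPt → ℤ) ∈ leechLattice := by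
    rcases ht with rfl | rfl
    · exact (LeechCenter.unitVec i).2
    · rw [Pi.single_neg]
      exact neg_mem (LeechCenter.unitVec i).2
  refine ⟨hmem, ?_, Pi.single none 4 - Pi.single i (t / 2), ?_, ?_⟩
  · rw [norm_base8, sqNorm, Finset.sum_eq_single i (fun j _ hj => by simp [hj]) (by simp)]
    rcases ht with rfl | rfl <;> simp
  · have hdvd : ∀ k, (4 : ℤ) ∣ (Pi.single none 4 - Pi.single i (t / 2) : GolayPt → ℤ) k := fun k => by
      simp only [Pi.sub_apply, Pi.single_apply]
      rcases ht with rfl | rfl <;> split_ifs <;> norm_num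
    refine LeechBasic.mem_lattice.2 ⟨0, fun k => ?_, ?_, ?_⟩
    · rw [Int.modEq_iff_dvd]
      have := hdvd k
      omega
    · simp only [Pi.sub_apply, Finset.sum_sub_distrib, Finset.sum_pi_single', Finset.mem_univ,
        if_true, Int.modEq_iff_dvd]
      rcases ht with rfl | rfl <;> norm_num
    · have : LeechBasic.wd (Pi.single none 4 - Pi.single i (t / 2) : GolayPt → ℤ) 0 = 0 := by
        funext k
        simp only [LeechBasic.wd, sub_zero, Pi.zero_apply]
        exact (LeechBasic.cast_half (dvd_trans (by norm_num) (hdvd k))).2 (hdvd k)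
      rw [this]
      exact zero_mem _
  · funext k
    simp only [coe_base8, Pi.sub_apply, Pi.smul_apply, Pi.single_apply, nsmul_eq_mul, Nat.cast_ofNat]
    rcases ht with rfl | rfl <;> split_ifs <;> norm_num

theorem ncard_stdCross : stdCross.ncard = 48 := by
  have e : stdCross = ↑((Finset.univ ×ˢ ({8, -8} : Finset ℤ)).image
      fun p : GolayPt × ℤ => (Pi.single p.1 p.2 : GolayPt → ℤ)) := by
    ext y
    simp only [stdCross, Set.mem_ofPred_eq, Finset.coe_image, Set.mem_image, Finset.mem_coe,
      Finset.mem_product, Finset.mem_univ, true_and, Finset.mem_insert, Finset.mem_singleton,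
      Prod.exists, eq_comm (a := y)]
  rw [e, Set.ncard_coe_finset, Finset.card_image_of_injOn, Finset.card_product, Finset.card_univ,
    card_golayPt]
  · rfl
  · rintro ⟨i, s⟩ hi ⟨j, t⟩ hj h
    simp only [Finset.mem_coe, Finset.mem_product, Finset.mem_univ, true_and, Finset.mem_insert,
      Finset.mem_singleton] at hi hj
    have h1 := congrFun h i
    simp only [Pi.single_eq_same] at h1
    rcases eq_or_ne i j with rfl | hne
    · rw [Pi.single_eq_same] at h1
      rw [h1]
    · rw [Pi.single_eq_of_ne hne] at h1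
      omega

theorem cross_base8 : cross (base8 : GolayPt → ℤ) = stdCross := by
  have hc := LeechModTwo.cross_card base8.2 norm_base8
  refine (Set.eq_of_subset_of_ncard_le stdCross_subset (le_of_eq ?_) (Set.finite_of_ncard_pos ?_)).symm
  · rw [hc, ncard_stdCross]
  · rw [hc]; norm_num

theorem pres_of_fix {g : Co0} (hg : g • base8 = base8) : LeechMonomial.Pres g := by
  intro v hv
  rw [← cross_base8] at hv ⊢
  obtain ⟨-, hn, z, hz, e⟩ := hv
  let F : leechLattice →+ leechLattice := AddMonoidHom.mk' (g : Equiv.Perm leechLattice) g.2.1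
  refine ⟨SetLike.coe_mem _, (g.2.2 v).trans hn, _, (g • (⟨z, hz⟩ : leechLattice)).2, ?_⟩
  have e' : base8 - v = 2 • (⟨z, hz⟩ : leechLattice) := Subtype.ext e
  have := congrArg F e'
  rw [map_sub, map_nsmul, show F base8 = base8 from hg] at this
  exact congrArg (fun w : leechLattice => (w : GolayPt → ℤ)) this

theorem mono_fix_iff (p : M24 × LeechMonomial.CS) :
    LeechMonomial.mono p • base8 = base8 ↔
      (p.1 : Equiv.Perm GolayPt) none = none ∧ none ∉ (p.2 : Finset GolayPt) := by
  rw [Subtype.ext_iff, LeechMonomial.mono_apply, coe_base8, LeechMonomial.signedPerm_single]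
  constructor
  · intro h
    have h1 : (p.1 : Equiv.Perm GolayPt) none = none := by
      by_contra hne
      have := congrFun h none
      rw [Pi.single_eq_of_ne (Ne.symm hne), Pi.single_eq_same] at this
      omega
    refine ⟨h1, fun hc => ?_⟩
    have := congrFun h none
    rw [h1, if_pos hc, Pi.single_eq_same, Pi.single_eq_same] at this
    omega
  · rintro ⟨h1, h2⟩
    rw [h1, if_neg h2]

theorem card_half : Nat.card {c : LeechMonomial.CS // none ∉ (c : Finset GolayPt)} = 2048 := by
  have hcount : ((cw.filter fun n => !n.testBit 23).length) = 2048 := by decide +kernel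
  have e : Function.Bijective (fun n : (cw.filter fun n => !n.testBit 23).toFinset =>
      (⟨⟨toSet n, mem_supports.2 ⟨n, (List.mem_filter.1 (List.mem_toFinset.1 n.2)).1, rfl⟩⟩, fun h => by
        have h1 := (List.mem_filter.1 (List.mem_toFinset.1 n.2)).2
        rw [mem_toSet] at h
        simp only [Bool.not_eq_true'] at h1
        exact Bool.noConfusion (h1.symm.trans h)⟩ :
        {c : LeechMonomial.CS // none ∉ (c : Finset GolayPt)})) := by
    have hlt : ∀ n ∈ cw, n < 2 ^ 24 := fun n hn => by
      obtain ⟨k, hk, rfl⟩ := mem_cw.1 hn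
      exact (enc_lt k hk).1
    constructor
    · intro a b h
      exact Subtype.ext (toSet_inj (hlt _ (List.mem_filter.1 (List.mem_toFinset.1 a.2)).1)
        (hlt _ (List.mem_filter.1 (List.mem_toFinset.1 b.2)).1)
        (congrArg (fun c : {c : LeechMonomial.CS // none ∉ (c : Finset GolayPt)} =>
          ((c : LeechMonomial.CS) : Finset GolayPt)) h))
    · rintro ⟨⟨c, hc⟩, hn⟩
      obtain ⟨n, hn', rfl⟩ := mem_supports.1 hc
      refine ⟨⟨n, List.mem_toFinset.2 (List.mem_filter.2 ⟨hn', ?_⟩)⟩, rfl⟩
      rw [mem_toSet, M24Config.idx_none] at hn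
      simpa using hn
  rw [← Nat.card_eq_of_bijective _ e, Nat.card_eq_fintype_card, Fintype.card_coe,
    List.toFinset_card_of_nodup (cw_nodup.filter _), hcount]

theorem card_point : Nat.card {σ : M24 // (σ : Equiv.Perm GolayPt) none = none} = 10200960 := by
  have h := card_lev sgen_mem (le_refl M24) 1 (by norm_num)
  rw [← Nat.card_congr (Equiv.refl _)] at h
  refine Eq.trans (Nat.card_congr ?_) h
  exact
    { toFun := fun σ => ⟨σ.1, mem_lev.2 ⟨σ.1.2, fun j hj => by
        obtain rfl : j = 0 := by omega
        rw [M24Config.bpt_zero]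
        exact σ.2⟩⟩
      invFun := fun σ => ⟨⟨σ.1, (mem_lev.1 σ.2).1⟩, by
        have := (mem_lev.1 σ.2).2 0 (by norm_num)
        rwa [M24Config.bpt_zero] at this⟩
      left_inv := fun _ => rfl
      right_inv := fun _ => rfl }

theorem card_stabilizer : Nat.card (MulAction.stabilizer Co0 base8) = 20891566080 := by
  let Φ : {p : M24 × LeechMonomial.CS //
      (p.1 : Equiv.Perm GolayPt) none = none ∧ none ∉ (p.2 : Finset GolayPt)} →
      MulAction.stabilizer Co0 base8 := fun p => ⟨LeechMonomial.mono p.1, (mono_fix_iff _).2 p.2⟩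
  have hΦ : Function.Bijective Φ := by
    refine ⟨fun a b h => Subtype.ext (LeechMonomial.mono_injective (congrArg Subtype.val h)),
      fun g => ?_⟩
    obtain ⟨p, hp⟩ := LeechMonomial.exists_mono (pres_of_fix g.2)
    exact ⟨⟨p, (mono_fix_iff p).1 (hp.symm ▸ g.2)⟩, Subtype.ext hp⟩
  rw [← Nat.card_eq_of_bijective Φ hΦ,
    Nat.card_congr (Equiv.subtypeProdEquivProd
      (p := fun σ : M24 => (σ : Equiv.Perm GolayPt) none = none)
      (q := fun c : LeechMonomial.CS => none ∉ (c : Finset GolayPt))), Nat.card_prod, card_point,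
    card_half]

theorem ncard_orbit : (MulAction.orbit Co0 base8).ncard = 398034000 := by
  rw [← Set.ncard_image_of_injective _ Subtype.val_injective]
  have h := LeechCount.count (fun _ => true) 64 16 5 (by norm_num) (by norm_num) (by norm_num)
  have hc : LeechCount.parityCount (fun _ => true) 0 16 +
      LeechCount.parityCount (fun _ => true) 1 5 = 398034000 := by
    decide +kernel
  rw [← hc]
  refine Eq.trans (congrArg Set.ncard ?_) (by simpa using h)
  ext x
  simp only [Set.mem_image, MulAction.mem_orbit_iff, Set.mem_ofPred_eq]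
  constructor
  · rintro ⟨_, ⟨g, rfl⟩, rfl⟩
    exact ⟨SetLike.coe_mem _, (g.2.2 base8).trans norm_base8⟩
  · rintro ⟨hx, hn⟩
    obtain ⟨g, hg⟩ := LeechTransitive.transitive64 base8 ⟨x, hx⟩ norm_base8 hn
    exact ⟨_, ⟨g, rfl⟩, congrArg Subtype.val hg⟩

theorem card_Co0 : Nat.card Co0 = 8315553613086720000 := by
  rw [← (MulAction.stabilizer Co0 base8).index_mul_card, MulAction.index_stabilizer, ncard_orbit,
    card_stabilizer]

end CfsgLib.SmallGroups.LeechOrder
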