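import Cfsg.Agent.Lib.SmallGroups.LeechVectorStab
import Cfsg.Agent.Lib.SmallGroups.LeechCo3Data

/-!
# Pairs of minimal vectors below a vector of square norm 48

The minimal vectors `v` with `u - v` minimal form one orbit of 552 vectors of the stabiliser of `u`.
-/

set_option autoImplicit false
set_option maxRecDepth 10000

namespace CfsgLib.SmallGroups.LeechPairs

open Cfsg CfsgLib.SmallGroups.Golay CfsgLib.SmallGroups.LeechOrbit CfsgLib.SmallGroups.LeechEnum
  CfsgLib.SmallGroups.LeechLists CfsgLib.SmallGroups.LeechVectorStab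
open scoped Pointwise

/-- The code number of `(5, 1, ..., 1)`. -/
def kU : ℕ := 67343938137124686954512357785

/-- The code number of `(4, 4, 0, ..., 0)`. -/
def kV : ℕ := 62062060636173731114942761100

theorem key_facts : (∀ q, LeechReach.pv 1 [5] q = Pk kU q) ∧
    LeechReach.okGood 0 (Pk kV) = true ∧ dotK kU kV = 24 ∧ dotK kV kV = 32 := by
  decide +kernel

theorem coe_v48 : (v48 : GolayPt → ℤ) = Pk kU := funext key_facts.1

theorem kV_mem : Pk kV ∈ leechLattice :=
  LeechBasic.mem_lattice.2 (LeechReach.good_of_ok key_facts.2.1)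

/-- The lattice vector `(4, 4, 0, ..., 0)`. -/
noncomputable def vV : leechLattice := ⟨Pk kV, kV_mem⟩

theorem coe_vV : (vV : GolayPt → ℤ) = Pk kV := rfl

theorem sub_norm_iff (u v : leechLattice) (hu : sqNorm (u : GolayPt → ℤ) = 48)
    (hv : sqNorm (v : GolayPt → ℤ) = 32) :
    sqNorm ((u - v) : GolayPt → ℤ) = 32 ↔ dotInt (u : GolayPt → ℤ) (v : GolayPt → ℤ) = 24 := by
  rw [sqNorm_sub, hu, hv]
  omega

/-- The vectors completing `u` to a minimal triangle. -/
def vset (u : leechLattice) : Set leechLattice :=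
  {v | sqNorm (v : GolayPt → ℤ) = 32 ∧ sqNorm ((u - v) : GolayPt → ℤ) = 32}

theorem vset_base : vset v48 = vecs LeechCo3Data.tree552 := by
  ext v
  constructor
  · rintro ⟨hv, hs⟩
    have hd := (sub_norm_iff v48 v norm_v48 hv).1 hs
    exact cover LeechCo3Data.cover552.1 LeechCo3Data.cover552.2.1 LeechCo3Data.cover552.2.2
      (LeechBasic.mem_lattice.1 v.2) hv hd
  · intro hv
    have h1 := norm_of_mem LeechCo3Data.cert552 kV_mem hv key_facts.2.2.2
    refine ⟨h1, (sub_norm_iff v48 v norm_v48 h1).2 ?_⟩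
    exact dot_of_mem LeechCo3Data.cert552 kV_mem hv (List.mem_cons_self ..) coe_v48 key_facts.2.2.1

theorem vV_mem : vV ∈ vset v48 :=
  ⟨(sqNorm_eq _).trans ((dotK_eq _ _).trans key_facts.2.2.2), by
    rw [sub_norm_iff v48 vV norm_v48 ((sqNorm_eq _).trans ((dotK_eq _ _).trans key_facts.2.2.2)),
      coe_v48, coe_vV, dotK_eq, key_facts.2.2.1]⟩

theorem coe_smul_sub (g : Co0) (u v : leechLattice) :
    ((g • u : leechLattice) : GolayPt → ℤ) - ((g • v : leechLattice) : GolayPt → ℤ) =
      ((g • (u - v) : leechLattice) : GolayPt → ℤ) := by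
  rw [← AddSubgroup.coe_sub]
  exact congrArg Subtype.val
    (map_sub (AddMonoidHom.mk' (g : Equiv.Perm leechLattice) g.2.1) u v).symm

theorem smul_add' (g : Co0) (u v : leechLattice) : g • (u + v) = g • u + g • v := g.2.1 u v

theorem smul_mem_vset {g : Co0} {u v : leechLattice} (hv : v ∈ vset u) : g • v ∈ vset (g • u) := by
  refine ⟨(norm_smul g v).trans hv.1, ?_⟩
  rw [coe_smul_sub, norm_smul, AddSubgroup.coe_sub]
  exact hv.2

/-- Sets invariantly attached to base vectors are moved with them. -/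
theorem image_eq {α : Type*} {s t : Set α} (f f' : α → α) (hf : ∀ a ∈ s, f a ∈ t)
    (hf' : ∀ a ∈ t, f' a ∈ s) (h : ∀ a ∈ t, f (f' a) = a) : f '' s = t := by
  refine Set.Subset.antisymm ?_ fun a ha => ⟨f' a, hf' a ha, h a ha⟩
  rintro _ ⟨a, ha, rfl⟩
  exact hf a ha

theorem vset_smul (g : Co0) (u : leechLattice) : (g • ·) '' vset u = vset (g • u) :=
  image_eq _ (g⁻¹ • ·) (fun _ => smul_mem_vset)
    (fun a ha => by simpa using smul_mem_vset (g := g⁻¹) ha) fun a _ => smul_inv_smul g a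

theorem ncard_vset (u : leechLattice) (hu : sqNorm (u : GolayPt → ℤ) = 48) :
    (vset u).ncard = 552 := by
  obtain ⟨g, rfl⟩ := LeechTransitive.transitive48 v48 u norm_v48 hu
  rw [← vset_smul, Set.ncard_image_of_injective _ (MulAction.injective g), vset_base,
    ncard_vecs LeechCo3Data.cert552 kV_mem LeechCo3Data.canon552, LeechCo3Data.length552]

/-- Every such pair is the image of the base pair. -/
theorem exists_map (u v : leechLattice) (hu : sqNorm (u : GolayPt → ℤ) = 48) (hv : v ∈ vset u) :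
    ∃ g : Co0, g • v48 = u ∧ g • vV = v := by
  obtain ⟨a, rfl⟩ := LeechTransitive.transitive48 v48 u norm_v48 hu
  have h0 : a⁻¹ • v ∈ vecs LeechCo3Data.tree552 := by
    rw [← vset_base]
    simpa using smul_mem_vset (g := a⁻¹) hv
  obtain ⟨h, hfix, hh⟩ := transitive_vecs LeechCo3Data.cert552 kV_mem (vset_base ▸ vV_mem) h0
  refine ⟨a * h, ?_, ?_⟩
  · rw [mul_smul, hfix kU (List.mem_cons_self ..) v48 coe_v48]
  · rw [mul_smul, hh, smul_inv_smul]

theorem transitive_vset (u v v' : leechLattice) (hu : sqNorm (u : GolayPt → ℤ) = 48)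
    (hv : v ∈ vset u) (hv' : v' ∈ vset u) : ∃ g : Co0, g • u = u ∧ g • v = v' := by
  obtain ⟨a, ha1, ha2⟩ := exists_map u v hu hv
  obtain ⟨b, hb1, hb2⟩ := exists_map u v' hu hv'
  refine ⟨b * a⁻¹, ?_, ?_⟩
  · rw [mul_smul, inv_smul_eq_iff.2 ha1.symm, hb1]
  · rw [mul_smul, inv_smul_eq_iff.2 ha2.symm, hb2]

end CfsgLib.SmallGroups.LeechPairs
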