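import Cfsg.Agent.Lib.SmallGroups.LeechShapes

/-!
# The automorphism group of the lattice is transitive on short vectors

Every vector with square norm 32, 48 or 64 is moved by a monomial map to one of the standard
vectors, and these are connected by the non-monomial automorphism.
-/

set_option autoImplicit false
set_option maxRecDepth 10000

namespace CfsgLib.SmallGroups.LeechTransitive

open Cfsg CfsgLib.SmallGroups.Golay CfsgLib.SmallGroups.GolayOctads CfsgLib.SmallGroups.M24Group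
  CfsgLib.SmallGroups.LeechBasic CfsgLib.SmallGroups.LeechReach CfsgLib.SmallGroups.LeechShapes
  CfsgLib.Sporadic.M24Orbits CfsgLib.SmallGroups.Mathieu CfsgLib.ThreeTransp

/-- The vector with the given coordinates. -/
def vec (l : List ℤ) : GolayPt → ℤ := fun q => l.getD (idx q) 0

/-- A monomial map followed by the non-monomial automorphism carries `x` to `y`. -/
def stepOK (t s : List ℕ) (k : ℕ) (x y : GolayPt → ℤ) : Bool :=
  okTbl t && decide (k < 4096) && decide (∀ q, tblNat t (idx (tblFun s q)) = idx q) &&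
    decide (∀ q, LeechXi.dblHom
      (fun q => if (enc k).testBit (idx q) then -x (tblFun s q) else x (tblFun s q)) q = 2 * y q)

theorem reach_step {t s : List ℕ} {k : ℕ} {x y : GolayPt → ℤ} (h : stepOK t s k x y = true) :
    Reach x y := by
  simp only [stepOK, Bool.and_eq_true, decide_eq_true_eq] at h
  obtain ⟨⟨⟨ht, hk⟩, hs⟩, hy⟩ := h
  obtain ⟨g, hg, hidx⟩ := exists_elt ht
  refine (reach_mono hg (c := toSet (enc k))
    (by rw [← support₂_word]; exact mem_supports_word (word_enc_mem k)) rfl).trans (reach_xi ?_)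
  have e : ∀ q, g.symm q = tblFun s q := fun q => by
    rw [Equiv.symm_apply_eq]
    exact idx_injective ((hidx _).trans (hs q)).symm
  have e2 : signedPerm g (toSet (enc k)) x =
      fun q => if (enc k).testBit (idx q) then -x (tblFun s q) else x (tblFun s q) := by
    funext q
    simp only [signedPerm, mem_toSet, e]
  rw [e2]
  exact funext hy

/-! ### Recognising the standard classes -/

theorem recog32 {x : GolayPt → ℤ} (hx : Good x) (hN : sqNorm x = 32) (hev : x none % 2 = 0)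
    (hO : (Finset.univ.filter fun q => x q % 4 = 2).card = 8) : Reach x (sv octB 0 0 0) := by
  have h4 : ¬ ∀ q, (4 : ℤ) ∣ x q := fun h => by
    rw [Finset.filter_eq_empty_iff.2 fun q _ => by have := h q; omega, Finset.card_empty] at hO
    omega
  obtain ⟨O, A2, A3, hmem, -, -, -, hsh, hn, rfl, -⟩ := exists_shape hx (by omega) hev h4
  rw [hO] at hn
  obtain rfl : A2 = ∅ := Finset.card_eq_zero.1 (by omega)
  obtain rfl : A3 = ∅ := Finset.card_eq_zero.1 (by omega)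
  exact reach_octad ⟨hmem, hO⟩ hsh

theorem recog48 {x : GolayPt → ℤ} (hx : Good x) (hN : sqNorm x = 48) (hodd : x none % 2 = 1)
    (h5 : (Finset.univ.filter fun q => |x q| = 5).card = 0) : Reach x (pv 1 [-3, -3, -3]) := by
  obtain ⟨a, b, hab, hb, hr⟩ := reach_odd hx (Q := 3) (by rw [hN]; norm_num) (by norm_num) hodd
  obtain rfl : b = 0 := hb.trans h5
  obtain rfl : a = 3 := by omega
  exact hr

theorem recog64 {x : GolayPt → ℤ} (hx : Good x) (hN : sqNorm x = 64) (hev : x none % 2 = 0)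
    (hO : (Finset.univ.filter fun q => x q % 4 = 2).card = 8)
    (h6 : (Finset.univ.filter fun q => |x q| = 6).card = 0) : Reach x (sv octB 6 0 0) := by
  have h4 : ¬ ∀ q, (4 : ℤ) ∣ x q := fun h => by
    rw [Finset.filter_eq_empty_iff.2 fun q _ => by have := h q; omega, Finset.card_empty] at hO
    omega
  obtain ⟨O, A2, A3, hmem, -, hd, -, hsh, hn, rfl, rfl⟩ := exists_shape hx (by omega) hev h4
  rw [hO, h6] at hn
  rw [Finset.card_eq_zero.1 h6] at hsh
  exact reach_octad_out_two ⟨hmem, hO⟩ (by omega) hd hsh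

theorem recog64four {x : GolayPt → ℤ} (hN : sqNorm x = 64) (h4 : ∀ q, (4 : ℤ) ∣ x q)
    (h8 : (Finset.univ.filter fun q => |x q| = 8).card = 0) : Reach x (pv 0 [4, 4, 4, 4]) := by
  obtain ⟨a, b, hab, hb, hr⟩ := reach_four (by omega) h4
  obtain rfl : b = 0 := hb.trans h8
  obtain rfl : a = 4 := by omega
  exact hr

/-! ### The connections -/

theorem reach_a32 : Reach (pv 1 [-3]) (sv octB 0 0 0) :=
  (reach_step (t := [5, 3, 6, 1, 23, 22, 10, 11, 16, 2, 7, 19, 12, 17, 14, 0, 4, 15, 13, 21, 18, 9, 20, 8])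
    (s := [15, 3, 9, 1, 16, 0, 2, 10, 23, 21, 6, 7, 12, 18, 14, 17, 8, 13, 20, 11, 22, 19, 5, 4])
    (k := 1307) (y := vec [0, 0, -2, 0, 0, 2, 0, 0, 2, 2, 0, 0, -2, 2, 0, 0, 0, 0, -2, 0, 0, -2, 0, 0]) (by decide +kernel)).trans
    (recog32 (good_of_ok (m := 0) (by decide +kernel)) (by decide +kernel) (by decide +kernel) (by decide +kernel))

theorem reach_b32 : Reach (pv 0 [4, 4]) (sv octB 0 0 0) :=
  (reach_step (t := [5, 22, 19, 17, 13, 21, 10, 20, 12, 14, 6, 18, 15, 3, 4, 16, 7, 23, 8, 11, 2, 9, 1, 0])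
    (s := [23, 22, 20, 13, 14, 0, 10, 16, 18, 21, 6, 19, 8, 4, 9, 12, 15, 3, 11, 2, 7, 5, 1, 17])
    (k := 1247) (y := vec [2, -2, -2, -2, 0, 2, 0, 0, 0, 0, 0, 0, 0, 0, -2, 0, 0, -2, 0, 0, 0, 0, 0, -2]) (by decide +kernel)).trans
    (recog32 (good_of_ok (m := 0) (by decide +kernel)) (by decide +kernel) (by decide +kernel) (by decide +kernel))

theorem reach_b48 : Reach (pv 1 [5]) (pv 1 [-3, -3, -3]) :=
  (reach_step (t := [14, 22, 19, 2, 8, 13, 0, 10, 1, 5, 15, 6, 20, 18, 23, 4, 3, 17, 11, 21, 9, 12, 16, 7])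
    (s := [6, 8, 3, 16, 15, 9, 11, 23, 4, 20, 7, 18, 21, 5, 0, 10, 22, 17, 13, 2, 12, 19, 1, 14])
    (k := 890) (y := vec [-1, 1, -1, -1, -1, -1, -3, 3, -1, -1, 1, 1, -1, -1, 1, -1, 1, 1, 1, -1, 1, -3, 1, 1]) (by decide +kernel)).trans
    (recog48 (good_of_ok (m := 1) (by decide +kernel)) (by decide +kernel) (by decide +kernel) (by decide +kernel))

theorem reach_c48 : Reach (sv octB 2 0 1) (pv 1 [-3, -3, -3]) :=
  (reach_step (t := [14, 18, 5, 22, 6, 3, 17, 13, 4, 10, 7, 19, 12, 11, 0, 8, 2, 9, 16, 23, 15, 20, 1, 21])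
    (s := [14, 22, 16, 5, 8, 2, 4, 10, 15, 17, 9, 13, 12, 7, 0, 20, 18, 6, 1, 11, 21, 23, 3, 19])
    (k := 2431) (y := vec [-1, -1, -1, 1, 1, 1, 1, 1, -1, 1, -1, -1, -3, 1, -1, -1, -1, 1, 3, 1, -1, -1, 1, -3]) (by decide +kernel)).trans
    (recog48 (good_of_ok (m := 1) (by decide +kernel)) (by decide +kernel) (by decide +kernel) (by decide +kernel))

theorem reach_d48 : Reach (sv dodB 0 0 0) (pv 1 [-3, -3, -3]) :=
  (reach_step (t := [3, 5, 10, 12, 13, 22, 9, 21, 2, 18, 14, 19, 1, 4, 0, 23, 15, 17, 20, 8, 16, 11, 7, 6])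
    (s := [14, 12, 8, 0, 13, 1, 23, 22, 19, 6, 2, 21, 3, 4, 10, 16, 20, 17, 9, 11, 18, 7, 5, 15])
    (k := 114) (y := vec [-3, 1, -1, 1, -1, -3, -1, 1, -1, -1, -1, 1, -1, -1, -1, 1, 1, 1, -1, 1, -1, 1, 3, 1]) (by decide +kernel)).trans
    (recog48 (good_of_ok (m := 1) (by decide +kernel)) (by decide +kernel) (by decide +kernel) (by decide +kernel))

theorem reach_a64 : Reach (pv 1 [-3, -3, -3, -3, -3]) (sv octB 6 0 0) :=
  (reach_step (t := [10, 22, 11, 20, 3, 9, 21, 23, 4, 16, 6, 8, 15, 14, 0, 1, 2, 19, 17, 18, 13, 12, 7, 5])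
    (s := [14, 15, 16, 4, 8, 23, 10, 22, 11, 5, 0, 2, 21, 20, 13, 12, 9, 18, 19, 17, 3, 6, 1, 7])
    (k := 3569) (y := vec [-2, 0, 4, 0, 0, 2, 0, 0, 0, -2, 0, 0, 2, 2, -2, 0, 0, -2, 0, 2, -4, 0, 0, 0]) (by decide +kernel)).trans
    (recog64 (good_of_ok (m := 0) (by decide +kernel)) (by decide +kernel) (by decide +kernel) (by decide +kernel) (by decide +kernel))

theorem reach_b64 : Reach (pv 1 [-3, -3, 5]) (sv octB 6 0 0) :=
  (reach_step (t := [11, 6, 20, 16, 3, 13, 9, 8, 17, 14, 1, 10, 18, 21, 12, 22, 4, 15, 5, 0, 19, 23, 2, 7])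
    (s := [19, 10, 22, 4, 16, 18, 1, 23, 7, 6, 11, 0, 14, 5, 9, 17, 3, 8, 12, 20, 2, 13, 15, 21])
    (k := 1456) (y := vec [0, 0, 0, 2, 0, 0, 0, 2, 4, 2, 0, 2, 4, 0, 0, 0, 0, 0, 0, -2, 0, -2, 2, 2]) (by decide +kernel)).trans
    (recog64 (good_of_ok (m := 0) (by decide +kernel)) (by decide +kernel) (by decide +kernel) (by decide +kernel) (by decide +kernel))

theorem reach_c64 : Reach (pv 0 [4, 4, 4, 4]) (sv octB 6 0 0) :=
  (reach_step (t := [17, 7, 2, 12, 19, 1, 6, 21, 8, 11, 9, 14, 4, 5, 16, 22, 10, 23, 3, 18, 20, 13, 0, 15])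
    (s := [22, 5, 2, 18, 12, 13, 6, 1, 8, 10, 16, 9, 3, 21, 11, 23, 14, 0, 19, 4, 20, 7, 15, 17])
    (k := 2605) (y := vec [0, 0, 0, 2, 4, 2, 0, 0, 0, -2, -2, 0, 0, 0, 2, 2, -4, -2, 0, 0, -2, 0, 0, 0]) (by decide +kernel)).trans
    (recog64 (good_of_ok (m := 0) (by decide +kernel)) (by decide +kernel) (by decide +kernel) (by decide +kernel) (by decide +kernel))

theorem reach_f64 : Reach (sv octB 0 1 1) (sv octB 6 0 0) :=
  (reach_step (t := [8, 23, 4, 0, 7, 20, 6, 1, 2, 19, 15, 18, 5, 17, 12, 3, 9, 10, 14, 21, 13, 11, 16, 22])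
    (s := [3, 7, 8, 15, 2, 12, 6, 4, 0, 16, 17, 21, 14, 20, 18, 10, 22, 13, 11, 9, 5, 19, 23, 1])
    (k := 2493) (y := vec [0, 0, 0, 2, -2, 0, 0, 0, 4, 0, 0, -2, -4, -2, 0, -2, 0, 2, -2, 0, -2, 0, 0, 0]) (by decide +kernel)).trans
    (recog64 (good_of_ok (m := 0) (by decide +kernel)) (by decide +kernel) (by decide +kernel) (by decide +kernel) (by decide +kernel))

theorem reach_g64 : Reach (sv dodB 4 0 1) (sv octB 6 0 0) :=
  (reach_step (t := [16, 3, 15, 20, 19, 23, 8, 4, 2, 12, 14, 17, 6, 21, 1, 7, 10, 13, 11, 18, 0, 9, 22, 5])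
    (s := [20, 14, 8, 1, 7, 23, 12, 15, 6, 21, 16, 18, 9, 17, 10, 2, 0, 11, 19, 4, 3, 13, 22, 5])
    (k := 2308) (y := vec [2, 0, 2, 0, 2, 0, 0, 0, 0, 2, 2, 0, 0, 0, -2, -4, 0, -2, 0, -4, 0, 0, 2, 0]) (by decide +kernel)).trans
    (recog64 (good_of_ok (m := 0) (by decide +kernel)) (by decide +kernel) (by decide +kernel) (by decide +kernel) (by decide +kernel))

theorem reach_h64 : Reach (sv co16 0 0 0) (sv octB 6 0 0) :=
  (reach_step (t := [18, 8, 22, 20, 13, 15, 21, 10, 0, 14, 5, 1, 3, 11, 7, 2, 16, 6, 17, 9, 23, 19, 12, 4])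
    (s := [8, 11, 15, 12, 23, 10, 17, 14, 1, 19, 7, 13, 22, 4, 9, 5, 16, 18, 0, 21, 3, 6, 2, 20])
    (k := 4027) (y := vec [0, 0, -4, 0, 0, -2, -2, -2, 0, 0, 0, 0, 2, 2, 2, 0, 0, 0, 2, 0, 4, 0, -2, 0]) (by decide +kernel)).trans
    (recog64 (good_of_ok (m := 0) (by decide +kernel)) (by decide +kernel) (by decide +kernel) (by decide +kernel) (by decide +kernel))

theorem reach_i64 : Reach (sv co16 0 0 (2 + 4)) (sv octB 6 0 0) :=
  (reach_step (t := [22, 17, 3, 1, 12, 0, 2, 9, 11, 10, 14, 13, 7, 16, 4, 21, 20, 18, 6, 5, 23, 19, 15, 8])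
    (s := [5, 3, 6, 2, 14, 19, 18, 12, 23, 7, 9, 8, 4, 11, 10, 22, 13, 1, 17, 21, 16, 15, 0, 20])
    (k := 1233) (y := vec [4, 0, 0, -4, 2, 0, 0, 0, -2, 2, -2, 0, 0, 0, 0, 0, 0, 0, -2, -2, 0, 2, 2, 0]) (by decide +kernel)).trans
    (recog64 (good_of_ok (m := 0) (by decide +kernel)) (by decide +kernel) (by decide +kernel) (by decide +kernel) (by decide +kernel))

theorem reach_z64 : Reach (pv 0 [8]) (pv 0 [4, 4, 4, 4]) :=
  (reach_step (t := [9, 6, 8, 3, 18, 7, 11, 12, 2, 10, 22, 5, 23, 0, 4, 20, 15, 19, 16, 13, 17, 14, 21, 1])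
    (s := [13, 23, 8, 3, 14, 11, 1, 5, 2, 0, 9, 6, 7, 19, 21, 16, 18, 20, 4, 17, 15, 22, 10, 12])
    (k := 905) (y := vec [4, -4, 4, 0, 0, 0, 0, 0, 0, 0, 0, 0, 0, 0, 0, 0, 0, 0, 0, 0, 0, 0, 0, 4]) (by decide +kernel)).trans
    (recog64four (by decide +kernel) (by decide +kernel) (by decide +kernel))

/-! ### Transitivity -/

theorem reach32 {x : GolayPt → ℤ} (hx : Good x) (hN : sqNorm x = 32) : Reach x (sv octB 0 0 0) := by
  by_cases hodd : x none % 2 = 1
  · obtain ⟨a, b, hab, -, hr⟩ := reach_odd hx (Q := 1) (by rw [hN]; norm_num) (by norm_num) hodd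
    obtain rfl : b = 0 := by omega
    obtain rfl : a = 1 := by omega
    exact hr.trans reach_a32
  by_cases h4 : ∀ q, (4 : ℤ) ∣ x q
  · obtain ⟨a, b, hab, -, hr⟩ := reach_four (by omega) h4
    obtain rfl : b = 0 := by omega
    obtain rfl : a = 2 := by omega
    exact hr.trans reach_b32
  obtain ⟨O, A2, A3, hmem, hc, -, -, hsh, hn, -, -⟩ := exists_shape hx (by omega) (by omega) h4
  obtain rfl : A2 = ∅ := Finset.card_eq_zero.1 (by omega)
  obtain rfl : A3 = ∅ := Finset.card_eq_zero.1 (by omega)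
  exact reach_octad ⟨hmem, by simp only [Finset.card_empty] at hn; omega⟩ hsh

theorem even_of_four {x : GolayPt → ℤ} (hx : Good x) (h : ∀ q, (4 : ℤ) ∣ x q) :
    (32 : ℤ) ∣ sqNorm x := by
  obtain ⟨m, h1, h2, -⟩ := hx
  choose z hz using h
  have hm : (2 : ℤ) ∣ m := by have := (h1 none).dvd; have := hz none; omega
  have e1 : sqNorm x = 16 * ∑ q, z q ^ 2 := by
    rw [sqNorm, Finset.mul_sum]
    exact Finset.sum_congr rfl fun q _ => by rw [hz q]; ring
  have e2 : ∑ q, x q = 4 * ∑ q, z q := by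
    rw [Finset.mul_sum]
    exact Finset.sum_congr rfl fun q _ => hz q
  have e3 : (2 : ℤ) ∣ ∑ q, z q ^ 2 - ∑ q, z q := by
    rw [← Finset.sum_sub_distrib]
    refine Finset.dvd_sum fun q _ => ?_
    rw [show z q ^ 2 - z q = (z q - 1) * z q by ring]
    exact ((Int.even_mul_pred_self (z q)).two_dvd).trans (dvd_of_eq (mul_comm _ _))
  have := h2.dvd
  omega

theorem reach48 {x : GolayPt → ℤ} (hx : Good x) (hN : sqNorm x = 48) :
    Reach x (pv 1 [-3, -3, -3]) := by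
  by_cases hodd : x none % 2 = 1
  · obtain ⟨a, b, hab, -, hr⟩ := reach_odd hx (Q := 3) (by rw [hN]; norm_num) (by norm_num) hodd
    rcases (show a = 3 ∧ b = 0 ∨ a = 0 ∧ b = 1 by omega) with ⟨rfl, rfl⟩ | ⟨rfl, rfl⟩
    · exact hr
    · exact hr.trans reach_b48
  by_cases h4 : ∀ q, (4 : ℤ) ∣ x q
  · have := even_of_four hx h4
    omega
  obtain ⟨O, A2, A3, hmem, hc, hd, -, hsh, hn, -, -⟩ := exists_shape hx (by omega) (by omega) h4
  obtain rfl : A3 = ∅ := Finset.card_eq_zero.1 (by omega)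
  rw [Finset.card_empty] at hn
  rcases (show O.card = 8 ∧ A2.card = 1 ∨ O.card = 12 ∧ A2.card = 0 by omega) with ⟨h8, h1⟩ | ⟨h12, h0⟩
  · exact (reach_octad_out_one ⟨hmem, h8⟩ h1 hd hsh).trans reach_c48
  · obtain rfl := Finset.card_eq_zero.1 h0
    exact (reach_dodecad ⟨hmem, h12⟩ hsh).trans reach_d48

theorem reach64 {x : GolayPt → ℤ} (hx : Good x) (hN : sqNorm x = 64) :
    Reach x (sv octB 6 0 0) := by
  by_cases hodd : x none % 2 = 1
  · obtain ⟨a, b, hab, -, hr⟩ := reach_odd hx (Q := 5) (by rw [hN]; norm_num) (by norm_num) hodd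
    rcases (show a = 5 ∧ b = 0 ∨ a = 2 ∧ b = 1 by omega) with ⟨rfl, rfl⟩ | ⟨rfl, rfl⟩
    · exact hr.trans reach_a64
    · exact hr.trans reach_b64
  by_cases h4 : ∀ q, (4 : ℤ) ∣ x q
  · obtain ⟨a, b, hab, -, hr⟩ := reach_four (by omega) h4
    rcases (show a = 4 ∧ b = 0 ∨ a = 0 ∧ b = 1 by omega) with ⟨rfl, rfl⟩ | ⟨rfl, rfl⟩
    · exact hr.trans reach_c64
    · exact (hr.trans reach_z64).trans reach_c64
  obtain ⟨O, A2, A3, hmem, hc, hd, hs, hsh, hn, -, -⟩ := exists_shape hx (by omega) (by omega) h4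
  rcases (show O.card = 8 ∧ A2.card = 2 ∧ A3.card = 0 ∨ O.card = 8 ∧ A2.card = 0 ∧ A3.card = 1 ∨
      O.card = 12 ∧ A2.card = 1 ∧ A3.card = 0 ∨ O.card = 16 ∧ A2.card = 0 ∧ A3.card = 0 by omega)
    with ⟨h, h2, h3⟩ | ⟨h, h2, h3⟩ | ⟨h, h2, h3⟩ | ⟨h, h2, h3⟩
  · obtain rfl := Finset.card_eq_zero.1 h3
    exact reach_octad_out_two ⟨hmem, h⟩ h2 hd hsh
  · obtain rfl := Finset.card_eq_zero.1 h2
    exact (reach_octad_in_one ⟨hmem, h⟩ h3 hs hsh).trans reach_f64
  · obtain rfl := Finset.card_eq_zero.1 h3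
    exact (reach_dodecad_out_one ⟨hmem, h⟩ h2 hd hsh).trans reach_g64
  · obtain rfl := Finset.card_eq_zero.1 h2
    obtain rfl := Finset.card_eq_zero.1 h3
    rcases reach_sixteen hx (octad_of_compl hmem h) hsh with hr | hr
    · exact hr.trans reach_h64
    · exact hr.trans reach_i64

/-- Two vectors that reach a common vector are in one orbit. -/
theorem exists_smul {v w : leechLattice} {T : GolayPt → ℤ} (hv : Reach (v : GolayPt → ℤ) T)
    (hw : Reach (w : GolayPt → ℤ) T) : ∃ g : Co0, g • v = w := by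
  obtain ⟨g, -, hg⟩ := (hv.trans (hw.symm w.2)) v.2
  exact ⟨g, Subtype.ext hg⟩

theorem transitive32 (v w : leechLattice) (hv : sqNorm (v : GolayPt → ℤ) = 32)
    (hw : sqNorm (w : GolayPt → ℤ) = 32) : ∃ g : Co0, g • v = w :=
  exists_smul (reach32 (mem_lattice.1 v.2) hv) (reach32 (mem_lattice.1 w.2) hw)

theorem transitive48 (v w : leechLattice) (hv : sqNorm (v : GolayPt → ℤ) = 48)
    (hw : sqNorm (w : GolayPt → ℤ) = 48) : ∃ g : Co0, g • v = w :=
  exists_smul (reach48 (mem_lattice.1 v.2) hv) (reach48 (mem_lattice.1 w.2) hw)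

theorem transitive64 (v w : leechLattice) (hv : sqNorm (v : GolayPt → ℤ) = 64)
    (hw : sqNorm (w : GolayPt → ℤ) = 64) : ∃ g : Co0, g • v = w :=
  exists_smul (reach64 (mem_lattice.1 v.2) hv) (reach64 (mem_lattice.1 w.2) hw)

end CfsgLib.SmallGroups.LeechTransitive
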