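import Cfsg.Agent.Lib.SmallGroups.LeechPairs
import Cfsg.Agent.Lib.SmallGroups.CoprimeFixed

/-!
# Joint stabilisers of `(5, 1, ..., 1)` and a vector with two fours

Such a group contains the permutations fixing two points; the normaliser of an element of order 11
lies among them, so a proper normal subgroup is acted on by it without fixed points.
-/

set_option autoImplicit false
set_option maxRecDepth 10000

namespace CfsgLib.SmallGroups.LeechTwoPoint

open Cfsg CfsgLib.SmallGroups.Golay CfsgLib.SmallGroups.GolayOctads CfsgLib.SmallGroups.M24Group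
  CfsgLib.SmallGroups.LeechReach CfsgLib.SmallGroups.LeechVectorStab CfsgLib.Sporadic
open scoped Pointwise

/-- The second point. -/
abbrev pb : GolayPt := some 0

/-- `w` has the values `4` and `s` on the two points and vanishes elsewhere. -/
def Two (w : leechLattice) (s : ℤ) : Prop :=
  (s = 4 ∨ s = -4) ∧ (w : GolayPt → ℤ) none = 4 ∧ (w : GolayPt → ℤ) pb = s ∧
    ∀ q, q ≠ none → q ≠ pb → (w : GolayPt → ℤ) q = 0

/-- The joint stabiliser. -/
noncomputable abbrev G2 (w : leechLattice) : Subgroup Co0 :=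
  MulAction.stabilizer Co0 v48 ⊓ MulAction.stabilizer Co0 w

/-- The permutations fixing the two points. -/
abbrev T2 : Subgroup M24 :=
  MulAction.stabilizer M24 (none : GolayPt) ⊓ MulAction.stabilizer M24 pb

theorem pb_ne : pb ≠ none := by decide +kernel

variable {w : leechLattice} {s : ℤ}

theorem mono_fixes_w (hw : Two w s) (σ : T2) :
    LeechMonomial.mono ((σ : M24), ⟨∅, empty_mem_CS⟩) • w = w := by
  refine Subtype.ext (funext fun q => ?_)
  rw [LeechMonomial.mono_apply]
  simp only [signedPerm, Finset.notMem_empty, if_false]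
  have ha : ((σ : M24) : Equiv.Perm GolayPt) none = none := σ.2.1
  have hb : ((σ : M24) : Equiv.Perm GolayPt) pb = pb := σ.2.2
  rcases eq_or_ne q none with rfl | hqa
  · rw [show ((σ : M24) : Equiv.Perm GolayPt).symm none = none by rw [Equiv.symm_apply_eq, ha]]
  rcases eq_or_ne q pb with rfl | hqb
  · rw [show ((σ : M24) : Equiv.Perm GolayPt).symm pb = pb by rw [Equiv.symm_apply_eq, hb]]
  rw [hw.2.2.2 q hqa hqb, hw.2.2.2]
  · intro e; rw [Equiv.symm_apply_eq, ha] at e; exact hqa e
  · intro e; rw [Equiv.symm_apply_eq, hb] at e; exact hqb e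

/-- The permutations inside the joint stabiliser. -/
noncomputable def permHom2 (hw : Two w s) : T2 →* G2 w :=
  MonoidHom.mk' (fun σ => ⟨LeechMonomial.mono ((σ : M24), ⟨∅, empty_mem_CS⟩),
      mono_fixes (b := 5) (hb := odd_ok.2) ⟨(σ : M24), σ.2.1⟩, mono_fixes_w hw σ⟩)
    fun σ τ => by
      refine Subtype.ext (Subtype.ext (Equiv.ext fun v => Subtype.ext (funext fun q => ?_)))
      show signedPerm _ ∅ _ q = signedPerm _ ∅ (signedPerm _ ∅ _) q
      simp only [signedPerm, Finset.notMem_empty, if_false]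
      rfl

theorem permHom2_injective (hw : Two w s) : Function.Injective (permHom2 hw) := fun σ τ h => by
  have := congrArg Prod.fst (LeechMonomial.mono_injective (congrArg Subtype.val h))
  exact Subtype.ext this

theorem range_isSimple (hw : Two w s) : IsSimpleGroup (permHom2 hw).range :=
  have : IsSimpleGroup T2 := MathieuSimple.isSimple_M22 pb_ne.symm
  MathieuSimple.isSimpleGroup_congr' (MonoidHom.ofInjective (permHom2_injective hw))

theorem card_range (hw : Two w s) : Nat.card (permHom2 hw).range = 443520 := by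
  rw [← Nat.card_congr (MonoidHom.ofInjective (permHom2_injective hw)).toEquiv]
  exact MathieuSimple.card_stab_two pb_ne.symm

/-- The table of multiplication by two. -/
def dblTbl : List ℕ :=
  [0, 2, 4, 6, 8, 10, 12, 14, 16, 18, 20, 22, 1, 3, 5, 7, 9, 11, 13, 15, 17, 19, 21, 23]

theorem exists_dbl : ∃ σ : T2, ∀ q, idx (((σ : M24) : Equiv.Perm GolayPt) q) =
    M24Orbits.tblNat dblTbl (idx q) := by
  obtain ⟨g, hg, hidx⟩ := M24Orbits.exists_elt (show M24Orbits.okTbl dblTbl = true by decide +kernel)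
  refine ⟨⟨⟨g, hg⟩, idx_injective ?_, idx_injective ?_⟩, hidx⟩
  · exact (hidx none).trans (by decide +kernel)
  · exact (hidx pb).trans (by decide +kernel)

/-- Multiplication by two as an element fixing the two points. -/
noncomputable def dbl : T2 := exists_dbl.choose

theorem dbl_spec (q : GolayPt) :
    idx (((dbl : M24) : Equiv.Perm GolayPt) q) = M24Orbits.tblNat dblTbl (idx q) :=
  exists_dbl.choose_spec q

theorem orderOf_dbl : orderOf dbl = 11 := by
  have : Fact (Nat.Prime 11) := ⟨by norm_num⟩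
  refine orderOf_eq_prime ?_ ?_
  · have key : ∀ (n : ℕ) (q : GolayPt),
        idx ((((dbl ^ n : T2) : M24) : Equiv.Perm GolayPt) q) =
          (fun i => M24Orbits.tblNat dblTbl i)^[n] (idx q) := by
      intro n
      induction n with
      | zero => exact fun q => rfl
      | succ n ih =>
        intro q
        rw [pow_succ', Function.iterate_succ_apply']
        show idx (((dbl : M24) : Equiv.Perm GolayPt)
          ((((dbl ^ n : T2) : M24) : Equiv.Perm GolayPt) q)) = _
        rw [dbl_spec, ih]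
    refine Subtype.ext (Subtype.ext (Equiv.ext fun q => idx_injective ((key 11 q).trans ?_)))
    exact (by decide +kernel : ∀ q : GolayPt,
      (fun i => M24Orbits.tblNat dblTbl i)^[11] (idx q) = idx q) q
  · intro e
    have := dbl_spec (pt 1)
    rw [e] at this
    change idx (pt 1) = _ at this
    revert this
    decide +kernel

/-- Its element in the joint stabiliser. -/
noncomputable def elt11 (hw : Two w s) : G2 w := permHom2 hw dbl

/-- The positions of the squares. -/
def squares : List ℕ := [1, 2, 4, 8, 16, 9, 18, 13, 3, 6, 12]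

theorem orbit_lt : ∀ a ∈ [1, 5], ∀ k < 12, (fun i => M24Orbits.tblNat dblTbl i)^[k] a < 24 := by
  decide +kernel

theorem orbit_cover : ∀ q : GolayPt, q ≠ none → q ≠ pb → ((List.range 11).any fun k =>
    (fun i => M24Orbits.tblNat dblTbl i)^[k] (if idx q ∈ squares then 1 else 5) == idx q) = true := by
  decide +kernel

theorem split_of_fixed (hw : Two w s) {y : leechLattice}
    (h : ((elt11 hw : G2 w) : Co0) • y = y) (q : GolayPt) (hqa : q ≠ none) (hqb : q ≠ pb) :
    (y : GolayPt → ℤ) q =
      if idx q ∈ squares then (y : GolayPt → ℤ) (pt 1) else (y : GolayPt → ℤ) (pt 5) := by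
  have hstep : ∀ q, (y : GolayPt → ℤ) (((dbl : M24) : Equiv.Perm GolayPt) q) = (y : GolayPt → ℤ) q := by
    intro q
    have e := congrArg (fun v : leechLattice =>
      (v : GolayPt → ℤ) (((dbl : M24) : Equiv.Perm GolayPt) q)) h
    rw [show ((elt11 hw : G2 w) : Co0) = LeechMonomial.mono ((dbl : M24), ⟨∅, empty_mem_CS⟩) from rfl,
      LeechMonomial.mono_apply] at e
    simpa [signedPerm] using e.symm
  have hiter : ∀ a ∈ [1, 5], ∀ k : ℕ, k < 12 → (y : GolayPt → ℤ)
      (pt ((fun i => M24Orbits.tblNat dblTbl i)^[k] a)) = (y : GolayPt → ℤ) (pt a) := by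
    intro a ha k
    induction k with
    | zero => exact fun _ => rfl
    | succ k ih =>
      intro hk
      have e := hstep (pt ((fun i => M24Orbits.tblNat dblTbl i)^[k] a))
      rw [← pt_idx (((dbl : M24) : Equiv.Perm GolayPt) _), dbl_spec,
        idx_pt (orbit_lt a ha k (by omega))] at e
      rw [Function.iterate_succ_apply']
      exact e.trans (ih (by omega))
  obtain ⟨k, hk, hkq⟩ := List.any_eq_true.1 (orbit_cover q hqa hqb)
  rw [beq_iff_eq] at hkq
  have e := hiter (if idx q ∈ squares then 1 else 5) (by split <;> simp) k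
    (by rw [List.mem_range] at hk; omega)
  rw [hkq, pt_idx] at e
  rw [e]
  split <;> rfl

/-- An element fixing also `8` times a basis vector is one of the permutations. -/
theorem mem_range_of_fix (hw : Two w s) (g : G2 w)
    (h : (g : Co0) • LeechOrder.base8 = LeechOrder.base8) : g ∈ (permHom2 hw).range := by
  obtain ⟨⟨σ, c, hcmem⟩, hp⟩ := LeechMonomial.exists_mono (LeechOrder.pres_of_fix h)
  have h8 : LeechMonomial.mono (σ, ⟨c, hcmem⟩) • LeechOrder.base8 = LeechOrder.base8 := by
    rw [hp, h]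
  obtain ⟨hσ, hnc⟩ := (LeechOrder.mono_fix_iff _).1 h8
  obtain rfl : c = ∅ := by
    refine Finset.eq_empty_of_forall_notMem fun q hq => ?_
    rcases eq_or_ne q none with rfl | hqn
    · exact hnc hq
    have hv : LeechMonomial.mono (σ, ⟨c, hcmem⟩) • v48 = v48 := by rw [hp]; exact g.2.1
    have h := congrArg (fun v : leechLattice => (v : GolayPt → ℤ) q) hv
    simp only [LeechMonomial.mono_apply, signedPerm, if_pos hq, v48, oddVec_ne hqn] at h
    rw [oddVec_ne] at h
    · omega
    · intro e
      rw [Equiv.symm_apply_eq, hσ] at e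
      exact hqn e
  have hσb : (σ : Equiv.Perm GolayPt) pb = pb := by
    have hv : LeechMonomial.mono (σ, ⟨∅, hcmem⟩) • w = w := by rw [hp]; exact g.2.2
    have h := congrArg (fun v : leechLattice => (v : GolayPt → ℤ) pb) hv
    simp only [LeechMonomial.mono_apply, signedPerm, Finset.notMem_empty, if_false, hw.2.2.1] at h
    by_contra hne
    have h1 : (σ : Equiv.Perm GolayPt).symm pb ≠ none := fun e => by
      rw [Equiv.symm_apply_eq, hσ] at e
      exact pb_ne e
    have h2 : (σ : Equiv.Perm GolayPt).symm pb ≠ pb := fun e => by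
      rw [Equiv.symm_apply_eq] at e
      exact hne e.symm
    rw [hw.2.2.2 _ h1 h2] at h
    rcases hw.1 with rfl | rfl <;> omega
  exact ⟨⟨σ, hσ, hσb⟩, Subtype.ext hp⟩


theorem normalizer_le (hw : Two w s) :
    Subgroup.normalizer (Subgroup.zpowers (elt11 hw) : Set (G2 w)) ≤ (permHom2 hw).range := by
  intro g hg
  have hmem : g⁻¹ * elt11 hw * g ∈ Subgroup.zpowers (elt11 hw) := by
    have := (Subgroup.mem_normalizer_iff.1 (inv_mem hg) (elt11 hw)).1 (Subgroup.mem_zpowers _)
    simpa using this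
  have hfix8 : ∀ h ∈ Subgroup.zpowers (elt11 hw), (h : Co0) • LeechOrder.base8 = LeechOrder.base8 := by
    intro h hh
    obtain ⟨k, rfl⟩ := Subgroup.mem_zpowers_iff.1 hh
    have h1 : ((elt11 hw : G2 w) : Co0) ∈ MulAction.stabilizer Co0 LeechOrder.base8 :=
      (LeechOrder.mono_fix_iff _).2 ⟨dbl.2.1, Finset.notMem_empty _⟩
    rw [Subgroup.coe_zpow]
    exact zpow_mem h1 k
  set y := (g : Co0) • LeechOrder.base8 with hy
  have hys : ((elt11 hw : G2 w) : Co0) • y = y := by
    have h := hfix8 _ hmem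
    rw [Subgroup.coe_mul, Subgroup.coe_mul, Subgroup.coe_inv, mul_smul, mul_smul, inv_smul_eq_iff,
      ← hy] at h
    exact h
  -- the coordinates of `y` are determined by its norm and inner products
  set Y := (y : GolayPt → ℤ) with hY
  have hdot : ∀ x : leechLattice, (g : Co0) • x = x →
      dotInt (x : GolayPt → ℤ) Y = 8 * (x : GolayPt → ℤ) none := by
    intro x hx
    have h := LeechEnum.dot_smul (g : Co0) x LeechOrder.base8
    rw [hx, ← hy] at h
    rw [h, dotInt, Finset.sum_eq_single none (fun r _ hr => by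
      rw [LeechOrder.coe_base8, Pi.single_eq_of_ne hr, mul_zero]) (by simp), LeechOrder.coe_base8,
      Pi.single_eq_same, mul_comm]
  have hsum : ∀ F : GolayPt → ℤ, ∑ q, F q =
      F none + F pb + ∑ q ∈ (Finset.univ.erase none).erase pb, F q := fun F => by
    rw [add_assoc, Finset.add_sum_erase _ _ (Finset.mem_erase.2 ⟨pb_ne, Finset.mem_univ _⟩),
      Finset.add_sum_erase _ _ (Finset.mem_univ _)]
  have hrest : ∀ q ∈ (Finset.univ.erase (none : GolayPt)).erase pb, q ≠ none ∧ q ≠ pb := fun q hq => by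
    simp only [Finset.mem_erase, Finset.mem_univ, and_true] at hq
    exact ⟨hq.2, hq.1⟩
  have hn : Y none ^ 2 + Y pb ^ 2 + ∑ q ∈ (Finset.univ.erase (none : GolayPt)).erase pb, Y q ^ 2 = 64 := by
    rw [← hsum fun q => Y q ^ 2]
    exact ((g : Co0).2.2 _).trans LeechOrder.norm_base8
  have h48 : 5 * Y none + Y pb + ∑ q ∈ (Finset.univ.erase (none : GolayPt)).erase pb, Y q = 40 := by
    have h := hdot v48 g.2.1
    simp only [v48] at h
    rw [dotInt, hsum, oddVec_none, oddVec_ne pb_ne, one_mul, Finset.sum_congr rfl fun q hq => by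
      rw [oddVec_ne (hrest q hq).1, one_mul]] at h
    exact h
  have hW : 4 * Y none + s * Y pb = 32 := by
    have h := hdot w g.2.2
    rw [dotInt, hsum, hw.2.1, hw.2.2.1, Finset.sum_eq_zero fun q hq => by
      rw [hw.2.2.2 q (hrest q hq).1 (hrest q hq).2, zero_mul], add_zero] at h
    exact h
  have hclass : ∃ n1 n5 : ℕ, n1 + n5 = 22 ∧
      ∑ q ∈ (Finset.univ.erase (none : GolayPt)).erase pb, Y q = n1 * Y (pt 1) + n5 * Y (pt 5) ∧
      ∑ q ∈ (Finset.univ.erase (none : GolayPt)).erase pb, Y q ^ 2 =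
        n1 * Y (pt 1) ^ 2 + n5 * Y (pt 5) ^ 2 ∧ n1 = 11 := by
    classical
    have hsplit : ∀ q : GolayPt, q ≠ none → q ≠ pb →
        Y q = if idx q ∈ squares then Y (pt 1) else Y (pt 5) := split_of_fixed hw hys
    refine ⟨(((Finset.univ.erase (none : GolayPt)).erase pb).filter fun q => idx q ∈ squares).card,
      (((Finset.univ.erase (none : GolayPt)).erase pb).filter fun q => ¬ idx q ∈ squares).card, ?_, ?_, ?_,
      by decide +kernel⟩
    · decide +kernel
    · rw [Finset.sum_congr rfl fun q hq => hsplit q (hrest q hq).1 (hrest q hq).2, Finset.sum_ite,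
        Finset.sum_const, Finset.sum_const, nsmul_eq_mul, nsmul_eq_mul]
    · rw [Finset.sum_congr rfl fun q hq => by rw [hsplit q (hrest q hq).1 (hrest q hq).2, ite_pow],
        Finset.sum_ite, Finset.sum_const, Finset.sum_const, nsmul_eq_mul, nsmul_eq_mul]
  obtain ⟨n1, n5, h22, hs1, hs2, hn1⟩ := hclass
  rw [hs2] at hn
  rw [hs1] at h48
  obtain rfl : n1 = 11 := hn1
  obtain rfl : n5 = 11 := by omega
  push_cast at hn h48
  have ha8 : Y none = 8 ∧ Y pb = 0 := by
    have hb1 : Y none ^ 2 ≤ 64 := by nlinarith [sq_nonneg (Y pb), sq_nonneg (Y (pt 1)), sq_nonneg (Y (pt 5))]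
    have hb2 : Y pb ^ 2 ≤ 64 := by nlinarith [sq_nonneg (Y none), sq_nonneg (Y (pt 1)), sq_nonneg (Y (pt 5))]
    have h1 : -8 ≤ Y none := by nlinarith
    have h2 : Y none ≤ 8 := by nlinarith
    have h3 : -8 ≤ Y pb := by nlinarith
    have h4 : Y pb ≤ 8 := by nlinarith
    rcases hw.1 with rfl | rfl <;> omega
  have h15 : Y (pt 1) = 0 ∧ Y (pt 5) = 0 := by
    rw [ha8.1, ha8.2] at hn
    constructor <;> nlinarith [sq_nonneg (Y (pt 1)), sq_nonneg (Y (pt 5))]
  have hy8 : y = LeechOrder.base8 := by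
    refine Subtype.ext (funext fun q => ?_)
    rw [LeechOrder.coe_base8]
    rcases eq_or_ne q none with rfl | hqa
    · rw [Pi.single_eq_same]; exact ha8.1
    rw [Pi.single_eq_of_ne hqa]
    rcases eq_or_ne q pb with rfl | hqb
    · exact ha8.2
    refine (split_of_fixed hw hys q hqa hqb).trans ?_
    split
    · exact h15.1
    · exact h15.2
  exact mem_range_of_fix hw g hy8

/-- The alternative for normal subgroups. -/
theorem eq_top_or_mod (hw : Two w s) (hq2 : ¬ 11 ^ 2 ∣ Nat.card (G2 w)) (N : Subgroup (G2 w))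
    [N.Normal] : N = ⊤ ∨ ∀ p, p.Prime → p ^ (Nat.card N).factorization p % 11 = 1 := by
  have : Fact (Nat.Prime 11) := ⟨by norm_num⟩
  have : Finite Co0 := Nat.finite_of_card_ne_zero (by rw [LeechOrder.card_Co0]; norm_num)
  have := range_isSimple hw
  refine SelfNormalFixed.eq_top_or_mod hq2 ?_ _ (normalizer_le hw) N
  rw [elt11, orderOf_injective _ (permHom2_injective hw), orderOf_dbl]

/-- No normal subgroup has order 243. -/
theorem no_normal_243 (hw : Two w s) (N : Subgroup (G2 w)) [N.Normal] (hN : Nat.card N = 3 ^ 5) :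
    False := by
  have : Finite Co0 := Nat.finite_of_card_ne_zero (by rw [LeechOrder.card_Co0]; norm_num)
  have : Fact (Nat.Prime 7) := ⟨by norm_num⟩
  have hS := range_isSimple hw
  obtain ⟨t, ht⟩ := exists_prime_orderOf_dvd_card' (G := (permHom2 hw).range) 7
    (by rw [card_range hw]; norm_num)
  have ht7 : (t : G2 w) ^ 7 = 1 := by
    rw [← ht, ← Subgroup.orderOf_coe, pow_orderOf_eq_one]
  have htc := CoprimeFixed.commute_of_normal ht7 N (by rw [hN]; norm_num) fun p k hp hk i hi => by
    rw [hN] at hk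
    have hp3 : p = 3 := (Nat.prime_dvd_prime_iff_eq hp Nat.prime_three).1
      (hp.dvd_of_dvd_pow ((dvd_pow_self p (by omega : k ≠ 0)).trans hk))
    subst hp3
    have hk5 : k ≤ 5 := (Nat.pow_dvd_pow_iff_le_right (by norm_num)).1 hk
    interval_cases k <;> interval_cases i <;> decide
  have hC : (Subgroup.centralizer (N : Set (G2 w))).Normal := Subgroup.normal_centralizer
  have hle : (permHom2 hw).range ≤ Subgroup.centralizer (N : Set (G2 w)) := by
    rcases ((hC.subgroupOf (permHom2 hw).range)).eq_bot_or_eq_top with h | h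
    · have h1 : t ∈ (Subgroup.centralizer (N : Set (G2 w))).subgroupOf (permHom2 hw).range := htc
      rw [h, Subgroup.mem_bot] at h1
      rw [h1, orderOf_one] at ht
      norm_num at ht
    · exact Subgroup.subgroupOf_eq_top.1 h
  have hNle : N ≤ (permHom2 hw).range := fun n hn => normalizer_le hw
    ((Subgroup.centralizer_le_normalizer (s := (Subgroup.zpowers (elt11 hw) : Set (G2 w)))) (by
      rw [Subgroup.mem_centralizer_iff]
      intro y hy
      exact (Subgroup.mem_centralizer_iff.1
        (hle (Subgroup.zpowers_le.2 (show elt11 hw ∈ (permHom2 hw).range from ⟨dbl, rfl⟩) hy)) n hn).symm))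
  have hcard := Nat.card_congr (Subgroup.subgroupOfEquivOfLe hNle).toEquiv
  rw [hN] at hcard
  rcases ((inferInstance : (N.subgroupOf (permHom2 hw).range).Normal)).eq_bot_or_eq_top with h | h
  · rw [h, Subgroup.card_bot] at hcard
    norm_num at hcard
  · rw [h, Subgroup.card_top, card_range hw] at hcard
    norm_num at hcard

theorem prime_cases {n p e : ℕ} (hn : n ∣ 2 ^ 9 * 3 ^ 6 * 5 ^ 3 * 7 * 11) (hp : p.Prime) (he : 1 ≤ e)
    (hpe : p ^ e ∣ n) (hmod : p ^ e % 11 = 1) : p = 3 ∧ e = 5 := by
  have hp' : p = 2 ∨ p = 3 ∨ p = 5 ∨ p = 7 ∨ p = 11 := by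
    have h1 : p ∣ 2 ^ 9 * 3 ^ 6 * 5 ^ 3 * 7 * 11 :=
      ((dvd_pow_self p (by omega : e ≠ 0)).trans hpe).trans hn
    have q : ∀ r : ℕ, r.Prime → p ∣ r → p = r := fun r hr h => (Nat.prime_dvd_prime_iff_eq hp hr).1 h
    simp only [Nat.Prime.dvd_mul hp] at h1
    rcases h1 with (((h1 | h1) | h1) | h1) | h1
    · exact Or.inl (q 2 Nat.prime_two (hp.dvd_of_dvd_pow h1))
    · exact Or.inr (Or.inl (q 3 Nat.prime_three (hp.dvd_of_dvd_pow h1)))
    · exact Or.inr (Or.inr (Or.inl (q 5 Nat.prime_five (hp.dvd_of_dvd_pow h1))))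
    · exact Or.inr (Or.inr (Or.inr (Or.inl (q 7 (by norm_num) h1))))
    · exact Or.inr (Or.inr (Or.inr (Or.inr (q 11 (by norm_num) h1))))
  have hd := hpe.trans hn
  have he' : e ≤ 9 := by
    by_contra he'
    have h7 : p ^ 10 ∣ 2 ^ 9 * 3 ^ 6 * 5 ^ 3 * 7 * 11 := (pow_dvd_pow p (by omega)).trans hd
    rcases hp' with rfl | rfl | rfl | rfl | rfl <;> norm_num at h7
  rcases hp' with rfl | rfl | rfl | rfl | rfl <;> interval_cases e <;> simp_all

theorem isSimple (hw : Two w s) (hq2 : ¬ 11 ^ 2 ∣ Nat.card (G2 w))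
    (hcard : Nat.card (G2 w) ∣ 2 ^ 9 * 3 ^ 6 * 5 ^ 3 * 7 * 11) : IsSimpleGroup (G2 w) := by
  have : Finite Co0 := Nat.finite_of_card_ne_zero (by rw [LeechOrder.card_Co0]; norm_num)
  have : IsSimpleGroup T2 := MathieuSimple.isSimple_M22 pb_ne.symm
  have : Nontrivial (G2 w) := (permHom2_injective hw).nontrivial
  refine ⟨fun N hN => ?_⟩
  rcases eq_top_or_mod hw hq2 N with h | h
  · exact Or.inr h
  refine Or.inl (Subgroup.eq_bot_of_card_eq _ ?_)
  by_contra hne
  have hd : Nat.card N ∣ 2 ^ 9 * 3 ^ 6 * 5 ^ 3 * 7 * 11 :=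
    (Subgroup.card_subgroup_dvd_card N).trans hcard
  have h2 : ∀ p, p.Prime → p ∣ Nat.card N → p = 3 ∧ (Nat.card N).factorization p = 5 := by
    intro p hp hpd
    have hmod : p ^ (Nat.card N).factorization p % 11 = 1 := h p hp
    exact prime_cases hd hp ((hp.dvd_iff_one_le_factorization Nat.card_pos.ne').1 hpd)
      (Nat.ordProj_dvd _ p) hmod
  have hpow := Nat.eq_prime_pow_of_unique_prime_dvd Nat.card_pos.ne'
    fun {d} hd1 hd2 => (h2 d hd1 hd2).1
  obtain ⟨p, hp, hpd⟩ := Nat.exists_prime_and_dvd hne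
  have := (h2 p hp hpd).2
  rw [(h2 p hp hpd).1] at this
  refine no_normal_243 hw N ?_
  have e : (Nat.card N).primeFactorsList.length = (Nat.card N).factorization 3 := by
    conv_rhs => rw [hpow]
    rw [Nat.Prime.factorization_pow Nat.prime_three, Finsupp.single_eq_same]
  rw [hpow, e, this]

end CfsgLib.SmallGroups.LeechTwoPoint
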