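import Cfsg.Agent.Lib.SmallGroups.LeechGroup
import Cfsg.Agent.Lib.SmallGroups.SelfNormalFixed

/-!
# Stabilisers of vectors with square norm 32 and 48: order and a simple subgroup

The vectors `(b, 1, ..., 1)` with `b = -3, 5` are fixed by the coordinate permutations fixing a
point, and the normaliser of an element of order 23 in their stabiliser lies in that subgroup.
-/

set_option autoImplicit false
set_option maxRecDepth 10000

namespace CfsgLib.SmallGroups.LeechVectorStab

open Cfsg CfsgLib.SmallGroups.Golay CfsgLib.SmallGroups.GolayOctads CfsgLib.SmallGroups.M24Group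
  CfsgLib.SmallGroups.LeechReach CfsgLib.Sporadic
open scoped Pointwise

/-- The vector with one value `b` and all others `1`. -/
noncomputable def oddVec (b : ℤ) (h : okGood 1 (pv 1 [b]) = true) : leechLattice :=
  ⟨pv 1 [b], LeechBasic.mem_lattice.2 (good_of_ok h)⟩

theorem odd_ok : okGood 1 (pv 1 [-3]) = true ∧ okGood 1 (pv 1 [5]) = true := by decide +kernel

/-- The norm 32 vector. -/
noncomputable def v32 : leechLattice := oddVec (-3) odd_ok.1

/-- The norm 48 vector. -/
noncomputable def v48 : leechLattice := oddVec 5 odd_ok.2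

theorem norms : sqNorm (pv 1 [-3]) = 32 ∧ sqNorm (pv 1 [5]) = 48 := by decide +kernel

theorem norm_v32 : sqNorm (v32 : GolayPt → ℤ) = 32 := norms.1

theorem norm_v48 : sqNorm (v48 : GolayPt → ℤ) = 48 := norms.2

variable {b : ℤ} {hb : okGood 1 (pv 1 [b]) = true}

theorem oddVec_none : (oddVec b hb : GolayPt → ℤ) none = b := by
  have h : base.idxOf (idx (none : GolayPt)) = 0 := by decide +kernel
  show pv 1 [b] none = b
  rw [pv, h]
  rfl

theorem oddVec_ne {q : GolayPt} (hq : q ≠ none) : (oddVec b hb : GolayPt → ℤ) q = 1 := by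
  have h : ∀ q : GolayPt, q ≠ none → 1 ≤ base.idxOf (idx q) := by decide +kernel
  show pv 1 [b] q = 1
  rw [pv]
  rw [List.getD_eq_getElem?_getD, List.getElem?_eq_none (by simpa using h q hq)]
  rfl

theorem mono_fixes (σ : MulAction.stabilizer M24 (none : GolayPt)) :
    LeechMonomial.mono ((σ : M24), ⟨∅, empty_mem_CS⟩) • oddVec b hb = oddVec b hb := by
  refine Subtype.ext (funext fun q => ?_)
  rw [LeechMonomial.mono_apply]
  simp only [signedPerm, Finset.notMem_empty, if_false]
  have hσ : ((σ : M24) : Equiv.Perm GolayPt) none = none := σ.2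
  rcases eq_or_ne q none with rfl | hq
  · rw [show ((σ : M24) : Equiv.Perm GolayPt).symm none = none by
      rw [Equiv.symm_apply_eq, hσ]]
  · rw [oddVec_ne hq, oddVec_ne]
    intro e
    rw [Equiv.symm_apply_eq, hσ] at e
    exact hq e

/-- The coordinate permutations fixing the special point, inside the stabiliser. -/
noncomputable def permHom (b : ℤ) (hb : okGood 1 (pv 1 [b]) = true) :
    MulAction.stabilizer M24 (none : GolayPt) →* MulAction.stabilizer Co0 (oddVec b hb) :=
  MonoidHom.mk' (fun σ => ⟨LeechMonomial.mono ((σ : M24), ⟨∅, empty_mem_CS⟩), mono_fixes σ⟩)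
    fun σ τ => by
      refine Subtype.ext (Subtype.ext (Equiv.ext fun v => Subtype.ext (funext fun q => ?_)))
      show signedPerm _ ∅ _ q = signedPerm _ ∅ (signedPerm _ ∅ _) q
      simp only [signedPerm, Finset.notMem_empty, if_false]
      rfl

theorem permHom_injective : Function.Injective (permHom b hb) := fun σ τ h => by
  have := congrArg Prod.fst (LeechMonomial.mono_injective (congrArg Subtype.val h))
  exact Subtype.ext this

theorem range_isSimple : IsSimpleGroup (permHom b hb).range :=
  have : IsSimpleGroup (MulAction.stabilizer M24 (none : GolayPt)) := MathieuSimple.isSimple_M23 none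
  MathieuSimple.isSimpleGroup_congr' (MonoidHom.ofInjective permHom_injective)

/-- The cyclic shift. -/
noncomputable def shift : MulAction.stabilizer M24 (none : GolayPt) :=
  ⟨⟨sgen 0, sgen_mem 0⟩, by
    show sgen 0 none = none
    rw [sgen_apply]
    decide +kernel⟩

/-- Its element in the stabiliser. -/
noncomputable def elt23 (b : ℤ) (hb : okGood 1 (pv 1 [b]) = true) :
    MulAction.stabilizer Co0 (oddVec b hb) := permHom b hb shift

theorem orderOf_elt23 : orderOf (elt23 b hb) = 23 := by
  rw [elt23, orderOf_injective _ permHom_injective]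
  have : Fact (Nat.Prime 23) := ⟨by norm_num⟩
  refine orderOf_eq_prime ?_ ?_
  · refine Subtype.ext (Subtype.ext (Equiv.ext fun p => idx_injective ?_))
    show idx ((sgen 0 ^ 23 : Equiv.Perm GolayPt) p) = idx p
    rw [idx_pow]
    exact (by decide +kernel : ∀ p : GolayPt,
      (fun i => (sgenTbl 0).getD i 0)^[23] (idx p) = idx p) p
  · intro e
    have := congrArg (fun σ : MulAction.stabilizer M24 (none : GolayPt) =>
      ((σ : M24) : Equiv.Perm GolayPt) (pt 0)) e
    simp only [shift, sgen_apply] at this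
    revert this
    decide +kernel

/-- A vector fixed by the shift is constant off the special point. -/
theorem const_of_fixed {y : leechLattice}
    (h : ((elt23 b hb : MulAction.stabilizer Co0 (oddVec b hb)) : Co0) • y = y) :
    ∀ q ≠ none, (y : GolayPt → ℤ) q = (y : GolayPt → ℤ) (pt 0) := by
  have hstep : ∀ k, k + 1 < 23 → (y : GolayPt → ℤ) (pt (k + 1)) = (y : GolayPt → ℤ) (pt k) := by
    intro k hk
    have e := congrArg (fun v : leechLattice => (v : GolayPt → ℤ) (pt (k + 1))) h
    have hs : (sgen 0).symm (pt (k + 1)) = pt k := by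
      rw [Equiv.symm_apply_eq, sgen_apply]
      exact (by decide +kernel : ∀ k < 22, pt (k + 1) = sgenFun 0 (pt k)) k (by omega)
    rw [show ((elt23 b hb : MulAction.stabilizer Co0 (oddVec b hb)) : Co0) =
      LeechMonomial.mono ((shift : M24), ⟨∅, empty_mem_CS⟩) from rfl,
      LeechMonomial.mono_apply] at e
    simp only [signedPerm, Finset.notMem_empty, if_false, shift, hs] at e
    exact e.symm
  have hall : ∀ k < 23, (y : GolayPt → ℤ) (pt k) = (y : GolayPt → ℤ) (pt 0) := by
    intro k
    induction k with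
    | zero => exact fun _ => rfl
    | succ k ih => exact fun hk => (hstep k hk).trans (ih (by omega))
  intro q hq
  have hlt : ∀ q : GolayPt, q ≠ none → idx q < 23 := by decide +kernel
  rw [← pt_idx q]
  exact hall _ (hlt q hq)

theorem dot_base8 (v : leechLattice) :
    sqNorm ((v + LeechOrder.base8 : leechLattice) : GolayPt → ℤ) =
      sqNorm (v : GolayPt → ℤ) + 16 * (v : GolayPt → ℤ) none + 64 := by
  have e : ∀ q, ((v + LeechOrder.base8 : leechLattice) : GolayPt → ℤ) q ^ 2 =
      (v : GolayPt → ℤ) q ^ 2 + if q = none then 16 * (v : GolayPt → ℤ) none + 64 else 0 := fun q => by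
    rw [AddSubgroup.coe_add, Pi.add_apply, LeechOrder.coe_base8, Pi.single_apply]
    split_ifs with h
    · subst h; ring
    · ring
  rw [sqNorm, Finset.sum_congr rfl fun q _ => e q, Finset.sum_add_distrib, Finset.sum_ite_eq',
    if_pos (Finset.mem_univ _), ← sqNorm, add_assoc]

theorem normalizer_le (hbne : b ≠ 0) :
    Subgroup.normalizer (Subgroup.zpowers (elt23 b hb) : Set (MulAction.stabilizer Co0 (oddVec b hb))) ≤
      (permHom b hb).range := by
  intro g hg
  have hmem : g⁻¹ * elt23 b hb * g ∈ Subgroup.zpowers (elt23 b hb) := by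
    have := (Subgroup.mem_normalizer_iff.1 (inv_mem hg) (elt23 b hb)).1 (Subgroup.mem_zpowers _)
    simpa using this
  have hfix8 : ∀ h ∈ Subgroup.zpowers (elt23 b hb), (h : Co0) • LeechOrder.base8 = LeechOrder.base8 := by
    intro h hh
    obtain ⟨k, rfl⟩ := Subgroup.mem_zpowers_iff.1 hh
    have h1 : ((elt23 b hb : MulAction.stabilizer Co0 (oddVec b hb)) : Co0) ∈
        MulAction.stabilizer Co0 LeechOrder.base8 :=
      (LeechOrder.mono_fix_iff _).2 ⟨shift.2, Finset.notMem_empty _⟩
    rw [Subgroup.coe_zpow]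
    exact zpow_mem h1 k
  set y := (g : Co0) • LeechOrder.base8 with hy
  have hys : ((elt23 b hb : MulAction.stabilizer Co0 (oddVec b hb)) : Co0) • y = y := by
    have h := hfix8 _ hmem
    rw [Subgroup.coe_mul, Subgroup.coe_mul, Subgroup.coe_inv, mul_smul, mul_smul, inv_smul_eq_iff,
      ← hy] at h
    exact h
  have hc := const_of_fixed hys
  have hn : (y : GolayPt → ℤ) none ^ 2 + 23 * (y : GolayPt → ℤ) (pt 0) ^ 2 = 64 := by
    have h : sqNorm (y : GolayPt → ℤ) = 64 := ((g : Co0).2.2 _).trans LeechOrder.norm_base8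
    rw [sqNorm, ← Finset.add_sum_erase _ _ (Finset.mem_univ none), Finset.sum_congr rfl fun q hq =>
      show (y : GolayPt → ℤ) q ^ 2 = (y : GolayPt → ℤ) (pt 0) ^ 2 by rw [hc q (Finset.ne_of_mem_erase hq)],
      Finset.sum_const, Finset.card_erase_of_mem (Finset.mem_univ _), Finset.card_univ,
      card_golayPt, nsmul_eq_mul] at h
    exact h
  have ha : (y : GolayPt → ℤ) (pt 0) = 0 := by
    generalize (y : GolayPt → ℤ) none = s at hn
    generalize (y : GolayPt → ℤ) (pt 0) = t at hn ⊢
    have h1 : -1 ≤ t := by nlinarith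
    have h2 : t ≤ 1 := by nlinarith
    have h3 : -8 ≤ s := by nlinarith
    have h4 : s ≤ 8 := by nlinarith
    interval_cases t <;> interval_cases s <;> omega
  have hg8 : y = LeechOrder.base8 ∨ y = -LeechOrder.base8 := by
    rw [ha] at hn
    have hf : ((y : GolayPt → ℤ) none - 8) * ((y : GolayPt → ℤ) none + 8) = 0 := by
      linear_combination hn
    rcases mul_eq_zero.1 hf with h | h
    · refine Or.inl (Subtype.ext (funext fun q => ?_))
      rcases eq_or_ne q none with rfl | hq
      · rw [LeechOrder.coe_base8, Pi.single_eq_same]; omega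
      · rw [LeechOrder.coe_base8, Pi.single_eq_of_ne hq, hc q hq, ha]
    · refine Or.inr (Subtype.ext (funext fun q => ?_))
      rcases eq_or_ne q none with rfl | hq
      · rw [AddSubgroup.coe_neg, Pi.neg_apply, LeechOrder.coe_base8, Pi.single_eq_same]; omega
      · rw [AddSubgroup.coe_neg, Pi.neg_apply, LeechOrder.coe_base8, Pi.single_eq_of_ne hq, hc q hq,
          ha, neg_zero]
  have hpos : y = LeechOrder.base8 := by
    refine hg8.resolve_right fun hneg => ?_
    have hdot := dot_base8 (oddVec b hb)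
    have hgv : (g : Co0) • oddVec b hb = oddVec b hb := g.2
    have h1 : (g : Co0) • (oddVec b hb + LeechOrder.base8) = oddVec b hb - LeechOrder.base8 := by
      show ((g : Co0) : Equiv.Perm leechLattice) (_ + _) = _
      rw [(g : Co0).2.1, sub_eq_add_neg, ← hneg, hy]
      exact congrArg (· + _) hgv
    have h2 := (g : Co0).2.2 (oddVec b hb + LeechOrder.base8)
    rw [show ((g : Co0) : Equiv.Perm leechLattice) (oddVec b hb + LeechOrder.base8) =
      oddVec b hb - LeechOrder.base8 from h1, hdot] at h2
    have e : ∀ q, ((oddVec b hb - LeechOrder.base8 : leechLattice) : GolayPt → ℤ) q ^ 2 =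
        (oddVec b hb : GolayPt → ℤ) q ^ 2 +
          if q = none then -16 * (oddVec b hb : GolayPt → ℤ) none + 64 else 0 := fun q => by
      rw [AddSubgroup.coe_sub, Pi.sub_apply, LeechOrder.coe_base8, Pi.single_apply]
      split_ifs with h
      · subst h; ring
      · ring
    rw [sqNorm, Finset.sum_congr rfl fun q _ => e q, Finset.sum_add_distrib, Finset.sum_ite_eq',
      if_pos (Finset.mem_univ _), ← sqNorm, oddVec_none] at h2
    omega
  obtain ⟨⟨σ, c, hcmem⟩, hp⟩ := LeechMonomial.exists_mono (LeechOrder.pres_of_fix (hy ▸ hpos))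
  have h8 : LeechMonomial.mono (σ, ⟨c, hcmem⟩) • LeechOrder.base8 = LeechOrder.base8 := by
    rw [hp, ← hy, hpos]
  obtain ⟨hσ, hnc⟩ := (LeechOrder.mono_fix_iff _).1 h8
  obtain rfl : c = ∅ := by
    refine Finset.eq_empty_of_forall_notMem fun q hq => ?_
    rcases eq_or_ne q none with rfl | hqn
    · exact hnc hq
    have hv : LeechMonomial.mono (σ, ⟨c, hcmem⟩) • oddVec b hb = oddVec b hb := by rw [hp]; exact g.2
    have h := congrArg (fun v : leechLattice => (v : GolayPt → ℤ) q) hv
    simp only [LeechMonomial.mono_apply, signedPerm, if_pos hq, oddVec_ne hqn] at h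
    rw [oddVec_ne] at h
    · omega
    · intro e
      rw [Equiv.symm_apply_eq, hσ] at e
      exact hqn e
  exact ⟨⟨σ, hσ⟩, Subtype.ext hp⟩

/-- The alternative for normal subgroups of the stabiliser. -/
theorem eq_top_or_mod (hbne : b ≠ 0) (hq2 : ¬ 23 ^ 2 ∣ Nat.card (MulAction.stabilizer Co0 (oddVec b hb)))
    (N : Subgroup (MulAction.stabilizer Co0 (oddVec b hb))) [N.Normal] :
    N = ⊤ ∨ ∀ p, p.Prime → p ^ (Nat.card N).factorization p % 23 = 1 := by
  have : Fact (Nat.Prime 23) := ⟨by norm_num⟩
  have : Finite Co0 := Nat.finite_of_card_ne_zero (by rw [LeechOrder.card_Co0]; norm_num)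
  have := range_isSimple (b := b) (hb := hb)
  exact SelfNormalFixed.eq_top_or_mod hq2 orderOf_elt23 _ (normalizer_le hbne) N

theorem card_stab_mul {n : ℤ} {k : ℕ} (v : leechLattice) (hv : sqNorm (v : GolayPt → ℤ) = n)
    (ht : ∀ w : leechLattice, sqNorm (w : GolayPt → ℤ) = n → ∃ g : Co0, g • v = w)
    (hk : {x : GolayPt → ℤ | x ∈ leechLattice ∧ sqNorm x = n}.ncard = k) :
    k * Nat.card (MulAction.stabilizer Co0 v) = 8315553613086720000 := by
  rw [← LeechOrder.card_Co0, ← (MulAction.stabilizer Co0 v).index_mul_card,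
    MulAction.index_stabilizer, ← hk]
  congr 1
  rw [← Set.ncard_image_of_injective (MulAction.orbit Co0 v) Subtype.val_injective]
  congr 1
  ext x
  simp only [Set.mem_image, MulAction.mem_orbit_iff, Set.mem_ofPred_eq]
  constructor
  · rintro ⟨hx, hn⟩
    obtain ⟨g, hg⟩ := ht ⟨x, hx⟩ hn
    exact ⟨_, ⟨g, rfl⟩, congrArg Subtype.val hg⟩
  · rintro ⟨_, ⟨g, rfl⟩, rfl⟩
    exact ⟨SetLike.coe_mem _, (g.2.2 v).trans hv⟩

end CfsgLib.SmallGroups.LeechVectorStab
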