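import Cfsg.Agent.Lib.SmallGroups.TwoClass
import Cfsg.Agent.Lib.SmallGroups.LocalTools

/-!
# The simple group of order 504

Sylow centralisers for 3 and 7 are the Sylow subgroups themselves, leaving 63 nontrivial 2-elements.
-/

set_option autoImplicit false

namespace CfsgLib.SmallGroups.Order504

open Subgroup CfsgLib.SmallGroups.TwoClass CfsgLib.SmallGroups.SimpleTools

variable {G : Type*} [Group G] [Finite G] [IsSimpleGroup G]

theorem index_ge (h : Nat.card G = 504) (H : Subgroup G) (hH : H ≠ ⊤) : 8 ≤ H.index := by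
  have hG : ¬ IsMulCommutative G := not_comm_of_card (by rw [h]; norm_num)
  by_contra hlt
  have h2 := two_mul_card_dvd_factorial hG H hH
  rw [h] at h2
  have h7 : H.index = 7 := by
    by_contra hne
    have h3 := h2.trans (Nat.factorial_dvd_factorial (show H.index ≤ 6 by omega))
    norm_num [Nat.factorial] at h3
  obtain ⟨f, hf⟩ := exists_embedding hG H hH
  revert f
  rw [h7]
  intro f hf
  have : IsSimpleGroup (alternatingGroup (Fin 7)) := alternatingGroup.isSimpleGroup (by simp)
  have hA : Nat.card (alternatingGroup (Fin 7)) = 2520 := by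
    have h1 := two_mul_nat_card_alternatingGroup (α := Fin 7)
    rw [Nat.card_perm, Nat.card_fin, show Nat.factorial 7 = 5040 by decide] at h1
    omega
  have hR : Nat.card f.range = 504 := (Nat.card_congr (MonoidHom.ofInjective hf).toEquiv).symm.trans h
  have hidx : f.range.index = 5 := by
    have h1 := f.range.index_mul_card
    rw [hR, hA] at h1
    omega
  have h4 := two_mul_card_dvd_factorial (not_comm_of_card (by rw [hA]; norm_num)) f.range
    (fun e => by rw [e, Subgroup.index_top] at hidx; omega)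
  rw [hidx, hA] at h4
  norm_num [Nat.factorial] at h4

theorem centralizer_seven (h : Nat.card G = 504) :
    Nat.card (Sylow 7 G) = 36 ∧ ∀ P : Sylow 7 G, Nat.card (P : Subgroup G) = 7 ∧
      Nat.card (centralizer ((P : Subgroup G) : Set G)) = 7 := by
  have : Fact (Nat.Prime 7) := ⟨by norm_num⟩
  have hG : ¬ IsMulCommutative G := not_comm_of_card (by rw [h]; norm_num)
  have hP : ∀ P : Sylow 7 G, Nat.card (P : Subgroup G) = 7 := fun P =>
    (card_sylow_subgroup (k := 1) (m := 72) (by rw [h]; norm_num) (by norm_num) P).trans (pow_one _)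
  have hne := card_sylow_ne_one hG (p := 7) (by rw [h]; norm_num)
  have hmem := card_sylow_mem (G := G) (p := 7) (k := 1) (m := 72) (by rw [h]; norm_num) (by norm_num)
  rw [show (Nat.divisors 72).filter (fun n => n % 7 = 1) = {1, 8, 36} from by decide +kernel] at hmem
  simp only [Finset.mem_insert, Finset.mem_singleton] at hmem
  obtain ⟨P₀⟩ : Nonempty (Sylow 7 G) := inferInstance
  have h8 : Nat.card (Sylow 7 G) ≠ 8 := fun e => by
    have hd := card_normalizer_of_succ hG (by norm_num) P₀ (hP P₀) e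
    have hm := card_normalizer_mul P₀
    rw [e, h] at hm
    rw [show Nat.card (normalizer ((P₀ : Subgroup G) : Set G)) = 63 by omega] at hd
    norm_num at hd
  have hn : Nat.card (Sylow 7 G) = 36 := by omega
  refine ⟨hn, fun P => ⟨hP P, ?_⟩⟩
  obtain ⟨e, k, he1, hed, hN, hC⟩ := LocalTools.exists_e hG P (hP P)
  have hm := card_normalizer_mul P
  rw [hn, h, hN] at hm
  have hek : e * k = 2 := by nlinarith
  have hk : k = 1 := by
    rcases (Nat.dvd_prime Nat.prime_two).1 (Dvd.intro k hek) with rfl | rfl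
    · exact absurd rfl he1
    · omega
  rw [hC, hk]

theorem centralizer_three (h : Nat.card G = 504) :
    Nat.card (Sylow 3 G) = 28 ∧ ∀ P : Sylow 3 G, Nat.card (P : Subgroup G) = 9 ∧
      ∀ y ∈ (P : Subgroup G), y ≠ 1 → centralizer ({y} : Set G) = (P : Subgroup G) := by
  have h3 : Fact (Nat.Prime 3) := ⟨Nat.prime_three⟩
  have h7 : Fact (Nat.Prime 7) := ⟨by norm_num⟩
  have hG : ¬ IsMulCommutative G := not_comm_of_card (by rw [h]; norm_num)
  have hP : ∀ P : Sylow 3 G, Nat.card (P : Subgroup G) = 9 := fun P =>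
    (card_sylow_subgroup (k := 2) (m := 56) (by rw [h]; norm_num) (by norm_num) P).trans (by norm_num)
  have hne := card_sylow_ne_one hG (p := 3) (by rw [h]; norm_num)
  have hmem := card_sylow_mem (G := G) (p := 3) (k := 2) (m := 56) (by rw [h]; norm_num) (by norm_num)
  rw [show (Nat.divisors 56).filter (fun n => n % 3 = 1) = {1, 4, 7, 28} from by decide +kernel] at hmem
  simp only [Finset.mem_insert, Finset.mem_singleton] at hmem
  obtain ⟨P₀⟩ : Nonempty (Sylow 3 G) := inferInstance
  have hbig := index_ge h _ (normalizer_ne_top hG (p := 3) (by rw [h]; norm_num) P₀)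
  rw [show (normalizer ((P₀ : Subgroup G) : Set G)).index = Nat.card (Sylow 3 G) from
    P₀.card_eq_index_normalizer.symm] at hbig
  have hn : Nat.card (Sylow 3 G) = 28 := by omega
  refine ⟨hn, fun P => ⟨hP P, fun y hy hy1 => ?_⟩⟩
  have hab : IsMulCommutative (P : Subgroup G) :=
    IsPGroup.isMulCommutative_of_card_eq_prime_sq (p := 3) (by rw [hP]; norm_num)
  set C := centralizer ({y} : Set G)
  set N := normalizer ((P : Subgroup G) : Set G)
  have hN : Nat.card N = 18 := by
    have hm : Nat.card (Sylow 3 G) * Nat.card N = Nat.card G := card_normalizer_mul P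
    rw [hn, h] at hm
    omega
  have hPC : (P : Subgroup G) ≤ C := fun a ha =>
    mem_centralizer_singleton_iff.2 (congrArg Subtype.val (hab.is_comm.comm ⟨a, ha⟩ ⟨y, hy⟩))
  have hcen : ¬ N ≤ C := fun hle => hy1 (eq_one_of_central hG P hy fun n hn =>
    mem_centralizer_singleton_iff.1 (hle hn))
  have h9 : 9 ∣ Nat.card C := hP P ▸ card_dvd_of_le hPC
  have h7d : ¬ 7 ∣ Nat.card C := fun hd => by
    obtain ⟨z, hz⟩ := exists_prime_orderOf_dvd_card' 7 hd
    rw [← Subgroup.orderOf_coe] at hz
    have hc := card_centralizer_of_order hz (fun Q => ((centralizer_seven h).2 Q).1)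
      (fun Q => ((centralizer_seven h).2 Q).2)
    have hyz : y ∈ centralizer ({(z : G)} : Set G) := mem_centralizer_singleton_iff.2
      (mem_centralizer_singleton_iff.1 z.2).symm
    have hd7 : orderOf y ∣ 7 := hc ▸ orderOf_dvd_natCard _ hyz
    have hd9 : orderOf y ∣ 9 := hP P ▸ (P : Subgroup G).orderOf_dvd_natCard hy
    exact hy1 (orderOf_eq_one_iff.1 (Nat.eq_one_of_dvd_coprimes (by norm_num : Nat.Coprime 7 9) hd7 hd9))
  have hCtop : C ≠ ⊤ := fun e => hy1 (Subgroup.mem_bot.1 (center_eq_bot hG ▸ Subgroup.mem_center_iff.2 fun a =>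
    mem_centralizer_singleton_iff.1 (show a ∈ C from e ▸ mem_top a)))
  have hCidx := index_ge h C hCtop
  have hmul := C.card_mul_index
  rw [h] at hmul
  have hle : Nat.card C ≤ 63 := by nlinarith
  obtain ⟨j, hj⟩ := h9
  have hcases : Nat.card C = 9 ∨ Nat.card C = 18 ∨ Nat.card C = 36 := by
    have hdvd : 9 * j ∣ 504 := hj ▸ Dvd.intro _ hmul
    have : j ≤ 7 := by omega
    interval_cases j <;> omega
  rcases hcases with hc | hc | hc
  · exact (eq_of_le_of_card_ge hPC (by rw [hc, hP])).symm
  · exfalso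
    apply hcen
    have hidx : ((P : Subgroup G).subgroupOf C).index = 2 := by
      have h1 := ((P : Subgroup G).subgroupOf C).card_mul_index
      rw [Nat.card_congr (subgroupOfEquivOfLe hPC).toEquiv, hP, hc] at h1
      omega
    have hnorm := normal_of_index_eq_two hidx
    have hle' : C ≤ N := (normal_subgroupOf_iff_le_normalizer hPC).1 hnorm
    exact (eq_of_le_of_card_ge hle' (by rw [hc, hN])).ge
  · exfalso
    have hinf : N ⊓ C = (P : Subgroup G) := by
      have hd1 : Nat.card ↥(N ⊓ C) ∣ 18 := hN ▸ card_dvd_of_le inf_le_left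
      have hd2 : 9 ∣ Nat.card ↥(N ⊓ C) := hP P ▸ card_dvd_of_le (le_inf le_normalizer hPC)
      have hle18 := Nat.le_of_dvd (by norm_num) hd1
      refine (eq_of_le_of_card_ge (le_inf le_normalizer hPC) ?_).symm
      rw [hP]
      by_contra hlt
      obtain ⟨i, hi⟩ := hd2
      have hlt2 : 9 < Nat.card ↥(N ⊓ C) := not_le.1 hlt
      have hi2 : i = 2 := by omega
      have hNC : N ⊓ C = N := eq_of_le_of_card_ge inf_le_left (by rw [hN, hi, hi2])
      exact hcen (hNC ▸ inf_le_right)
    let P' : Sylow 3 C := P.subtype hPC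
    have hP' : Nat.card (P' : Subgroup C) = 9 := by
      show Nat.card ((P : Subgroup G).subgroupOf C) = 9
      rw [Nat.card_congr (subgroupOfEquivOfLe hPC).toEquiv, hP]
    have hnc : normalizer ((P' : Subgroup C) : Set C) ≤ centralizer ((P' : Subgroup C) : Set C) := by
      intro n hn'
      have hnP : (n : G) ∈ (P : Subgroup G) := hinf ▸ (⟨mem_normalizer_iff.2 fun w => by
        constructor
        · exact fun hw => (mem_normalizer_iff.1 hn' ⟨w, hPC hw⟩).1 hw
        · intro hw
          have hwC : w ∈ C := by simpa [mul_assoc] using C.mul_mem (C.mul_mem (C.inv_mem n.2) (hPC hw)) n.2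
          exact (mem_normalizer_iff.1 hn' ⟨w, hwC⟩).2 hw, n.2⟩ : (n : G) ∈ N ⊓ C)
      exact mem_centralizer_iff.2 fun b hb => Subtype.ext (show (b : G) * (n : G) = (n : G) * (b : G) from
        congrArg Subtype.val (hab.is_comm.comm (⟨(b : G), hb⟩ : (P : Subgroup G)) ⟨(n : G), hnP⟩))
    have hcompl := MonoidHom.ker_transferSylow_isComplement' P' hnc
    set K' := (MonoidHom.transferSylow P' hnc).ker
    have hK' : Nat.card K' = 4 := by
      have h1 := hcompl.card_mul
      rw [hP', hc] at h1
      omega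
    set K := K'.map C.subtype
    have hKc : Nat.card K = 4 := by rw [card_map_of_injective C.subtype_injective, hK']
    have hCK : C ≤ normalizer (K : Set G) := le_normalizer_map C K' (MonoidHom.normal_ker _)
    have h2 : Fact (Nat.Prime 2) := ⟨Nat.prime_two⟩
    obtain ⟨g, hg, hgC⟩ := LocalTools.exists_normalizing (q := 2) (a := 2) C K (by rw [hKc]; norm_num)
      (by rw [h]; norm_num) (by rw [hc]; norm_num)
    have hlt : C < normalizer (K : Set G) := lt_of_le_of_ne hCK fun e => hgC (e ▸ hg)
    have hMd := card_dvd_of_le hCK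
    have hne36 : Nat.card (normalizer (K : Set G)) ≠ 36 := fun e =>
      hlt.ne (eq_of_le_of_card_ge hCK (by rw [e, hc]))
    have hMtop : normalizer (K : Set G) ≠ ⊤ := fun e => by
      have hn' : K.Normal := normalizer_eq_top_iff.1 e
      rcases hn'.eq_bot_or_eq_top with hk | hk
      · rw [hk, card_bot] at hKc; omega
      · rw [hk, card_top, h] at hKc; omega
    have hidx := index_ge h _ hMtop
    have hmul' := (normalizer (K : Set G)).card_mul_index
    rw [h] at hmul'
    obtain ⟨i, hi⟩ := hMd
    rw [hc] at hi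
    have : i ≤ 1 := by nlinarith
    have : 0 < Nat.card (normalizer (K : Set G)) := Nat.card_pos
    interval_cases i <;> omega

theorem psl (h : Nat.card G = 504) {F : Type*} [Field F] [Fintype F] (hF : Fintype.card F = 8) :
    Nonempty (G ≃* Matrix.ProjectiveSpecialLinearGroup (Fin 2) F) := by
  classical
  have := Fintype.ofFinite G
  have h3 : Fact (Nat.Prime 3) := ⟨Nat.prime_three⟩
  have h7 : Fact (Nat.Prime 7) := ⟨by norm_num⟩
  obtain ⟨n7, hC7⟩ := centralizer_seven h
  obtain ⟨n3, hC3⟩ := centralizer_three h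
  refine psl_of_few 3 63 (by norm_num) ⟨31, by norm_num⟩ (by norm_num) (by rw [h]; norm_num) ?_ ?_
    (hF.trans (by norm_num))
  · intro c hc hc2 hd
    have hdd := orderOf_dvd_natCard c
    rw [h, show (504 : ℕ) = 2 ^ 3 * (3 ^ 2 * 7) by norm_num] at hdd
    rcases hc.dvd_mul.1 hdd with h' | h'
    · exact hc2 ((Nat.prime_dvd_prime_iff_eq hc Nat.prime_two).1 (hc.dvd_of_dvd_pow h'))
    rcases hc.dvd_mul.1 h' with h' | h'
    · have ho : orderOf c = 3 := (Nat.prime_dvd_prime_iff_eq hc Nat.prime_three).1 (hc.dvd_of_dvd_pow h')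
      obtain ⟨P, hP⟩ := (IsPGroup.of_card (n := 1) (show Nat.card (zpowers c) = 3 ^ 1 by
        rw [Nat.card_zpowers, ho, pow_one])).exists_le_sylow
      rw [(hC3 P).2 c (hP (mem_zpowers c)) (fun e => by rw [e, orderOf_one] at ho; omega), (hC3 P).1] at hd
      norm_num at hd
    · rw [card_centralizer_of_order ((Nat.prime_dvd_prime_iff_eq hc (by norm_num)).1 h')
        (fun Q => (hC7 Q).1) (fun Q => (hC7 Q).2)] at hd
      norm_num at hd
  · have c7 := count_order (p := 7) (G := G) fun Q => (hC7 Q).1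
    have c3 : Nat.card (Sylow 3 G) * 8 ≤ Nat.card {g : G // g ≠ 1 ∧ g ^ 9 = 1} := by
      let T := Σ P : Sylow 3 G, {a : (P : Subgroup G) // a ≠ 1}
      have hT : Nat.card T = Nat.card (Sylow 3 G) * 8 := by
        have := Fintype.ofFinite (Sylow 3 G)
        rw [Nat.card_sigma, Finset.sum_congr rfl (g := fun _ => 8) fun P _ => ?_, Finset.sum_const,
          Finset.card_univ, smul_eq_mul, Nat.card_eq_fintype_card]
        rw [Nat.card_eq_fintype_card, Fintype.card_subtype_compl, Fintype.card_subtype_eq,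
          ← Nat.card_eq_fintype_card, (hC3 P).1]
      rw [← hT]
      refine Nat.card_le_card_of_injective (fun t => ⟨(t.2.1 : G), fun e => t.2.2 (Subtype.ext e),
        orderOf_dvd_iff_pow_eq_one.1 ((hC3 t.1).1 ▸ (t.1 : Subgroup G).orderOf_dvd_natCard t.2.1.2)⟩) ?_
      rintro ⟨P, a⟩ ⟨Q, b⟩ e
      have e' : (a.1 : G) = b.1 := congrArg Subtype.val e
      have hPQ : P = Q := Sylow.ext (by
        rw [← (hC3 P).2 _ a.1.2 (fun h => a.2 (Subtype.ext h)),
          ← (hC3 Q).2 _ b.1.2 (fun h => b.2 (Subtype.ext h)), e'])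
      subst hPQ
      exact Sigma.ext rfl (heq_of_eq (Subtype.ext (Subtype.ext e')))
    have hs := sum_card_lt (G := G) [fun g => orderOf g = 7, fun g => g ≠ 1 ∧ g ^ 9 = 1,
      fun g => g ≠ 1 ∧ ∃ k, g ^ 2 ^ k = 1] (by simp) (by
        simp only [List.pairwise_cons, List.mem_cons, List.not_mem_nil, or_false, forall_eq_or_imp,
          forall_eq, IsEmpty.forall_iff, implies_true, and_true, List.Pairwise.nil]
        refine ⟨⟨fun g hg hg' => ?_, fun g hg ⟨hg1, k, hk⟩ => ?_⟩, fun g hg ⟨hg1, k, hk⟩ => ?_⟩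
        · have := hg ▸ orderOf_dvd_of_pow_eq_one hg'.2
          norm_num at this
        · have := hg ▸ orderOf_dvd_of_pow_eq_one hk
          have := Nat.Prime.dvd_of_dvd_pow (by norm_num : Nat.Prime 7) this
          norm_num at this
        · exact hg1 (orderOf_eq_one_iff.1 (Nat.eq_one_of_dvd_coprimes (Nat.Coprime.pow_right k (by norm_num : Nat.Coprime 9 2))
            (orderOf_dvd_of_pow_eq_one hg.2) (orderOf_dvd_of_pow_eq_one hk))))
    simp only [List.map_cons, List.map_nil, List.sum_cons, List.sum_nil, add_zero, h] at hs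
    rw [n7] at c7
    rw [n3] at c3
    omega

end CfsgLib.SmallGroups.Order504
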