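import Cfsg.Agent.Lib.SmallGroups.LocalTools
import Cfsg.Agent.S0183

/-!
# No simple group of order `3 ^ 3 * 7 * 13 * 409`

The Sylow subgroups for 7, 13 and 409 are self-centralising, so all centralisers are groups of prime
power order, and a group of odd order with nilpotent centralisers is solvable.
-/

set_option autoImplicit false
set_option maxRecDepth 10000

namespace CfsgLib.SmallGroups.Order1004913

open Subgroup CfsgLib.SmallGroups.SimpleTools

variable {G : Type*} [Group G] [Finite G]

/-- The candidates for the Sylow numbers. -/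
def cand (a b q : ℕ) : List ℕ :=
  (([1, 3, 9, 27].flatMap fun i => [1, a].flatMap fun j => [1, b].map fun k => i * (j * k)).filter
    fun n => n % q == 1)

theorem candidates_eq : cand 13 409 7 = [1, 47853, 351] ∧ cand 7 409 13 = [1, 25767, 27] ∧
    cand 7 13 409 = [1, 819] := by
  decide +kernel

omit [Finite G] in
theorem candidates (a b q n : ℕ) [Fact a.Prime] [Fact b.Prime]
    (h : n ∈ (27 * (a * b)).divisors.filter fun n => n % q = 1) : n ∈ cand a b q := by
  rw [Finset.mem_filter, Nat.mem_divisors] at h
  obtain ⟨x, y, hx, hy, rfl⟩ := Nat.dvd_mul.1 h.1.1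
  obtain ⟨j, k, hj, hk, rfl⟩ := Nat.dvd_mul.1 hy
  obtain ⟨e, he, rfl⟩ := (Nat.dvd_prime_pow Nat.prime_three).1 (show x ∣ 3 ^ 3 from hx)
  simp only [cand, List.mem_filter, List.mem_flatMap, List.mem_map, beq_iff_eq]
  refine ⟨⟨3 ^ e, ?_, j, ?_, k, ?_, rfl⟩, h.2⟩
  · interval_cases e <;> simp
  · rcases (Nat.dvd_prime Fact.out).1 hj with rfl | rfl <;> simp
  · rcases (Nat.dvd_prime Fact.out).1 hk with rfl | rfl <;> simp

/-- A Sylow subgroup of prime order is self-centralising when its normaliser has the order given. -/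
theorem card_centralizer_eq [IsSimpleGroup G] (hG : ¬ IsMulCommutative G) {q m : ℕ} [Fact q.Prime]
    (P : Sylow q G) (hP : Nat.card (P : Subgroup G) = q)
    (hN : Nat.card (normalizer ((P : Subgroup G) : Set G)) = q * m) (hm : m.Prime) :
    Nat.card (centralizer ((P : Subgroup G) : Set G)) = q := by
  obtain ⟨e, k, he1, -, heN, hC⟩ := LocalTools.exists_e hG P hP
  rw [hN] at heN
  have h : m = e * k := Nat.eq_of_mul_eq_mul_left (Fact.out : q.Prime).pos (heN.trans (by ring))
  rcases (Nat.dvd_prime hm).1 ⟨k, h⟩ with h' | h'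
  · exact absurd h' he1
  · subst h'
    have hk : k = 1 := by
      have := mul_eq_left₀ hm.ne_zero |>.1 h.symm
      exact this
    rw [hC, hk, mul_one]

local instance : Fact (Nat.Prime 7) := ⟨by norm_num⟩
local instance : Fact (Nat.Prime 13) := ⟨by norm_num⟩
local instance : Fact (Nat.Prime 409) := ⟨by norm_num⟩

theorem centralizer_of_order [IsSimpleGroup G] (hG : ¬ IsMulCommutative G)
    (h : Nat.card G = 1004913) {q : ℕ} [Fact q.Prime]
    (hq : q = 7 ∨ q = 13 ∨ q = 409) {x : G} (hx : orderOf x = q) :
    Nat.card (centralizer ({x} : Set G)) = q := by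
  obtain ⟨P, hP⟩ := (IsPGroup.of_card (n := 1) (by rw [Nat.card_zpowers, hx, pow_one] :
    Nat.card (zpowers x) = q ^ 1)).exists_le_sylow
  have hPc : Nat.card (P : Subgroup G) = q := by
    rcases hq with rfl | rfl | rfl
    · exact (card_sylow_subgroup (k := 1) (m := 143559) (h.trans (by norm_num)) (by norm_num) P).trans
        (pow_one _)
    · exact (card_sylow_subgroup (k := 1) (m := 77301) (h.trans (by norm_num)) (by norm_num) P).trans
        (pow_one _)
    · exact (card_sylow_subgroup (k := 1) (m := 2457) (h.trans (by norm_num)) (by norm_num) P).trans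
        (pow_one _)
  have hzP : zpowers x = P := Subgroup.eq_of_le_of_card_ge hP (by rw [hPc, Nat.card_zpowers, hx])
  have e : centralizer ({x} : Set G) = centralizer ((P : Subgroup G) : Set G) := by
    rw [← hzP, zpowers_eq_closure, centralizer_closure]
  rw [e]
  have hn1 := card_sylow_ne_one hG (p := q) (hx ▸ orderOf_dvd_natCard x)
  have hN := card_normalizer_mul P
  rw [h] at hN
  -- the index of the normaliser is at least 409
  have hidx : ¬ Nat.card (Sylow q G) < 409 := fun hlt => by
    rw [P.card_eq_index_normalizer] at hlt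
    change (normalizer ((P : Subgroup G) : Set G)).index < 409 at hlt
    have hd := two_mul_card_dvd_factorial hG _ (normalizer_ne_top hG (hx ▸ orderOf_dvd_natCard x) P)
    rw [h] at hd
    exact absurd ((Nat.Prime.dvd_factorial (p := 409) (by norm_num)).1
      ((by norm_num : (409 : ℕ) ∣ 2 * 1004913).trans hd)) (by omega)
  rcases hq with rfl | rfl | rfl
  · have hmem := card_sylow_mem (p := 7) (k := 1) (m := 27 * (13 * 409)) (G := G)
      (h.trans (by norm_num)) (by norm_num)
    have hc := candidates 13 409 7 _ hmem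
    rw [candidates_eq.1, List.mem_cons, List.mem_cons, List.mem_singleton] at hc
    exact card_centralizer_eq hG P hPc (m := 3) (by
      rcases hc with e | e | e <;> rw [e] at hN hn1 hidx <;> omega) Nat.prime_three
  · have hmem := card_sylow_mem (p := 13) (k := 1) (m := 27 * (7 * 409)) (G := G)
      (h.trans (by norm_num)) (by norm_num)
    have hc := candidates 7 409 13 _ hmem
    rw [candidates_eq.2.1, List.mem_cons, List.mem_cons, List.mem_singleton] at hc
    exact card_centralizer_eq hG P hPc (m := 3) (by
      rcases hc with e | e | e <;> rw [e] at hN hn1 hidx <;> omega) Nat.prime_three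
  · have hmem := card_sylow_mem (p := 409) (k := 1) (m := 27 * (7 * 13)) (G := G)
      (h.trans (by norm_num)) (by norm_num)
    have hc := candidates 7 13 409 _ hmem
    rw [candidates_eq.2.2, List.mem_cons, List.mem_singleton] at hc
    exact card_centralizer_eq hG P hPc (m := 3) (by
      rcases hc with e | e <;> rw [e] at hN hn1 <;> omega) Nat.prime_three

theorem isCN [IsSimpleGroup G] (hG : ¬ IsMulCommutative G) (h : Nat.card G = 1004913) :
    Cfsg.IsCNGroup G := by
  intro g hg
  by_cases hq : ∃ q, (q = 7 ∨ q = 13 ∨ q = 409) ∧ q ∣ orderOf g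
  · obtain ⟨q, hq, hdvd⟩ := hq
    have : Fact q.Prime := ⟨by rcases hq with rfl | rfl | rfl <;> norm_num⟩
    have hx : orderOf (g ^ (orderOf g / q)) = q := orderOf_pow_orderOf_div (orderOf_pos g).ne' hdvd
    have hle : centralizer ({g} : Set G) ≤ centralizer {g ^ (orderOf g / q)} := fun y hy => by
      rw [mem_centralizer_singleton_iff] at hy ⊢
      exact (Commute.pow_right hy _ : _)
    have hp : IsPGroup q (centralizer ({g ^ (orderOf g / q)} : Set G)) :=
      IsPGroup.of_card (n := 1) (by rw [centralizer_of_order hG h hq hx, pow_one])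
    exact (hp.to_le hle).isNilpotent
  · simp only [not_exists, not_and] at hq
    have hd : Nat.card (centralizer ({g} : Set G)) ∣ 3 ^ 3 * (7 * 13 * 409) := by
      exact (card_subgroup_dvd_card _).trans (dvd_of_eq h)
    have hndvd : ∀ q, (q = 7 ∨ q = 13 ∨ q = 409) → ¬ q ∣ Nat.card (centralizer ({g} : Set G)) := by
      intro q hq' hdvd
      have : Fact q.Prime := ⟨by rcases hq' with rfl | rfl | rfl <;> norm_num⟩
      obtain ⟨y, hy⟩ := exists_prime_orderOf_dvd_card' q hdvd
      rw [← Subgroup.orderOf_coe] at hy
      have hgy : g ∈ centralizer ({(y : G)} : Set G) :=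
        mem_centralizer_singleton_iff.2 (mem_centralizer_singleton_iff.1 y.2).symm
      have hord := Subgroup.orderOf_dvd_natCard _ hgy
      rw [centralizer_of_order hG h hq' hy, Nat.dvd_prime Fact.out] at hord
      rcases hord with h1 | h1
      · exact hg (orderOf_eq_one_iff.1 h1)
      · exact hq q hq' (dvd_of_eq h1.symm)
    have hco : Nat.Coprime (Nat.card (centralizer ({g} : Set G))) (7 * 13 * 409) := by
      refine Nat.Coprime.mul_right (Nat.Coprime.mul_right ?_ ?_) ?_ <;>
        refine (Nat.Prime.coprime_iff_not_dvd (by norm_num)).2 ?_ |>.symm <;>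
          apply hndvd <;> simp
    have := Fact.mk Nat.prime_three
    obtain ⟨n, -, hn⟩ := (Nat.dvd_prime_pow Nat.prime_three).1 (hco.dvd_of_dvd_mul_right hd)
    exact (IsPGroup.of_card hn).isNilpotent

theorem ne_1004913 [IsSimpleGroup G] : Nat.card G ≠ 1004913 := fun h => by
  have hG : ¬ IsMulCommutative G := not_comm_of_card (h ▸ by norm_num)
  have := Cfsg.Agent.S0183.result (G := G) (by rw [h]; decide) (isCN hG h)
  exact hG ⟨⟨IsSimpleGroup.comm_iff_isSolvable.2 this⟩⟩

end CfsgLib.SmallGroups.Order1004913
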