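import Cfsg.Agent.Lib.SmallGroups.SimpleTools
import Cfsg.Agent.Lib.SmallGroups.CosetFixed
import Cfsg.Agent.Lib.TwoGroups.CyclicMax

/-!
# Simple groups of order 168: Sylow subgroups, element orders, classes
-/

set_option autoImplicit false

namespace CfsgLib.SmallGroups.Order168

open Subgroup CfsgLib.SmallGroups.SimpleTools

variable {G : Type*} [Group G] [Finite G] [IsSimpleGroup G]

section
variable (h : Nat.card G = 168)
include h

theorem not_comm : ¬ IsMulCommutative G := not_comm_of_card (by rw [h]; norm_num)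

theorem seven_le_index {H : Subgroup G} (hH : H ≠ ⊤) : 7 ≤ H.index := by
  by_contra hlt
  have h2 := two_mul_card_dvd_factorial (not_comm h) H hH
  rw [h] at h2
  have h3 := h2.trans (Nat.factorial_dvd_factorial (show H.index ≤ 6 by omega))
  norm_num [Nat.factorial] at h3

theorem card_sylow_seven [Fact (Nat.Prime 7)] : Nat.card (Sylow 7 G) = 8 := by
  have hm := card_sylow_mem (G := G) (p := 7) (k := 1) (m := 24) (by rw [h]; norm_num) (by norm_num)
  rw [show (Nat.divisors 24).filter (fun n => n % 7 = 1) = {1, 8} by decide] at hm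
  simp only [Finset.mem_insert, Finset.mem_singleton] at hm
  exact hm.resolve_left (card_sylow_ne_one (not_comm h) (by rw [h]; norm_num))

theorem card_seven [Fact (Nat.Prime 7)] (P : Sylow 7 G) : Nat.card (P : Subgroup G) = 7 :=
  (card_sylow_subgroup (k := 1) (m := 24) (by rw [h]; norm_num) (by norm_num) P).trans (pow_one 7)

theorem card_three [Fact (Nat.Prime 3)] (Q : Sylow 3 G) : Nat.card (Q : Subgroup G) = 3 :=
  (card_sylow_subgroup (k := 1) (m := 56) (by rw [h]; norm_num) (by norm_num) Q).trans (pow_one 3)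

theorem card_normalizer_seven [Fact (Nat.Prime 7)] (P : Sylow 7 G) :
    Nat.card (normalizer ((P : Subgroup G) : Set G)) = 21 := by
  have h2 := card_normalizer_mul P
  rw [card_sylow_seven h, h] at h2
  omega

theorem card_centralizer_seven {x : G} (hx : orderOf x = 7) :
    Nat.card (centralizer ({x} : Set G)) = 7 := by
  have : Fact (Nat.Prime 7) := ⟨by norm_num⟩
  obtain ⟨P, hP⟩ := (IsPGroup.of_card (n := 1) (by rw [Nat.card_zpowers, hx, pow_one]) :
    IsPGroup 7 ↥(zpowers x)).exists_le_sylow
  have he : zpowers x = P :=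
    Subgroup.eq_of_le_of_card_ge hP (by rw [card_seven h P, Nat.card_zpowers, hx])
  have hC : centralizer ({x} : Set G) = centralizer ((P : Subgroup G) : Set G) := by
    rw [← he, zpowers_eq_closure, centralizer_closure]
  rw [hC]
  have hle := centralizer_le_normalizer ((P : Subgroup G) : Set G)
  have hd := Subgroup.card_dvd_of_le hle
  rw [card_normalizer_seven h P] at hd
  have hne : Nat.card (centralizer ((P : Subgroup G) : Set G)) ≠ 21 := fun e =>
    not_normalizer_le (not_comm h) (by rw [h]; norm_num) P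
      (Subgroup.eq_of_le_of_card_ge hle (by rw [e, card_normalizer_seven h P])).ge
  have h7 : 7 ∣ Nat.card (centralizer ((P : Subgroup G) : Set G)) := by
    have hPc : (P : Subgroup G) ≤ centralizer ((P : Subgroup G) : Set G) := by
      intro a ha
      refine mem_centralizer_iff.mpr fun b hb => ?_
      rw [← he] at ha hb
      obtain ⟨i, rfl⟩ := mem_zpowers_iff.mp ha
      obtain ⟨j, rfl⟩ := mem_zpowers_iff.mp hb
      exact (Commute.zpow_zpow_self x j i).eq
    have := Subgroup.card_dvd_of_le hPc
    rwa [card_seven h P] at this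
  have := Nat.le_of_dvd (by norm_num) hd
  generalize Nat.card (centralizer ((P : Subgroup G) : Set G)) = c at *
  interval_cases c <;> omega

theorem card_sylow_three [Fact (Nat.Prime 3)] : Nat.card (Sylow 3 G) = 28 := by
  classical
  have : Fact (Nat.Prime 7) := ⟨by norm_num⟩
  have hm := card_sylow_mem (G := G) (p := 3) (k := 1) (m := 56) (by rw [h]; norm_num) (by norm_num)
  rw [show (Nat.divisors 56).filter (fun n => n % 3 = 1) = {1, 4, 7, 28} by decide] at hm
  simp only [Finset.mem_insert, Finset.mem_singleton] at hm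
  have hne := card_sylow_ne_one (not_comm h) (show 3 ∣ Nat.card G by rw [h]; norm_num)
  rcases hm with e | e | e | e
  · exact absurd e hne
  · obtain ⟨Q⟩ : Nonempty (Sylow 3 G) := inferInstance
    have := seven_le_index h (normalizer_ne_top (not_comm h) (show 3 ∣ Nat.card G by rw [h]; norm_num) Q)
    rw [show (normalizer ((Q : Subgroup G) : Set G)).index = 4 from e ▸ Q.card_eq_index_normalizer.symm] at this
    omega
  · exfalso
    -- every element of order three would normalise all eight Sylow 7-subgroups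
    have hP : ∀ P : Sylow 7 G, ∀ Q : Sylow 3 G, (Q : Subgroup G) ≤ normalizer ((P : Subgroup G) : Set G) := by
      intro P
      let N := normalizer ((P : Subgroup G) : Set G)
      have hN : Nat.card N = 21 := card_normalizer_seven h P
      have hn3 : Nat.card (Sylow 3 ↥N) = 7 := by
        have hm' := card_sylow_mem (G := ↥N) (p := 3) (k := 1) (m := 7) (by rw [hN]; norm_num) (by norm_num)
        rw [show (Nat.divisors 7).filter (fun n => n % 3 = 1) = {1, 7} by decide] at hm'
        simp only [Finset.mem_insert, Finset.mem_singleton] at hm'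
        refine hm'.resolve_left fun h1 => ?_
        obtain ⟨Q'⟩ : Nonempty (Sylow 3 ↥N) := inferInstance
        have hQn : (Q' : Subgroup ↥N).Normal := normalizer_eq_top_iff.mp
          (Subgroup.index_eq_one.mp (h1 ▸ Q'.card_eq_index_normalizer.symm))
        obtain ⟨⟨q, hqQ⟩, hq⟩ := exists_prime_orderOf_dvd_card' (G := ↥(Q' : Subgroup ↥N)) 3
          (by rw [card_sylow_subgroup (k := 1) (m := 7) (by rw [hN]; norm_num) (by norm_num) Q']; norm_num)
        rw [← Subgroup.orderOf_coe, ← Subgroup.orderOf_coe] at hq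
        obtain ⟨⟨x, hxP⟩, hx⟩ := exists_prime_orderOf_dvd_card' (G := ↥(P : Subgroup G)) 7
          (dvd_of_eq (card_seven h P).symm)
        rw [← Subgroup.orderOf_coe] at hx
        -- `x` normalises and hence centralises `⟨q⟩`
        have hxN : x ∈ N := le_normalizer hxP
        have hc : (⟨x, hxN⟩ : N) * q * (⟨x, hxN⟩ : N)⁻¹ * q⁻¹ ∈
            ((P : Subgroup G).subgroupOf N) ⊓ (Q' : Subgroup ↥N) := by
          refine ⟨?_, (Q' : Subgroup ↥N).mul_mem (hQn.conj_mem q hqQ _) ((Q' : Subgroup ↥N).inv_mem hqQ)⟩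
          have hn : ((P : Subgroup G).subgroupOf N).Normal := Subgroup.normal_in_normalizer
          rw [show (⟨x, hxN⟩ : N) * q * (⟨x, hxN⟩ : N)⁻¹ * q⁻¹ = ⟨x, hxN⟩ * (q * (⟨x, hxN⟩ : N)⁻¹ * q⁻¹) by group]
          exact mul_mem (show (⟨x, hxN⟩ : N) ∈ (P : Subgroup G).subgroupOf N from hxP)
            (hn.conj_mem _ (inv_mem (show (⟨x, hxN⟩ : N) ∈ (P : Subgroup G).subgroupOf N from hxP)) q)
        have hbot : ((P : Subgroup G).subgroupOf N) ⊓ (Q' : Subgroup ↥N) = ⊥ := by
          refine inf_eq_bot_of_coprime ?_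
          rw [Nat.card_congr (subgroupOfEquivOfLe le_normalizer).toEquiv, card_seven h P,
            card_sylow_subgroup (k := 1) (m := 7) (by rw [hN]; norm_num) (by norm_num) Q']
          decide
        rw [hbot, mem_bot, mul_inv_eq_one, mul_inv_eq_iff_eq_mul] at hc
        have hcomm : Commute x (q : G) := congrArg Subtype.val hc
        have hxc := card_centralizer_seven h hx
        have hd := (centralizer ({x} : Set G)).orderOf_dvd_natCard (mem_centralizer_singleton_iff.mpr hcomm.eq.symm)
        rw [hxc] at hd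
        rw [hq] at hd
        norm_num at hd
      intro Q
      let f : Sylow 3 ↥N → Sylow 3 G := fun Q' =>
        Classical.choose (Q'.isPGroup'.map N.subtype).exists_le_sylow
      have hf : ∀ Q' : Sylow 3 ↥N, (Q' : Subgroup ↥N).map N.subtype = (f Q' : Subgroup G) := fun Q' => by
        refine Subgroup.eq_of_le_of_card_ge (Classical.choose_spec (Q'.isPGroup'.map N.subtype).exists_le_sylow) ?_
        rw [card_three h, Subgroup.card_map_of_injective N.subtype_injective,
          card_sylow_subgroup (k := 1) (m := 7) (by rw [hN]; norm_num) (by norm_num) Q']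
        norm_num
      have hinj : Function.Injective f := fun a b hab => Sylow.ext
        (Subgroup.map_injective N.subtype_injective (by rw [hf, hf, hab]))
      have hbij := hinj.bijective_of_nat_card_le (by rw [hn3, e])
      obtain ⟨Q', rfl⟩ := hbij.2 Q
      rw [← hf]
      exact map_subtype_le _
    obtain ⟨Q⟩ : Nonempty (Sylow 3 G) := inferInstance
    obtain ⟨⟨q, hqQ⟩, hq⟩ := exists_prime_orderOf_dvd_card' (G := ↥(Q : Subgroup G)) 3 (dvd_of_eq (card_three h Q).symm)
    rw [← Subgroup.orderOf_coe] at hq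
    change orderOf q = 3 at hq
    have hker : q ∈ (MulAction.toPermHom G (Sylow 7 G)).ker := by
      rw [MonoidHom.mem_ker]
      exact Equiv.ext fun P => Sylow.smul_eq_iff_mem_normalizer.mpr (hP P Q hqQ)
    rcases (MonoidHom.normal_ker (MulAction.toPermHom G (Sylow 7 G))).eq_bot_or_eq_top with hk | hk
    · rw [hk, mem_bot] at hker
      rw [hker, orderOf_one] at hq
      norm_num at hq
    · obtain ⟨P⟩ : Nonempty (Sylow 7 G) := inferInstance
      refine normalizer_ne_top (not_comm h) (show 7 ∣ Nat.card G by rw [h]; norm_num) P (eq_top_iff.mpr fun g _ => ?_)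
      exact Sylow.smul_eq_iff_mem_normalizer.mp
        (congrArg (fun σ : Equiv.Perm (Sylow 7 G) => σ P) (show MulAction.toPermHom G (Sylow 7 G) g = 1 from
          MonoidHom.mem_ker.mp (hk ▸ mem_top g)))
  · exact e

theorem card_normalizer_three [Fact (Nat.Prime 3)] (Q : Sylow 3 G) :
    Nat.card (normalizer ((Q : Subgroup G) : Set G)) = 6 := by
  have h2 := card_normalizer_mul Q
  rw [card_sylow_three h, h] at h2
  omega

theorem card_centralizer_three {x : G} (hx : orderOf x = 3) :
    Nat.card (centralizer ({x} : Set G)) = 3 := by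
  have : Fact (Nat.Prime 3) := ⟨Nat.prime_three⟩
  obtain ⟨P, hP⟩ := (IsPGroup.of_card (n := 1) (by rw [Nat.card_zpowers, hx, pow_one]) :
    IsPGroup 3 ↥(zpowers x)).exists_le_sylow
  have he : zpowers x = P :=
    Subgroup.eq_of_le_of_card_ge hP (by rw [card_three h P, Nat.card_zpowers, hx])
  have hC : centralizer ({x} : Set G) = centralizer ((P : Subgroup G) : Set G) := by
    rw [← he, zpowers_eq_closure, centralizer_closure]
  rw [hC]
  have hle := centralizer_le_normalizer ((P : Subgroup G) : Set G)
  have hd := Subgroup.card_dvd_of_le hle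
  rw [card_normalizer_three h P] at hd
  have hne : Nat.card (centralizer ((P : Subgroup G) : Set G)) ≠ 6 := fun e =>
    not_normalizer_le (not_comm h) (by rw [h]; norm_num) P
      (Subgroup.eq_of_le_of_card_ge hle (by rw [e, card_normalizer_three h P])).ge
  have h7 : 3 ∣ Nat.card (centralizer ((P : Subgroup G) : Set G)) := by
    have hPc : (P : Subgroup G) ≤ centralizer ((P : Subgroup G) : Set G) := by
      intro a ha
      refine mem_centralizer_iff.mpr fun b hb => ?_
      rw [← he] at ha hb
      obtain ⟨i, rfl⟩ := mem_zpowers_iff.mp ha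
      obtain ⟨j, rfl⟩ := mem_zpowers_iff.mp hb
      exact (Commute.zpow_zpow_self x j i).eq
    have := Subgroup.card_dvd_of_le hPc
    rwa [card_three h P] at this
  have := Nat.le_of_dvd (by norm_num) hd
  generalize Nat.card (centralizer ((P : Subgroup G) : Set G)) = c at *
  interval_cases c <;> omega

theorem not_commute_three {q a : G} (hq : orderOf q = 3) (ha : orderOf a = 2) : ¬ Commute a q := by
  intro hc
  have hd := (centralizer ({q} : Set G)).orderOf_dvd_natCard (mem_centralizer_singleton_iff.mpr hc.eq)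
  rw [card_centralizer_three h hq, ha] at hd
  norm_num at hd

theorem card_sylow_two : Nat.card (Sylow 2 G) = 21 := by
  have : Fact (Nat.Prime 2) := ⟨Nat.prime_two⟩
  have : Fact (Nat.Prime 3) := ⟨Nat.prime_three⟩
  have hm := card_sylow_mem (G := G) (p := 2) (k := 3) (m := 21) (by rw [h]; norm_num) (by norm_num)
  rw [show (Nat.divisors 21).filter (fun n => n % 2 = 1) = {1, 3, 7, 21} by decide] at hm
  simp only [Finset.mem_insert, Finset.mem_singleton] at hm
  have h2d : 2 ∣ Nat.card G := by rw [h]; norm_num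
  have hne := card_sylow_ne_one (not_comm h) h2d
  obtain ⟨T⟩ : Nonempty (Sylow 2 G) := inferInstance
  rcases hm with e | e | e | e
  · exact absurd e hne
  · have := seven_le_index h (normalizer_ne_top (not_comm h) h2d T)
    rw [show (normalizer ((T : Subgroup G) : Set G)).index = 3 from e ▸ T.card_eq_index_normalizer.symm] at this
    omega
  · exfalso
    have hN : Nat.card (normalizer ((T : Subgroup G) : Set G)) = 24 := by
      have := card_normalizer_mul T
      rw [e, h] at this
      omega
    obtain ⟨⟨q, hqN⟩, hq⟩ := exists_prime_orderOf_dvd_card' (G := ↥(normalizer ((T : Subgroup G) : Set G))) 3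
      (by rw [hN]; norm_num)
    rw [← Subgroup.orderOf_coe] at hq
    change orderOf q = 3 at hq
    let K := zpowers (⟨q, hqN⟩ : normalizer ((T : Subgroup G) : Set G))
    have hK : IsPGroup 3 ↥K := IsPGroup.of_card (n := 1) (by
      rw [Nat.card_zpowers, ← Subgroup.orderOf_coe, hq, pow_one])
    let act : MulAction ↥K ↥(T : Subgroup G) := MulAction.compHom _
      ((normalizerMonoidHom (T : Subgroup G)).comp K.subtype)
    have hmod := hK.card_modEq_card_fixedPoints ↥(T : Subgroup G)
    have hfix : Nat.card (MulAction.fixedPoints ↥K ↥(T : Subgroup G)) = 1 := by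
      refine Nat.card_eq_one_iff_unique.mpr ⟨⟨fun a b => ?_⟩, ⟨⟨1, fun k => map_one (normalizerMonoidHom (T : Subgroup G) k.1)⟩⟩⟩
      suffices ∀ t : MulAction.fixedPoints ↥K ↥(T : Subgroup G), t.1 = 1 from Subtype.ext ((this a).trans (this b).symm)
      rintro ⟨t, ht⟩
      by_contra htne
      have hfixq : q * (t : G) * q⁻¹ = t := congrArg Subtype.val (ht ⟨_, mem_zpowers _⟩)
      have hd := (centralizer ({q} : Set G)).orderOf_dvd_natCard
        (mem_centralizer_singleton_iff.mpr (mul_inv_eq_iff_eq_mul.mp hfixq).symm)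
      rw [card_centralizer_three h hq, Subgroup.orderOf_coe] at hd
      have hd2 : orderOf t ∣ Nat.card ↥(T : Subgroup G) := orderOf_dvd_natCard t
      rw [card_sylow_subgroup (k := 3) (m := 21) (by rw [h]; norm_num) (by norm_num) T] at hd2
      exact htne (orderOf_eq_one_iff.mp (Nat.eq_one_of_dvd_coprimes (by decide) hd hd2))
    rw [hfix, card_sylow_subgroup (k := 3) (m := 21) (by rw [h]; norm_num) (by norm_num) T] at hmod
    exact absurd hmod (by decide)
  · exact e

theorem card_two (T : Sylow 2 G) : Nat.card (T : Subgroup G) = 8 := by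
  have : Fact (Nat.Prime 2) := ⟨Nat.prime_two⟩
  exact (card_sylow_subgroup (k := 3) (m := 21) (by rw [h]; norm_num) (by norm_num) T).trans (by norm_num)

theorem normalizer_two (T : Sylow 2 G) : normalizer ((T : Subgroup G) : Set G) = T := by
  have : Fact (Nat.Prime 2) := ⟨Nat.prime_two⟩
  refine (Subgroup.eq_of_le_of_card_ge le_normalizer ?_).symm
  have := card_normalizer_mul T
  rw [card_sylow_two h, h] at this
  rw [card_two h T]; omega

theorem two_not_comm (T : Sylow 2 G) : ¬ IsMulCommutative ↥(T : Subgroup G) := by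
  have : Fact (Nat.Prime 2) := ⟨Nat.prime_two⟩
  intro hc
  refine not_normalizer_le (not_comm h) (show 2 ∣ Nat.card G by rw [h]; norm_num) T ?_
  rw [normalizer_two h T]
  exact fun a ha => mem_centralizer_iff.mpr fun b hb => congrArg Subtype.val (hc.is_comm.comm ⟨b, hb⟩ ⟨a, ha⟩)

theorem orderOf_mem (g : G) :
    orderOf g = 1 ∨ orderOf g = 2 ∨ orderOf g = 3 ∨ orderOf g = 4 ∨ orderOf g = 7 := by
  have hd : orderOf g ∣ 168 := h ▸ orderOf_dvd_natCard g
  -- a multiple of three or seven is the prime itself
  have h37 : ∀ p : ℕ, p.Prime → (∀ x : G, orderOf x = p → Nat.card (centralizer ({x} : Set G)) = p) →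
      p ∣ orderOf g → orderOf g = p := by
    intro p hp hcard hpd
    obtain ⟨k, hk⟩ := hpd
    have hpos : 0 < orderOf g := orderOf_pos g
    have hx : orderOf (g ^ k) = p := by
      rw [orderOf_pow' g (by rintro rfl; rw [Nat.mul_zero] at hk; omega), hk, Nat.gcd_mul_left_left,
        Nat.mul_div_cancel _ (Nat.pos_of_ne_zero (by rintro rfl; rw [Nat.mul_zero] at hk; omega))]
    have hd' := (centralizer ({g ^ k} : Set G)).orderOf_dvd_natCard
      (mem_centralizer_singleton_iff.mpr ((Commute.refl g).pow_right k).eq)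
    rw [hcard _ hx] at hd'
    exact ((Nat.dvd_prime hp).mp hd').resolve_left fun e => by
      rw [e] at hk
      exact hp.one_lt.ne' (Nat.eq_one_of_mul_eq_one_right hk.symm)
  by_cases h3 : 3 ∣ orderOf g
  · exact Or.inr (Or.inr (Or.inl (h37 3 Nat.prime_three (fun x => card_centralizer_three h) h3)))
  by_cases h7 : 7 ∣ orderOf g
  · exact Or.inr (Or.inr (Or.inr (Or.inr (h37 7 (by norm_num) (fun x => card_centralizer_seven h) h7))))
  have : Fact (Nat.Prime 2) := ⟨Nat.prime_two⟩
  have hd8 : orderOf g ∣ 2 ^ 3 := by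
    have hco : Nat.Coprime (orderOf g) 21 := by
      rw [show (21 : ℕ) = 3 * 7 by norm_num]
      exact Nat.Coprime.mul_right (Nat.Coprime.symm (Nat.prime_three.coprime_iff_not_dvd.mpr h3))
        (Nat.Coprime.symm ((by norm_num : Nat.Prime 7).coprime_iff_not_dvd.mpr h7))
    exact hco.dvd_of_dvd_mul_left (show orderOf g ∣ 21 * 8 from hd)
  obtain ⟨j, hj, e⟩ := (Nat.dvd_prime_pow Nat.prime_two).mp hd8
  interval_cases j <;> try (rw [e]; norm_num; done)
  exfalso
  obtain ⟨T, hT⟩ := (IsPGroup.of_card (n := 3) (by rw [Nat.card_zpowers, e]) :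
    IsPGroup 2 ↥(zpowers g)).exists_le_sylow
  have hgT : zpowers g = T := Subgroup.eq_of_le_of_card_ge hT (by rw [card_two h T, Nat.card_zpowers, e]; norm_num)
  have hcyc : IsCyclic ↥(T : Subgroup G) := hgT ▸ inferInstance
  exact two_not_comm h T hcyc.isMulCommutative

theorem centralizer_central (T : Sylow 2 G) {z : G} (hz : z ∈ (T : Subgroup G)) (hz1 : z ≠ 1)
    (hc : ∀ t ∈ (T : Subgroup G), t * z = z * t) : centralizer ({z} : Set G) = T := by
  have hle : (T : Subgroup G) ≤ centralizer ({z} : Set G) := fun t ht =>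
    mem_centralizer_singleton_iff.mpr (hc t ht)
  refine (Subgroup.eq_of_le_of_card_ge hle ?_).symm
  have hd := h ▸ card_subgroup_dvd_card (centralizer ({z} : Set G))
  have h8 := Subgroup.card_dvd_of_le hle
  rw [card_two h T] at h8
  have hoz : orderOf z ∣ 8 := card_two h T ▸ (T : Subgroup G).orderOf_dvd_natCard hz
  have hodd : ∀ p : ℕ, p.Prime → p ≠ 2 → (∀ x : G, orderOf x = p → Nat.card (centralizer ({x} : Set G)) = p) →
      ¬ p ∣ Nat.card (centralizer ({z} : Set G)) := by
    intro p hp hp2 hcard hpd
    have := Fact.mk hp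
    obtain ⟨⟨x, hxC⟩, hx⟩ := exists_prime_orderOf_dvd_card' p hpd
    rw [← Subgroup.orderOf_coe] at hx
    have h2 := (centralizer ({x} : Set G)).orderOf_dvd_natCard
      (mem_centralizer_singleton_iff.mpr (mem_centralizer_singleton_iff.mp hxC).symm)
    rw [hcard _ hx] at h2
    have hco : Nat.Coprime p 8 :=
      Nat.Coprime.pow_right 3 ((Nat.coprime_primes hp Nat.prime_two).mpr hp2)
    exact hz1 (orderOf_eq_one_iff.mp (Nat.eq_one_of_dvd_coprimes hco h2 hoz))
  have h3 := hodd 3 Nat.prime_three (by norm_num) (fun x => card_centralizer_three h)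
  have h7 := hodd 7 (by norm_num) (by norm_num) (fun x => card_centralizer_seven h)
  rw [card_two h T]
  obtain ⟨m, hm⟩ := h8
  rw [hm] at hd h3 h7 ⊢
  have hm' : m ∣ 21 := Nat.dvd_of_mul_dvd_mul_left (by norm_num : 0 < 8) hd
  have := Nat.le_of_dvd (by norm_num) hm'
  interval_cases m <;> omega

theorem exists_central (T : Sylow 2 G) :
    ∃ z, z ∈ (T : Subgroup G) ∧ orderOf z = 2 ∧ ∀ t ∈ (T : Subgroup G), t * z = z * t := by
  have : Fact (Nat.Prime 2) := ⟨Nat.prime_two⟩
  have : Nontrivial ↥(T : Subgroup G) := Finite.one_lt_card_iff_nontrivial.mp (by rw [card_two h T]; norm_num)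
  have := T.isPGroup'.center_nontrivial
  have hd : 2 ∣ Nat.card (center ↥(T : Subgroup G)) := by
    obtain ⟨n, hn⟩ := (T.isPGroup'.to_subgroup (center ↥(T : Subgroup G))).exists_card_eq
    rcases n with _ | n
    · have h1 := Finite.one_lt_card (α := center ↥(T : Subgroup G))
      rw [hn, pow_zero] at h1; omega
    · exact hn ▸ dvd_pow_self 2 (Nat.succ_ne_zero n)
  obtain ⟨⟨z, hz⟩, ho⟩ := exists_prime_orderOf_dvd_card' 2 hd
  rw [← Subgroup.orderOf_coe, ← Subgroup.orderOf_coe] at ho
  exact ⟨(z : G), z.2, ho, fun t ht => congrArg Subtype.val (Subgroup.mem_center_iff.mp hz ⟨t, ht⟩)⟩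

end

end CfsgLib.SmallGroups.Order168
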