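import Cfsg.Agent.Lib.SmallGroups.Order168
import Cfsg.Agent.S1012

/-!
# Simple groups of order 168: involutions, four-groups, maximal subgroups
-/

set_option autoImplicit false

namespace CfsgLib.SmallGroups.Order168

open Subgroup CfsgLib.SmallGroups.SimpleTools CfsgLib.SmallGroups.CosetFixed

theorem isKleinFour_of {H : Type*} [Group H] (h4 : Nat.card H = 4) (hsq : ∀ x : H, x * x = 1) :
    IsKleinFour H := by
  have : Finite H := Nat.finite_of_card_ne_zero (by omega)
  have : Nontrivial H := Finite.one_lt_card_iff_nontrivial.mp (by omega)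
  refine ⟨h4, (Monoid.exponent_eq_prime_iff Nat.prime_two).mpr fun g hg => ?_⟩
  exact (orderOf_eq_prime (by rw [pow_two]; exact hsq g) hg)

theorem card_orderOf_prime {G : Type*} [Group G] [Finite G] (p : ℕ) [Fact p.Prime]
    (hP : ∀ P : Sylow p G, Nat.card (P : Subgroup G) = p) :
    Nat.card {g : G // orderOf g = p} = Nat.card (Sylow p G) * (p - 1) := by
  classical
  have hp : p.Prime := Fact.out
  let f : (Σ Q : Sylow p G, {g : ↥(Q : Subgroup G) // g ≠ 1}) → {g : G // orderOf g = p} := fun x =>
    ⟨(x.2.1 : G), by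
      rw [Subgroup.orderOf_coe]
      exact ((Nat.dvd_prime hp).mp ((orderOf_dvd_natCard x.2.1).trans (dvd_of_eq (hP x.1)))).resolve_left
        (orderOf_eq_one_iff.not.mpr x.2.2)⟩
  have hf : Function.Bijective f := by
    refine ⟨fun x y hxy => ?_, fun g => ?_⟩
    · obtain ⟨Q, a, ha⟩ := x
      obtain ⟨R, b, hb⟩ := y
      have hab : (a : G) = b := congrArg Subtype.val hxy
      have hQR : Q = R := by
        apply Sylow.ext
        rw [← zpowers_eq Q (hP Q) (f ⟨Q, a, ha⟩).2 (le_normalizer a.2),
          ← zpowers_eq R (hP R) (f ⟨R, b, hb⟩).2 (le_normalizer b.2)]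
        exact congrArg zpowers hab
      subst hQR
      exact Sigma.ext rfl (heq_of_eq (Subtype.ext (Subtype.ext hab)))
    · obtain ⟨g, hg⟩ := g
      obtain ⟨Q, hQ⟩ := (IsPGroup.of_card (n := 1) (by rw [Nat.card_zpowers, hg, pow_one]) :
        IsPGroup p ↥(zpowers g)).exists_le_sylow
      refine ⟨⟨Q, ⟨⟨g, hQ (mem_zpowers g)⟩, fun e => ?_⟩⟩, rfl⟩
      rw [show g = 1 from congrArg Subtype.val e, orderOf_one] at hg
      exact hp.one_lt.ne hg
  have := Fintype.ofFinite (Sylow p G)
  rw [← Nat.card_congr (Equiv.ofBijective f hf), Nat.card_sigma, Finset.sum_congr rfl (fun Q _ => ?_),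
    Finset.sum_const, Finset.card_univ, smul_eq_mul, Nat.card_eq_fintype_card]
  have := Fintype.ofFinite ↥(Q : Subgroup G)
  rw [Nat.card_eq_fintype_card, Fintype.card_subtype_compl, Fintype.card_subtype_eq,
    ← Nat.card_eq_fintype_card, hP Q]

variable {G : Type*} [Group G] [Finite G] [IsSimpleGroup G]

section
variable (h : Nat.card G = 168)
include h

theorem card_three_elements : Nat.card {g : G // orderOf g = 3} = 56 := by
  have : Fact (Nat.Prime 3) := ⟨Nat.prime_three⟩
  rw [card_orderOf_prime 3 (card_three h), card_sylow_three h]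

theorem card_seven_elements : Nat.card {g : G // orderOf g = 7} = 48 := by
  have : Fact (Nat.Prime 7) := ⟨by norm_num⟩
  rw [card_orderOf_prime 7 (card_seven h), card_sylow_seven h]

theorem card_two_four_elements :
    Nat.card {g : G // orderOf g = 2} + Nat.card {g : G // orderOf g = 4} = 63 := by
  classical
  have := Fintype.ofFinite G
  have h1 : Nat.card {g : G // orderOf g = 1} = 1 :=
    Nat.card_eq_one_iff_unique.mpr ⟨⟨fun a b => Subtype.ext
      ((orderOf_eq_one_iff.mp a.2).trans (orderOf_eq_one_iff.mp b.2).symm)⟩, ⟨⟨1, orderOf_one⟩⟩⟩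
  have h3 := card_three_elements h
  have h7 := card_seven_elements h
  simp only [Nat.card_eq_fintype_card, Fintype.card_subtype] at h1 h3 h7 ⊢
  have hmaps : ∀ g ∈ (Finset.univ : Finset G), orderOf g ∈ ({1, 2, 3, 4, 7} : Finset ℕ) := fun g _ => by
    simp only [Finset.mem_insert, Finset.mem_singleton]
    exact orderOf_mem h g
  have hsum := Finset.card_eq_sum_card_fiberwise hmaps
  rw [Finset.card_univ, ← Nat.card_eq_fintype_card, h] at hsum
  simp [-orderOf_eq_one_iff] at hsum
  omega

theorem exists_four (T : Sylow 2 G) : ∃ c, c ∈ (T : Subgroup G) ∧ orderOf c = 4 := by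
  by_contra hcon
  push Not at hcon
  refine two_not_comm h T ⟨⟨fun a b => ?_⟩⟩
  have hsq : ∀ x : ↥(T : Subgroup G), x * x = 1 := fun x => by
    have hd : orderOf (x : G) ∣ 2 := by
      rcases orderOf_mem h (x : G) with e | e | e | e | e
      · rw [e]; exact one_dvd 2
      · rw [e]
      all_goals
        exfalso
        have hd := (T : Subgroup G).orderOf_dvd_natCard x.2
        rw [card_two h T, e] at hd
        first
          | exact hcon x x.2 e
          | norm_num at hd
    have := orderOf_dvd_iff_pow_eq_one.mp hd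
    exact Subtype.ext (by rw [Subgroup.coe_mul, ← pow_two]; exact this)
  have hinv : ∀ x : ↥(T : Subgroup G), x⁻¹ = x := fun x => inv_eq_of_mul_eq_one_right (hsq x)
  calc a * b = (a * b)⁻¹ := (hinv _).symm
    _ = b * a := by rw [mul_inv_rev, hinv, hinv]

theorem four_structure (T : Sylow 2 G) {c : G} (hc : c ∈ (T : Subgroup G)) (ho : orderOf c = 4) :
    (∀ t ∈ (T : Subgroup G), t * c ^ 2 = c ^ 2 * t) ∧ centralizer ({c} : Set G) = zpowers c ∧
      ∀ t ∈ (T : Subgroup G), t ∉ zpowers c → t * c * t⁻¹ = c⁻¹ := by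
  have hle : zpowers c ≤ (T : Subgroup G) := zpowers_le.mpr hc
  have hidx : ((zpowers c).subgroupOf (T : Subgroup G)).index = 2 := by
    have hm := ((zpowers c).subgroupOf (T : Subgroup G)).index_mul_card
    rw [card_two h T, Nat.card_congr (subgroupOfEquivOfLe hle).toEquiv, Nat.card_zpowers, ho] at hm
    omega
  have hn := Subgroup.normal_of_index_eq_two hidx
  have hconj : ∀ t ∈ (T : Subgroup G), t * c * t⁻¹ = c ∨ t * c * t⁻¹ = c⁻¹ := by
    intro t ht
    have hm : t * c * t⁻¹ ∈ zpowers c := hn.conj_mem ⟨c, hc⟩ (mem_zpowers c) ⟨t, ht⟩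
    have hoc : orderOf (t * c * t⁻¹) = 4 := by
      rw [show t * c * t⁻¹ = MulAut.conj t c from rfl, MulEquiv.orderOf_eq, ho]
    classical
    obtain ⟨i, hi, hi'⟩ := Finset.mem_image.mp ((mem_zpowers_iff_mem_range_orderOf).mp hm)
    rw [ho, Finset.mem_range] at hi
    rw [← hi'] at hoc ⊢
    interval_cases i
    · rw [pow_zero, orderOf_one] at hoc; omega
    · exact Or.inl (pow_one c)
    · rw [orderOf_pow' c two_ne_zero, ho] at hoc; norm_num at hoc
    · refine Or.inr (eq_inv_of_mul_eq_one_left ?_)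
      rw [← pow_succ, show (3 : ℕ) + 1 = orderOf c by rw [ho], pow_orderOf_eq_one]
  have h2 : ∀ t ∈ (T : Subgroup G), t * c ^ 2 = c ^ 2 * t := by
    intro t ht
    refine mul_inv_eq_iff_eq_mul.mp ?_
    rw [show t * c ^ 2 * t⁻¹ = (t * c * t⁻¹) ^ 2 from conj_pow.symm]
    rcases hconj t ht with e | e
    · rw [e]
    · rw [e, inv_pow, inv_eq_of_mul_eq_one_right]
      rw [← pow_add, show 2 + 2 = orderOf c by rw [ho], pow_orderOf_eq_one]
  have hc2 : c ^ 2 ≠ 1 := fun e => by
    have := orderOf_dvd_of_pow_eq_one e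
    rw [ho] at this; norm_num at this
  have hCle : centralizer ({c} : Set G) ≤ (T : Subgroup G) := by
    rw [← centralizer_central h T ((T : Subgroup G).pow_mem hc 2) hc2 h2]
    intro a ha
    rw [mem_centralizer_singleton_iff] at ha ⊢
    exact ((show Commute a c from ha).pow_right 2).eq
  have hzC : zpowers c ≤ centralizer ({c} : Set G) :=
    zpowers_le.mpr (mem_centralizer_singleton_iff.mpr rfl)
  have hC : centralizer ({c} : Set G) = zpowers c := by
    refine (Subgroup.eq_of_le_of_card_ge hzC ?_).symm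
    rw [Nat.card_zpowers, ho]
    have hd := Subgroup.card_dvd_of_le hCle
    rw [card_two h T] at hd
    have hne : Nat.card (centralizer ({c} : Set G)) ≠ 8 := fun e => by
      have he : centralizer ({c} : Set G) = T := Subgroup.eq_of_le_of_card_ge hCle (by rw [card_two h T, e])
      have hcT : ∀ t ∈ (T : Subgroup G), t * c = c * t := fun t ht =>
        mem_centralizer_singleton_iff.mp (he ▸ ht)
      refine two_not_comm h T ⟨⟨fun a b => Subtype.ext ?_⟩⟩
      -- `T = ⟨c⟩ ⟨a⟩` would be commutative
      show (a : G) * b = b * a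
      by_cases ha : (a : G) ∈ zpowers c
      · obtain ⟨k, hk⟩ := mem_zpowers_iff.mp ha
        rw [← hk]
        exact ((show Commute (b : G) c from hcT b b.2).zpow_right k).symm.eq
      · by_cases hb : (b : G) ∈ zpowers c
        · obtain ⟨k, hk⟩ := mem_zpowers_iff.mp hb
          rw [← hk]
          exact ((show Commute (a : G) c from hcT a a.2).zpow_right k).eq
        · have hm : (a : G)⁻¹ * b ∈ zpowers c := by
            have := (Subgroup.mul_mem_iff_of_index_two hidx (a := a⁻¹) (b := b)).mpr
              (iff_of_false (fun hh => ha ((inv_mem_iff).mp hh)) hb)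
            exact this
          obtain ⟨k, hk⟩ := mem_zpowers_iff.mp hm
          have hb' : (b : G) = a * c ^ k := by rw [hk, mul_inv_cancel_left]
          rw [hb', mul_assoc (a : G) (c ^ k), ((show Commute (a : G) c from hcT a a.2).zpow_right k).eq]
    have := Nat.le_of_dvd (by norm_num) hd
    generalize Nat.card (centralizer ({c} : Set G)) = x at *
    interval_cases x <;> omega
  refine ⟨h2, hC, fun t ht htn => (hconj t ht).resolve_left fun e => htn ?_⟩
  rw [← hC, mem_centralizer_singleton_iff]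
  exact mul_inv_eq_iff_eq_mul.mp e

omit [Finite G] [IsSimpleGroup G] h in
theorem orderOf_of_isConj {x y : G} (hxy : IsConj x y) : orderOf y = orderOf x := by
  obtain ⟨g, rfl⟩ := isConj_iff.mp hxy
  rw [show g * x * g⁻¹ = MulAut.conj g x from rfl, MulEquiv.orderOf_eq]

theorem classes : Nat.card {g : G // orderOf g = 2} = 21 ∧ Nat.card {g : G // orderOf g = 4} = 42 ∧
    (∀ s t : G, orderOf s = 2 → orderOf t = 2 → IsConj s t) ∧
    (∀ s t : G, orderOf s = 4 → orderOf t = 4 → IsConj s t) := by
  have : Fact (Nat.Prime 2) := ⟨Nat.prime_two⟩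
  obtain ⟨T⟩ : Nonempty (Sylow 2 G) := inferInstance
  obtain ⟨c, hc, ho⟩ := exists_four h T
  obtain ⟨h2, hC, -⟩ := four_structure h T hc ho
  have hz2 : orderOf (c ^ 2) = 2 := by rw [orderOf_pow' c two_ne_zero, ho]; norm_num
  have hz1 : c ^ 2 ≠ 1 := fun e => by rw [e, orderOf_one] at hz2; omega
  have hA : Nat.card {g : G // IsConj (c ^ 2) g} = 21 := by
    rw [card_class, centralizer_central h T ((T : Subgroup G).pow_mem hc 2) hz1 h2]
    have := (T : Subgroup G).index_mul_card
    rw [card_two h T, h] at this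
    omega
  have hB : Nat.card {g : G // IsConj c g} = 42 := by
    rw [card_class, hC]
    have := (zpowers c).index_mul_card
    rw [Nat.card_zpowers, ho, h] at this
    omega
  have hAsub : {g : G | IsConj (c ^ 2) g} ⊆ {g : G | orderOf g = 2} := fun g hg =>
    (orderOf_of_isConj hg).trans hz2
  have hBsub : {g : G | IsConj c g} ⊆ {g : G | orderOf g = 4} := fun g hg =>
    (orderOf_of_isConj hg).trans ho
  have hsum := card_two_four_elements h
  have hA' := Set.ncard_le_ncard hAsub
  have hB' := Set.ncard_le_ncard hBsub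
  rw [← Nat.card_coe_set_eq, ← Nat.card_coe_set_eq] at hA' hB'
  change Nat.card {g : G // IsConj (c ^ 2) g} ≤ Nat.card {g : G // orderOf g = 2} at hA'
  change Nat.card {g : G // IsConj c g} ≤ Nat.card {g : G // orderOf g = 4} at hB'
  refine ⟨by omega, by omega, fun s t hs ht => ?_, fun s t hs ht => ?_⟩
  · have heq := Set.eq_of_subset_of_ncard_le hAsub (by
      rw [← Nat.card_coe_set_eq, ← Nat.card_coe_set_eq]
      show Nat.card {g : G // orderOf g = 2} ≤ Nat.card {g : G // IsConj (c ^ 2) g}
      omega)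
    exact ((heq.symm ▸ hs : s ∈ {g : G | IsConj (c ^ 2) g}) : IsConj (c ^ 2) s).symm.trans
      (heq.symm ▸ ht : t ∈ {g : G | IsConj (c ^ 2) g})
  · have heq := Set.eq_of_subset_of_ncard_le hBsub (by
      rw [← Nat.card_coe_set_eq, ← Nat.card_coe_set_eq]
      show Nat.card {g : G // orderOf g = 4} ≤ Nat.card {g : G // IsConj c g}
      omega)
    exact ((heq.symm ▸ hs : s ∈ {g : G | IsConj c g}) : IsConj c s).symm.trans
      (heq.symm ▸ ht : t ∈ {g : G | IsConj c g})

/-- The Sylow 2-subgroups are dihedral. -/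
theorem exists_generators (T : Sylow 2 G) : ∃ c s, c ∈ (T : Subgroup G) ∧ s ∈ (T : Subgroup G) ∧
    orderOf c = 4 ∧ s ∉ zpowers c ∧ s * s = 1 ∧ s * c * s⁻¹ = c⁻¹ := by
  have : Fact (Nat.Prime 2) := ⟨Nat.prime_two⟩
  obtain ⟨c, hc, ho⟩ := exists_four h T
  obtain ⟨h2, hC, hinvc⟩ := four_structure h T hc ho
  by_contra hcon
  push Not at hcon
  have hz2 : orderOf (c ^ 2) = 2 := by rw [orderOf_pow' c two_ne_zero, ho]; norm_num
  have hz1 : c ^ 2 ≠ 1 := fun e => by rw [e, orderOf_one] at hz2; omega
  -- otherwise `T` has one involution and six elements of order four, all conjugate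
  have honly : ∀ t ∈ (T : Subgroup G), orderOf t = 2 → t = c ^ 2 := by
    intro t ht hto
    by_cases htc : t ∈ zpowers c
    · classical
      obtain ⟨i, hi, rfl⟩ := Finset.mem_image.mp ((mem_zpowers_iff_mem_range_orderOf).mp htc)
      rw [ho, Finset.mem_range] at hi
      interval_cases i
      · simp at hto
      · rw [pow_one, ho] at hto; omega
      · rfl
      · rw [orderOf_pow' c three_ne_zero, ho] at hto; norm_num at hto
    · exact absurd (hinvc t ht htc) (hcon c t hc ht ho htc (by
        rw [← pow_two, ← hto]; exact pow_orderOf_eq_one t))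
  obtain ⟨-, -, -, hconj4⟩ := classes h
  have hi2 : (T : Subgroup G).index = 21 := by
    have := (T : Subgroup G).index_mul_card
    rw [card_two h T, h] at this
    omega
  have hz := card_fixedBy_mul (T : Subgroup G) (c ^ 2)
  rw [card_class, centralizer_central h T ((T : Subgroup G).pow_mem hc 2) hz1 h2, hi2] at hz
  have hone : Nat.card {g : G // IsConj (c ^ 2) g ∧ g ∈ (T : Subgroup G)} = 1 :=
    Nat.card_eq_one_iff_unique.mpr ⟨⟨fun a b => Subtype.ext
      ((honly a a.2.2 ((orderOf_of_isConj a.2.1).trans hz2)).trans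
        (honly b b.2.2 ((orderOf_of_isConj b.2.1).trans hz2)).symm)⟩,
      ⟨⟨c ^ 2, IsConj.refl _, (T : Subgroup G).pow_mem hc 2⟩⟩⟩
  rw [hone] at hz
  have hc4 := card_fixedBy_mul (T : Subgroup G) c
  have hidx : (zpowers c).index = 42 := by
    have := (zpowers c).index_mul_card
    rw [Nat.card_zpowers, ho, h] at this
    omega
  rw [card_class, hC, hidx, hi2] at hc4
  have hsix : Nat.card {g : G // IsConj c g ∧ g ∈ (T : Subgroup G)} = 6 := by
    classical
    have e : {g : G | IsConj c g ∧ g ∈ (T : Subgroup G)} = ((T : Subgroup G) : Set G) \ {1, c ^ 2} := by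
      ext g
      simp only [Set.mem_ofPred_eq, Set.mem_diff, SetLike.mem_coe, Set.mem_insert_iff, Set.mem_singleton_iff, not_or]
      constructor
      · rintro ⟨hg, hgT⟩
        have hgo := (orderOf_of_isConj hg).trans ho
        refine ⟨hgT, ?_, ?_⟩
        · rintro rfl; rw [orderOf_one] at hgo; omega
        · rintro rfl; omega
      · rintro ⟨hgT, hg1, hgz⟩
        refine ⟨hconj4 c g ho ?_, hgT⟩
        have hd := (T : Subgroup G).orderOf_dvd_natCard hgT
        rw [card_two h T] at hd
        rcases orderOf_mem h g with e | e | e | e | e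
        · exact absurd (orderOf_eq_one_iff.mp e) hg1
        · exact absurd (honly g hgT e) hgz
        all_goals first
          | exact e
          | (rw [e] at hd; norm_num at hd)
    show Nat.card ↥{g : G | IsConj c g ∧ g ∈ (T : Subgroup G)} = 6
    rw [Nat.card_coe_set_eq, e, Set.ncard_sdiff (Set.insert_subset (T : Subgroup G).one_mem
      (Set.singleton_subset_iff.mpr ((T : Subgroup G).pow_mem hc 2))), Set.ncard_pair (Ne.symm hz1),
      ← Nat.card_coe_set_eq, SetLike.coe_sort_coe, card_two h T]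
  rw [hsix] at hc4
  have hsub : MulAction.fixedBy (G ⧸ (T : Subgroup G)) c ⊆ MulAction.fixedBy (G ⧸ (T : Subgroup G)) (c ^ 2) :=
    fun q hq => by
      rw [MulAction.mem_fixedBy] at hq ⊢
      rw [pow_two, mul_smul, hq, hq]
  have := Set.ncard_le_ncard hsub
  rw [← Nat.card_coe_set_eq, ← Nat.card_coe_set_eq] at this
  omega

theorem dihedral (T : Sylow 2 G) : Nonempty (↥(T : Subgroup G) ≃* DihedralGroup 4) := by
  obtain ⟨c, s, hc, hs, ho, hn, hs2, hcon⟩ := exists_generators h T
  refine CfsgLib.TwoGroups.CyclicMax.dihedral_iso (a := (⟨c, hc⟩ : ↥(T : Subgroup G))) (b := ⟨s, hs⟩)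
    (by rw [← Subgroup.orderOf_coe]; exact ho) (by rw [card_two h T]) (fun hm => hn ?_) (Subtype.ext hs2)
    (Subtype.ext hcon)
  obtain ⟨k, hk⟩ := mem_zpowers_iff.mp hm
  exact mem_zpowers_iff.mpr ⟨k, congrArg Subtype.val hk⟩

end

end CfsgLib.SmallGroups.Order168
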