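import Cfsg.Agent.Lib.Involution.RecognisePSL2
import Cfsg.Agent.Lib.Classical.Dickson.PSL
import Cfsg.Agent.Lib.SmallGroups.SimpleTools
import Cfsg.Agent.Lib.SmallGroups.CosetFixed

/-!
# Simple groups with few 2-elements, and element counts through Sylow centralisers
-/

set_option autoImplicit false

namespace CfsgLib.SmallGroups.TwoClass

open Subgroup

variable {G : Type*} [Group G] [Finite G]

/-- An abelian Sylow subgroup meets the centre of its normaliser trivially. -/
theorem eq_one_of_central [IsSimpleGroup G] (hG : ¬ IsMulCommutative G) {p : ℕ} [Fact p.Prime]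
    (P : Sylow p G) [IsMulCommutative (P : Subgroup G)] {y : G} (hy : y ∈ (P : Subgroup G))
    (hc : ∀ n ∈ normalizer ((P : Subgroup G) : Set G), n * y = y * n) : y = 1 := by
  have hcm : ∀ a b : (P : Subgroup G), a * b = b * a := fun a b => mul_comm' a b
  let ϕ : (P : Subgroup G) →* (P : Subgroup G) := MonoidHom.id _
  letI : CommGroup (P : Subgroup G) := { (inferInstance : Group (P : Subgroup G)) with mul_comm := hcm }
  let τ : G →* (P : Subgroup G) := MonoidHom.transfer (MonoidHom.id (P : Subgroup G))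
  have hker : τ.ker = ⊤ := by
    refine ((inferInstance : τ.ker.Normal).eq_bot_or_eq_top).resolve_left fun h => hG ⟨⟨fun a b => ?_⟩⟩
    exact (MonoidHom.ker_eq_bot_iff _).1 h (by rw [map_mul, map_mul, mul_comm])
  have hkey : ∀ (k : ℕ) (g₀ : G), g₀⁻¹ * y ^ k * g₀ ∈ (P : Subgroup G) → g₀⁻¹ * y ^ k * g₀ = y ^ k := by
    intro k g₀ hmem
    obtain ⟨n, hn, e⟩ := Sylow.conj_eq_normalizer_conj_of_mem P (y ^ k) g₀ (pow_mem hy k) hmem
    rw [e, mul_assoc, ((show Commute n y from hc n hn).pow_right k).eq.symm, inv_mul_cancel_left]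
  have h1 : τ y = 1 := MonoidHom.mem_ker.1 (hker ▸ mem_top y)
  rw [MonoidHom.transfer_eq_pow _ y hkey, MonoidHom.id_apply] at h1
  have h2 : y ^ (P : Subgroup G).index = 1 := congrArg Subtype.val h1
  obtain ⟨i, hi⟩ := P.isPGroup' ⟨y, hy⟩
  have hcop : Nat.Coprime (p ^ i) (P : Subgroup G).index :=
    Nat.Coprime.pow_left _ ((Fact.out : p.Prime).coprime_iff_not_dvd.2 P.not_dvd_index)
  have := pow_gcd_eq_one.2 ⟨(congrArg Subtype.val hi : y ^ p ^ i = 1), h2⟩
  rwa [hcop.gcd_eq_one, pow_one] at this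

theorem exists_zpowers {p : ℕ} [Fact p.Prime] {y : G} (hy : orderOf y = p)
    (hp2 : ∀ P : Sylow p G, Nat.card (P : Subgroup G) = p) :
    ∃ P : Sylow p G, zpowers y = (P : Subgroup G) := by
  obtain ⟨P, hP⟩ := (IsPGroup.of_card (n := 1) (show Nat.card (zpowers y) = p ^ 1 by
    rw [Nat.card_zpowers, hy, pow_one])).exists_le_sylow
  exact ⟨P, eq_of_le_of_card_ge hP (by rw [hp2 P, Nat.card_zpowers, hy])⟩

theorem zpowers_eq_sylow {p : ℕ} [Fact p.Prime] (P : Sylow p G) (hP : Nat.card (P : Subgroup G) = p)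
    {a : G} (ha : a ∈ (P : Subgroup G)) (ha1 : a ≠ 1) : orderOf a = p ∧ zpowers a = (P : Subgroup G) := by
  have ho : orderOf a = p := ((Nat.dvd_prime Fact.out).1
    (((P : Subgroup G).orderOf_dvd_natCard ha).trans (dvd_of_eq hP))).resolve_left (orderOf_eq_one_iff.not.2 ha1)
  exact ⟨ho, eq_of_le_of_card_ge (zpowers_le.2 ha) (by rw [hP, Nat.card_zpowers, ho])⟩

theorem centralizer_zpowers (y : G) :
    centralizer ((zpowers y : Subgroup G) : Set G) = centralizer ({y} : Set G) := by
  refine le_antisymm (centralizer_le (by simpa using mem_zpowers y)) fun g hg => ?_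
  refine mem_centralizer_iff.2 fun b hb => ?_
  obtain ⟨i, rfl⟩ := mem_zpowers_iff.1 hb
  exact ((show Commute g y from mem_centralizer_singleton_iff.1 hg).zpow_right i).eq.symm

/-- All elements of order `p` have centralisers of the order of a Sylow centraliser. -/
theorem card_centralizer_of_order {p c : ℕ} [Fact p.Prime] {y : G} (hy : orderOf y = p)
    (hp2 : ∀ P : Sylow p G, Nat.card (P : Subgroup G) = p)
    (hC : ∀ P : Sylow p G, Nat.card (centralizer ((P : Subgroup G) : Set G)) = c) :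
    Nat.card (centralizer ({y} : Set G)) = c := by
  obtain ⟨P, hP⟩ := exists_zpowers hy hp2
  rw [← centralizer_zpowers, hP, hC]

theorem count_order {p : ℕ} [Fact p.Prime] (hp2 : ∀ P : Sylow p G, Nat.card (P : Subgroup G) = p) :
    Nat.card (Sylow p G) * (p - 1) ≤ Nat.card {g : G // orderOf g = p} := by
  classical
  have := Fintype.ofFinite G
  let T := Σ P : Sylow p G, {a : (P : Subgroup G) // a ≠ 1}
  have hT : Nat.card T = Nat.card (Sylow p G) * (p - 1) := by
    have := Fintype.ofFinite (Sylow p G)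
    rw [Nat.card_sigma, Finset.sum_congr rfl (g := fun _ => p - 1) fun P _ => ?_, Finset.sum_const,
      Finset.card_univ, smul_eq_mul, Nat.card_eq_fintype_card]
    rw [Nat.card_eq_fintype_card, Fintype.card_subtype_compl, Fintype.card_subtype_eq,
      ← Nat.card_eq_fintype_card, hp2]
  rw [← hT]
  refine Nat.card_le_card_of_injective (fun t => ⟨(t.2.1 : G),
    (zpowers_eq_sylow t.1 (hp2 _) t.2.1.2 fun e => t.2.2 (Subtype.ext e)).1⟩) ?_
  rintro ⟨P, a⟩ ⟨Q, b⟩ e
  have e' : (a.1 : G) = b.1 := congrArg Subtype.val e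
  have hPQ : P = Q := Sylow.ext (by
    rw [← (zpowers_eq_sylow P (hp2 _) a.1.2 fun h => a.2 (Subtype.ext h)).2,
      ← (zpowers_eq_sylow Q (hp2 _) b.1.2 fun h => b.2 (Subtype.ext h)).2, e'])
  subst hPQ
  exact Sigma.ext rfl (heq_of_eq (Subtype.ext (Subtype.ext e')))

theorem count_singular {p k : ℕ} [Fact p.Prime] (hpk : ¬ p ∣ k)
    (hp2 : ∀ P : Sylow p G, Nat.card (P : Subgroup G) = p)
    (hC : ∀ P : Sylow p G, Nat.card (centralizer ((P : Subgroup G) : Set G)) = p * k) :
    Nat.card (Sylow p G) * ((p - 1) * k) ≤ Nat.card {g : G // p ∣ orderOf g} := by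
  classical
  have := Fintype.ofFinite G
  have hp : p.Prime := Fact.out
  have hK : ∀ P : Sylow p G, ∃ K : Subgroup G, K ≤ centralizer ((P : Subgroup G) : Set G) ∧ Nat.card K = k := by
    intro P
    set C := centralizer ((P : Subgroup G) : Set G)
    have hPC : (P : Subgroup G) ≤ C := by
      have : IsCyclic (P : Subgroup G) := isCyclic_of_prime_card (hp2 P)
      exact fun a ha => mem_centralizer_iff.2 fun b hb => congrArg Subtype.val
        (IsCyclic.isMulCommutative.is_comm.comm (⟨b, hb⟩ : (P : Subgroup G)) ⟨a, ha⟩)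
    have : ((P : Subgroup G).subgroupOf C).Normal :=
      normal_subgroupOf_of_le_normalizer (centralizer_le_normalizer _)
    have hcard : Nat.card ((P : Subgroup G).subgroupOf C) = p := by
      rw [Nat.card_congr (subgroupOfEquivOfLe hPC).toEquiv, hp2]
    have hidx : ((P : Subgroup G).subgroupOf C).index = k := by
      have h := ((P : Subgroup G).subgroupOf C).card_mul_index
      rw [hcard, hC] at h
      exact Nat.eq_of_mul_eq_mul_left hp.pos h
    obtain ⟨K, hKc⟩ := exists_right_complement'_of_coprime (N := (P : Subgroup G).subgroupOf C)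
      (by rw [hcard, hidx]; exact hp.coprime_iff_not_dvd.2 hpk)
    refine ⟨K.map C.subtype, map_subtype_le _, ?_⟩
    rw [card_map_of_injective C.subtype_injective]
    have h := hKc.card_mul
    rw [hcard, hC] at h
    exact Nat.eq_of_mul_eq_mul_left hp.pos h
  choose K hKC hKcard using hK
  let T := Σ P : Sylow p G, {a : (P : Subgroup G) // a ≠ 1} × K P
  have hT : Nat.card T = Nat.card (Sylow p G) * ((p - 1) * k) := by
    have := Fintype.ofFinite (Sylow p G)
    rw [Nat.card_sigma, Finset.sum_congr rfl (g := fun _ => (p - 1) * k) fun P _ => ?_, Finset.sum_const,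
      Finset.card_univ, smul_eq_mul, Nat.card_eq_fintype_card]
    rw [Nat.card_prod, hKcard, Nat.card_eq_fintype_card, Fintype.card_subtype_compl, Fintype.card_subtype_eq,
      ← Nat.card_eq_fintype_card, hp2]
  have hpow : ∀ t : T, ((t.2.1.1 : G) * (t.2.2 : G)) ^ k = (t.2.1.1 : G) ^ k := fun t => by
    have hc : Commute (t.2.1.1 : G) (t.2.2 : G) := mem_centralizer_iff.1 (hKC _ t.2.2.2) _ t.2.1.1.2
    have h1 : (t.2.2 : G) ^ k = 1 := orderOf_dvd_iff_pow_eq_one.1 (hKcard t.1 ▸ (K t.1).orderOf_dvd_natCard t.2.2.2)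
    rw [hc.mul_pow, h1, mul_one]
  have hord : ∀ t : T, orderOf (t.2.1.1 : G) = p := fun t =>
    (zpowers_eq_sylow t.1 (hp2 _) t.2.1.1.2 fun e => t.2.1.2 (Subtype.ext e)).1
  have hgen : ∀ t : T, zpowers ((t.2.1.1 : G) ^ k) = (t.1 : Subgroup G) := fun t =>
    (zpowers_eq_sylow t.1 (hp2 _) (pow_mem t.2.1.1.2 k) fun e => hpk (by
      have := orderOf_dvd_iff_pow_eq_one.2 e
      rwa [hord t] at this)).2
  rw [← hT]
  refine Nat.card_le_card_of_injective (fun t => ⟨(t.2.1.1 : G) * (t.2.2 : G), ?_⟩) ?_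
  · refine dvd_trans (dvd_of_eq ?_) (orderOf_pow_dvd k)
    have : orderOf ((t.2.1.1 : G) ^ k) = p := by
      rw [← Nat.card_zpowers, hgen t, hp2]
    rw [hpow t, this]
  · intro s t e
    have e' : (s.2.1.1 : G) * (s.2.2 : G) = (t.2.1.1 : G) * (t.2.2 : G) := congrArg Subtype.val e
    have ek := congrArg (· ^ k) e'
    simp only [hpow] at ek
    obtain ⟨P, a, c⟩ := s
    obtain ⟨Q, b, d⟩ := t
    have hPQ : P = Q := Sylow.ext (by rw [← hgen ⟨P, a, c⟩, ← hgen ⟨Q, b, d⟩]; exact congrArg zpowers ek)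
    subst hPQ
    have hab : (a.1 : G) = b.1 := by
      have hcop : Nat.Coprime (Nat.card (P : Subgroup G)) k := by rw [hp2]; exact hp.coprime_iff_not_dvd.2 hpk
      exact congrArg Subtype.val ((powCoprime hcop).injective (show a.1 ^ k = b.1 ^ k from Subtype.ext ek))
    have hcd : (c : G) = d := by
      change (a.1 : G) * (c : G) = (b.1 : G) * (d : G) at e'
      rw [hab] at e'
      exact mul_left_cancel e'
    exact Sigma.ext rfl (heq_of_eq (Prod.ext (Subtype.ext (Subtype.ext hab)) (Subtype.ext hcd)))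

/-- A subgroup with few elements and order divisible by `p` normalises a Sylow `p`-subgroup. -/
theorem le_normalizer_of_small {p : ℕ} [Fact p.Prime]
    (hp2 : ∀ P : Sylow p G, Nat.card (P : Subgroup G) = p)
    (H : Subgroup G) (hd : p ∣ Nat.card H) (hsmall : Nat.card H < p * (p + 1)) :
    ∃ P : Sylow p G, (P : Subgroup G) ≤ H ∧ H ≤ normalizer ((P : Subgroup G) : Set G) := by
  obtain ⟨Q⟩ : Nonempty (Sylow p H) := inferInstance
  have h1 := SimpleTools.card_normalizer_mul Q
  have hQd : p ∣ Nat.card (normalizer ((Q : Subgroup H) : Set H)) :=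
    (Q.dvd_card_of_dvd_card hd).trans (card_dvd_of_le le_normalizer)
  have hmod := card_sylow_modEq_one p H
  have hone : Nat.card (Sylow p H) = 1 := by
    obtain ⟨r, hr⟩ := hQd
    rw [hr] at h1
    have hlt : Nat.card (Sylow p H) < p + 1 := by
      rcases Nat.eq_zero_or_pos r with h0 | h0
      · rw [h0, mul_zero, mul_zero] at h1
        exact absurd h1.symm (Nat.card_pos (α := H)).ne'
      · have : Nat.card (Sylow p H) * p ≤ Nat.card H := by
          rw [← h1]; exact Nat.mul_le_mul_left _ (Nat.le_mul_of_pos_right _ h0)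
        nlinarith [(Fact.out : p.Prime).pos]
    have hp := (Fact.out : p.Prime).two_le
    unfold Nat.ModEq at hmod
    rw [Nat.one_mod_eq_one.2 (by omega)] at hmod
    rcases eq_or_lt_of_le (Nat.lt_succ_iff.1 hlt) with h | h
    · rw [h, Nat.mod_self] at hmod; omega
    · rwa [Nat.mod_eq_of_lt h] at hmod
  have hn : (Q : Subgroup H).Normal := by
    rw [← normalizer_eq_top_iff, ← card_eq_iff_eq_top]
    rw [hone, one_mul] at h1
    exact h1
  obtain ⟨P, hP⟩ := (Q.isPGroup'.map H.subtype).exists_le_sylow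
  have he : (Q : Subgroup H).map H.subtype = (P : Subgroup G) := eq_of_le_of_card_ge hP (by
    rw [hp2, card_map_of_injective H.subtype_injective]
    exact Nat.le_of_dvd Nat.card_pos (Q.dvd_card_of_dvd_card hd))
  refine ⟨P, he ▸ map_subtype_le _, fun g hg => ?_⟩
  rw [← he, mem_normalizer_iff]
  intro w
  constructor
  · rintro ⟨u, hu, rfl⟩
    exact ⟨⟨g, hg⟩ * u * ⟨g, hg⟩⁻¹, hn.conj_mem u hu _, rfl⟩
  · rintro ⟨u, hu, e⟩
    refine ⟨⟨g, hg⟩⁻¹ * u * ⟨g, hg⟩, ?_, ?_⟩
    · have := hn.conj_mem u hu (⟨g, hg⟩ : H)⁻¹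
      rwa [inv_inv] at this
    · rw [map_mul, map_mul, e]
      simp only [map_inv, coe_subtype]
      group

/-- A subgroup normalises the image of each of its normal subgroups. -/
theorem le_normalizer_map (C : Subgroup G) (K : Subgroup C) (hK : K.Normal) :
    C ≤ normalizer ((K.map C.subtype : Subgroup G) : Set G) := by
  intro g hg
  rw [mem_normalizer_iff]
  intro w
  constructor
  · rintro ⟨u, hu, rfl⟩
    exact ⟨⟨g, hg⟩ * u * ⟨g, hg⟩⁻¹, hK.conj_mem u hu _, rfl⟩
  · rintro ⟨u, hu, e⟩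
    refine ⟨⟨g, hg⟩⁻¹ * u * ⟨g, hg⟩, ?_, ?_⟩
    · have := hK.conj_mem u hu (⟨g, hg⟩ : C)⁻¹
      rwa [inv_inv] at this
    · rw [map_mul, map_mul, e]
      simp only [map_inv, coe_subtype]
      group

/-- Centralisers of Sylow subgroups have one order. -/
theorem card_centralizer_sylow_eq {p : ℕ} [Fact p.Prime] (P Q : Sylow p G) :
    Nat.card (centralizer ((Q : Subgroup G) : Set G)) = Nat.card (centralizer ((P : Subgroup G) : Set G)) := by
  obtain ⟨g, rfl⟩ := MulAction.exists_smul_eq G P Q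
  have key : ∀ (P : Sylow p G) (g : G),
      Nat.card (centralizer ((P : Subgroup G) : Set G)) ≤ Nat.card (centralizer (((g • P : Sylow p G) : Subgroup G) : Set G)) := by
    intro P g
    refine Nat.card_le_card_of_injective (fun c => ⟨g * c.1 * g⁻¹, ?_⟩) ?_
    · rw [mem_centralizer_iff]
      rintro _ ⟨w, hw, rfl⟩
      have := mem_centralizer_iff.1 c.2 w hw
      simp only [MulDistribMulAction.toMonoidEnd_apply, MulDistribMulAction.toMonoidHom_apply, MulAut.smul_def,
        MulAut.conj_apply]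
      calc g * w * g⁻¹ * (g * c.1 * g⁻¹) = g * (w * c.1) * g⁻¹ := by group
        _ = g * (c.1 * w) * g⁻¹ := by rw [this]
        _ = _ := by group
    · intro c d e
      exact Subtype.ext (mul_left_cancel (mul_right_cancel (congrArg Subtype.val e)))
  refine le_antisymm ?_ (key P g)
  simpa using key (g • P) g⁻¹

/-- Pairwise exclusive properties of nontrivial elements. -/
theorem sum_card_lt (l : List (G → Prop)) (h1 : ∀ p ∈ l, ¬ p 1)
    (hd : l.Pairwise fun p q => ∀ g, p g → ¬ q g) :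
    (l.map fun p => Nat.card {g // p g}).sum < Nat.card G := by
  classical
  have := Fintype.ofFinite G
  suffices ∀ l : List (G → Prop), l.Pairwise (fun p q => ∀ g, p g → ¬ q g) →
      (l.map fun p => Nat.card {g // p g}).sum = (Finset.univ.filter fun g => ∃ p ∈ l, p g).card by
    rw [this l hd, Nat.card_eq_fintype_card, ← Finset.card_univ]
    exact Finset.card_lt_card (Finset.filter_ssubset.2 ⟨1, Finset.mem_univ _, fun ⟨p, hp, e⟩ => h1 p hp e⟩)
  intro l hl
  induction l with
  | nil => simp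
  | cons p l ih =>
    rw [List.pairwise_cons] at hl
    rw [List.map_cons, List.sum_cons, ih hl.2, Nat.card_eq_fintype_card, Fintype.card_subtype,
      ← Finset.card_union_of_disjoint]
    · congr 1
      ext g
      simp
    · refine Finset.disjoint_left.2 fun g hg hg' => ?_
      simp only [Finset.mem_filter] at hg hg'
      obtain ⟨q, hq, hqg⟩ := hg'.2
      exact hl.1 q hq g hg.2 hqg

/-- A simple group with at most `m` nontrivial 2-elements, none of which commutes with an element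
of odd prime order. -/
theorem psl_of_few [IsSimpleGroup G] (a m : ℕ) (ha : 2 ≤ a) (hm : Odd m) (hm1 : 1 < m)
    (hG : Nat.card G = 2 ^ a * m)
    (hC : ∀ c : G, (orderOf c).Prime → orderOf c ≠ 2 → ¬ 2 ∣ Nat.card (centralizer ({c} : Set G)))
    (hfew : Nat.card {g : G // g ≠ 1 ∧ ∃ k, g ^ 2 ^ k = 1} ≤ m)
    {F : Type*} [Field F] [Fintype F] (hF : Fintype.card F = 2 ^ a) :
    Nonempty (G ≃* Matrix.ProjectiveSpecialLinearGroup (Fin 2) F) := by
  classical
  have h2 : Fact (Nat.Prime 2) := ⟨Nat.prime_two⟩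
  have hinv2 : ∀ t : G, orderOf t = 2 → IsPGroup 2 (centralizer ({t} : Set G)) := by
    intro t ht
    refine IsPGroup.of_card (n := (Nat.card (centralizer ({t} : Set G))).primeFactorsList.length) ?_
    refine Nat.eq_prime_pow_of_unique_prime_dvd Nat.card_pos.ne' fun {r} hr hrd => ?_
    by_contra hr2
    have : Fact r.Prime := ⟨hr⟩
    obtain ⟨c, hc⟩ := exists_prime_orderOf_dvd_card' r hrd
    rw [← Subgroup.orderOf_coe] at hc
    refine hC (c : G) (hc.symm ▸ hr) (by rw [hc]; exact hr2) ?_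
    rw [← ht]
    refine orderOf_dvd_natCard _ (mem_centralizer_singleton_iff.2 ?_)
    exact (mem_centralizer_singleton_iff.1 c.2).symm
  have hcl : ∀ x : G, x ≠ 1 → (∃ k, x ^ 2 ^ k = 1) →
      Nat.card (centralizer ({x} : Set G)) = 2 ^ a ∧
      ∀ g : G, g ≠ 1 → (∃ k, g ^ 2 ^ k = 1) → IsConj x g := by
    intro x hx1 ⟨k, hk⟩
    obtain ⟨j, -, hj⟩ := (Nat.dvd_prime_pow Nat.prime_two).1 (orderOf_dvd_of_pow_eq_one hk)
    obtain ⟨i, rfl⟩ : ∃ i, j = i + 1 := Nat.exists_eq_add_one_of_ne_zero fun e => hx1 (orderOf_eq_one_iff.1 (by rw [hj, e, pow_zero]))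
    have ht : orderOf (x ^ 2 ^ i) = 2 := by
      rw [orderOf_pow' x (by positivity), hj, pow_succ, Nat.gcd_mul_right_left, Nat.mul_div_cancel_left _ (by positivity)]
    have hle : centralizer ({x} : Set G) ≤ centralizer ({x ^ 2 ^ i} : Set G) := fun c hc =>
      mem_centralizer_singleton_iff.2 ((show Commute c x from mem_centralizer_singleton_iff.1 hc).pow_right _).eq
    obtain ⟨l, hl⟩ := ((hinv2 _ ht).to_le hle).exists_card_eq
    have hla : l ≤ a := by
      have h1 := (centralizer ({x} : Set G)).card_subgroup_dvd_card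
      rw [hl, hG] at h1
      exact (Nat.pow_dvd_pow_iff_le_right (by norm_num)).1 ((Nat.Coprime.pow_left _ (Nat.coprime_two_left.2 hm)).dvd_of_dvd_mul_right h1)
    have hclass := CosetFixed.card_class x
    let f : {g : G // IsConj x g} → {g : G // g ≠ 1 ∧ ∃ k, g ^ 2 ^ k = 1} := fun g => ⟨g.1, by
      obtain ⟨c, hc⟩ := isConj_iff.1 g.2
      refine ⟨fun e => hx1 (conj_eq_one_iff.1 (hc.trans e)), k, ?_⟩
      rw [← hc, conj_pow, hk, mul_one, mul_inv_cancel]⟩
    have hf : Function.Injective f := fun u v e =>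
      Subtype.ext (congrArg (fun g : {g : G // g ≠ 1 ∧ ∃ k, g ^ 2 ^ k = 1} => (g : G)) e)
    have hle' := (Nat.card_le_card_of_injective f hf).trans hfew
    have hmul := (centralizer ({x} : Set G)).card_mul_index
    rw [hl, hG, ← hclass] at hmul
    have hpow : 2 ^ l ≤ 2 ^ a := Nat.pow_le_pow_right (by norm_num) hla
    have heq : Nat.card {g : G // IsConj x g} = m := by
      refine le_antisymm hle' (Nat.le_of_mul_le_mul_left ?_ (show 0 < 2 ^ a by positivity))
      rw [← hmul]
      exact Nat.mul_le_mul_right _ hpow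
    rw [heq] at hmul
    refine ⟨hl.trans (Nat.eq_of_mul_eq_mul_right (by omega) hmul), fun g hg1 hg => ?_⟩
    obtain ⟨u, hu⟩ := (hf.bijective_of_nat_card_le (by rw [heq]; exact hfew)).2 ⟨g, hg1, hg⟩
    have hug : (u : G) = g := congrArg Subtype.val hu
    exact hug ▸ u.2
  obtain ⟨T⟩ : Nonempty (Sylow 2 G) := inferInstance
  have hT : Nat.card (T : Subgroup G) = 2 ^ a :=
    SimpleTools.card_sylow_subgroup hG (by rw [← even_iff_two_dvd]; exact Nat.not_even_iff_odd.2 hm) T
  obtain ⟨⟨t₀, ht₀T⟩, ht₀⟩ := exists_prime_orderOf_dvd_card' (G := (T : Subgroup G)) 2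
    (by rw [hT]; exact dvd_pow_self 2 (by omega))
  rw [← Subgroup.orderOf_coe] at ht₀
  change orderOf t₀ = 2 at ht₀
  have ht₀1 : t₀ ≠ 1 := fun e => by rw [e, orderOf_one] at ht₀; omega
  have ht₀2 : ∃ k, t₀ ^ 2 ^ k = 1 := ⟨1, by rw [pow_one, ← ht₀, pow_orderOf_eq_one]⟩
  have hsq : ∀ g : G, (∃ k, g ^ 2 ^ k = 1) → g ^ 2 = 1 := by
    intro g hg
    by_cases hg1 : g = 1
    · rw [hg1, one_pow]
    obtain ⟨c, hc⟩ := isConj_iff.1 ((hcl t₀ ht₀1 ht₀2).2 g hg1 hg)
    rw [← hc, conj_pow, ← ht₀, pow_orderOf_eq_one, mul_one, mul_inv_cancel]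
  have hcent : ∀ t : G, orderOf t = 2 → IsMulCommutative (centralizer ({t} : Set G)) ∧
      ∀ c ∈ centralizer ({t} : Set G), c ^ 2 = 1 := by
    intro t ht
    have hs : ∀ c ∈ centralizer ({t} : Set G), c ^ 2 = 1 := fun c hc => by
      obtain ⟨k, hk⟩ := hinv2 t ht ⟨c, hc⟩
      exact hsq c ⟨k, congrArg Subtype.val hk⟩
    refine ⟨⟨⟨fun c d => ?_⟩⟩, hs⟩
    have h1 : ∀ u : centralizer ({t} : Set G), u * u = 1 := fun u => Subtype.ext (by
      simpa [pow_two] using hs u u.2)
    calc c * d = (c * d)⁻¹ := (inv_eq_of_mul_eq_one_right (h1 _)).symm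
      _ = d⁻¹ * c⁻¹ := mul_inv_rev c d
      _ = d * c := by rw [inv_eq_of_mul_eq_one_right (h1 c), inv_eq_of_mul_eq_one_right (h1 d)]
  have hnc : ¬ IsCyclic (T : Subgroup G) := fun hcyc => by
    obtain ⟨g, hg⟩ := hcyc.exists_ofOrder_eq_natCard
    have h1 : orderOf g ∣ 2 := orderOf_dvd_of_pow_eq_one (Subtype.ext (by
      obtain ⟨k, hk⟩ := T.isPGroup' g
      exact hsq g ⟨k, congrArg Subtype.val hk⟩))
    rw [hg, hT] at h1
    have := Nat.le_of_dvd two_pos h1
    have : 2 ^ 2 ≤ 2 ^ a := Nat.pow_le_pow_right two_pos ha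
    omega
  have hnn : ¬ (T : Subgroup G).Normal := fun hn => by
    rcases hn.eq_bot_or_eq_top with h | h
    · rw [h, card_bot] at hT
      have : 2 ^ 2 ≤ 2 ^ a := Nat.pow_le_pow_right two_pos ha
      omega
    · rw [h, card_top, hG] at hT
      have : 0 < 2 ^ a := by positivity
      nlinarith
  obtain ⟨K, hK, hKf, hKc, ⟨e⟩⟩ :=
    Involution.RecognisePSL2.nonempty_mulEquiv (T := T) ⟨hnc, hnn, hcent⟩
  have hcard : Fintype.card K = Fintype.card F := by rw [hF, hKc]; exact hT
  obtain ⟨i1⟩ := Classical.Dickson.psl_congr (RingEquiv.refl K)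
  obtain ⟨i2⟩ := Classical.Dickson.psl_congr (FiniteField.ringEquivOfCardEq hcard : K ≃+* F)
  exact ⟨e.trans (i1.symm.trans i2)⟩

end CfsgLib.SmallGroups.TwoClass
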