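import Cfsg.Agent.Lib.SmallGroups.BlockDegrees
import Cfsg.Agent.Lib.SmallGroups.TwoClass

/-!
# No simple group of order 459648

A Sylow 19-normaliser has order 456 and automiser order 6.  The involutions of its centraliser have
centralisers inside the normaliser, and a conjugate of one of them outside the centraliser gives two
Sylow 19-subgroups centralised by one involution.
-/

set_option autoImplicit false

namespace CfsgLib.SmallGroups.Order459648

open Subgroup CfsgLib.SmallGroups.SimpleTools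

variable {G : Type*} [Group G] [Finite G]

theorem card_conj_modEq {p : ℕ} [Fact p.Prime] (H : Subgroup G) (hH : IsPGroup p H) (S : Set G)
    (hS : ∀ h ∈ H, ∀ x ∈ S, h * x * h⁻¹ ∈ S) :
    Nat.card S ≡ Nat.card {x : G // x ∈ S ∧ ∀ h ∈ H, h * x * h⁻¹ = x} [MOD p] := by
  letI : MulAction H S :=
    { smul := fun h x => ⟨(h : G) * x * (h : G)⁻¹, hS h h.2 x x.2⟩
      one_smul := fun x => Subtype.ext (by show (1 : G) * x * (1 : G)⁻¹ = x; simp)
      mul_smul := fun a b x => Subtype.ext (by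
        show ((a : G) * b) * x * ((a : G) * b)⁻¹ = a * (b * x * (b : G)⁻¹) * (a : G)⁻¹
        group) }
  refine (hH.card_modEq_card_fixedPoints S).trans ?_
  rw [Nat.card_congr (show (MulAction.fixedPoints H S) ≃ {x : G // x ∈ S ∧ ∀ h ∈ H, h * x * h⁻¹ = x} from
    { toFun := fun x => ⟨x.1.1, x.1.2, fun h hh => congrArg Subtype.val (x.2 ⟨h, hh⟩)⟩
      invFun := fun x => ⟨⟨x.1, x.2.1⟩, fun h => Subtype.ext (x.2.2 h h.2)⟩
      left_inv := fun x => rfl
      right_inv := fun x => rfl })]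

variable [IsSimpleGroup G]

theorem index_ge (h : Nat.card G = 459648) (H : Subgroup G) (hH : H ≠ ⊤) : 19 ≤ H.index := by
  have hG : ¬ IsMulCommutative G := not_comm_of_card (by rw [h]; norm_num)
  by_contra hlt
  have h2 := two_mul_card_dvd_factorial hG H hH
  rw [h] at h2
  have h3 := (show 19 ∣ 2 * 459648 by norm_num).trans (h2.trans (Nat.factorial_dvd_factorial (show H.index ≤ 18 by omega)))
  norm_num [Nat.factorial] at h3

theorem eq_one_of_fix_all (hG : ¬ IsMulCommutative G) {H : Subgroup G} (hH : H ≠ ⊤) {z : G}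
    (hz : ∀ q : G ⧸ H, z • q = q) : z = 1 := by
  have hmem : z ∈ (MulAction.toPermHom G (G ⧸ H)).ker := MonoidHom.mem_ker.2 (Equiv.ext hz)
  rcases (inferInstance : (MulAction.toPermHom G (G ⧸ H)).ker.Normal).eq_bot_or_eq_top with hk | hk
  · rw [hk] at hmem; exact mem_bot.1 hmem
  · refine absurd ?_ hH
    refine eq_top_iff.2 fun g _ => ?_
    have hg : g • ((1 : G) : G ⧸ H) = ((1 : G) : G ⧸ H) :=
      congrArg (fun e : Equiv.Perm (G ⧸ H) => e ((1 : G) : G ⧸ H)) (MonoidHom.mem_ker.1 (hk ▸ mem_top g))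
    rw [MulAction.Quotient.smul_coe, smul_eq_mul, mul_one, eq_comm, QuotientGroup.eq] at hg
    simpa using hg

theorem normalizer_data (h : Nat.card G = 459648) [Fact (Nat.Prime 19)] (P : Sylow 19 G) :
    Nat.card (P : Subgroup G) = 19 ∧ Nat.card (Sylow 19 G) = 1008 ∧
      Nat.card (normalizer ((P : Subgroup G) : Set G)) = 456 ∧
      Nat.card (centralizer ((P : Subgroup G) : Set G)) = 76 := by
  classical
  have := Fintype.ofFinite G
  have h7 : Fact (Nat.Prime 7) := ⟨by norm_num⟩
  have hG : ¬ IsMulCommutative G := not_comm_of_card (by rw [h]; norm_num)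
  have hP : Nat.card (P : Subgroup G) = 19 :=
    (card_sylow_subgroup (k := 1) (m := 24192) (by rw [h]; norm_num) (by norm_num) P).trans (pow_one _)
  have hne := card_sylow_ne_one hG (p := 19) (by rw [h]; norm_num)
  have hmem := card_sylow_mem (G := G) (p := 19) (k := 1) (m := 24192) (by rw [h]; norm_num) (by norm_num)
  have key : ∀ n, n ∣ 24192 → n % 19 = 1 → n = 1 ∨ n = 96 ∨ n = 1008 := by
    intro n hn hm
    rw [show (24192 : ℕ) = 2 ^ 7 * 189 by norm_num, Nat.dvd_mul] at hn
    obtain ⟨a, b, ha, hb, rfl⟩ := hn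
    obtain ⟨i, hi, rfl⟩ := (Nat.dvd_prime_pow Nat.prime_two).1 ha
    have hb' := Nat.le_of_dvd (by norm_num) hb
    have hbm : b ∈ Nat.divisors 189 := Nat.mem_divisors.2 ⟨hb, by norm_num⟩
    rw [show Nat.divisors 189 = {1, 3, 7, 9, 21, 27, 63, 189} from by decide +kernel] at hbm
    simp only [Finset.mem_insert, Finset.mem_singleton] at hbm
    interval_cases i <;> omega
  rw [Finset.mem_filter, Nat.mem_divisors] at hmem
  obtain ⟨e, k, he1, hed, hN, hC⟩ := LocalTools.exists_e hG P hP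
  have hm := card_normalizer_mul P
  rw [hN, h] at hm
  rcases key _ hmem.1.1 hmem.2 with hn | hn | hn
  · exact absurd hn hne
  · exfalso
    rw [hn] at hm
    have hek : e * k = 252 := by nlinarith
    have hek7 : 7 ∣ e * k := by rw [hek]; norm_num
    have hk7 : 7 ∣ k := ((Nat.Prime.dvd_mul (by norm_num)).1 hek7).resolve_left fun h7e => by
      have := h7e.trans hed; norm_num at this
    obtain ⟨z, hz⟩ := exists_prime_orderOf_dvd_card' (G := centralizer ((P : Subgroup G) : Set G)) 7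
      (by rw [hC]; exact hk7.mul_left _)
    rw [← Subgroup.orderOf_coe] at hz
    set N := normalizer ((P : Subgroup G) : Set G)
    have hidx : N.index = 96 := hn ▸ P.card_eq_index_normalizer.symm
    have h1 : Nat.card (MulAction.fixedBy (G ⧸ N) (z : G)) % 19 = 1 :=
      LocalTools.card_fixedBy_modEq_one P hP z.2
    have hzg : IsPGroup 7 (zpowers (z : G)) := IsPGroup.of_card (n := 1) (by rw [Nat.card_zpowers, hz, pow_one])
    have h2 := hzg.card_modEq_card_fixedPoints (G ⧸ N)
    have hfix : Nat.card (MulAction.fixedPoints (zpowers (z : G)) (G ⧸ N)) =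
        Nat.card (MulAction.fixedBy (G ⧸ N) (z : G)) := by
      refine Nat.card_congr (Equiv.subtypeEquivRight fun q => ⟨fun hq => hq ⟨(z : G), mem_zpowers _⟩, fun hq w => ?_⟩)
      obtain ⟨i, hi⟩ := mem_zpowers_iff.1 w.2
      have hfixq : (z : G) ∈ MulAction.stabilizer G q := hq
      show (w : G) • q = q
      rw [← hi]
      exact zpow_mem hfixq i
    rw [hfix, show Nat.card (G ⧸ N) = 96 from hidx] at h2
    unfold Nat.ModEq at h2
    have hle : Nat.card (MulAction.fixedBy (G ⧸ N) (z : G)) ≤ 96 :=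
      hidx ▸ Nat.card_le_card_of_injective Subtype.val Subtype.val_injective
    have hall : Nat.card (MulAction.fixedBy (G ⧸ N) (z : G)) = 96 := by omega
    have hz1 : (z : G) = 1 := eq_one_of_fix_all hG (normalizer_ne_top hG (p := 19) (by rw [h]; norm_num) P) fun q => by
      obtain ⟨x, rfl⟩ := (Subtype.val_injective.bijective_of_nat_card_le (hall.symm ▸ le_of_eq hidx) :
        Function.Bijective (Subtype.val : MulAction.fixedBy (G ⧸ N) (z : G) → G ⧸ N)).2 q
      exact x.2
    rw [hz1, orderOf_one] at hz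
    norm_num at hz
  rw [hn] at hm
  have hek : e * k = 24 := by nlinarith
  have he24 : e ∣ 24 := Dvd.intro k hek
  have he : e = 2 ∨ e = 3 ∨ e = 6 := by
    have := Nat.le_of_dvd (by norm_num) hed
    interval_cases e <;> first | omega | (exfalso; omega)
  have hNC : Nat.card (normalizer ((P : Subgroup G) : Set G)) =
      e * Nat.card (centralizer ((P : Subgroup G) : Set G)) := by rw [hN, hC]
  rcases he with rfl | rfl | rfl
  · exfalso
    obtain ⟨l, x, hl, hla, hxd, hxm, hx⟩ := BlockDegrees.degree_relation hG (by norm_num) P hP hNC (by norm_num)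
    match l, hl with
    | [a], _ =>
      exact no_degree h (hla a (by simp)) (hla a (by simp)) hxd hxm (by simpa using hx) (Or.inl ⟨rfl, rfl⟩)
  · exfalso
    obtain ⟨l, x, hl, hla, hxd, hxm, hx⟩ := BlockDegrees.degree_relation hG (by norm_num) P hP hNC (by norm_num)
    match l, hl with
    | [a, b], _ =>
      exact no_degree h (hla a (by simp)) (hla b (by simp)) hxd hxm (by simpa using hx) (Or.inr ⟨rfl, rfl⟩)
  · exact ⟨hP, hn, by omega, by omega⟩
where
  no_degree (h : Nat.card G = 459648) {a b x : ℤ} {e : ℕ}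
      (ha : a.natAbs ∣ Nat.card G ∧ 2 ≤ a.natAbs ∧ a ≡ 1 [ZMOD 19])
      (hb : b.natAbs ∣ Nat.card G ∧ 2 ≤ b.natAbs ∧ b ≡ 1 [ZMOD 19])
      (hxd : x.natAbs ∣ Nat.card G) (hxm : x ≡ e [ZMOD 19])
      {s : ℤ} (hx : x = 1 + s) (hs : e = 2 ∧ s = a ∨ e = 3 ∧ s = a + b) : False := by
    have hval : ∀ a : ℤ, a.natAbs ∣ Nat.card G → 2 ≤ a.natAbs → a ≡ 1 [ZMOD 19] →
        a = 96 ∨ a = 1008 ∨ a = -18 ∨ a = -56 ∨ a = -189 ∨ a = -1728 := by
      intro a hd h2 hm
      rw [h, show (459648 : ℕ) = 2 ^ 7 * 3591 by norm_num, Nat.dvd_mul] at hd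
      obtain ⟨u, v, hu, hv, e'⟩ := hd
      obtain ⟨i, hi, rfl⟩ := (Nat.dvd_prime_pow Nat.prime_two).1 hu
      have hvm : v ∈ Nat.divisors 3591 := Nat.mem_divisors.2 ⟨hv, by norm_num⟩
      rw [show Nat.divisors 3591 = {1, 3, 7, 9, 19, 21, 27, 57, 63, 133, 171, 189, 399, 513, 1197, 3591} from
        by decide +kernel] at hvm
      simp only [Finset.mem_insert, Finset.mem_singleton] at hvm
      rw [Int.ModEq] at hm
      rcases Int.natAbs_eq a with h' | h' <;> interval_cases i <;> omega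
    have hA := hval a ha.1 ha.2.1 ha.2.2
    have hB := hval b hb.1 hb.2.1 hb.2.2
    rw [h] at hxd
    rw [Int.ModEq] at hxm
    rcases hs with ⟨rfl, rfl⟩ | ⟨rfl, rfl⟩
    · rcases hA with rfl | rfl | rfl | rfl | rfl | rfl <;> subst hx <;> first | (norm_num at hxm; done) | (norm_num at hxd)
    · rcases hA with rfl | rfl | rfl | rfl | rfl | rfl <;>
        rcases hB with rfl | rfl | rfl | rfl | rfl | rfl <;> subst hx <;> first | (norm_num at hxm; done) | (norm_num at hxd)

theorem not_simple (h : Nat.card G = 459648) : False := by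
  classical
  have := Fintype.ofFinite G
  have h19 : Fact (Nat.Prime 19) := ⟨by norm_num⟩
  have h2 : Fact (Nat.Prime 2) := ⟨Nat.prime_two⟩
  have hG : ¬ IsMulCommutative G := not_comm_of_card (by rw [h]; norm_num)
  obtain ⟨P⟩ : Nonempty (Sylow 19 G) := inferInstance
  obtain ⟨hP, hn, hN, hC⟩ := normalizer_data h P
  set N := normalizer ((P : Subgroup G) : Set G)
  set C := centralizer ((P : Subgroup G) : Set G)
  have hCN : C ≤ N := centralizer_le_normalizer _
  have hPC : (P : Subgroup G) ≤ C := by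
    have : IsCyclic (P : Subgroup G) := isCyclic_of_prime_card hP
    exact fun a ha => mem_centralizer_iff.2 fun b hb => congrArg Subtype.val
      (IsCyclic.isMulCommutative.is_comm.comm (⟨b, hb⟩ : (P : Subgroup G)) ⟨a, ha⟩)
  have hidx : N.index = 1008 := hn ▸ P.card_eq_index_normalizer.symm
  obtain ⟨K, hKC, hK, hKN⟩ := LocalTools.exists_complement (q := 2) (j := 2) P hP (by norm_num) hC
  have hK4 : Nat.card K = 4 := hK
  have hKcomm : ∀ a ∈ K, ∀ b ∈ K, a * b = b * a := fun a ha b hb => congrArg Subtype.val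
    ((IsPGroup.isMulCommutative_of_card_eq_prime_sq (p := 2) (G := K) hK).is_comm.comm ⟨a, ha⟩ ⟨b, hb⟩)
  -- the centraliser is the product of the two
  have hCK : ∀ x ∈ C, ∃ a ∈ (P : Subgroup G), ∃ b ∈ K, a * b = x := by
    let f : ↥(P : Subgroup G) × ↥K → C := fun t => ⟨(t.1 : G) * t.2, C.mul_mem (hPC t.1.2) (hKC t.2.2)⟩
    have hf : Function.Injective f := by
      rintro ⟨a, b⟩ ⟨a', b'⟩ e
      have e' : (a : G) * b = a' * b' := congrArg Subtype.val e
      have hbot : (P : Subgroup G) ⊓ K = ⊥ := inf_eq_bot_of_coprime (by rw [hP, hK4]; norm_num)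
      have h1 : (a' : G)⁻¹ * a = b' * (b : G)⁻¹ := by
        rw [eq_mul_inv_iff_mul_eq, mul_assoc, e', inv_mul_cancel_left]
      have h2 : (a' : G)⁻¹ * a ∈ (P : Subgroup G) ⊓ K :=
        ⟨(P : Subgroup G).mul_mem ((P : Subgroup G).inv_mem a'.2) a.2, h1 ▸ K.mul_mem b'.2 (K.inv_mem b.2)⟩
      rw [hbot, mem_bot, inv_mul_eq_one] at h2
      rw [h2] at e'
      exact Prod.ext (Subtype.ext h2.symm) (Subtype.ext (mul_left_cancel e'))
    intro x hx
    obtain ⟨⟨a, b⟩, e⟩ := (hf.bijective_of_nat_card_le (by rw [Nat.card_prod, hP, hK4, hC])).2 ⟨x, hx⟩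
    exact ⟨a, a.2, b, b.2, congrArg Subtype.val e⟩
  have hinvC : ∀ x ∈ C, orderOf x = 2 → x ∈ K := by
    intro x hx hx2
    obtain ⟨a, ha, b, hb, rfl⟩ := hCK x hx
    have hc : Commute a b := mem_centralizer_iff.1 (hKC hb) a ha
    have h1 : a ^ 4 = 1 := by
      have h2 : (a * b) ^ 4 = 1 := orderOf_dvd_iff_pow_eq_one.1 (by rw [hx2]; norm_num)
      have hb4 : b ^ 4 = 1 := orderOf_dvd_iff_pow_eq_one.1 (hK4 ▸ K.orderOf_dvd_natCard hb)
      rwa [hc.mul_pow, hb4, mul_one] at h2
    have ha1 : a = 1 := orderOf_eq_one_iff.1 (Nat.eq_one_of_dvd_coprimes (by norm_num : Nat.Coprime 19 4)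
      (hP ▸ (P : Subgroup G).orderOf_dvd_natCard ha) (orderOf_dvd_of_pow_eq_one h1))
    rwa [ha1, one_mul]
  have hsmall : ∀ u : G, orderOf u = 2 →
      Nat.card {x : G // IsConj u x ∧ x ∈ C} ≤ 3 := fun u hu => by
    have hsub : ∀ x : {x : G // IsConj u x ∧ x ∈ C}, x.1 ∈ K ∧ (⟨x.1, hinvC x.1 x.2.2 (by
        obtain ⟨c, hc⟩ := isConj_iff.1 x.2.1
        rw [← hc, ← hu]
        exact orderOf_injective (MulAut.conj c).toMonoidHom (MulEquiv.injective _) u)⟩ : K) ≠ 1 := fun x => by
      obtain ⟨c, hc⟩ := isConj_iff.1 x.2.1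
      have ho : orderOf x.1 = 2 := by
        rw [← hc, ← hu]
        exact orderOf_injective (MulAut.conj c).toMonoidHom (MulEquiv.injective _) u
      refine ⟨hinvC x.1 x.2.2 ho, fun e => ?_⟩
      rw [show x.1 = 1 from congrArg Subtype.val e, orderOf_one] at ho
      omega
    have := Fintype.ofFinite K
    refine le_trans (Nat.card_le_card_of_injective
      (fun x => (⟨⟨x.1, (hsub x).1⟩, (hsub x).2⟩ : {k : K // k ≠ 1}))
      (fun x y e => Subtype.ext (congrArg (fun k : {k : K // k ≠ 1} => ((k : K) : G)) e))) ?_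
    rw [Nat.card_eq_fintype_card, Fintype.card_subtype_compl, Fintype.card_subtype_eq,
      ← Nat.card_eq_fintype_card, hK4]
  -- (A) the centralisers of these involutions normalise `P`
  have hA : ∀ u ∈ K, orderOf u = 2 → centralizer ({u} : Set G) ≤ N := by
    intro u huK hu
    set M := centralizer ({u} : Set G)
    have hCM : C ≤ M := fun x hx => by
      obtain ⟨a, ha, b, hb, rfl⟩ := hCK x hx
      refine mem_centralizer_singleton_iff.2 (Commute.mul_left ?_ ?_).eq
      · exact mem_centralizer_iff.1 (hKC huK) a ha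
      · exact hKcomm b hb u huK
    have hPM : (P : Subgroup G) ≤ M := hPC.trans hCM
    have hMtop : M ≠ ⊤ := fun e => by
      have : u = 1 := mem_bot.1 (center_eq_bot hG ▸ mem_center_iff.2 fun a =>
        mem_centralizer_singleton_iff.1 (show a ∈ M from e ▸ mem_top a))
      rw [this, orderOf_one] at hu; omega
    by_cases h1 : Nat.card (Sylow 19 M) = 1
    · intro a ha
      have hidx1 : normalizer ((P.subtype hPM : Sylow 19 M) : Set M) = ⊤ :=
        index_eq_one.mp (h1 ▸ (P.subtype hPM).card_eq_index_normalizer.symm)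
      have hmn : (⟨a, ha⟩ : M) ∈ normalizer ((P.subtype hPM : Sylow 19 M) : Set M) := hidx1 ▸ mem_top _
      refine Sylow.smul_eq_iff_mem_normalizer.mp (Sylow.subtype_injective (hP := ?_) (hQ := hPM) ?_)
      · exact Sylow.smul_le hPM ⟨a, ha⟩
      · have hfix := Sylow.smul_eq_iff_mem_normalizer.mpr hmn
        rw [Sylow.smul_subtype] at hfix
        exact hfix
    exfalso
    have hm := card_normalizer_mul (P.subtype hPM)
    set NM := normalizer ((P.subtype hPM : Subgroup M) : Set M)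
    have hC76 : 76 ∣ Nat.card NM := by
      rw [← hC, ← Nat.card_congr (subgroupOfEquivOfLe hCM).toEquiv]
      refine card_dvd_of_le fun x hx => mem_normalizer_iff.2 fun z => ?_
      exact mem_normalizer_iff.1 (hCN hx) (z : G)
    have hN456 : Nat.card NM ∣ 456 := by
      rw [← hN, ← card_map_of_injective M.subtype_injective]
      refine card_dvd_of_le ?_
      rintro _ ⟨a, ha, rfl⟩
      refine Sylow.smul_eq_iff_mem_normalizer.mp (Sylow.subtype_injective (hP := Sylow.smul_le hPM a) (hQ := hPM) ?_)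
      have hfix := Sylow.smul_eq_iff_mem_normalizer.mpr ha
      rw [Sylow.smul_subtype] at hfix
      exact hfix
    have hmod : Nat.card (Sylow 19 M) % 19 = 1 := card_sylow_modEq_one 19 M
    have hMd : Nat.card M ∣ 459648 := h ▸ M.card_subgroup_dvd_card
    have hMle : Nat.card M ≤ 24192 := by
      have := index_ge h M hMtop
      have := M.card_mul_index
      rw [h] at this
      nlinarith
    obtain ⟨m, hm'⟩ := hC76
    rw [hm'] at hm hN456
    have hm6 : m ∣ 6 := Nat.dvd_of_mul_dvd_mul_left (show 0 < 76 by norm_num) hN456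
    have hm0 := Nat.le_of_dvd (by norm_num) hm6
    have hm1 : 1 ≤ m := Nat.pos_of_ne_zero fun e => by rw [e, mul_zero, mul_zero] at hm; exact Nat.card_pos.ne' hm.symm
    have hn19 : Nat.card (Sylow 19 M) ≤ 318 := by
      have : Nat.card (Sylow 19 M) * 76 ≤ 24192 := le_trans (Nat.mul_le_mul_left _ (Nat.le_mul_of_pos_right _ hm1)) (hm ▸ hMle)
      omega
    have hcases : m * Nat.card (Sylow 19 M) = 96 ∨ m * Nat.card (Sylow 19 M) = 288 := by
      rw [← hm] at hMd
      have hd : Nat.card (Sylow 19 M) * m ∣ 6048 := by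
        rw [show Nat.card (Sylow 19 M) * (76 * m) = 76 * (Nat.card (Sylow 19 M) * m) by ring] at hMd
        exact Nat.dvd_of_mul_dvd_mul_left (show 0 < 76 by norm_num) hMd
      have hdn : Nat.card (Sylow 19 M) ∣ 6048 := (Dvd.intro _ rfl).trans hd
      have h96 : Nat.card (Sylow 19 M) = 96 := by
        obtain ⟨j, hj⟩ : ∃ j, Nat.card (Sylow 19 M) = 19 * j + 1 := ⟨Nat.card (Sylow 19 M) / 19, by omega⟩
        rw [hj] at hdn hn19 h1
        have : j ≤ 16 := by omega
        rw [hj]
        interval_cases j <;> first | omega | (norm_num at hdn)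
      rw [h96] at hd ⊢
      interval_cases m <;> first | omega | (norm_num at hd)
    have hMc : Nat.card M = 7296 ∨ Nat.card M = 21888 := by rcases hcases with e | e <;> [left; right] <;> nlinarith
    have hidxM := M.card_mul_index
    rw [h] at hidxM
    -- fixed points of `P` on the cosets of `M`
    have hfixP := P.isPGroup'.card_modEq_card_fixedPoints (G ⧸ M)
    rw [← Subgroup.index] at hfixP
    have hgu : ∀ q : MulAction.fixedPoints (P : Subgroup G) (G ⧸ M), ∀ g : G, (g : G ⧸ M) = q.1 →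
        g * u * g⁻¹ ∈ C := by
      intro q g hg
      refine mem_centralizer_iff.2 fun a ha => ?_
      have h' : a • (g : G ⧸ M) = (g : G ⧸ M) := by rw [hg]; exact q.2 ⟨a, ha⟩
      have hm' : g⁻¹ * a * g ∈ M := (CosetFixed.mem_fixedBy_coe_iff M a g).1 h'
      have e := mem_centralizer_singleton_iff.1 hm'
      calc a * (g * u * g⁻¹) = g * ((g⁻¹ * a * g) * u) * g⁻¹ := by group
        _ = g * (u * (g⁻¹ * a * g)) * g⁻¹ := by rw [e]
        _ = g * u * g⁻¹ * a := by group
    have hs3 : Nat.card (MulAction.fixedPoints (P : Subgroup G) (G ⧸ M)) ≤ 3 := by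
      refine le_trans (Nat.card_le_card_of_injective
        (fun q => (⟨q.1.out * u * q.1.out⁻¹, isConj_iff.2 ⟨q.1.out, rfl⟩, hgu q q.1.out q.1.out_eq⟩ :
          {x : G // IsConj u x ∧ x ∈ C})) fun q r e => Subtype.ext ?_) (hsmall u hu)
      have e' : q.1.out * u * q.1.out⁻¹ = r.1.out * u * r.1.out⁻¹ := congrArg Subtype.val e
      rw [← q.1.out_eq, ← r.1.out_eq]
      refine QuotientGroup.eq.2 (mem_centralizer_singleton_iff.2 ?_)
      calc q.1.out⁻¹ * r.1.out * u = q.1.out⁻¹ * (r.1.out * u * r.1.out⁻¹) * r.1.out := by group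
        _ = q.1.out⁻¹ * (q.1.out * u * q.1.out⁻¹) * r.1.out := by rw [e']
        _ = u * (q.1.out⁻¹ * r.1.out) := by group
    unfold Nat.ModEq at hfixP
    rcases hMc with hc | hc <;> rw [hc] at hidxM
    · have : M.index = 63 := by omega
      rw [this] at hfixP; omega
    have hM21 : M.index = 21 := by omega
    have hs2 : Nat.card (MulAction.fixedPoints (P : Subgroup G) (G ⧸ M)) = 2 := by rw [hM21] at hfixP; omega
    -- `u` fixes the cosets that `P` fixes
    set F := MulAction.fixedBy (G ⧸ M) u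
    have hPF : ∀ q : G ⧸ M, (∀ a : (P : Subgroup G), a • q = q) → q ∈ F := by
      intro q hq
      obtain ⟨g, rfl⟩ := QuotientGroup.mk_surjective q
      rw [CosetFixed.mem_fixedBy_coe_iff]
      have hK' : g * u * g⁻¹ ∈ K := hinvC _ (hgu ⟨_, hq⟩ g rfl)
        (by rw [← hu]; exact orderOf_injective (MulAut.conj g).toMonoidHom (MulEquiv.injective _) u)
      refine mem_centralizer_singleton_iff.2 ?_
      have e := hKcomm u huK _ hK'
      calc g⁻¹ * u * g * u = g⁻¹ * (u * (g * u * g⁻¹)) * g := by group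
        _ = g⁻¹ * ((g * u * g⁻¹) * u) * g := by rw [e]
        _ = u * (g⁻¹ * u * g) := by group
    have hPcomm : ∀ a ∈ (P : Subgroup G), ∀ q ∈ F, a • q ∈ F := fun a ha q hq => by
      show u • a • q = a • q
      rw [smul_smul, ← mem_centralizer_iff.1 (hKC huK) a ha, mul_smul, show u • q = q from hq]
    letI : MulAction (P : Subgroup G) F :=
      { smul := fun a q => ⟨(a : G) • q.1, hPcomm a a.2 q.1 q.2⟩
        one_smul := fun q => Subtype.ext (one_smul G q.1)
        mul_smul := fun a b q => Subtype.ext (mul_smul (a : G) b q.1) }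
    have hFmod := P.isPGroup'.card_modEq_card_fixedPoints F
    rw [Nat.card_congr (show MulAction.fixedPoints (P : Subgroup G) F ≃ MulAction.fixedPoints (P : Subgroup G) (G ⧸ M) from
      { toFun := fun q => ⟨q.1.1, fun a => congrArg Subtype.val (q.2 a)⟩
        invFun := fun q => ⟨⟨q.1, hPF q.1 q.2⟩, fun a => Subtype.ext (q.2 a)⟩
        left_inv := fun q => rfl
        right_inv := fun q => rfl }), hs2] at hFmod
    have hug : IsPGroup 2 (zpowers u) := IsPGroup.of_card (n := 1) (by rw [Nat.card_zpowers, hu, pow_one])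
    have hFodd := hug.card_modEq_card_fixedPoints (G ⧸ M)
    rw [Nat.card_congr (Equiv.subtypeEquivRight fun q => (⟨fun hq => hq ⟨u, mem_zpowers _⟩, fun hq w => by
      obtain ⟨i, hi⟩ := mem_zpowers_iff.1 w.2
      have hfixq : u ∈ MulAction.stabilizer G q := hq
      show (w : G) • q = q
      rw [← hi]
      exact zpow_mem hfixq i⟩ : (q ∈ MulAction.fixedPoints (zpowers u) (G ⧸ M)) ↔ q ∈ F)), ← Subgroup.index, hM21] at hFodd
    change Nat.ModEq 2 21 (Nat.card F) at hFodd
    have hFle : Nat.card F ≤ 21 := hM21 ▸ Nat.card_le_card_of_injective Subtype.val Subtype.val_injective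
    unfold Nat.ModEq at hFmod hFodd
    have hF21 : Nat.card F = 21 := by omega
    have hu1 : u = 1 := eq_one_of_fix_all hG hMtop fun q => by
      obtain ⟨x, rfl⟩ := (Subtype.val_injective.bijective_of_nat_card_le (hF21.symm ▸ le_of_eq hM21) :
        Function.Bijective (Subtype.val : F → G ⧸ M)).2 q
      exact x.2
    rw [hu1, orderOf_one] at hu; omega
  -- an involution of `K` central in a Sylow two-subgroup of `N`
  obtain ⟨u, huK, hu, hu8⟩ : ∃ u ∈ K, orderOf u = 2 ∧ 152 ∣ Nat.card (centralizer ({u} : Set G)) := by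
    obtain ⟨T'⟩ : Nonempty (Sylow 2 N) := inferInstance
    set T := (T' : Subgroup N).map N.subtype
    have hT : Nat.card T = 8 := by
      rw [card_map_of_injective N.subtype_injective]
      exact card_sylow_subgroup (k := 3) (m := 57) (by rw [hN]; norm_num) (by norm_num) T'
    have hTK : ∀ t ∈ T, ∀ x ∈ (K : Set G), t * x * t⁻¹ ∈ (K : Set G) := fun t ht x hx =>
      (mem_normalizer_iff.1 (hKN (map_subtype_le _ ht)) x).1 hx
    have hmod := card_conj_modEq (p := 2) T (T'.isPGroup'.map N.subtype) (K : Set G) hTK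
    rw [show Nat.card (K : Set G) = 4 from hK4] at hmod
    set W := {x : G // x ∈ (K : Set G) ∧ ∀ h ∈ T, h * x * h⁻¹ = x}
    have h1 : (⟨1, K.one_mem, fun h _ => by simp⟩ : W) = ⟨1, K.one_mem, fun h _ => by simp⟩ := rfl
    have h2le : 1 < Nat.card W := by
      have : 0 < Nat.card W := Nat.card_pos_iff.2 ⟨⟨⟨1, K.one_mem, fun h _ => by simp⟩⟩, inferInstance⟩
      unfold Nat.ModEq at hmod
      omega
    have : Nontrivial W := Finite.one_lt_card_iff_nontrivial.1 h2le
    obtain ⟨⟨x, hxK, hxT⟩, hx1⟩ := exists_ne (⟨1, K.one_mem, fun h _ => by simp⟩ : W)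
    have hx1' : x ≠ 1 := fun e => hx1 (Subtype.ext e)
    obtain ⟨i, hi, hi'⟩ := (Nat.dvd_prime_pow Nat.prime_two).1 ((K.orderOf_dvd_natCard hxK).trans (dvd_of_eq hK))
    obtain ⟨u, hux, hu⟩ : ∃ u ∈ zpowers x, orderOf u = 2 := by
      interval_cases i
      · exact absurd (orderOf_eq_one_iff.1 (by simpa using hi')) hx1'
      · exact ⟨x, mem_zpowers x, by simpa using hi'⟩
      · exact ⟨x ^ 2, pow_mem (mem_zpowers x) 2, by rw [orderOf_pow, hi']; norm_num⟩
    refine ⟨u, (zpowers_le.2 hxK) hux, hu, ?_⟩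
    have hTM : T ≤ centralizer ({u} : Set G) := fun t ht => by
      obtain ⟨j, rfl⟩ := mem_zpowers_iff.1 hux
      exact mem_centralizer_singleton_iff.2 ((show Commute t x from mul_inv_eq_iff_eq_mul.1 (hxT t ht)).zpow_right j).eq
    have hPM : (P : Subgroup G) ≤ centralizer ({u} : Set G) := fun a ha =>
      mem_centralizer_singleton_iff.2 (mem_centralizer_iff.1 (hKC ((zpowers_le.2 hxK) hux)) a ha)
    have hd8 := card_dvd_of_le hTM
    have hd19 := card_dvd_of_le hPM
    rw [hT] at hd8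
    rw [hP] at hd19
    exact Nat.Coprime.mul_dvd_of_dvd_of_dvd (by norm_num : Nat.Coprime 8 19) hd8 hd19
  set M := centralizer ({u} : Set G)
  have hMN : M ≤ N := hA u huK hu
  have huu : u * u = 1 := by rw [← pow_two, ← hu, pow_orderOf_eq_one]
  have hord : ∀ x, IsConj u x → orderOf x = 2 := fun x hx => by
    obtain ⟨c, hc⟩ := isConj_iff.1 hx
    rw [← hc, ← hu]
    exact orderOf_injective (MulAut.conj c).toMonoidHom (MulEquiv.injective _) u
  -- class counting
  set S : Set G := {x | IsConj u x ∧ x ∈ N}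
  have hform := CosetFixed.card_fixedBy_mul N u
  rw [hidx, CosetFixed.card_class] at hform
  have hMi := M.card_mul_index
  rw [h] at hMi
  set f := Nat.card (MulAction.fixedBy (G ⧸ N) u) with hfdef
  change f * M.index = 1008 * Nat.card S at hform
  have hif : 456 * f = Nat.card S * Nat.card M := by nlinarith
  have hf19 := LocalTools.card_fixedBy_modEq_one P hP (hKC huK)
  have hf4 := LocalTools.card_fixedBy_mod_four hG N huu
  rw [hidx] at hf4
  change f % 19 = 1 at hf19
  change f % 4 = 1008 % 4 at hf4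
  have hMd : Nat.card M ∣ 456 := hN ▸ card_dvd_of_le hMN
  obtain ⟨m, hm⟩ := hu8
  have hm3 : m = 1 ∨ m = 3 := by
    rw [hm] at hMd
    exact (Nat.dvd_prime Nat.prime_three).1 (Nat.dvd_of_mul_dvd_mul_left (show 0 < 152 by norm_num) hMd)
  -- an outer conjugate
  obtain ⟨v, hv, hvC⟩ : ∃ v ∈ S, v ∉ C := by
    by_contra hcon
    push Not at hcon
    have : Nat.card S ≤ 3 := le_trans (Nat.card_le_card_of_injective
      (fun x : S => (⟨x.1, x.2.1, hcon x.1 x.2⟩ : {x : G // IsConj u x ∧ x ∈ C}))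
      (fun a b e => Subtype.ext (congrArg (fun y : {x : G // IsConj u x ∧ x ∈ C} => (y : G)) e))) (hsmall u hu)
    rw [hm] at hif
    rcases hm3 with rfl | rfl <;> omega
  have hfv : f = Nat.card (MulAction.fixedBy (G ⧸ N) v) := by
    obtain ⟨c, hc⟩ := isConj_iff.1 hv.1
    refine Nat.card_congr
      { toFun := fun q => ⟨c • q.1, by
          show v • c • q.1 = c • q.1
          rw [smul_smul, ← hc, inv_mul_cancel_right, mul_smul, show u • q.1 = q.1 from q.2]⟩
        invFun := fun q => ⟨c⁻¹ • q.1, by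
          show u • c⁻¹ • q.1 = c⁻¹ • q.1
          rw [smul_smul, show u * c⁻¹ = c⁻¹ * v by rw [← hc]; group, mul_smul, show v • q.1 = q.1 from q.2]⟩
        left_inv := fun q => Subtype.ext (inv_smul_smul c q.1)
        right_inv := fun q => Subtype.ext (smul_inv_smul c q.1) }
  have horb : Nat.card (MulAction.orbitRel.Quotient (P : Subgroup G) (G ⧸ N)) = 54 := by
    have := Fintype.ofFinite (G ⧸ N)
    have := Fintype.ofFinite (P : Subgroup G)
    have := Fintype.ofFinite (MulAction.orbitRel.Quotient (P : Subgroup G) (G ⧸ N))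
    have hB := MulAction.sum_card_fixedBy_eq_card_orbits_mul_card_group (P : Subgroup G) (G ⧸ N)
    have hterm : ∀ a : (P : Subgroup G), Fintype.card (MulAction.fixedBy (G ⧸ N) a) = if a = 1 then 1008 else 1 := by
      intro a
      rw [← Nat.card_eq_fintype_card]
      split_ifs with ha
      · subst ha
        rw [← hidx, Subgroup.index]
        exact Nat.card_congr (Equiv.subtypeUnivEquiv fun q => by simp)
      · exact CosetFixed.card_fixedBy_eq_one P hP
          (TwoClass.zpowers_eq_sylow P hP a.2 fun e => ha (Subtype.ext e)).1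
    rw [Finset.sum_congr rfl fun a _ => hterm a, Finset.sum_ite, Finset.sum_const, Finset.sum_const,
      Finset.filter_eq', if_pos (Finset.mem_univ _), Finset.card_singleton, Finset.filter_ne',
      Finset.card_erase_of_mem (Finset.mem_univ _), Finset.card_univ, ← Nat.card_eq_fintype_card (α := (P : Subgroup G)), hP] at hB
    simp only [smul_eq_mul, ← Nat.card_eq_fintype_card] at hB
    change 1008 + _ = Nat.card (MulAction.orbitRel.Quotient (P : Subgroup G) (G ⧸ N)) * 19 at hB
    omega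
  have hf20 : f = 20 := by
    have := hfv ▸ CosetFixed.card_fixedBy_le P hP hv.2 hvC
    rw [horb] at this
    omega
  -- an outer conjugate centralised by `K`
  have hSN : ∀ g ∈ N, ∀ x ∈ S, g * x * g⁻¹ ∈ S := fun g hg x hx =>
    ⟨hx.1.trans (isConj_iff.2 ⟨g, rfl⟩), N.mul_mem (N.mul_mem hg hx.2) (N.inv_mem hg)⟩
  have hC3 := hsmall u hu
  have hmodP := card_conj_modEq (p := 19) (P : Subgroup G) P.isPGroup' S fun a ha => hSN a (le_normalizer ha)
  rw [Nat.card_congr (Equiv.subtypeEquivRight fun x => (⟨fun hx => ⟨hx.1.1, mem_centralizer_iff.2 fun a ha =>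
      mul_inv_eq_iff_eq_mul.1 (hx.2 a ha)⟩, fun hx => ⟨⟨hx.1, hCN hx.2⟩, fun a ha =>
      mul_inv_eq_iff_eq_mul.2 (mem_centralizer_iff.1 hx.2 a ha)⟩⟩ :
      (x ∈ S ∧ ∀ a ∈ (P : Subgroup G), a * x * a⁻¹ = x) ↔ (IsConj u x ∧ x ∈ C)))] at hmodP
  set S' : Set G := {x | x ∈ S ∧ x ∉ C}
  have hsplit : Nat.card S' + Nat.card {x : G // IsConj u x ∧ x ∈ C} = Nat.card S := by
    rw [Nat.card_congr (Equiv.subtypeEquivRight (q := fun x => x ∈ {x | x ∈ S ∧ x ∈ C}) fun x =>
      (⟨fun hx => ⟨⟨hx.1, hCN hx.2⟩, hx.2⟩, fun hx => ⟨hx.1.1, hx.2⟩⟩ : (IsConj u x ∧ x ∈ C) ↔ x ∈ S ∧ x ∈ C))]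
    rw [Nat.card_coe_set_eq, Nat.card_coe_set_eq]
    show S'.ncard + Nat.card ↥{x | x ∈ S ∧ x ∈ C} = _
    rw [Nat.card_coe_set_eq, ← Set.ncard_union_eq (by
      rw [Set.disjoint_left]; exact fun x hx hx' => hx.2 hx'.2) (Set.toFinite _) (Set.toFinite _)]
    congr 1
    ext x
    exact ⟨fun hx => hx.elim And.left And.left, fun hx => (em (x ∈ C)).elim (fun e => Or.inr ⟨hx, e⟩) fun e => Or.inl ⟨hx, e⟩⟩
  have hS'odd : Nat.card S' % 2 = 1 := by
    rw [hm, hf20] at hif
    unfold Nat.ModEq at hmodP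
    rcases hm3 with rfl | rfl <;> omega
  have hmodK := card_conj_modEq (p := 2) K (IsPGroup.of_card hK) S' fun k hk x hx =>
    ⟨hSN k (hCN (hKC hk)) x hx.1, fun e => hx.2 (by
      simpa [mul_assoc] using C.mul_mem (C.mul_mem (C.inv_mem (hKC hk)) e) (hKC hk))⟩
  obtain ⟨⟨w, ⟨⟨hwu, hwN⟩, hwC⟩, hwK⟩⟩ : Nonempty {x : G // x ∈ S' ∧ ∀ k ∈ K, k * x * k⁻¹ = x} := by
    rw [← not_isEmpty_iff]
    intro hE
    rw [Nat.card_eq_zero.2 (Or.inl hE)] at hmodK
    unfold Nat.ModEq at hmodK
    omega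
  obtain ⟨c, hc⟩ := isConj_iff.1 hwu
  -- its centraliser normalises the conjugate of `P` by `c`
  have hKc : ∀ k ∈ K, c⁻¹ * k * c ∈ N := fun k hk => hMN (mem_centralizer_singleton_iff.2 (by
    have e : k * w = w * k := mul_inv_eq_iff_eq_mul.1 (hwK k hk)
    rw [← hc] at e
    calc c⁻¹ * k * c * u = c⁻¹ * (k * (c * u * c⁻¹)) * c := by group
      _ = c⁻¹ * (c * u * c⁻¹ * k) * c := by rw [e]
      _ = u * (c⁻¹ * k * c) := by group))
  let φ : K →* N := MonoidHom.mk' (fun k => ⟨c⁻¹ * (k : G) * c, hKc k k.2⟩) fun a b => Subtype.ext (by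
    show c⁻¹ * ((a : G) * b) * c = c⁻¹ * a * c * (c⁻¹ * b * c)
    group)
  have : (C.subgroupOf N).Normal := normal_subgroupOf_of_le_normalizer (by
    intro g hg
    rw [mem_normalizer_iff]
    intro x
    refine ⟨fun hx => mem_centralizer_iff.2 fun a ha => ?_, fun hx => mem_centralizer_iff.2 fun a ha => ?_⟩
    · have := mem_centralizer_iff.1 hx (g⁻¹ * a * g) (by have := (mem_normalizer_iff.1 (N.inv_mem hg) a).1 ha; rwa [inv_inv] at this)
      calc a * (g * x * g⁻¹) = g * ((g⁻¹ * a * g) * x) * g⁻¹ := by group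
        _ = g * (x * (g⁻¹ * a * g)) * g⁻¹ := by rw [this]
        _ = g * x * g⁻¹ * a := by group
    · have := mem_centralizer_iff.1 hx (g * a * g⁻¹) ((mem_normalizer_iff.1 hg a).1 ha)
      calc a * x = g⁻¹ * ((g * a * g⁻¹) * (g * x * g⁻¹)) * g := by group
        _ = g⁻¹ * ((g * x * g⁻¹) * (g * a * g⁻¹)) * g := by rw [this]
        _ = x * a := by group)
  let ψ := (QuotientGroup.mk' (C.subgroupOf N)).comp φ
  have hker : 2 ∣ Nat.card ψ.ker := by
    have h1 := ψ.ker.card_mul_index
    rw [index_ker, hK4] at h1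
    have hr1 : Nat.card ψ.range ∣ 4 := hK4 ▸ card_range_dvd ψ
    have hr2 : Nat.card ψ.range ∣ 6 := by
      refine dvd_trans ψ.range.card_subgroup_dvd_card (dvd_of_eq ?_)
      have h3 := (C.subgroupOf N).card_mul_index
      rw [Nat.card_congr (subgroupOfEquivOfLe hCN).toEquiv, hC, hN] at h3
      show (C.subgroupOf N).index = 6
      omega
    have hr : Nat.card ψ.range ∣ 2 := Nat.dvd_gcd hr1 hr2
    rcases (Nat.dvd_prime Nat.prime_two).1 hr with e | e <;> rw [e] at h1 <;> omega
  obtain ⟨⟨⟨b, hbK⟩, hbker⟩, hb⟩ := exists_prime_orderOf_dvd_card' (G := ψ.ker) 2 hker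
  rw [← Subgroup.orderOf_coe, ← Subgroup.orderOf_coe] at hb
  change orderOf b = 2 at hb
  have hbC : c⁻¹ * b * c ∈ C := by
    have := MonoidHom.mem_ker.1 hbker
    exact (QuotientGroup.eq_one_iff (φ ⟨b, hbK⟩)).1 this
  have hPN : (c • P : Sylow 19 G) = P := by
    have hle : ((c • P : Sylow 19 G) : Subgroup G) ≤ N := by
      rintro _ ⟨a, ha, rfl⟩
      refine hA b hbK hb (mem_centralizer_singleton_iff.2 ?_)
      have e := mem_centralizer_iff.1 hbC a ha
      show c * a * c⁻¹ * b = b * (c * a * c⁻¹)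
      calc c * a * c⁻¹ * b = c * (a * (c⁻¹ * b * c)) * c⁻¹ := by group
        _ = c * (c⁻¹ * b * c * a) * c⁻¹ := by rw [e]
        _ = b * (c * a * c⁻¹) := by group
    have h1 := (c • P).isPGroup'.inf_normalizer_sylow P
    have h2 : ((c • P : Sylow 19 G) : Subgroup G) ≤ (P : Subgroup G) :=
      (le_inf le_rfl hle).trans (h1.le.trans inf_le_right)
    exact Sylow.ext (eq_of_le_of_card_ge h2 (by
      rw [hP, Nat.card_congr (Sylow.equiv (c • P) P).toEquiv, hP]))
  apply hwC
  refine mem_centralizer_iff.2 fun a ha => ?_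
  have ha' : a ∈ ((c • P : Sylow 19 G) : Subgroup G) := by rw [hPN]; exact ha
  obtain ⟨a₀, ha₀, rfl⟩ := ha'
  have e := mem_centralizer_iff.1 (hKC huK) a₀ ha₀
  show c * a₀ * c⁻¹ * w = w * (c * a₀ * c⁻¹)
  rw [← hc]
  calc c * a₀ * c⁻¹ * (c * u * c⁻¹) = c * (a₀ * u) * c⁻¹ := by group
    _ = c * (u * a₀) * c⁻¹ := by rw [e]
    _ = _ := by group

end CfsgLib.SmallGroups.Order459648
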