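import Cfsg.Agent.Lib.SmallGroups.BlockDegrees
import Cfsg.Agent.Lib.SmallGroups.CofactorTools

/-!
# The principal 7-block of a hypothetical simple group of order 5040

For an automiser of order two or three there is a rational character of degree 6 or 8, or one of the
two patterns with a degree 15 occurs.
-/

set_option autoImplicit false

namespace CfsgLib.SmallGroups.Order5040

open Cfsg CfsgLib.Blocks
open scoped Classical

variable {G : Type*} [Group G] [Fintype G] [IsSimpleGroup G]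

/-- A rational nontrivial character taking the value `ε` on the 7-singular elements of the Sylow. -/
def IsMember {p : ℕ} [Fact p.Prime] (P : Sylow p G) (χ : IrrCharacter G) (d : ℕ) (ε : ℤ) : Prop :=
  χ ≠ trivChar G ∧ charDegree (χ : G → ℂ) = d ∧ (∀ g : G, ∃ k : ℤ, (χ : G → ℂ) g = k) ∧
    ∀ z y : G, IsPPart p z y → y ∈ (P : Subgroup G) → y ≠ 1 → (χ : G → ℂ) z = (ε : ℂ)

/-- The degree patterns. -/
theorem patterns {G : Type*} [Group G] [Fintype G] [IsSimpleGroup G] (hG : ¬ IsMulCommutative G)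
    (h : Nat.card G = 5040) [Fact (Nat.Prime 7)] (P : Sylow 7 G) (hP : Nat.card P = 7)
    {e : ℕ} (he : e = 2 ∨ e = 3)
    (hN : Nat.card (Subgroup.normalizer ((P : Subgroup G) : Set G)) =
      e * Nat.card (Subgroup.centralizer ((P : Subgroup G) : Set G))) :
    (∃ χ, IsMember P χ 6 (-1)) ∨ (∃ χ, IsMember P χ 8 1) ∨
    (∃ χ, IsMember P χ 15 1 ∧ ∃ Y : Finset (IrrCharacter G), Y.card = 3 ∧ trivChar G ∉ Y ∧ χ ∉ Y ∧
      ∀ θ ∈ Y, charDegree (θ : G → ℂ) = 16 ∧ ∀ g : G, ¬ 7 ∣ orderOf g →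
        (θ : G → ℂ) g = 1 + (χ : G → ℂ) g) ∨
    (e = 3 ∧ ∃ χ χ' θ, IsMember P χ 15 1 ∧ IsMember P χ' 20 (-1) ∧ θ ≠ trivChar G ∧
      charDegree (θ : G → ℂ) = 4 ∧
      ∀ g : G, ¬ 7 ∣ orderOf g → - (θ : G → ℂ) g = 1 + (χ : G → ℂ) g - (χ' : G → ℂ) g) := by
  have hp : Nat.Prime 7 := Fact.out
  obtain ⟨M, hM⟩ := DegreeTools.TISum.exists_pmodular hp
  obtain ⟨X, Y, εX, ε, hB, hdisj, hX, hY, hXp, hε, hYd, hYagree, hrel⟩ :=
    PrimeOrder.principal_block hM (by norm_num) P hP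
  have haut : TIAbelian.autCard P = e := by
    rw [TIAbelian.autCard_eq, Subgroup.relIndex]
    have hle := Subgroup.centralizer_le_normalizer ((P : Subgroup G) : Set G)
    have h := ((Subgroup.centralizer ((P : Subgroup G) : Set G)).subgroupOf
      (Subgroup.normalizer ((P : Subgroup G) : Set G))).index_mul_card
    rw [Nat.card_congr (Subgroup.subgroupOfEquivOfLe hle).toEquiv, hN] at h
    exact Nat.eq_of_mul_eq_mul_right Nat.card_pos h
  rw [haut] at hX hY hYd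
  obtain ⟨x₀, hx₀P, hx₀, -⟩ := PrimeOrder.exists_generator P hP
  have htd : charDegree ((trivChar G : IrrCharacter G) : G → ℂ) = 1 := by simp [charDegree]
  have htriv : trivChar G ∈ X := by
    refine ((hB _).1 (trivChar_mem_principalBlock hM)).resolve_right fun h => ?_
    have h1 := hYd _ h
    rw [htd, Nat.cast_one, Int.ModEq] at h1
    rcases hε with rfl | rfl <;> rcases he with rfl | rfl <;> norm_num at h1
  have hεt : εX (trivChar G) = 1 := by
    have h := (hXp _ htriv).2.2 x₀ x₀ ⟨1, mul_one _, Commute.one_right _, ⟨1, by rw [hx₀, pow_one]⟩,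
      by rw [orderOf_one]; exact hp.not_dvd_one⟩ hx₀P (fun h => by rw [h, orderOf_one] at hx₀; omega)
    rw [trivChar_apply] at h
    exact_mod_cast h.symm
  obtain ⟨θ, hθ⟩ : Y.Nonempty := Finset.card_pos.1 (by
    rw [hY]; rcases he with rfl | rfl <;> norm_num)
  have hθt : θ ≠ trivChar G := fun e' => Finset.disjoint_left.1 hdisj htriv (e' ▸ hθ)
  have hYdeg : ∀ ψ ∈ Y, charDegree (ψ : G → ℂ) = charDegree (θ : G → ℂ) := fun ψ hψ =>
    Nat.cast_injective (R := ℂ) (by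
      rw [← irr_one_eq, ← irr_one_eq]
      exact hYagree ψ hψ θ hθ 1 (by rw [orderOf_one]; exact hp.not_dvd_one))
  have hmem : ∀ χ ∈ X.erase (trivChar G), charDegree (χ : G → ℂ) ∈ (Nat.divisors 5040) ∧
      2 ≤ charDegree (χ : G → ℂ) := by
    intro χ hχ
    obtain ⟨hne, -⟩ := Finset.mem_erase.1 hχ
    have h0 := charDegree_pos χ
    have h1 : charDegree (χ : G → ℂ) ≠ 1 := fun h => hne (BlockDegrees.eq_trivChar hG χ h)
    exact ⟨Nat.mem_divisors.mpr ⟨h ▸ charDegree_dvd χ, by norm_num⟩, by omega⟩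
  have hθd : charDegree (θ : G → ℂ) ∈ Nat.divisors 5040 :=
    Nat.mem_divisors.mpr ⟨h ▸ charDegree_dvd θ, by norm_num⟩
  have member : ∀ χ ∈ X.erase (trivChar G),
      charDegree (χ : G → ℂ) ≠ charDegree (θ : G → ℂ) →
      (∀ ψ ∈ X.erase (trivChar G), charDegree (ψ : G → ℂ) = charDegree (χ : G → ℂ) → ψ = χ) →
      IsMember P χ (charDegree (χ : G → ℂ)) (εX χ) := by
    intro χ hχ hne huniq
    obtain ⟨hnt, hχX⟩ := Finset.mem_erase.1 hχ
    refine ⟨hnt, rfl, Cofactor.rational_of_unique hM ((hB χ).2 (Or.inl hχX)) fun ψ hψ hd => ?_,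
      (hXp χ hχX).2.2⟩
    rcases (hB ψ).1 hψ with hψX | hψY
    · refine huniq ψ (Finset.mem_erase.2 ⟨fun e' => ?_, hψX⟩) hd
      rw [e', htd] at hd
      have := (hmem χ hχ).2
      omega
    · exact absurd ((hYdeg ψ hψY).symm.trans hd) (Ne.symm hne)
  have hrel' : ∀ g : G, ¬ 7 ∣ orderOf g → (ε : ℂ) * (θ : G → ℂ) g =
      1 + ∑ χ ∈ X.erase (trivChar G), (εX χ : ℂ) * (χ : G → ℂ) g := fun g hg => by
    rw [hrel θ hθ g hg, ← Finset.add_sum_erase _ _ htriv, hεt, trivChar_apply]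
    norm_num
  have hdeg := hrel' 1 (by rw [orderOf_one]; exact hp.not_dvd_one)
  simp only [irr_one_eq] at hdeg
  have hdeg' : ε * (charDegree (θ : G → ℂ) : ℤ) =
      1 + ∑ χ ∈ X.erase (trivChar G), εX χ * (charDegree (χ : G → ℂ) : ℤ) := by exact_mod_cast hdeg
  have hsgn : ∀ χ ∈ X.erase (trivChar G), (εX χ = 1 ∨ εX χ = -1) ∧
      (charDegree (χ : G → ℂ) : ℤ) % 7 = εX χ % 7 := fun χ hχ =>
    ⟨(hXp χ (Finset.mem_of_mem_erase hχ)).1, (hXp χ (Finset.mem_of_mem_erase hχ)).2.1⟩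
  have hθm := hYd θ hθ
  rw [Int.ModEq] at hθm
  rcases he with rfl | rfl
  · obtain ⟨χ, hχ⟩ := Finset.card_eq_one.1 (show (X.erase (trivChar G)).card = 1 by
      rw [Finset.card_erase_of_mem htriv, hX])
    have hχm : χ ∈ X.erase (trivChar G) := hχ ▸ Finset.mem_singleton_self χ
    rw [hχ, Finset.sum_singleton] at hdeg'
    obtain ⟨hs, hm⟩ := hsgn χ hχm
    have key : ∀ d ∈ Nat.divisors 5040, 2 ≤ d →
        ((d + 1 ∈ Nat.divisors 5040 ∧ d % 7 = 1) → d = 8 ∨ d = 15) ∧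
        ((d - 1 ∈ Nat.divisors 5040 ∧ d % 7 = 6 ∧ (d - 1) % 7 = 5) → d = 6) := by decide +kernel
    obtain ⟨k1, k2⟩ := key _ (hmem χ hχm).1 (hmem χ hχm).2
    have hd2 := (hmem χ hχm).2
    have hmemb := member χ hχm (by rcases hs with e | e <;> rw [e] at hdeg' <;> rcases hε with rfl | rfl <;> omega)
      fun ψ hψ _ => by rw [hχ] at hψ; exact Finset.mem_singleton.1 hψ
    rcases hs with e | e
    · rw [e] at hdeg' hmemb hm
      obtain ⟨rfl, hθ'⟩ : ε = 1 ∧ charDegree (θ : G → ℂ) = charDegree (χ : G → ℂ) + 1 := by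
        rcases hε with rfl | rfl <;> constructor <;> omega
      rcases k1 ⟨hθ' ▸ hθd, by omega⟩ with hd | hd
      · exact Or.inr (Or.inl ⟨χ, hd ▸ hmemb⟩)
      · refine Or.inr (Or.inr (Or.inl ⟨χ, hd ▸ hmemb, Y, ?_, ?_, ?_, fun ψ hψ => ⟨?_, fun g hg => ?_⟩⟩))
        · rw [hY]
        · exact Finset.disjoint_left.1 hdisj htriv
        · exact Finset.disjoint_left.1 hdisj (Finset.mem_of_mem_erase hχm)
        · rw [hYdeg ψ hψ, hθ', hd]
        · have h1 := hrel' g hg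
          rw [hχ, Finset.sum_singleton, e, ← hYagree ψ hψ θ hθ g hg] at h1
          simpa using h1
    · rw [e] at hdeg' hmemb hm
      obtain ⟨rfl, hθ'⟩ : ε = -1 ∧ charDegree (θ : G → ℂ) = charDegree (χ : G → ℂ) - 1 := by
        have := charDegree_pos θ
        rcases hε with rfl | rfl <;> constructor <;> omega
      exact Or.inl ⟨χ, k2 ⟨hθ' ▸ hθd, by omega, by omega⟩ ▸ hmemb⟩
  · obtain ⟨χ, χ', hne, hχ⟩ := Finset.card_eq_two.1 (show (X.erase (trivChar G)).card = 2 by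
      rw [Finset.card_erase_of_mem htriv, hX])
    have hm1 : χ ∈ X.erase (trivChar G) := by rw [hχ]; simp
    have hm2 : χ' ∈ X.erase (trivChar G) := by rw [hχ]; simp
    rw [hχ, Finset.sum_pair hne] at hdeg'
    set a := εX χ * (charDegree (χ : G → ℂ) : ℤ) with ha
    set b := εX χ' * (charDegree (χ' : G → ℂ) : ℤ) with hb
    have key : ∀ d ∈ Nat.divisors 5040, ∀ d' ∈ Nat.divisors 5040, ∀ s ∈ [(1 : ℤ), -1], ∀ s' ∈ [(1 : ℤ), -1],
        2 ≤ d → 2 ≤ d' → d ≤ d' → (d : ℤ) % 7 = s % 7 → (d' : ℤ) % 7 = s' % 7 →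
        (1 + s * d + s' * d') % 7 = 3 → (1 + s * d + s' * d').natAbs ∈ Nat.divisors 5040 →
        ((d ≠ d' ∧ (1 + s * (d : ℤ) + s' * d').natAbs ≠ d ∧ (d = 6 ∧ s = -1 ∨ d = 8 ∧ s = 1)) ∨
          (d = 15 ∧ s = 1 ∧ d' = 20 ∧ s' = -1)) := by decide +kernel
    have hxm : (1 + a + b) % 7 = 3 ∧ (1 + a + b).natAbs ∈ Nat.divisors 5040 ∧
        (1 + a + b).natAbs = charDegree (θ : G → ℂ) := by
      have e1 : 1 + a + b = ε * (charDegree (θ : G → ℂ) : ℤ) := by linarith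
      refine ⟨?_, ?_, ?_⟩
      · rcases hε with rfl | rfl <;> omega
      · rw [e1]; rcases hε with rfl | rfl <;> simpa using hθd
      · rw [e1]; rcases hε with rfl | rfl <;> simp
    have go : ∀ χ χ' : IrrCharacter G, χ ≠ χ' → X.erase (trivChar G) = {χ, χ'} →
        charDegree (χ : G → ℂ) ≤ charDegree (χ' : G → ℂ) →
        (1 + εX χ * (charDegree (χ : G → ℂ) : ℤ) + εX χ' * (charDegree (χ' : G → ℂ) : ℤ)) % 7 = 3 →
        (1 + εX χ * (charDegree (χ : G → ℂ) : ℤ) + εX χ' * (charDegree (χ' : G → ℂ) : ℤ)).natAbs ∈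
          Nat.divisors 5040 →
        (1 + εX χ * (charDegree (χ : G → ℂ) : ℤ) + εX χ' * (charDegree (χ' : G → ℂ) : ℤ)).natAbs =
          charDegree (θ : G → ℂ) →
        (∃ χ, IsMember P χ 6 (-1)) ∨ (∃ χ, IsMember P χ 8 1) ∨
        (∃ χ χ' θ, IsMember P χ 15 1 ∧ IsMember P χ' 20 (-1) ∧ θ ≠ trivChar G ∧
          charDegree (θ : G → ℂ) = 4 ∧
          ∀ g : G, ¬ 7 ∣ orderOf g → - (θ : G → ℂ) g = 1 + (χ : G → ℂ) g - (χ' : G → ℂ) g) := by
      intro χ χ' hne hχ hle h1 h2 h3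
      have hm1 : χ ∈ X.erase (trivChar G) := by rw [hχ]; simp
      have hm2 : χ' ∈ X.erase (trivChar G) := by rw [hχ]; simp
      have hk := key _ (hmem χ hm1).1 _ (hmem χ' hm2).1 (εX χ) (by simpa using (hsgn χ hm1).1)
        (εX χ') (by simpa using (hsgn χ' hm2).1) (hmem χ hm1).2 (hmem χ' hm2).2 hle (hsgn χ hm1).2
        (hsgn χ' hm2).2 h1 h2
      rcases hk with ⟨hdd, hnθ, hd⟩ | ⟨hd, hs, hd', hs'⟩
      · have hmemb := member χ hm1 (by rw [← h3]; exact Ne.symm hnθ) fun ψ hψ hψd => by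
          rw [hχ, Finset.mem_insert, Finset.mem_singleton] at hψ
          rcases hψ with rfl | rfl
          · rfl
          · exact absurd hψd.symm hdd
        rcases hd with ⟨hd, hs⟩ | ⟨hd, hs⟩
        · exact Or.inl ⟨χ, hd ▸ hs ▸ hmemb⟩
        · exact Or.inr (Or.inl ⟨χ, hd ▸ hs ▸ hmemb⟩)
      · rw [hd, hd', hs, hs'] at h3
        have hθ4 : charDegree (θ : G → ℂ) = 4 := by rw [← h3]; rfl
        have hu : ∀ ξ, (ξ = χ ∨ ξ = χ') → ∀ ψ ∈ X.erase (trivChar G),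
            charDegree (ψ : G → ℂ) = charDegree (ξ : G → ℂ) → ψ = ξ := fun ξ hξ ψ hψ e => by
          rw [hχ, Finset.mem_insert, Finset.mem_singleton] at hψ
          rcases hξ with rfl | rfl <;> rcases hψ with rfl | rfl <;> first | rfl | omega
        refine Or.inr (Or.inr ⟨χ, χ', θ, ?_, ?_, hθt, hθ4, fun g hg => ?_⟩)
        · exact hd ▸ hs ▸ member χ hm1 (by omega) (hu χ (Or.inl rfl))
        · exact hd' ▸ hs' ▸ member χ' hm2 (by omega) (hu χ' (Or.inr rfl))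
        · have hεm : ε = -1 := by
            have := hdeg
            rcases hε with rfl | rfl
            · exfalso
              rw [hθ4] at hθm
              norm_num at hθm
            · rfl
          have h1 := hrel' g hg
          rw [hχ, Finset.sum_pair hne, hs, hs', hεm] at h1
          push_cast at h1
          linear_combination h1
    have hfin : (∃ χ, IsMember P χ 6 (-1)) ∨ (∃ χ, IsMember P χ 8 1) ∨
        (∃ χ χ' θ, IsMember P χ 15 1 ∧ IsMember P χ' 20 (-1) ∧ θ ≠ trivChar G ∧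
          charDegree (θ : G → ℂ) = 4 ∧
          ∀ g : G, ¬ 7 ∣ orderOf g → - (θ : G → ℂ) g = 1 + (χ : G → ℂ) g - (χ' : G → ℂ) g) := by
      rcases le_total (charDegree (χ : G → ℂ)) (charDegree (χ' : G → ℂ)) with hle | hle
      · exact go χ χ' hne hχ hle hxm.1 hxm.2.1 hxm.2.2
      · have e1 : 1 + εX χ' * (charDegree (χ' : G → ℂ) : ℤ) + εX χ * (charDegree (χ : G → ℂ) : ℤ) = 1 + a + b := by
          rw [ha, hb]; ring
        exact go χ' χ (Ne.symm hne) (hχ.trans (Finset.pair_comm _ _)) hle (e1 ▸ hxm.1) (e1 ▸ hxm.2.1) (e1 ▸ hxm.2.2)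
    rcases hfin with h' | h' | h'
    · exact Or.inl h'
    · exact Or.inr (Or.inl h')
    · exact Or.inr (Or.inr (Or.inr ⟨rfl, h'⟩))

end CfsgLib.SmallGroups.Order5040
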