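import Cfsg.Agent.Lib.SmallGroups.OrdersBelow1092
import Cfsg.Agent.Lib.SmallGroups.OrdersBelow1092Cases
import Cfsg.Agent.Lib.SmallGroups.SimpleOrders
import Cfsg.Agent.Lib.SmallGroups.TwoClass

/-!
# Tools for the orders of simple groups between 3640 and 6232
-/

set_option autoImplicit false

namespace CfsgLib.SmallGroups.OrdersMid

open Subgroup CfsgLib.SmallGroups.SimpleTools CfsgLib.SmallGroups.LocalTools CfsgLib.SmallGroups.CosetFixed
  CfsgLib.SmallGroups.OrdersBelow1092

/-- The candidate signed degrees. -/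
def relCands (n p : ℕ) : List ℤ :=
  (((List.range (n + 1)).filter fun d => decide (2 ≤ d) && n % d == 0).flatMap fun d : ℕ =>
    [(d : ℤ), -(d : ℤ)]).filter fun a => (a - 1) % (p : ℤ) == 0

/-- The sums of lists of a given length. -/
def sums : ℕ → List ℤ → List ℤ
  | 0, _ => [0]
  | k + 1, c => c.flatMap fun a => (sums k c).map fun s => a + s

theorem mem_sums (c : List ℤ) : ∀ l : List ℤ, (∀ a ∈ l, a ∈ c) → l.sum ∈ sums l.length c
  | [], _ => by simp [sums]
  | a :: l, h => by
    simp only [List.length_cons, sums, List.mem_flatMap, List.mem_map, List.sum_cons]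
    exact ⟨a, h a (List.mem_cons_self ..), l.sum, mem_sums c l fun b hb => h b (List.mem_cons_of_mem _ hb), rfl⟩

/-- No relation of degrees is possible. -/
def relCheck (p m : ℕ) : Bool :=
  (List.range (m + 1)).all fun d => !(decide (2 ≤ d) && m % d == 0 && d % p == 1) ||
    (List.range p).all fun e => !(decide (2 ≤ e) && (p - 1) % e == 0 && m % (d * e) == 0) ||
      (decide (e + 1 < p) && (sums (e - 1) (relCands (p * m) p)).all fun s =>
        !((p * m) % (1 + s).natAbs == 0 && (1 + s - (e : ℤ)) % (p : ℤ) == 0))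

variable {G : Type*} [Group G] [Finite G]

theorem exists_ne_one [IsSimpleGroup G] (hG : ¬ IsMulCommutative G) : ∃ g : G, g ≠ 1 := by
  by_contra hc
  simp only [not_exists, not_not] at hc
  exact hG ⟨⟨fun a b => by rw [hc a, hc b]⟩⟩

/-- An order is excluded by the relation between the degrees in a principal block. -/
theorem false_of_relation [IsSimpleGroup G] (hG : ¬ IsMulCommutative G) {p m : ℕ} [Fact p.Prime]
    (hcard : Nat.card G = p * m) (hm : ¬ p ∣ m) (hp2 : p ≠ 2) (hcheck : relCheck p m = true) : False := by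
  have hp : p.Prime := Fact.out
  have hm0 : m ≠ 0 := fun e => hm (e ▸ dvd_zero p)
  have hmem := card_sylow_mem (G := G) (p := p) (k := 1) (m := m) (by rw [pow_one]; exact hcard) hm0
  obtain ⟨hnd, hnmod⟩ := Finset.mem_filter.mp hmem
  have hne := card_sylow_ne_one hG (p := p) (hcard ▸ dvd_mul_right p m)
  obtain ⟨P, e, k, hP, he1, hed, hnek, hN, hC⟩ := prime_order_setup hG (p := p) hcard hm rfl
  have hd := (Nat.mem_divisors.mp hnd).1
  have h2d : 2 ≤ Nat.card (Sylow p G) := by
    have : 0 < Nat.card (Sylow p G) := Nat.card_pos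
    omega
  have he0 : e ≠ 0 := fun e0 => by rw [e0, zero_mul] at hN; exact Nat.card_pos.ne' hN
  have hep : e < p := by
    have := Nat.le_of_dvd (by have := hp.two_le; omega) hed
    omega
  simp only [relCheck, List.all_eq_true, List.mem_range, Bool.or_eq_true, Bool.not_eq_true',
    Bool.and_eq_true, Bool.and_eq_false_iff, decide_eq_false_iff_not, decide_eq_true_eq,
    beq_eq_false_iff_ne, ne_eq] at hcheck
  have h := (hcheck _ (Nat.lt_succ_of_le (Nat.le_of_dvd (Nat.pos_of_ne_zero hm0) hd))).resolve_left (by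
    rintro ((h | h) | h)
    · exact h h2d
    · exact h (Nat.mod_eq_zero_of_dvd hd)
    · exact h hnmod)
  obtain ⟨he, hs⟩ := (h e hep).resolve_left (by
    rintro ((h | h) | h)
    · exact h (by omega)
    · exact h (Nat.mod_eq_zero_of_dvd hed)
    · exact h (Nat.mod_eq_zero_of_dvd ⟨k, by rw [← hnek]; ring⟩))
  obtain ⟨l, x, hl, ha, hx, hxe, hxs⟩ := relation hG hp2 P hP hN hC he
  have hlc : ∀ a ∈ l, a ∈ relCands (p * m) p := fun a hal => by
    obtain ⟨h1, h2, h3⟩ := ha a hal
    rw [hcard] at h1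
    simp only [relCands, List.mem_filter, List.mem_flatMap, List.mem_range, Bool.and_eq_true,
      decide_eq_true_eq, beq_iff_eq]
    refine ⟨⟨a.natAbs, ⟨Nat.lt_succ_of_le (Nat.le_of_dvd (Nat.pos_of_ne_zero
      (mul_ne_zero hp.ne_zero hm0)) h1), h2, Nat.mod_eq_zero_of_dvd h1⟩, ?_⟩,
      Int.emod_eq_zero_of_dvd (Int.modEq_iff_dvd.mp h3.symm)⟩
    rcases Int.natAbs_eq a with e' | e'
    · exact List.mem_cons.mpr (Or.inl e')
    · exact List.mem_cons_of_mem _ (List.mem_cons.mpr (Or.inl e'))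
  have := hs _ (show l.sum ∈ sums (e - 1) (relCands (p * m) p) by
    rw [show e - 1 = l.length by omega]; exact mem_sums _ l hlc)
  rw [← hxs] at this
  rcases this with h' | h'
  · exact h' (Nat.mod_eq_zero_of_dvd (hcard ▸ hx))
  · exact h' (Int.emod_eq_zero_of_dvd (Int.modEq_iff_dvd.mp hxe.symm))

/-- A non-trivial element moves some coset of a proper subgroup. -/
theorem card_fixedBy_lt [IsSimpleGroup G] (H : Subgroup G) (hH : H ≠ ⊤) {x : G} (hx : x ≠ 1) :
    Nat.card (MulAction.fixedBy (G ⧸ H) x) < H.index := by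
  by_contra h
  have huniv : MulAction.fixedBy (G ⧸ H) x = Set.univ :=
    Set.eq_of_subset_of_ncard_le (Set.subset_univ _) (by
      rw [Set.ncard_univ, ← Nat.card_coe_set_eq]; exact Nat.le_of_not_lt h)
  have hall : ∀ g : G, g⁻¹ * x * g ∈ H := fun g =>
    (mem_fixedBy_coe_iff H x g).mp (huniv ▸ Set.mem_univ _)
  have hcore : x ∈ H.normalCore := fun g => by simpa using hall g⁻¹
  rcases (inferInstance : H.normalCore.Normal).eq_bot_or_eq_top with h' | h'
  · rw [h', mem_bot] at hcore; exact hx hcore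
  · exact hH (top_le_iff.mp (h' ▸ H.normalCore_le))

theorem card_fixedBy_modEq {q : ℕ} [Fact q.Prime] (H : Subgroup G) {x : G} (hx : orderOf x = q) :
    Nat.card (MulAction.fixedBy (G ⧸ H) x) % q = H.index % q := by
  have h := (IsPGroup.of_card (n := 1) (by rw [Nat.card_zpowers, hx, pow_one]) :
    IsPGroup q ↥(zpowers x)).card_modEq_card_fixedPoints (G ⧸ H)
  have e : MulAction.fixedPoints ↥(zpowers x) (G ⧸ H) = MulAction.fixedBy (G ⧸ H) x := by
    ext c
    refine ⟨fun hc => hc ⟨x, mem_zpowers x⟩, fun hc => ?_⟩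
    rintro ⟨g, hg⟩
    obtain ⟨i, rfl⟩ := mem_zpowers_iff.mp hg
    exact MulAction.mem_fixedBy.mp (MulAction.fixedBy_subset_fixedBy_zpow (G ⧸ H) x i hc)
  rw [e] at h
  exact h.symm

/-- Double count of the conjugates of `x` lying in `H`. -/
theorem fixed_mul (H : Subgroup G) (x : G) :
    Nat.card (MulAction.fixedBy (G ⧸ H) x) * Nat.card H =
      Nat.card {g : G // IsConj x g ∧ g ∈ H} * Nat.card (centralizer ({x} : Set G)) := by
  have h := card_fixedBy_mul H x
  rw [card_class] at h
  have hi : 0 < (centralizer ({x} : Set G)).index := Nat.pos_of_ne_zero index_ne_zero_of_finite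
  refine Nat.eq_of_mul_eq_mul_right hi ?_
  calc _ = (Nat.card (MulAction.fixedBy (G ⧸ H) x) * (centralizer ({x} : Set G)).index) * Nat.card H := by ring
    _ = H.index * Nat.card {g : G // IsConj x g ∧ g ∈ H} * Nat.card H := by rw [h]
    _ = (H.index * Nat.card H) * Nat.card {g : G // IsConj x g ∧ g ∈ H} := by ring
    _ = ((centralizer ({x} : Set G)).index * Nat.card (centralizer ({x} : Set G))) *
        Nat.card {g : G // IsConj x g ∧ g ∈ H} := by rw [H.index_mul_card, index_mul_card]
    _ = _ := by ring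

/-- The points fixed by an element of prime order centralising a Sylow subgroup of prime order. -/
theorem exists_fixed [IsSimpleGroup G] (hG : ¬ IsMulCommutative G) {p q : ℕ} [Fact p.Prime] [Fact q.Prime]
    (P : Sylow p G) (hP : Nat.card (P : Subgroup G) = p) {x : G}
    (hx : x ∈ centralizer ((P : Subgroup G) : Set G)) (hq : orderOf x = q) :
    ∃ f, f = Nat.card (MulAction.fixedBy (G ⧸ normalizer ((P : Subgroup G) : Set G)) x) ∧
      f % p = 1 ∧ f < Nat.card (Sylow p G) ∧ f % q = Nat.card (Sylow p G) % q ∧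
      (q = 2 → f % 4 = Nat.card (Sylow p G) % 4) := by
  have hx1 : x ≠ 1 := fun e => by rw [e, orderOf_one] at hq; exact (Fact.out : q.Prime).one_lt.ne hq
  have hN := normalizer_ne_top hG (hP ▸ card_subgroup_dvd_card (P : Subgroup G)) P
  refine ⟨_, rfl, card_fixedBy_modEq_one P hP hx, ?_, ?_, fun h2 => ?_⟩
  · rw [P.card_eq_index_normalizer]; exact card_fixedBy_lt _ hN hx1
  · rw [P.card_eq_index_normalizer]; exact card_fixedBy_modEq _ hq
  · rw [P.card_eq_index_normalizer]
    exact card_fixedBy_mod_four hG _ (by rw [← pow_two, ← h2, ← hq, pow_orderOf_eq_one])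

theorem exists_mem_of_dvd {q : ℕ} [Fact q.Prime] (H : Subgroup G) (hd : q ∣ Nat.card H) :
    ∃ x ∈ H, orderOf x = q := by
  obtain ⟨⟨x, hx⟩, h⟩ := exists_prime_orderOf_dvd_card' (G := H) q hd
  exact ⟨x, hx, by rwa [← Subgroup.orderOf_coe] at h⟩

/-- A subgroup containing a Sylow subgroup: its Sylow count, the normaliser in it, and properness. -/
theorem sylow_count_le [IsSimpleGroup G] (hG : ¬ IsMulCommutative G) {p : ℕ} [Fact p.Prime] (P : Sylow p G)
    (hd : p ∣ Nat.card G) {H : Subgroup G} (hPH : (P : Subgroup G) ≤ H) (hH : H ≠ ⊤) :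
    ∃ n, n % p = 1 ∧ Nat.card H = n * Nat.card ↥(H ⊓ normalizer ((P : Subgroup G) : Set G)) ∧
      n < Nat.card (Sylow p G) ∧ n = Nat.card {Q : Sylow p G // (Q : Subgroup G) ≤ H} := by
  classical
  have hp : p.Prime := Fact.out
  have hmapc : ∀ Q : Sylow p ↥H, ∃ R : Sylow p G, (R : Subgroup G) = (Q : Subgroup ↥H).map H.subtype := by
    intro Q
    obtain ⟨R, hR⟩ := (Q.isPGroup'.map H.subtype).exists_le_sylow
    refine ⟨R, (eq_of_le_of_card_ge hR ?_).symm⟩
    rw [card_map_of_injective H.subtype_injective, Sylow.card_eq_multiplicity R,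
      ← Sylow.card_eq_multiplicity P, Nat.card_congr (Q.equiv (P.subtype hPH)).toEquiv]
    exact (Nat.card_congr (subgroupOfEquivOfLe hPH).toEquiv).ge
  choose f hf using hmapc
  have hfi : Function.Injective f := fun Q Q' e => Sylow.ext (map_injective H.subtype_injective (by
    rw [← hf Q, ← hf Q', e]))
  have hfH : ∀ Q, (f Q : Subgroup G) ≤ H := fun Q => hf Q ▸ map_subtype_le _
  refine ⟨Nat.card (Sylow p ↥H), ?_, ?_, ?_, ?_⟩
  · rw [card_sylow_modEq_one p ↥H, Nat.mod_eq_of_lt hp.one_lt]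
  · rw [← card_normalizer_mul (P.subtype hPH)]
    congr 1
    rw [← Nat.card_congr (subgroupOfEquivOfLe (inf_le_left :
      H ⊓ normalizer ((P : Subgroup G) : Set G) ≤ H)).toEquiv]
    congr 2
    ext x
    rw [mem_subgroupOf, mem_inf, mem_normalizer_iff, mem_normalizer_iff]
    constructor
    · intro h
      refine ⟨x.2, fun z => ?_⟩
      constructor
      · intro hz
        exact (h ⟨z, hPH hz⟩).mp hz
      · intro hz
        have hzH : z ∈ H := by
          have := H.mul_mem (H.mul_mem (H.inv_mem x.2) (hPH hz)) x.2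
          simpa [mul_assoc] using this
        exact (h ⟨z, hzH⟩).mpr hz
    · rintro ⟨-, h⟩ z
      exact h (z : G)
  · refine lt_of_le_of_ne (Nat.card_le_card_of_injective f hfi) fun e => hH ?_
    have hs : Function.Surjective f := ((Nat.bijective_iff_injective_and_card f).mpr ⟨hfi, e⟩).2
    have hclosure : Subgroup.normalClosure ((P : Subgroup G) : Set G) ≤ H := by
      rw [Subgroup.normalClosure, closure_le]
      intro a ha
      obtain ⟨b, hb, hab⟩ := Group.mem_conjugatesOfSet_iff.mp ha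
      obtain ⟨g, rfl⟩ := isConj_iff.mp hab
      obtain ⟨Q, hQ⟩ := hs (g • P)
      refine hfH Q ?_
      rw [hQ]
      exact ⟨b, hb, rfl⟩
    rcases (normalClosure_normal (s := ((P : Subgroup G) : Set G))).eq_bot_or_eq_top with h | h
    · exact absurd (eq_bot_iff.mpr (h ▸ le_normalClosure)) (P.ne_bot_of_dvd_card hd)
    · exact top_le_iff.mp (h ▸ hclosure)
  · refine le_antisymm (Nat.card_le_card_of_injective (fun Q => ⟨f Q, hfH Q⟩) fun Q Q' e =>
      hfi (congrArg Subtype.val e)) (Nat.card_le_card_of_injective (fun Q => Q.1.subtype Q.2) fun Q Q' e => ?_)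
    exact Subtype.ext (Sylow.subtype_injective e)

/-- An involution with small centraliser, Sylow `2`-subgroups of order eight. -/
theorem false_of_small_centralizer_eight [IsSimpleGroup G] {m : ℕ}
    (hcard : Nat.card G = 2 ^ 3 * m) (hm : ¬ 2 ∣ m) {t : G} (ht : orderOf t = 2)
    (h8 : ¬ 8 ∣ Nat.card (centralizer ({t} : Set G))) : False := by
  classical
  have : Fact (Nat.Prime 2) := ⟨Nat.prime_two⟩
  obtain ⟨S, hS⟩ := (IsPGroup.of_card (n := 1) (by rw [Nat.card_zpowers, ht, pow_one]) :
    IsPGroup 2 ↥(zpowers t)).exists_le_sylow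
  have htS : t ∈ (S : Subgroup G) := hS (mem_zpowers t)
  have hSc : Nat.card (S : Subgroup G) = 8 := (card_sylow_subgroup hcard hm S).trans (by norm_num)
  have hcen : ∀ u : G, (∀ s ∈ (S : Subgroup G), s * u = u * s) → 8 ∣ Nat.card (centralizer ({u} : Set G)) := by
    intro u hu
    have hle : (S : Subgroup G) ≤ centralizer ({u} : Set G) := fun s hs =>
      mem_centralizer_singleton_iff.mpr (hu s hs)
    have := card_dvd_of_le hle
    rwa [hSc] at this
  obtain ⟨g, hg⟩ : ∃ g : (S : Subgroup G), orderOf g = 4 := by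
    have hdiv : ∀ a : (S : Subgroup G), orderOf a = 1 ∨ orderOf a = 2 ∨ orderOf a = 4 ∨ orderOf a = 8 := by
      intro a
      have h := (orderOf_dvd_natCard a).trans (dvd_of_eq (hSc.trans (show (8 : ℕ) = 2 ^ 3 by norm_num)))
      obtain ⟨i, hi, e⟩ := (Nat.dvd_prime_pow Nat.prime_two).mp h
      interval_cases i <;> simp_all
    by_contra hno
    simp only [not_exists] at hno
    refine h8 (hcen t fun s hs => ?_)
    have hsq : ∀ a : (S : Subgroup G), a * a = 1 := fun a => by
      rcases hdiv a with h | h | h | h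
      · rw [orderOf_eq_one_iff.mp h, one_mul]
      · have h' := pow_orderOf_eq_one a
        rwa [h, pow_two] at h'
      · exact absurd h (hno a)
      · exact absurd (by rw [orderOf_pow_of_dvd (by norm_num) (by rw [h]; norm_num), h]) (hno (a ^ 2))
    have hinv : ∀ a : (S : Subgroup G), a⁻¹ = a := fun a => inv_eq_of_mul_eq_one_right (hsq a)
    refine congrArg Subtype.val (show (⟨s, hs⟩ : (S : Subgroup G)) * ⟨t, htS⟩ = ⟨t, htS⟩ * ⟨s, hs⟩ from ?_)
    rw [← hinv (⟨s, hs⟩ * ⟨t, htS⟩), mul_inv_rev, hinv, hinv]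
  set M := zpowers g with hM
  have hMi : M.index = 2 := by
    have h := M.index_mul_card
    rw [Nat.card_zpowers, hg, hSc] at h
    omega
  have hMn : M.Normal := normal_of_index_eq_two hMi
  have hinvol : ∀ a ∈ M, orderOf a = 2 → a = g ^ 2 := by
    intro a ha h2
    obtain ⟨i, rfl⟩ : ∃ i : ℕ, g ^ i = a := (Submonoid.mem_powers_iff _ _).mp
      (mem_powers_iff_mem_zpowers.mpr ha)
    rw [← pow_mod_orderOf, hg] at h2 ⊢
    have := Nat.mod_lt i (show 4 > 0 by norm_num)
    interval_cases h : i % 4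
    · simp at h2
    · rw [pow_one, hg] at h2; norm_num at h2
    · rfl
    · rw [Nat.Coprime.orderOf_pow (by rw [hg]; norm_num), hg] at h2; norm_num at h2
  have hg2 : ∀ s : (S : Subgroup G), s * g ^ 2 = g ^ 2 * s := by
    intro s
    have hmem : s * g ^ 2 * s⁻¹ ∈ M := hMn.conj_mem _ (pow_mem (mem_zpowers g) 2) s
    have ho : orderOf (s * g ^ 2 * s⁻¹) = 2 := by
      rw [show s * g ^ 2 * s⁻¹ = (MulAut.conj s).toMonoidHom (g ^ 2) from rfl,
        orderOf_injective _ (MulAut.conj s).injective, orderOf_pow_of_dvd (by norm_num) (by rw [hg]; norm_num), hg]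
    have := hinvol _ hmem ho
    calc s * g ^ 2 = s * g ^ 2 * s⁻¹ * s := by group
      _ = g ^ 2 * s := by rw [this]
  have hu0 : 8 ∣ Nat.card (centralizer ({((g ^ 2 : (S : Subgroup G)) : G)} : Set G)) :=
    hcen _ fun s hs => congrArg Subtype.val (hg2 ⟨s, hs⟩)
  have htM : t ∉ M.map (S : Subgroup G).subtype := by
    rintro ⟨a, ha, e⟩
    change (a : G) = t at e
    have : orderOf a = 2 := by rw [← Subgroup.orderOf_coe, e, ht]
    rw [← hinvol a ha this, e] at hu0
    exact h8 hu0
  have hidx : (M.map (S : Subgroup G).subtype).relIndex (S : Subgroup G) = 2 := by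
    rw [relIndex, subgroupOf, comap_map_eq_self_of_injective (S : Subgroup G).subtype_injective]
    exact hMi
  rcases CfsgLib.Fusion.ThompsonTransfer.thompson_transfer S _ (map_subtype_le M) hidx t
    (by rw [← ht, pow_orderOf_eq_one]) htS htM with ⟨N, hN, hN2, -⟩ | ⟨x, a, ha, e⟩
  · rcases hN.eq_bot_or_eq_top with h | h
    · rw [h, index_bot, hcard] at hN2; omega
    · rw [h, index_top] at hN2; omega
  · have ho : orderOf a = 2 := by
      rw [← Subgroup.orderOf_coe]
      change orderOf ((S : Subgroup G).subtype a) = 2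
      rw [e, show x * t * x⁻¹ = (MulAut.conj x).toMonoidHom t from rfl,
        orderOf_injective _ (MulAut.conj x).injective, ht]
    rw [← hinvol a ha ho] at hu0
    change 8 ∣ Nat.card (centralizer ({(S : Subgroup G).subtype a} : Set G)) at hu0
    rw [e] at hu0
    refine h8 ?_
    have hc : Nat.card (centralizer ({t} : Set G)) = Nat.card (centralizer ({x * t * x⁻¹} : Set G)) := by
      have hxt : IsConj t (x * t * x⁻¹) := isConj_iff.mpr ⟨x, rfl⟩
      have hidx : (centralizer ({t} : Set G)).index = (centralizer ({x * t * x⁻¹} : Set G)).index := by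
        rw [← card_class, ← card_class]
        exact Nat.card_congr (Equiv.subtypeEquivRight fun g => ⟨hxt.symm.trans, hxt.trans⟩)
      have h1 := index_mul_card (centralizer ({t} : Set G))
      rw [hidx, ← index_mul_card (centralizer ({x * t * x⁻¹} : Set G))] at h1
      exact Nat.eq_of_mul_eq_mul_left (Nat.pos_of_ne_zero index_ne_zero_of_finite) h1
    rwa [hc]

/-- Sylow `2`-subgroups of order four have no element of order four. -/
theorem no_order_four [IsSimpleGroup G] (hG : ¬ IsMulCommutative G) {m : ℕ} (hcard : Nat.card G = 2 ^ 2 * m)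
    (hm : ¬ 2 ∣ m) {g : G} : orderOf g ≠ 4 := by
  intro hg
  have : Fact (Nat.Prime 2) := ⟨Nat.prime_two⟩
  obtain ⟨T, hT⟩ := (IsPGroup.of_card (n := 2) (by rw [Nat.card_zpowers, hg]; norm_num) :
    IsPGroup 2 ↥(zpowers g)).exists_le_sylow
  have hT' : zpowers g = (T : Subgroup G) := eq_of_le_of_card_ge hT (by
    rw [card_sylow_subgroup hcard hm T, Nat.card_zpowers, hg]; norm_num)
  have h2 : 2 ∣ Nat.card G := hcard ▸ dvd_mul_of_dvd_left (dvd_pow_self 2 two_ne_zero) m
  have hc : IsCyclic ↥(T : Subgroup G) := hT' ▸ (inferInstance : IsCyclic ↥(zpowers g))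
  exact CfsgLib.SmallGroups.SimpleOrders.not_isCyclic_of_minFac hG ((Nat.minFac_eq_two_iff _).mpr h2) h2 T hc

/-- Sylow `2`-subgroups of order four: all involutions are conjugate. -/
theorem isConj_involution [IsSimpleGroup G] {m : ℕ} (hcard : Nat.card G = 2 ^ 2 * m) (hm : ¬ 2 ∣ m)
    {t u : G} (ht : orderOf t = 2) (hu : orderOf u = 2) : IsConj t u := by
  classical
  have : Fact (Nat.Prime 2) := ⟨Nat.prime_two⟩
  obtain ⟨T, hT⟩ := (IsPGroup.of_card (n := 1) (by rw [Nat.card_zpowers, ht, pow_one]) :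
    IsPGroup 2 ↥(zpowers t)).exists_le_sylow
  obtain ⟨T', hT'⟩ := (IsPGroup.of_card (n := 1) (by rw [Nat.card_zpowers, hu, pow_one]) :
    IsPGroup 2 ↥(zpowers u)).exists_le_sylow
  obtain ⟨g, hg⟩ := MulAction.exists_smul_eq G T' T
  have hv : g * u * g⁻¹ ∈ (T : Subgroup G) := by
    rw [← hg]
    exact ⟨u, hT' (mem_zpowers u), rfl⟩
  have hev : IsConj u (g * u * g⁻¹) := isConj_iff.mpr ⟨g, rfl⟩
  have hord : ∀ x : G, orderOf (x * u * x⁻¹) = 2 := fun x => by
    rw [show x * u * x⁻¹ = (MulAut.conj x).toMonoidHom u from rfl,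
      orderOf_injective _ (MulAut.conj x).injective, hu]
  have hmem : ∀ x : G, x * u * x⁻¹ ∈ zpowers t → IsConj t u := by
    intro x hx
    obtain ⟨i, hi⟩ : ∃ i : ℕ, t ^ i = x * u * x⁻¹ := (Submonoid.mem_powers_iff _ _).mp
      (mem_powers_iff_mem_zpowers.mpr hx)
    have := hord x
    rw [← hi, ← pow_mod_orderOf, ht] at this
    rw [← pow_mod_orderOf, ht] at hi
    rcases Nat.mod_two_eq_zero_or_one i with h | h <;> rw [h] at this hi
    · simp at this
    · rw [pow_one] at hi
      have h1 : IsConj u (x * u * x⁻¹) := isConj_iff.mpr ⟨x, rfl⟩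
      rw [← hi] at h1
      exact IsConj.symm h1
  by_cases hvt : g * u * g⁻¹ ∈ zpowers t
  · exact hmem g hvt
  have hidx : (zpowers t).relIndex (T : Subgroup G) = 2 := by
    have h := ((zpowers t).subgroupOf (T : Subgroup G)).index_mul_card
    rw [Nat.card_congr (subgroupOfEquivOfLe hT).toEquiv, Nat.card_zpowers, ht,
      card_sylow_subgroup hcard hm T] at h
    change (zpowers t).relIndex (T : Subgroup G) * 2 = 2 ^ 2 at h
    omega
  rcases CfsgLib.Fusion.ThompsonTransfer.thompson_transfer T _ hT hidx (g * u * g⁻¹)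
    (by rw [← hord g, pow_orderOf_eq_one]) hv hvt with ⟨N, hN, hN2, -⟩ | ⟨x, hx⟩
  · rcases hN.eq_bot_or_eq_top with h | h
    · rw [h, index_bot, hcard] at hN2; omega
    · rw [h, index_top] at hN2; omega
  · exact hmem (x * g) (by rw [show x * g * u * (x * g)⁻¹ = x * (g * u * g⁻¹) * x⁻¹ by group]; exact hx)

/-- An element of square one normalising but not centralising a subgroup of prime order inverts it. -/
theorem inverts {p : ℕ} [Fact p.Prime] {D : Subgroup G} (hD : Nat.card D = p) {u : G}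
    (huu : u * u = 1) (hu : u ∈ normalizer (D : Set G)) (huC : u ∉ centralizer (D : Set G)) :
    ∀ a ∈ D, u * a * u⁻¹ = a⁻¹ := by
  intro a ha
  have hcomm : IsMulCommutative D := (isCyclic_of_prime_card hD).isMulCommutative
  have hua : u * a * u⁻¹ ∈ D := (mem_normalizer_iff.mp hu a).mp ha
  have hu' : u⁻¹ = u := inv_eq_of_mul_eq_one_right huu
  have hc : a * (u * a * u⁻¹) = (u * a * u⁻¹) * a :=
    congrArg Subtype.val (hcomm.is_comm.comm ⟨a, ha⟩ ⟨_, hua⟩)
  have hw : u * (a * (u * a * u⁻¹)) = (a * (u * a * u⁻¹)) * u := by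
    rw [hu'] at hc ⊢
    calc u * (a * (u * a * u)) = (u * a * u) * a * u := by group
      _ = (a * (u * a * u)) * u := by rw [hc]
  rcases eq_or_ne (a * (u * a * u⁻¹)) 1 with h1 | h1
  · exact (inv_eq_of_mul_eq_one_right h1).symm
  · exfalso
    refine huC (mem_centralizer_iff.mpr fun b hb => ?_)
    have hgen : zpowers (a * (u * a * u⁻¹)) = D := eq_of_le_of_card_ge (zpowers_le.mpr (mul_mem ha hua)) (by
      rw [Nat.card_zpowers, hD]
      rcases (Nat.dvd_prime (Fact.out : p.Prime)).mp
        ((D.orderOf_dvd_natCard (mul_mem ha hua)).trans (dvd_of_eq hD)) with h | h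
      · exact absurd (orderOf_eq_one_iff.mp h) h1
      · exact h.ge)
    obtain ⟨i, rfl⟩ := mem_zpowers_iff.mp (hgen.symm ▸ hb : b ∈ zpowers (a * (u * a * u⁻¹)))
    exact ((show Commute u (a * (u * a * u⁻¹)) from hw).zpow_right i).eq.symm

/-- An element of the normaliser outside the centraliser has `p` conjugates in the normaliser. -/
theorem le_card_conj_in_normalizer {p : ℕ} [Fact p.Prime] (P : Sylow p G) (hP : Nat.card (P : Subgroup G) = p)
    {x u : G} (hu : u ∈ normalizer ((P : Subgroup G) : Set G))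
    (huC : u ∉ centralizer ((P : Subgroup G) : Set G)) (hxu : IsConj x u) :
    p ≤ Nat.card {g : G // IsConj x g ∧ g ∈ normalizer ((P : Subgroup G) : Set G)} := by
  refine hP.symm.le.trans (Nat.card_le_card_of_injective (fun a : (P : Subgroup G) => ⟨(a : G) * u * (a : G)⁻¹,
    hxu.trans (isConj_iff.mpr ⟨a, rfl⟩),
    mul_mem (mul_mem (le_normalizer a.2) hu) (inv_mem (le_normalizer a.2))⟩) ?_)
  intro a b e
  have e' : (a : G) * u * (a : G)⁻¹ = (b : G) * u * (b : G)⁻¹ := congrArg Subtype.val e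
  by_contra hne
  refine huC (mem_centralizer_iff.mpr fun w hw => ?_)
  have hmem : (b : G)⁻¹ * a ∈ (P : Subgroup G) := mul_mem (inv_mem b.2) a.2
  have hgen := (TwoClass.zpowers_eq_sylow P hP hmem fun h =>
    hne (Subtype.ext (inv_mul_eq_one.mp h).symm)).2
  have hc : Commute ((b : G)⁻¹ * a) u := by
    show (b : G)⁻¹ * a * u = u * ((b : G)⁻¹ * a)
    calc (b : G)⁻¹ * a * u = (b : G)⁻¹ * ((a : G) * u * (a : G)⁻¹) * a := by group
      _ = u * ((b : G)⁻¹ * a) := by rw [e']; group
  obtain ⟨i, rfl⟩ := mem_zpowers_iff.mp (hgen.symm ▸ hw : w ∈ zpowers ((b : G)⁻¹ * a))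
  exact (hc.zpow_left i).eq

/-- Subgroups of order `p` of a Sylow subgroup, each in some further Sylow subgroups. -/
theorem lines_le {p : ℕ} [Fact p.Prime] (P : Sylow p G) (hP : Nat.card (P : Subgroup G) = p ^ 2)
    (L : Finset (Subgroup G)) (r : ℕ) (hL : ∀ D ∈ L, D ≤ (P : Subgroup G) ∧ Nat.card D = p)
    (hr : ∀ D ∈ L, r ≤ Nat.card {Q : Sylow p G // Q ≠ P ∧ D ≤ (Q : Subgroup G)}) :
    L.card * r + 1 ≤ Nat.card (Sylow p G) := by
  classical
  have := Fintype.ofFinite (Sylow p G)
  let F : Subgroup G → Finset (Sylow p G) := fun D =>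
    Finset.univ.filter fun Q => Q ≠ P ∧ D ≤ (Q : Subgroup G)
  have hF : ∀ D, (F D).card = Nat.card {Q : Sylow p G // Q ≠ P ∧ D ≤ (Q : Subgroup G)} := fun D => by
    rw [Nat.card_eq_fintype_card, Fintype.card_subtype]
  have key : ∀ D ∈ L, ∀ D' ∈ L, D ≠ D' → Disjoint (F D) (F D') := by
    intro D hD D' hD' hne
    rw [Finset.disjoint_left]
    intro Q hQ hQ'
    simp only [F, Finset.mem_filter, Finset.mem_univ, true_and] at hQ hQ'
    refine hQ.1 ?_
    have hI : D ⊔ D' ≤ (P : Subgroup G) ⊓ (Q : Subgroup G) :=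
      sup_le (le_inf (hL D hD).1 hQ.2) (le_inf (hL D' hD').1 hQ'.2)
    obtain ⟨i, hi, e⟩ := (Nat.dvd_prime_pow (Fact.out : p.Prime)).mp
      (hP ▸ card_dvd_of_le (hI.trans inf_le_left))
    have hi2 : i = 2 := by
      by_contra hi2
      have hsup : Nat.card ↥(D ⊔ D') ≤ p := by
        rw [e]
        calc p ^ i ≤ p ^ 1 := Nat.pow_le_pow_right (Fact.out : p.Prime).pos (by omega)
          _ = p := pow_one p
      exact hne ((eq_of_le_of_card_ge le_sup_left ((hL D hD).2.symm ▸ hsup)).trans
        (eq_of_le_of_card_ge le_sup_right ((hL D' hD').2.symm ▸ hsup)).symm)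
    have hPle : (P : Subgroup G) ≤ Q := by
      rw [← eq_of_le_of_card_ge (hI.trans inf_le_left) (by rw [hP, e, hi2])]
      exact hI.trans inf_le_right
    exact Sylow.ext (eq_of_le_of_card_ge hPle (by
      rw [Sylow.card_eq_multiplicity Q, Sylow.card_eq_multiplicity P])).symm
  have h1 : (L.biUnion F).card + 1 ≤ Fintype.card (Sylow p G) := by
    have hsub : L.biUnion F ⊂ Finset.univ := by
      refine Finset.ssubset_univ_iff.mpr fun h => ?_
      obtain ⟨D, -, hD⟩ := Finset.mem_biUnion.mp (h ▸ Finset.mem_univ P)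
      simp [F] at hD
    exact Finset.card_lt_card hsub
  rw [Nat.card_eq_fintype_card]
  refine le_trans ?_ h1
  rw [Finset.card_biUnion key]
  refine Nat.add_le_add_right ?_ 1
  calc L.card * r = ∑ _D ∈ L, r := by rw [Finset.sum_const, smul_eq_mul]
    _ ≤ _ := Finset.sum_le_sum fun D hD => (hF D) ▸ hr D hD

/-- The Sylow subgroups meeting a given one trivially fall into regular orbits. -/
theorem dvd_card_disjoint {p : ℕ} [Fact p.Prime] (P : Sylow p G) :
    Nat.card (P : Subgroup G) ∣ Nat.card {Q : Sylow p G // (P : Subgroup G) ⊓ (Q : Subgroup G) = ⊥} := by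
  classical
  let X := {Q : Sylow p G // (P : Subgroup G) ⊓ (Q : Subgroup G) = ⊥}
  have hmem : ∀ (g : (P : Subgroup G)) (Q : Sylow p G), (P : Subgroup G) ⊓ (Q : Subgroup G) = ⊥ →
      (P : Subgroup G) ⊓ (((g : G) • Q : Sylow p G) : Subgroup G) = ⊥ := by
    intro g Q hQ
    rw [eq_bot_iff]
    rintro a ⟨haP, haQ⟩
    obtain ⟨b, hb, rfl⟩ := Subgroup.mem_map.mp
      (show a ∈ (Q : Subgroup G).map (MulAut.conj (g : G)).toMonoidHom from haQ)
    have hbP : b ∈ (P : Subgroup G) := by
      have := mul_mem (mul_mem (inv_mem g.2) haP) g.2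
      simpa [MulAut.conj_apply, mul_assoc] using this
    have : b = 1 := by simpa [hQ] using (show b ∈ (P : Subgroup G) ⊓ (Q : Subgroup G) from ⟨hbP, hb⟩)
    simp [this]
  let act : MulAction ↥(P : Subgroup G) X :=
    { smul := fun g Q => ⟨(g : G) • Q.1, hmem g Q.1 Q.2⟩
      one_smul := fun Q => Subtype.ext (one_smul G Q.1)
      mul_smul := fun g g' Q => Subtype.ext (mul_smul (g : G) (g' : G) Q.1) }
  have hfree : ∀ Q : X, MulAction.stabilizer ↥(P : Subgroup G) Q = ⊥ := by
    intro Q
    rw [eq_bot_iff]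
    intro g hg
    have h1 : (g : G) • Q.1 = Q.1 := congrArg Subtype.val hg
    have h2 : (g : G) ∈ (P : Subgroup G) ⊓ (Q.1 : Subgroup G) := by
      rw [← P.isPGroup'.inf_normalizer_sylow Q.1]
      exact ⟨g.2, Sylow.smul_eq_iff_mem_normalizer.mp h1⟩
    rw [Q.2, mem_bot] at h2
    exact mem_bot.mpr (Subtype.ext h2)
  have := Fintype.ofFinite (MulAction.orbitRel.Quotient ↥(P : Subgroup G) X)
  rw [Nat.card_congr (MulAction.selfEquivSigmaOrbits ↥(P : Subgroup G) X), Nat.card_sigma]
  refine Finset.dvd_sum fun ω _ => ?_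
  rw [Nat.card_coe_set_eq, ← MulAction.index_stabilizer, hfree, index_bot]

/-- No six-element normal complement of a self-centralising subgroup of order `25`. -/
theorem no_six_complement {P K : Subgroup G} (hP : Nat.card P = 25) (hK : Nat.card K = 6)
    (hPK : P ≤ normalizer (K : Set G)) (hC : centralizer (P : Set G) ≤ P) : False := by
  classical
  have : Fact (Nat.Prime 5) := ⟨by norm_num⟩
  have : Fact (Nat.Prime 3) := ⟨by norm_num⟩
  have : Fact (Nat.Prime 2) := ⟨Nat.prime_two⟩
  obtain ⟨y, hy, hy2⟩ := exists_mem_of_dvd (q := 2) K (by rw [hK]; norm_num)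
  obtain ⟨z, hz, hz3⟩ := exists_mem_of_dvd (q := 3) K (by rw [hK]; norm_num)
  let Y := {k : K // orderOf (k : G) = 2}
  have hconj : ∀ (a : P) (k : K), (a : G) * k * (a : G)⁻¹ ∈ K := fun a k =>
    (mem_normalizer_iff.mp (hPK a.2) k).mp k.2
  let act : MulAction ↥P Y :=
    { smul := fun a k => ⟨⟨(a : G) * (k.1 : G) * (a : G)⁻¹, hconj a k.1⟩, by
        show orderOf ((MulAut.conj (a : G)).toMonoidHom (k.1 : G)) = 2
        rw [orderOf_injective _ (MulAut.conj (a : G)).injective]
        exact k.2⟩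
      one_smul := fun k => Subtype.ext (Subtype.ext (by
        show ((1 : P) : G) * (k.1 : G) * ((1 : P) : G)⁻¹ = _
        simp))
      mul_smul := fun a b k => Subtype.ext (Subtype.ext (by
        show ((a * b : P) : G) * (k.1 : G) * ((a * b : P) : G)⁻¹ = (a : G) * ((b : G) * (k.1 : G) * (b : G)⁻¹) * (a : G)⁻¹
        push_cast
        group)) }
  let y' : Y := ⟨⟨y, hy⟩, hy2⟩
  have hY : Nat.card Y ≤ 4 := by
    have := Fintype.ofFinite K
    have hle : Nat.card Y ≤ ((Finset.univ.erase (1 : K)).erase ⟨z, hz⟩).card := by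
      rw [Nat.card_eq_fintype_card, Fintype.card_subtype]
      refine Finset.card_le_card fun k hk => ?_
      simp only [Finset.mem_filter, Finset.mem_univ, true_and] at hk
      refine Finset.mem_erase.mpr ⟨fun e => ?_, Finset.mem_erase.mpr ⟨fun e => ?_, Finset.mem_univ _⟩⟩
      · rw [e, hz3] at hk; omega
      · rw [e, OneMemClass.coe_one, orderOf_one] at hk; omega
    have hz1 : (⟨z, hz⟩ : K) ≠ 1 := fun e => by
      have := congrArg Subtype.val e
      simp only [OneMemClass.coe_one] at this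
      rw [this, orderOf_one] at hz3; omega
    rw [Finset.card_erase_of_mem (Finset.mem_erase.mpr ⟨hz1, Finset.mem_univ _⟩),
      Finset.card_erase_of_mem (Finset.mem_univ _), Finset.card_univ, ← Nat.card_eq_fintype_card, hK] at hle
    omega
  have horb : Nat.card (MulAction.orbit ↥P y') = 1 := by
    have hd : Nat.card (MulAction.orbit ↥P y') ∣ 5 ^ 2 := by
      rw [Nat.card_coe_set_eq, ← MulAction.index_stabilizer]
      exact (index_dvd_card _).trans (dvd_of_eq (hP.trans (by norm_num)))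
    have hle : Nat.card (MulAction.orbit ↥P y') ≤ 4 := (Nat.card_le_card_of_injective _
      Subtype.val_injective).trans hY
    obtain ⟨i, hi, e⟩ := (Nat.dvd_prime_pow (by norm_num : Nat.Prime 5)).mp hd
    interval_cases i <;> omega
  have hyC : y ∈ centralizer (P : Set G) := mem_centralizer_iff.mpr fun a ha => by
    have h := (Nat.card_eq_one_iff_unique.mp horb).1
    have he := congrArg (fun q : MulAction.orbit ↥P y' => ((q.1.1 : K) : G))
      (Subsingleton.elim (⟨(⟨a, ha⟩ : P) • y', MulAction.mem_orbit _ _⟩ : MulAction.orbit ↥P y')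
        ⟨y', MulAction.mem_orbit_self _⟩)
    change a * y * a⁻¹ = y at he
    exact mul_inv_eq_iff_eq_mul.mp he
  have := P.orderOf_dvd_natCard (hC hyC)
  rw [hy2, hP] at this
  norm_num at this

/-- Two Sylow subgroups meeting in a subgroup of index `p`, and the normaliser of this. -/
theorem exists_meet [IsSimpleGroup G] (hG : ¬ IsMulCommutative G) {p m a : ℕ} [Fact p.Prime]
    (hcard : Nat.card G = p ^ a * m) (hm : ¬ p ∣ m) (ha : 2 ≤ a)
    (hn : ¬ Nat.card (Sylow p G) ≡ 1 [MOD p ^ 2]) :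
    ∃ (P R : Sylow p G) (D : Subgroup G), P ≠ R ∧ D ≤ (P : Subgroup G) ∧ D ≤ (R : Subgroup G) ∧
      Nat.card D * p = p ^ a ∧ normalizer (D : Set G) ≠ ⊤ ∧
      (P : Subgroup G) ≤ normalizer (D : Set G) ∧ (R : Subgroup G) ≤ normalizer (D : Set G) := by
  have hp : p.Prime := Fact.out
  obtain ⟨P, R, hne, hidx⟩ := CfsgLib.SmallGroups.SylowInter.exists_relIndex_le (G := G) (p := p) 2 hn
  rw [pow_one] at hidx
  have hc : ∀ Q : Sylow p G, Nat.card (Q : Subgroup G) = p ^ a := card_sylow_subgroup hcard hm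
  set D := (R : Subgroup G) ⊓ (P : Subgroup G) with hD
  have key : ∀ Q : Sylow p G, D ≤ (Q : Subgroup G) → Nat.card D * p = p ^ a →
      (Q : Subgroup G) ≤ normalizer (D : Set G) := by
    intro Q hQ hcardD
    have hidxQ : (D.subgroupOf (Q : Subgroup G)).index = p := by
      have h := (D.subgroupOf (Q : Subgroup G)).index_mul_card
      rw [Nat.card_congr (subgroupOfEquivOfLe hQ).toEquiv, hc Q, ← hcardD, mul_comm (Nat.card D)] at h
      exact Nat.eq_of_mul_eq_mul_right Nat.card_pos h
    have : (D.subgroupOf (Q : Subgroup G)).Normal := normal_of_index_eq_minFac_card (by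
      rw [hidxQ, hc Q, Nat.pow_minFac (by omega), hp.minFac_eq])
    exact (normal_subgroupOf_iff_le_normalizer hQ).mp this
  have hPR : ¬ (P : Subgroup G) ≤ R := fun h =>
    hne (Sylow.ext (Subgroup.eq_of_le_of_card_ge h (by rw [hc, hc])))
  have hDP : Nat.card D * p = p ^ a := by
    have h := ((R : Subgroup G).subgroupOf (P : Subgroup G)).index_mul_card
    have e : Nat.card ↥((R : Subgroup G).subgroupOf (P : Subgroup G)) = Nat.card D := by
      rw [← inf_subgroupOf_right, Nat.card_congr (subgroupOfEquivOfLe inf_le_right).toEquiv]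
    rw [e, hc P] at h
    obtain ⟨j, hj, ej⟩ := (Nat.dvd_prime_pow hp).mp (Dvd.intro _ h)
    rcases Nat.lt_or_ge j 1 with h0 | h0
    · exfalso
      rw [ej, show j = 0 by omega, pow_zero, one_mul] at h
      exact hPR fun x hx =>
        ((Subgroup.eq_of_le_of_card_ge inf_le_right (by rw [hc P, h]) : D = P) ▸ hx : x ∈ D).1
    · have hjp : p ^ j ≤ p := ej ▸ hidx
      have h1 : j = 1 := by
        by_contra hne1
        exact absurd hjp (not_le.mpr (by
          calc p = p ^ 1 := (pow_one p).symm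
            _ < p ^ j := Nat.pow_lt_pow_right hp.one_lt (by omega)))
      rw [ej, h1, pow_one] at h
      linarith
  refine ⟨P, R, D, hne, inf_le_right, inf_le_left, hDP, fun e => ?_, key P inf_le_right hDP,
    key R inf_le_left hDP⟩
  rcases (normalizer_eq_top_iff.mp e).eq_bot_or_eq_top with h | h
  · rw [h, card_bot, one_mul] at hDP
    have := Nat.pow_lt_pow_right hp.one_lt (show 1 < a by omega)
    rw [pow_one, ← hDP] at this
    exact lt_irrefl _ this
  · exact hPR fun x _ => (show x ∈ D from h ▸ mem_top x).1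

/-- Sylow count of the normaliser of an intersection. -/
theorem one_lt_count [IsSimpleGroup G] (hG : ¬ IsMulCommutative G) {p : ℕ} [Fact p.Prime] (P R : Sylow p G)
    (hne : P ≠ R) (hd : p ∣ Nat.card G) {H : Subgroup G} (hPH : (P : Subgroup G) ≤ H)
    (hRH : (R : Subgroup G) ≤ H) (hH : H ≠ ⊤) :
    ∃ n, 1 < n ∧ n % p = 1 ∧ Nat.card H = n * Nat.card ↥(H ⊓ normalizer ((P : Subgroup G) : Set G)) ∧
      n < Nat.card (Sylow p G) ∧ n = Nat.card {Q : Sylow p G // (Q : Subgroup G) ≤ H} := by
  obtain ⟨n, hn, hc, hlt, hle⟩ := sylow_count_le hG P hd hPH hH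
  refine ⟨n, ?_, hn, hc, hlt, hle⟩
  by_contra h1
  have hn1 : n = 1 := by
    rcases Nat.eq_zero_or_pos n with h | h
    · rw [h] at hn; simp at hn
    · omega
  rw [hn1, one_mul] at hc
  have hHN : H ≤ normalizer ((P : Subgroup G) : Set G) := by
    rw [← eq_of_le_of_card_ge (inf_le_left : H ⊓ _ ≤ H) hc.le]
    exact inf_le_right
  have hRP : (R : Subgroup G) ≤ P := by
    intro x hx
    have h2 : x ∈ (R : Subgroup G) ⊓ normalizer ((P : Subgroup G) : Set G) := ⟨hx, hHN (hRH hx)⟩
    have h3 : x ∈ (R : Subgroup G) ⊓ (P : Subgroup G) :=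
      (SetLike.ext_iff.mp (R.isPGroup'.inf_normalizer_sylow P) x).mp h2
    exact h3.2
  exact hne (Sylow.ext (R.3 P.isPGroup' hRP))

/-- Exclusion through two Sylow subgroups meeting in a large subgroup. -/
theorem false_of_meet [IsSimpleGroup G] (hG : ¬ IsMulCommutative G) {p m a : ℕ} [Fact p.Prime]
    (hcard : Nat.card G = p ^ a * m) (hm : ¬ p ∣ m) (ha : 2 ≤ a) (b : ℕ)
    (hb : ¬ 2 * Nat.card G ∣ b.factorial)
    (hn : ∀ n ∈ (m.divisors.filter (fun n => n % p = 1)).erase 1, n ≤ b ∨ n % p ^ 2 ≠ 1)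
    (hi : ∀ i ∈ m.divisors, b < i → ∀ d ∈ (m / i).divisors, d % p = 1 → d = 1) : False := by
  have hp : p.Prime := Fact.out
  have hpd : p ∣ Nat.card G := hcard ▸ dvd_mul_of_dvd_left (dvd_pow_self p (by omega)) m
  have hm0 : m ≠ 0 := fun e => hm (e ▸ dvd_zero p)
  have hmem := sylow_count hG hcard hm0 (by omega)
  rcases hn _ hmem with h | h
  · obtain ⟨P⟩ : Nonempty (Sylow p G) := inferInstance
    have := lt_of_index hG _ (normalizer_ne_top hG hpd P) hb
    have h' := P.card_eq_index_normalizer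
    change Nat.card (Sylow p G) = (normalizer ((P : Subgroup G) : Set G)).index at h'
    omega
  · obtain ⟨P, R, D, hne, hDP, hDR, -, hM, hPM, hRM⟩ := exists_meet hG hcard hm ha (fun e => h (by
      rw [Nat.ModEq, Nat.one_mod_eq_one.mpr (by
        have := Nat.pow_lt_pow_right hp.one_lt (show 0 < 2 by norm_num)
        rw [pow_zero] at this; omega)] at e
      exact e))
    obtain ⟨n, hn1, hnp, hc, -, -⟩ := one_lt_count hG P R hne hpd hPM hRM hM
    set M := normalizer (D : Set G)
    have hidx := lt_of_index hG M hM hb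
    have hPc := card_sylow_subgroup hcard hm P
    have hd : p ^ a ∣ Nat.card ↥(M ⊓ normalizer ((P : Subgroup G) : Set G)) :=
      hPc ▸ card_dvd_of_le (le_inf hPM le_normalizer)
    obtain ⟨c, hc'⟩ := hd
    have hmul : M.index * (n * c) = m := by
      have := M.index_mul_card
      rw [hc, hc', hcard] at this
      refine Nat.eq_of_mul_eq_mul_left (pow_pos hp.pos a) ?_
      rw [← this]; ring
    have hdn : n ∣ m / M.index := by
      rw [← hmul, Nat.mul_div_cancel_left _ (Nat.pos_of_ne_zero index_ne_zero_of_finite)]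
      exact dvd_mul_right n c
    have hpos : m / M.index ≠ 0 := by
      rw [← hmul, Nat.mul_div_cancel_left _ (Nat.pos_of_ne_zero index_ne_zero_of_finite)]
      intro e
      rw [e, mul_zero] at hmul
      exact hm0 hmul.symm
    have := hi _ (Nat.mem_divisors.mpr ⟨⟨_, hmul.symm⟩, hm0⟩) hidx n (Nat.mem_divisors.mpr ⟨hdn, hpos⟩) hnp
    omega

end CfsgLib.SmallGroups.OrdersMid
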