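import Cfsg.Agent.Lib.SmallGroups.PermChain

/-!
# Simplicity from a stabiliser chain

Orbits of the groups of a checked chain, and a simplicity criterion for transitive groups with a
simple point stabiliser in which only trivial unions of stabiliser orbits have size dividing the degree.
-/

set_option autoImplicit false

namespace CfsgLib.SmallGroups.PermChain

open Subgroup MulAction

variable {n : ℕ}

/-- The check of a connected set: representatives reached from the generators. -/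
def connOK (n : ℕ) (J : List Level) (P : Level) : Bool :=
  decide (P.b < n) && P.gens.all (fun e => decide (e ∈ gensOf J) && ok n e) && P.orb.all (ok n) &&
  (match P.orb with
    | [] => false
    | o :: os => isId n o.1 && tree n P.gens [o] os P.par)

/-- The points of a connected set. -/
def pts (P : Level) : List ℕ := P.orb.map fun e => get e.1 P.b

theorem exists_map_of_conn {J : List Level} {P : Level} (h : connOK n J P = true) (hb : P.b < n)
    {y : Fin n} (hy : (y : ℕ) ∈ pts P) : ∃ σ ∈ grp n J, σ ⟨P.b, hb⟩ = y := by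
  obtain ⟨e, he, hye⟩ := List.mem_map.mp hy
  rcases horb : P.orb with _ | ⟨o, os⟩
  · rw [horb] at he; simp at he
  simp only [connOK, horb, Bool.and_eq_true, List.all_eq_true, decide_eq_true_eq] at h
  obtain ⟨⟨⟨-, hgens⟩, hook⟩, hid, htree⟩ := h
  have hoo : ok n o = true := hook o (by simp)
  have ho1 : toPerm n o = 1 := perm_one hid (rep_fst hoo)
  have hmem : toPerm n e ∈ grp n J := by
    rw [horb] at he
    rcases List.mem_cons.mp he with rfl | he
    · rw [ho1]; exact one_mem _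
    · exact tree_mem (H := grp n J) (S := P.gens)
        (fun s hs => ⟨(hgens s hs).2, subset_closure ⟨s, (hgens s hs).1, rfl⟩⟩) os P.par [o]
        (fun u hu => by rw [List.mem_singleton.mp hu]; exact ⟨hoo, ho1 ▸ one_mem _⟩)
        (fun x hx => hook x (by simp [hx])) htree e he
  have hoke : ok n e = true := hook e (horb ▸ he)
  exact ⟨_, hmem, Fin.ext ((rep_fst hoke ⟨P.b, hb⟩).symm.trans hye)⟩

/-- An invariant set is a union of connected sets. -/
theorem invariant_union {J : List Level} {parts : List Level}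
    (h : ∀ P ∈ parts, connOK n J P = true) (B : Set (Fin n))
    (hB : ∀ σ ∈ grp n J, ∀ y ∈ B, σ y ∈ B) (x : Fin n) (hx : x ∈ B) (U : List ℕ)
    (hU : ∀ y ∈ B, (y : ℕ) ∈ U) (hcov : ∀ y ∈ U, y = (x : ℕ) ∨ ∃ P ∈ parts, y ∈ pts P) :
    ∃ s ∈ parts.sublists, ∀ y : Fin n, y ∈ B ↔
      ((y : ℕ) ∈ U ∧ ((y : ℕ) = x ∨ ∃ P ∈ s, (y : ℕ) ∈ pts P)) := by
  classical
  have hmove : ∀ P ∈ parts, ∀ y z : Fin n, (y : ℕ) ∈ pts P → (z : ℕ) ∈ pts P → y ∈ B → z ∈ B := by
    intro P hP y z hy hz hyB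
    have hb : P.b < n := by
      have := h P hP
      simp only [connOK, Bool.and_eq_true, decide_eq_true_eq] at this
      exact this.1.1.1
    obtain ⟨σ, hσ, rfl⟩ := exists_map_of_conn (h P hP) hb hy
    obtain ⟨τ, hτ, rfl⟩ := exists_map_of_conn (h P hP) hb hz
    have := hB _ (mul_mem hτ (inv_mem hσ)) _ hyB
    simpa using this
  refine ⟨parts.filter (fun P => decide (∃ y : Fin n, (y : ℕ) ∈ pts P ∧ y ∈ B)),
    List.mem_sublists.mpr List.filter_sublist, fun y => ?_⟩
  constructor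
  · intro hy
    refine ⟨hU y hy, ?_⟩
    rcases hcov _ (hU y hy) with e | ⟨P, hP, hyP⟩
    · exact Or.inl e
    · exact Or.inr ⟨P, List.mem_filter.mpr ⟨hP, decide_eq_true ⟨y, hyP, hy⟩⟩, hyP⟩
  · rintro ⟨-, e | ⟨P, hP, hyP⟩⟩
    · rwa [Fin.ext e]
    · obtain ⟨hP, hz⟩ := List.mem_filter.mp hP
      obtain ⟨z, hzP, hzB⟩ := of_decide_eq_true hz
      exact hmove P hP z y hzP hyP hzB

/-- Only trivial unions have size dividing `d`. -/
def unionOK (U : List ℕ) (x : ℕ) (parts : List Level) (d : ℕ) : Bool :=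
  decide U.Nodup && decide (x ∈ U) && U.all (fun y => (y == x) || parts.any fun P => decide (y ∈ pts P)) &&
  parts.sublists.all fun s =>
    let k := U.countP fun y => (y == x) || s.any fun P => decide (y ∈ pts P)
    decide (d % k ≠ 0) || (k == 1) || (k == U.length)

theorem invariant_trivial {J : List Level} {parts : List Level} {U : List ℕ} {d : ℕ} {x : Fin n}
    (h : ∀ P ∈ parts, connOK n J P = true) (hu : unionOK U x parts d = true)
    (hUn : ∀ y ∈ U, y < n) (B : Set (Fin n))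
    (hB : ∀ σ ∈ grp n J, ∀ y ∈ B, σ y ∈ B) (hx : x ∈ B) (hBU : ∀ y ∈ B, (y : ℕ) ∈ U)
    (hd : B.ncard ∣ d) : B = {x} ∨ B.ncard = U.length := by
  simp only [unionOK, Bool.and_eq_true, List.all_eq_true, decide_eq_true_eq, Bool.or_eq_true,
    beq_iff_eq, List.any_eq_true] at hu
  obtain ⟨⟨⟨hnd, hxU⟩, hcov⟩, hsub⟩ := hu
  obtain ⟨s, hs, hiff⟩ := invariant_union h B hB x hx U hBU hcov
  set q : ℕ → Bool := fun y => (y == (x : ℕ)) || s.any fun P => decide (y ∈ pts P) with hq
  have hcard : B.ncard = U.countP q := by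
    rw [List.countP_eq_length_filter, ← List.toFinset_card_of_nodup (hnd.filter q),
      ← Set.ncard_image_of_injective B Fin.val_injective]
    rw [show Fin.val '' B = ↑(U.filter q).toFinset by
      ext y
      simp only [Set.mem_image, List.coe_toFinset, List.mem_filter, Set.mem_ofPred_eq]
      constructor
      · rintro ⟨z, hz, rfl⟩
        obtain ⟨h1, h2⟩ := (hiff z).mp hz
        exact ⟨h1, by simpa [hq] using h2⟩
      · rintro ⟨h1, h2⟩
        exact ⟨⟨y, hUn y h1⟩, (hiff _).mpr ⟨h1, by simpa [hq] using h2⟩, rfl⟩, Set.ncard_coe_finset]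
  rcases hsub s hs with (h' | h') | h'
  · exact absurd (Nat.mod_eq_zero_of_dvd (hcard ▸ hd)) h'
  · left
    obtain ⟨a, ha⟩ := Set.ncard_eq_one.mp (hcard.trans h')
    rw [ha] at hx ⊢
    rw [Set.mem_singleton_iff.mp hx]
  · exact Or.inr (hcard.trans h')

/-- A normal subgroup of a transitive group is trivial or has order divisible by the degree. -/
theorem dvd_of_normal {G X : Type*} [Group G] [Finite G] [MulAction G X] [FaithfulSMul G X]
    [Finite X] [IsPretransitive G X] (x : X)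
    (hblock : ∀ B : Set X, x ∈ B → (∀ g ∈ stabilizer G x, ∀ y ∈ B, g • y ∈ B) →
      B.ncard ∣ Nat.card X → B = {x} ∨ B = Set.univ)
    (N : Subgroup G) [hN : N.Normal] (hne : N ≠ ⊥) :
    orbit N x = Set.univ ∧ Nat.card X ∣ Nat.card N := by
  have hinv : ∀ g ∈ stabilizer G x, ∀ y ∈ orbit N x, g • y ∈ orbit N x := by
    rintro g hg _ ⟨m, rfl⟩
    refine ⟨⟨g * m * g⁻¹, hN.conj_mem _ m.2 g⟩, ?_⟩
    show (g * (m : G) * g⁻¹) • x = g • (m : G) • x
    rw [mul_smul, mul_smul, inv_smul_eq_iff.mpr (mem_stabilizer_iff.mp hg).symm]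
  have hdvd : (orbit N x).ncard ∣ Nat.card X :=
    (IsBlock.orbit_of_normal x).ncard_dvd_card ⟨x, mem_orbit_self x⟩
  rcases hblock _ (mem_orbit_self x) hinv hdvd with h | h
  · exfalso
    refine hne ((Subgroup.eq_bot_iff_forall _).mpr fun m hm => ?_)
    refine FaithfulSMul.eq_of_smul_eq_smul (α := X) fun y => ?_
    obtain ⟨g, rfl⟩ := exists_smul_eq G x y
    have : (g⁻¹ * m * g) • x ∈ orbit N x :=
      ⟨⟨g⁻¹ * m * g, by simpa using hN.conj_mem _ hm g⁻¹⟩, rfl⟩
    rw [h, Set.mem_singleton_iff, mul_smul, mul_smul, inv_smul_eq_iff] at this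
    rw [one_smul, this]
  · refine ⟨h, ?_⟩
    have hc : Nat.card (orbit N x) = Nat.card X := by rw [h]; exact Nat.card_congr (Equiv.Set.univ X)
    rw [← hc, Nat.card_congr (orbitEquivQuotientStabilizer N x)]
    exact Subgroup.card_quotient_dvd_card _

/-- **Simplicity**: simple point stabiliser and no regular normal subgroup. -/
theorem isSimple_of_chain {G X : Type*} [Group G] [Finite G] [MulAction G X] [FaithfulSMul G X]
    [Finite X] [IsPretransitive G X] (x : X)
    (hblock : ∀ B : Set X, x ∈ B → (∀ g ∈ stabilizer G x, ∀ y ∈ B, g • y ∈ B) →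
      B.ncard ∣ Nat.card X → B = {x} ∨ B = Set.univ)
    (hs : IsSimpleGroup (stabilizer G x))
    (hreg : ∀ N : Subgroup G, N.Normal → Nat.card N ≠ Nat.card X) : IsSimpleGroup G := by
  have : Nontrivial G := by
    obtain ⟨⟨g, hg⟩, hne⟩ := exists_ne (1 : stabilizer G x)
    exact ⟨⟨g, 1, fun h => hne (Subtype.ext h)⟩⟩
  refine ⟨fun N hN => ?_⟩
  by_contra hcon
  simp only [not_or] at hcon
  obtain ⟨hbot, htop⟩ := hcon
  obtain ⟨horb, -⟩ := dvd_of_normal x hblock N hbot
  rcases (hN.subgroupOf (stabilizer G x)).eq_bot_or_eq_top with h | h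
  · rw [subgroupOf_eq_bot, disjoint_iff] at h
    refine hreg N hN ?_
    have hst : stabilizer N x = ⊥ := (Subgroup.eq_bot_iff_forall _).mpr fun m hm => by
      have : (m : G) ∈ N ⊓ stabilizer G x := ⟨m.2, hm⟩
      rw [h, mem_bot] at this
      exact Subtype.ext this
    have hc := Nat.card_congr (orbitEquivQuotientStabilizer N x)
    rw [horb, Nat.card_congr (Equiv.Set.univ X), hst] at hc
    rw [hc]
    exact (Subgroup.index_bot (G := N)).symm
  · rw [subgroupOf_eq_top] at h
    refine htop (eq_top_iff.mpr fun g _ => ?_)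
    have hm : g • x ∈ orbit N x := horb ▸ Set.mem_univ _
    obtain ⟨a, ha⟩ := hm
    have : (a : G)⁻¹ * g ∈ N := h (by
      rw [mem_stabilizer_iff, mul_smul, inv_smul_eq_iff]; exact ha.symm)
    simpa using N.mul_mem a.2 this

/-- A subgroup containing a point stabiliser and moving the point everywhere is everything. -/
theorem eq_top_of_stabilizer_le {G X : Type*} [Group G] [MulAction G X] (x : X) (M : Subgroup G)
    (hle : stabilizer G x ≤ M) (horb : orbit M x = Set.univ) : M = ⊤ := by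
  refine eq_top_iff.mpr fun g _ => ?_
  have hm : g • x ∈ orbit M x := horb ▸ Set.mem_univ _
  obtain ⟨a, ha⟩ := hm
  have : (a : G)⁻¹ * g ∈ M := hle (by
    rw [mem_stabilizer_iff, mul_smul, inv_smul_eq_iff]; exact ha.symm)
  simpa using M.mul_mem a.2 this

/-- A map fixing every base point of a checked chain is trivial. -/
theorem eq_one_of_fix_base : ∀ {L : List Level}, check n L = true → ∀ σ ∈ grp n L,
    (∀ l ∈ L, ∀ y : Fin n, (y : ℕ) = l.b → σ y = y) → σ = 1
  | [], _, σ, hσ, _ => by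
    have : grp n [] = ⊥ := by simp [grp, gensOf]
    rw [this, mem_bot] at hσ
    exact hσ
  | l :: rest, hc, σ, hσ, hfx => by
    obtain ⟨hb, -⟩ := level_spec hc
    exact eq_one_of_fix_base (by simp [check] at hc; exact hc.2) σ
      (mem_rest_of_fix hc hσ hb (hfx l (by simp) _ rfl)) fun k hk => hfx k (by simp [hk])

variable {l : Level} {rest : List Level} (hc : check n (l :: rest) = true) (hb : l.b < n)

/-- The point stabiliser is the group of the shorter chain. -/
def stabEquiv : stabilizer (grp n (l :: rest)) (⟨l.b, hb⟩ : Fin n) ≃* grp n rest where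
  toFun g := ⟨((g : grp n (l :: rest)) : Equiv.Perm (Fin n)), mem_rest_of_fix hc g.1.2 hb g.2⟩
  invFun τ := ⟨⟨τ, by obtain ⟨-, -, hle, -⟩ := level_spec hc; exact hle τ.2⟩,
    by obtain ⟨-, -, -, hfix, -⟩ := level_spec hc; exact hfix τ τ.2⟩
  left_inv _ := rfl
  right_inv _ := rfl
  map_mul' _ _ := rfl

include hc in
theorem mem_orbit_iff (y : Fin n) :
    y ∈ orbit (grp n (l :: rest)) (⟨l.b, hb⟩ : Fin n) ↔ (y : ℕ) ∈ pts l := by
  have hok : ∀ e ∈ l.orb, ok n e = true := by
    simp only [check, Bool.and_eq_true] at hc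
    exact (levelOK_iff.mp hc.1).2.2.1
  obtain ⟨_, horb, _, hfix, hfac, _⟩ := level_spec hc
  constructor
  · rintro ⟨⟨σ, hσ⟩, rfl⟩
    obtain ⟨e, he, τ, hτ, rfl⟩ := hfac σ hσ
    refine List.mem_map.mpr ⟨e, he, ?_⟩
    show get e.1 l.b = ((toPerm n e * τ) ⟨l.b, hb⟩ : Fin n)
    rw [Equiv.Perm.mul_apply, hfix τ hτ]
    exact rep_fst (hok e he) ⟨l.b, hb⟩
  · intro hy
    obtain ⟨e, he, hye⟩ := List.mem_map.mp hy
    exact ⟨⟨_, horb e he⟩, Fin.ext ((rep_fst (hok e he) ⟨l.b, hb⟩).symm.trans hye)⟩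

include hc in
theorem card_orbit : Nat.card (orbit (grp n (l :: rest)) (⟨l.b, hb⟩ : Fin n)) = l.orb.length := by
  have hr : check n rest = true := by simp [check] at hc; exact hc.2
  rw [Nat.card_congr (orbitEquivQuotientStabilizer (grp n (l :: rest)) (⟨l.b, hb⟩ : Fin n))]
  have h := (stabilizer (grp n (l :: rest)) (⟨l.b, hb⟩ : Fin n)).index_mul_card
  rw [Nat.card_congr (stabEquiv hc hb).toEquiv, card_grp hc, List.map_cons, List.prod_cons,
    ← card_grp hr] at h
  exact Nat.eq_of_mul_eq_mul_right Nat.card_pos h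

include hc in
theorem faithful_orbit (hbase : ((l :: rest).all fun k => decide (k.b ∈ pts l)) = true) :
    FaithfulSMul (grp n (l :: rest)) (orbit (grp n (l :: rest)) (⟨l.b, hb⟩ : Fin n)) := by
  refine ⟨fun {a b} h => ?_⟩
  rw [← inv_mul_eq_one]
  refine Subtype.ext (eq_one_of_fix_base hc _ (b⁻¹ * a)⁻¹.2 fun k hk y hy => ?_) |>.symm.trans ?_ |>.symm
  · have hmem : (y : ℕ) ∈ pts l := hy ▸ of_decide_eq_true ((List.all_eq_true.mp hbase) k hk)
    have := congrArg Subtype.val (h ⟨y, (mem_orbit_iff hc hb y).mpr hmem⟩)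
    simp only [orbit.coe_smul] at this
    show ((b⁻¹ * a)⁻¹ • y) = y
    rw [inv_smul_eq_iff, mul_smul, this, inv_smul_smul]
  · simp

include hc in
theorem stabilizer_orbit_simple (h : IsSimpleGroup (grp n rest)) :
    IsSimpleGroup (stabilizer (grp n (l :: rest))
      (⟨⟨l.b, hb⟩, mem_orbit_self _⟩ : orbit (grp n (l :: rest)) (⟨l.b, hb⟩ : Fin n))) := by
  have he : stabilizer (grp n (l :: rest))
      (⟨⟨l.b, hb⟩, mem_orbit_self _⟩ : orbit (grp n (l :: rest)) (⟨l.b, hb⟩ : Fin n)) =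
      stabilizer (grp n (l :: rest)) (⟨l.b, hb⟩ : Fin n) := by
    ext g
    simp [mem_stabilizer_iff, Subtype.ext_iff]
  rw [he]
  exact MulEquiv.isSimpleGroup (stabEquiv hc hb)

include hc in
theorem orbit_block {parts : List Level} (hconn : ∀ P ∈ parts, connOK n rest P = true)
    (hu : unionOK (pts l) l.b parts l.orb.length = true)
    (B : Set (orbit (grp n (l :: rest)) (⟨l.b, hb⟩ : Fin n)))
    (hx : ⟨⟨l.b, hb⟩, mem_orbit_self _⟩ ∈ B)
    (hinv : ∀ g ∈ stabilizer (grp n (l :: rest))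
      (⟨⟨l.b, hb⟩, mem_orbit_self _⟩ : orbit (grp n (l :: rest)) (⟨l.b, hb⟩ : Fin n)),
      ∀ y ∈ B, g • y ∈ B)
    (hd : B.ncard ∣ Nat.card (orbit (grp n (l :: rest)) (⟨l.b, hb⟩ : Fin n))) :
    B = {⟨⟨l.b, hb⟩, mem_orbit_self _⟩} ∨ B = Set.univ := by
  obtain ⟨_, _, hle, hfix, _⟩ := level_spec hc
  have hUn : ∀ y ∈ pts l, y < n := fun y hy => by
    simp only [check, Bool.and_eq_true] at hc
    obtain ⟨e, he, rfl⟩ := List.mem_map.mp hy
    exact ((ok_iff.mp ((levelOK_iff.mp hc.1).2.2.1 e he)) l.b hb).1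
  rcases invariant_trivial (x := ⟨l.b, hb⟩) hconn hu hUn (Subtype.val '' B)
    (fun σ hσ _ ⟨y, hy, e⟩ => ⟨(⟨σ, hle hσ⟩ : grp n (l :: rest)) • y,
      hinv ⟨σ, hle hσ⟩ (Subtype.ext (show σ ⟨l.b, hb⟩ = ⟨l.b, hb⟩ from hfix σ hσ)) y hy, by rw [← e]; rfl⟩)
    ⟨_, hx, rfl⟩ (fun _ ⟨y, _, e⟩ => e ▸ (mem_orbit_iff hc hb y).mp y.2)
    (by rw [Set.ncard_image_of_injective B Subtype.val_injective, ← card_orbit hc hb]; exact hd) with h | h
  · refine Or.inl ((Set.image_injective.mpr Subtype.val_injective) ?_)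
    rw [h, Set.image_singleton]
  · right
    refine Set.eq_of_subset_of_ncard_le (Set.subset_univ B) ?_
    rw [Set.ncard_image_of_injective B Subtype.val_injective, pts, List.length_map] at h
    rw [Set.ncard_univ, card_orbit hc hb, h]

end CfsgLib.SmallGroups.PermChain
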