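import Cfsg.Agent.Lib.Classical.SLOrders

/-!
# The centraliser of a transvection in `SL(5, 2)`
-/

set_option autoImplicit false
set_option maxRecDepth 10000

namespace CfsgLib.SmallGroups.SL52Centralizer

open Matrix

/-- The parameters. -/
abbrev Params : Type :=
  ZMod 2 × (Fin 3 → ZMod 2) × (Fin 3 → ZMod 2) × Matrix.SpecialLinearGroup (Fin 3) (ZMod 2)

/-- The matrix commuting with the transvection with the given parameters. -/
def build (a : ZMod 2) (u w : Fin 3 → ZMod 2) (B : Matrix (Fin 3) (Fin 3) (ZMod 2)) :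
    Matrix (Fin 5) (Fin 5) (ZMod 2) :=
  !![1, a, u 0, u 1, u 2;
     0, 1, 0, 0, 0;
     0, w 0, B 0 0, B 0 1, B 0 2;
     0, w 1, B 1 0, B 1 1, B 1 2;
     0, w 2, B 2 0, B 2 1, B 2 2]

theorem det_build (a : ZMod 2) (u w : Fin 3 → ZMod 2) (B : Matrix (Fin 3) (Fin 3) (ZMod 2)) :
    (build a u w B).det = B.det := by
  simp [build, Matrix.det_succ_row_zero, Fin.sum_univ_succ, Fin.succAbove]

theorem commute_build (a : ZMod 2) (u w : Fin 3 → ZMod 2) (B : Matrix (Fin 3) (Fin 3) (ZMod 2)) :
    transvection 0 1 1 * build a u w B = build a u w B * transvection 0 1 1 := by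
  ext i j
  fin_cases i <;> fin_cases j <;>
    simp [build, transvection, Matrix.mul_apply, Fin.sum_univ_succ, Matrix.single, Matrix.one_apply,
      add_comm]

theorem entries {A : Matrix (Fin 5) (Fin 5) (ZMod 2)} (hdet : A.det = 1)
    (h : transvection 0 1 1 * A = A * transvection 0 1 1) :
    A = build (A 0 1) ![A 0 2, A 0 3, A 0 4] ![A 2 1, A 3 1, A 4 1]
      !![A 2 2, A 2 3, A 2 4; A 3 2, A 3 3, A 3 4; A 4 2, A 4 3, A 4 4] := by
  have hrow : ∀ j : Fin 5, j ≠ 1 → A 1 j = 0 := by
    intro j hj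
    have := congrFun (congrFun h 0) j
    rw [transvection_mul_apply_same, mul_transvection_apply_of_ne 0 1 0 j hj, one_mul] at this
    simpa using this
  have hcol : ∀ i : Fin 5, i ≠ 0 → A i 0 = 0 := by
    intro i hi
    have := congrFun (congrFun h i) 1
    rw [mul_transvection_apply_same, transvection_mul_apply_of_ne 0 1 i 1 hi, one_mul] at this
    simpa using this.symm
  have hdiag : A 0 0 = A 1 1 := by
    have := congrFun (congrFun h 0) 1
    rw [mul_transvection_apply_same, transvection_mul_apply_same, one_mul] at this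
    simpa using this.symm
  have h00 : A 0 0 = 1 := by
    rcases (by decide : ∀ x : ZMod 2, x = 0 ∨ x = 1) (A 0 0) with h0 | h0
    · exfalso
      rw [Matrix.det_eq_zero_of_column_eq_zero 0 fun i => ?_] at hdet
      · exact zero_ne_one hdet
      · rcases eq_or_ne i 0 with rfl | hi
        · exact h0
        · exact hcol i hi
    · exact h0
  have h11 : A 1 1 = 1 := hdiag ▸ h00
  ext i j
  fin_cases i <;> fin_cases j <;> simp [build, hrow, hcol, h00, h11]

/-- The centraliser in coordinates. -/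
theorem card_centralizer (s : Matrix.SpecialLinearGroup (Fin 5) (ZMod 2))
    (hs : (s : Matrix (Fin 5) (Fin 5) (ZMod 2)) = Matrix.transvection 0 1 1) :
    Nat.card (Subgroup.centralizer ({s} : Set (Matrix.SpecialLinearGroup (Fin 5) (ZMod 2)))) =
      21504 := by
  have hmem : ∀ A : Matrix.SpecialLinearGroup (Fin 5) (ZMod 2),
      A ∈ Subgroup.centralizer ({s} : Set _) ↔
        (transvection 0 1 1 : Matrix (Fin 5) (Fin 5) (ZMod 2)) * (A : Matrix (Fin 5) (Fin 5) (ZMod 2)) =
          (A : Matrix (Fin 5) (Fin 5) (ZMod 2)) * transvection 0 1 1 := by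
    intro A
    rw [Subgroup.mem_centralizer_singleton_iff, ← hs]
    constructor
    · intro e
      simpa using congrArg Subtype.val e.symm
    · intro e
      exact Subtype.ext (by simpa using e.symm)
  let f : Params → Subgroup.centralizer ({s} : Set (Matrix.SpecialLinearGroup (Fin 5) (ZMod 2))) :=
    fun p => ⟨⟨build p.1 p.2.1 p.2.2.1 p.2.2.2, (det_build _ _ _ _).trans p.2.2.2.2⟩,
      (hmem _).2 (commute_build _ _ _ _)⟩
  have hfv : ∀ p, ((f p : Matrix.SpecialLinearGroup (Fin 5) (ZMod 2)) :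
      Matrix (Fin 5) (Fin 5) (ZMod 2)) = build p.1 p.2.1 p.2.2.1 p.2.2.2 := fun _ => rfl
  have hf : Function.Bijective f := by
    constructor
    · rintro ⟨a, u, w, B⟩ ⟨a', u', w', B'⟩ e
      have e0 : build a u w B = build a' u' w' B' := by
        have h1 := hfv (a, u, w, B)
        rw [e, hfv] at h1
        exact h1.symm
      have e' : ∀ i j, build a u w B i j = build a' u' w' B' i j := fun i j =>
        congrFun (congrFun e0 i) j
      refine Prod.ext (e' 0 1) (Prod.ext ?_ (Prod.ext ?_ (Subtype.ext ?_)))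
      · funext k; fin_cases k <;> [exact e' 0 2; exact e' 0 3; exact e' 0 4]
      · funext k; fin_cases k <;> [exact e' 2 1; exact e' 3 1; exact e' 4 1]
      · ext i j
        fin_cases i <;> fin_cases j <;> [exact e' 2 2; exact e' 2 3; exact e' 2 4; exact e' 3 2;
          exact e' 3 3; exact e' 3 4; exact e' 4 2; exact e' 4 3; exact e' 4 4]
    · rintro ⟨A, hA⟩
      have e := entries A.2 ((hmem A).1 hA)
      have hB : (!![A.1 2 2, A.1 2 3, A.1 2 4; A.1 3 2, A.1 3 3, A.1 3 4;
          A.1 4 2, A.1 4 3, A.1 4 4] : Matrix (Fin 3) (Fin 3) (ZMod 2)).det = 1 := by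
        rw [← det_build, ← e]
        exact A.2
      refine ⟨(A.1 0 1, ![A.1 0 2, A.1 0 3, A.1 0 4], ![A.1 2 1, A.1 3 1, A.1 4 1], ⟨_, hB⟩),
        Subtype.ext (Subtype.ext ?_)⟩
      rw [hfv]
      exact e.symm
  have hSL : Nat.card (Matrix.SpecialLinearGroup (Fin 3) (ZMod 2)) = 168 := by
    have h := CfsgLib.Classical.card_units_mul_card_sl (F := ZMod 2) (n := Fin 3)
    rw [Matrix.card_GL_field, Nat.card_units] at h
    simp [Fin.prod_univ_three] at h
    rwa [Nat.card_eq_fintype_card]
  rw [← Nat.card_eq_of_bijective f hf]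
  rw [Nat.card_prod, Nat.card_prod, Nat.card_prod, hSL]
  simp

end CfsgLib.SmallGroups.SL52Centralizer
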