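import Cfsg.Agent.Lib.SmallGroups.MathieuSimple
import Cfsg.Prelude.Def_Sporadic

/-!
# Sharply 4- and 5-transitive groups of degree 11 and 12 are simple
-/

set_option autoImplicit false

namespace CfsgLib.SmallGroups.SharpMathieu

open MulAction

variable {G : Type*} [Group G] {α : Type*} [Fintype α] [MulAction G α]

theorem card_of_sharp {n : ℕ} [IsMultiplyPretransitive G α n] (h : n ≤ Fintype.card α)
    (hsharp : ∀ x : Fin n ↪ α, stabilizer G x = ⊥) :
    Nat.card G = (Fintype.card α).descFactorial n := by
  classical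
  obtain ⟨x⟩ : Nonempty (Fin n ↪ α) := Function.Embedding.nonempty_of_card_le (by simpa using h)
  have h1 := index_stabilizer_of_transitive G x
  rw [hsharp, Subgroup.index_bot, Nat.card_eq_fintype_card (α := Fin n ↪ α),
    Fintype.card_embedding_eq, Fintype.card_fin] at h1
  exact h1

theorem isSimple_of_eleven [Finite G] [FaithfulSMul G α] [IsPretransitive G α]
    (hα : Fintype.card α = 11) (hG : Nat.card G = 7920) : IsSimpleGroup G := by
  have := Fact.mk (show Nat.Prime 11 by norm_num)
  have hα' : Nat.card α = 11 := by rw [Nat.card_eq_fintype_card, hα]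
  have := IsPreprimitive.of_prime_card (G := G) (X := α) (hα' ▸ (by norm_num : Nat.Prime 11))
  obtain ⟨a⟩ : Nonempty α := Fintype.card_pos_iff.1 (by omega)
  exact PrimeDegree.isSimple_of_arith a (p := 11) (m := 720) (by rw [hG]) (by norm_num) 1
    (Or.inl rfl) (by rw [hα']) (by decide +kernel)

theorem isM11 [DecidableEq α] (hα : Fintype.card α = 11) (G : Subgroup (Equiv.Perm α))
    [IsMultiplyPretransitive G α 4] (hsharp : ∀ x : Fin 4 ↪ α, stabilizer G x = ⊥) :
    Cfsg.IsM11 G := by
  have hG : Nat.card G = 7920 := by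
    rw [card_of_sharp (by omega) hsharp, hα]
    rfl
  have : IsMultiplyPretransitive G α 1 :=
    isMultiplyPretransitive_of_le (n := 4) (by norm_num) (by simp [hα])
  have : IsPretransitive G α := is_one_pretransitive_iff.1 this
  exact ⟨isSimple_of_eleven hα hG, hG⟩

theorem isM12 [DecidableEq α] (hα : Fintype.card α = 12) (G : Subgroup (Equiv.Perm α))
    [IsMultiplyPretransitive G α 5] (hsharp : ∀ x : Fin 5 ↪ α, stabilizer G x = ⊥) :
    Cfsg.IsM12 G := by
  have hG : Nat.card G = 95040 := by
    rw [card_of_sharp (by omega) hsharp, hα]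
    rfl
  refine ⟨?_, hG⟩
  have h2 : IsMultiplyPretransitive G α 2 :=
    isMultiplyPretransitive_of_le (n := 5) (by norm_num) (by simp [hα])
  have hpt : IsPretransitive G α := is_one_pretransitive_iff.1
    (isMultiplyPretransitive_of_le (n := 5) (by norm_num) (by simp [hα]))
  have := isPreprimitive_of_is_two_pretransitive h2
  have htwo : ∀ a b c e : α, a ≠ b → c ≠ e → ∃ g : G, g • a = c ∧ g • b = e :=
    fun a b c e hab hce => is_two_pretransitive_iff.1 h2 hab hce
  obtain ⟨a⟩ : Nonempty α := Fintype.card_pos_iff.1 (by omega)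
  have hH : Nat.card (stabilizer G a) = 7920 := by
    have h := (stabilizer G a).index_mul_card
    rw [index_stabilizer_of_transitive, Nat.card_eq_fintype_card, hα, hG] at h
    omega
  let X := MathieuSimple.subAct (stabilizer G a) (Finset.univ.erase a) fun g hg x hx => by
    rw [Finset.mem_erase] at hx ⊢
    exact ⟨fun e => hx.1 (smul_left_cancel g (e.trans (mem_stabilizer_iff.1 hg).symm)),
      Finset.mem_univ _⟩
  have : Fintype X := Fintype.ofFinite X
  have hX : Fintype.card X = 11 := by
    rw [← Nat.card_eq_fintype_card, MathieuSimple.natCard_subAct,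
      Finset.card_erase_of_mem (Finset.mem_univ _), Finset.card_univ, hα]
  have : FaithfulSMul (stabilizer G a) X := ⟨fun {g g'} h => by
    refine Subtype.ext (FaithfulSMul.eq_of_smul_eq_smul (α := α) fun y => ?_)
    rcases eq_or_ne y a with rfl | hy
    · exact (g.2 : (g : G) • y = y).trans (g'.2 : (g' : G) • y = y).symm
    · exact congrArg Subtype.val (h ⟨y, by simp [X, hy]⟩)⟩
  have : IsPretransitive (stabilizer G a) X := ⟨fun u v => by
    have hu : (u : α) ≠ a := (Finset.mem_erase.1 (MathieuSimple.mem_subAct.1 u.2)).1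
    have hv : (v : α) ≠ a := (Finset.mem_erase.1 (MathieuSimple.mem_subAct.1 v.2)).1
    obtain ⟨g, hga, hg⟩ := htwo a u a v hu.symm hv.symm
    exact ⟨⟨g, hga⟩, Subtype.ext hg⟩⟩
  exact Simplicity.isSimple_of_stabilizer (G := G) (X := α) a
    (fun y z hy hz => htwo a y a z hy.symm hz.symm) (isSimple_of_eleven hX hH) Nat.prime_two
    Nat.prime_three (by norm_num) (by rw [Nat.card_eq_fintype_card, hα]; norm_num)
    (by rw [Nat.card_eq_fintype_card, hα]; norm_num)

end CfsgLib.SmallGroups.SharpMathieu
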