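import Cfsg.Agent.Lib.SmallGroups.Steiner12Data
import Cfsg.Agent.Lib.SmallGroups.Steiner

/-!
# Uniqueness and rigidity of `S(5,6,12)`
-/

set_option autoImplicit false
set_option maxRecDepth 8000

namespace CfsgLib.SmallGroups.Steiner12

open Cfsg Finset
open CfsgLib.SmallGroups.Steiner

theorem block_compl {α : Type*} [Fintype α] [DecidableEq α] (hα : Fintype.card α = 12) {B : Set (Finset α)}
    (hB : IsSteinerSystem 5 6 B) {b : Finset α} (hb : b ∈ B) : bᶜ ∈ B := by
  have h := inter12 hα hB hb (empty_subset b)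
  rw [show mu12 (∅ : Finset α).card = 1 from rfl, card_eq_one] at h
  obtain ⟨c, hc⟩ := h
  have hc' := hc.ge (mem_singleton_self c)
  rw [mem_filter, mem_blocks] at hc'
  have e : c = bᶜ := eq_of_subset_of_card_le
    (fun x hx => mem_compl.mpr fun hxb => notMem_empty x (hc'.2 ▸ mem_inter.mpr ⟨hx, hxb⟩))
    (by rw [card_compl, hα, hB.1 b hb, hB.1 c hc'.1])
  exact e ▸ hc'.1

/-- Transport along a bijection. -/
theorem isSteiner_image {α β : Type*} [Fintype α] [DecidableEq β] {t k : ℕ} {B : Set (Finset α)} (e : α ≃ β)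
    (hB : IsSteinerSystem t k B) : IsSteinerSystem t k ((fun S => S.map e.toEmbedding) '' B) := by
  refine ⟨?_, fun s hs => ?_⟩
  · rintro _ ⟨S, hS, rfl⟩
    rw [card_map]; exact hB.1 S hS
  · obtain ⟨b, ⟨hb, hsb⟩, huniq⟩ := hB.2 (s.map e.symm.toEmbedding) (by rw [card_map]; exact hs)
    refine ⟨b.map e.toEmbedding, ⟨⟨b, hb, rfl⟩, fun x hx => ?_⟩, ?_⟩
    · rw [mem_map_equiv]
      exact hsb (by rw [mem_map_equiv]; simpa using hx)
    · rintro _ ⟨⟨c, hc, rfl⟩, hsc⟩
      show c.map e.toEmbedding = b.map e.toEmbedding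
      rw [huniq c ⟨hc, fun x hx => by
        rw [mem_map_equiv] at hx
        have := hsc hx
        rw [mem_map_equiv] at this
        simpa using this⟩]

/-- Twelve points as two halves. -/
abbrev Pt : Type := Fin 6 ⊕ Fin 6

theorem card_pt : Fintype.card Pt = 12 := rfl

theorem toRight_compl (c : Finset Pt) : cᶜ.toRight = c.toRightᶜ := by ext; simp

theorem toLeft_compl (c : Finset Pt) : cᶜ.toLeft = c.toLeftᶜ := by ext; simp

theorem card_inter_eq (c c' : Finset Pt) :
    (c ∩ c').card = (c.toLeft ∩ c'.toLeft).card + (c.toRight ∩ c'.toRight).card := by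
  have h := card_toLeft_add_card_toRight (u := c ∩ c')
  rw [show (c ∩ c').toLeft = c.toLeft ∩ c'.toLeft by ext; simp,
    show (c ∩ c').toRight = c.toRight ∩ c'.toRight by ext; simp] at h
  exact h.symm

theorem eq_of_sides {c c' : Finset Pt} (h1 : c.toLeft = c'.toLeft) (h2 : c.toRight = c'.toRight) : c = c' := by
  ext x; cases x with
  | inl a => rw [← mem_toLeft, ← mem_toLeft, h1]
  | inr a => rw [← mem_toRight, ← mem_toRight, h2]

section Sys

variable {B : Set (Finset Pt)} (hB : IsSteinerSystem 5 6 B) (hbase : (univ : Finset (Fin 6)).disjSum ∅ ∈ B)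

include hB

theorem sides_card {c : Finset Pt} (hc : c ∈ B) : c.toLeft.card + c.toRight.card = 6 := by
  rw [card_toLeft_add_card_toRight]; exact hB.1 c hc

theorem inter_le {c c' : Finset Pt} (hc : c ∈ B) (hc' : c' ∈ B) (hne : c ≠ c') :
    (c.toLeft ∩ c'.toLeft).card + (c.toRight ∩ c'.toRight).card ≤ 4 := by
  rw [← card_inter_eq]
  by_contra h
  exact hne (eq_of_le_inter hB hc hc' (by omega))

include hbase

theorem left_count (L : Finset (Fin 6)) : ((blocks B).filter fun c => c.toLeft = L).card = mu12 L.card := by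
  classical
  have h := inter12 card_pt hB hbase (T := L.disjSum ∅) (fun x hx => by cases x <;> simp at hx ⊢)
  rw [show (L.disjSum (∅ : Finset (Fin 6))).card = L.card by rw [card_disjSum, card_empty, add_zero]] at h
  rw [← h]
  congr 1
  refine filter_congr fun c _ => ⟨fun e => ?_, fun e => ?_⟩
  · ext x; cases x <;> simp [← e]
  · ext a
    have := congrArg (fun S => Sum.inl a ∈ S) e
    simpa using this

theorem left_cases {c : Finset Pt} (hc : c ∈ B) : c.toLeft.card ≠ 1 ∧ c.toLeft.card ≠ 5 := by
  classical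
  constructor <;> intro h <;> have h1 := left_count hB hbase c.toLeft <;>
    rw [h, show ∀ n, mu12 n = mu12 n from fun _ => rfl] at h1 <;>
    simp only [mu12, card_eq_zero] at h1 <;>
    exact notMem_empty c (h1 ▸ mem_filter.mpr ⟨mem_blocks.mpr hc, rfl⟩)

/-- The syntheme of a pair on the left. -/
theorem exists_syn {L : Finset (Fin 6)} (hL : L.card = 2) :
    ∃ k, ∀ P : Finset (Fin 6), P ∈ synPairs k ↔ L.disjSum Pᶜ ∈ B := by
  classical
  set Q := ((blocks B).filter fun c => c.toLeft = L).image fun c => c.toRightᶜ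
  have hmem : ∀ P, P ∈ Q ↔ L.disjSum Pᶜ ∈ B := by
    intro P
    simp only [Q, mem_image, mem_filter, mem_blocks]
    constructor
    · rintro ⟨c, ⟨hc, rfl⟩, rfl⟩
      rwa [compl_compl, toLeft_disjSum_toRight]
    · intro h
      exact ⟨_, ⟨h, toLeft_disjSum⟩, by rw [toRight_disjSum, compl_compl]⟩
  have h2 : ∀ P ∈ Q, P ∈ powersetCard 2 (univ : Finset (Fin 6)) := by
    intro P hP
    have h := hB.1 _ ((hmem P).mp hP)
    rw [card_disjSum, card_compl, hL, Fintype.card_fin] at h
    have := card_le_univ P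
    rw [Fintype.card_fin] at this
    exact mem_powersetCard.mpr ⟨subset_univ P, by omega⟩
  have h3 : Q.card = 3 := by
    rw [card_image_of_injOn, left_count hB hbase, hL]
    · rfl
    intro c hc c' hc' e
    rw [mem_coe, mem_filter] at hc hc'
    exact eq_of_sides (hc.2.trans hc'.2.symm) (compl_injective e)
  have hdis : ∀ P ∈ Q, ∀ P' ∈ Q, P ≠ P' → Disjoint P P' := by
    intro P hP P' hP' hne
    have h := inter_le hB ((hmem P).mp hP) ((hmem P').mp hP') fun e => hne (compl_injective (by
      simpa using congrArg Finset.toRight e))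
    rw [toLeft_disjSum, toLeft_disjSum, toRight_disjSum, toRight_disjSum, inter_self, hL,
      ← compl_union, card_compl, Fintype.card_fin] at h
    rw [disjoint_iff_inter_eq_empty, ← card_eq_zero]
    have h4 := card_union_add_card_inter P P'
    have := (mem_powersetCard.mp (h2 P hP)).2
    have := (mem_powersetCard.mp (h2 P' hP')).2
    omega
  obtain ⟨P₁, P₂, P₃, h12, h13, h23, hQ⟩ := card_eq_three.mp h3
  have m1 : P₁ ∈ Q := by rw [hQ]; simp
  have m2 : P₂ ∈ Q := by rw [hQ]; simp
  have m3 : P₃ ∈ Q := by rw [hQ]; simp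
  obtain ⟨k, k1, k2, k3⟩ := syn_exists _ (h2 _ m1) _ (h2 _ m2) (hdis _ m1 _ m2 h12) _ (h2 _ m3)
    (hdis _ m1 _ m3 h13) (hdis _ m2 _ m3 h23)
  refine ⟨k, fun P => ?_⟩
  rw [← hmem]
  have e : Q = (synPairs k).toFinset := eq_of_subset_of_card_le
    (fun P hP => by
      rw [List.mem_toFinset]
      rw [hQ] at hP
      simp only [mem_insert, mem_singleton] at hP
      rcases hP with rfl | rfl | rfl <;> assumption)
    (by rw [h3]; exact (List.toFinset_card_le _).trans (synPairs_length k).1.le)
  rw [e, List.mem_toFinset]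

/-- For three points on the left there are two blocks, with complementary right halves. -/
theorem right_compl {c : Finset Pt} (hc : c ∈ B) (h3 : c.toLeft.card = 3) :
    c.toLeft.disjSum c.toRightᶜ ∈ B := by
  classical
  obtain ⟨c', hc'mem, hne⟩ := exists_mem_ne
    (show 1 < ((blocks B).filter fun d => d.toLeft = c.toLeft).card by
      rw [left_count hB hbase, h3]; decide) c
  rw [mem_filter, mem_blocks] at hc'mem
  obtain ⟨hc', hl⟩ := hc'mem
  have hR : c.toRight.card = 3 := by have := sides_card hB hc; omega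
  have hR' : c'.toRight.card = 3 := by have := sides_card hB hc'; rw [hl] at this; omega
  have hdisj : ∀ r ∈ c.toRight, r ∉ c'.toRight := by
    intro r hr hr'
    set T : Finset Pt := c.toLeft.disjSum {r}
    have hT : T.card = 4 := by rw [card_disjSum, h3, card_singleton]
    have hcnt : ((blocks B).filter (T ⊆ ·)).card = 4 :=
      count_eq hB (by norm_num) card_pt hT (by norm_num) (by decide)
    have hex : ∀ x : Fin 6, ∃ d, d ∈ B ∧ insert (Sum.inl x) T ⊆ d ∧ (x ∉ c.toLeft → True) := fun x => by
      obtain ⟨s, hs, hs5⟩ : ∃ s, insert (Sum.inl x) T ⊆ s ∧ s.card = 5 :=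
        exists_superset_card_eq ((card_insert_le _ _).trans (by omega)) (by rw [card_pt]; norm_num) |>.imp
          fun s hs => hs
      obtain ⟨d, ⟨hd, hsd⟩, -⟩ := hB.2 s hs5
      exact ⟨d, hd, hs.trans hsd, fun _ => trivial⟩
    choose d hdB hdT _hd using hex
    have hdl : ∀ x ∉ c.toLeft, d x ∉ ({c, c'} : Finset (Finset Pt)) := by
      intro x hx hmem
      have h1 : x ∈ (d x).toLeft := mem_toLeft.mpr (hdT x (mem_insert_self _ _))
      simp only [mem_insert, mem_singleton] at hmem
      rcases hmem with e | e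
      · rw [e] at h1; exact hx h1
      · rw [e, hl] at h1; exact hx h1
    have hdinj : Set.InjOn d ((c.toLeft)ᶜ : Finset (Fin 6)) := by
      intro x hx y hy e
      rw [mem_coe, mem_compl] at hx hy
      by_contra hxy
      have hsub : insert x (insert y c.toLeft) ⊆ (d x).toLeft := by
        intro z hz
        rw [mem_toLeft]
        simp only [mem_insert] at hz
        rcases hz with rfl | rfl | hz
        · exact hdT z (mem_insert_self _ _)
        · rw [e]; exact hdT z (mem_insert_self _ _)
        · exact hdT x (mem_insert_of_mem (inl_mem_disjSum.mpr hz))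
      have h1 := card_le_card hsub
      rw [card_insert_of_notMem (by simp [hxy, hx]), card_insert_of_notMem hy, h3] at h1
      have h2 := left_cases hB hbase (hdB x)
      have h4 := sides_card hB (hdB x)
      have h5 : 1 ≤ (d x).toRight.card := card_pos.mpr ⟨r, mem_toRight.mpr (hdT x
        (mem_insert_of_mem (inr_mem_disjSum.mpr (mem_singleton_self r))))⟩
      omega
    have hall : ({c, c'} : Finset (Finset Pt)) ∪ (c.toLeft)ᶜ.image d ⊆ (blocks B).filter (T ⊆ ·) := by
      intro e he
      rw [mem_filter, mem_blocks]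
      simp only [mem_union, mem_insert, mem_singleton, mem_image] at he
      rcases he with (rfl | rfl) | ⟨x, -, rfl⟩
      · exact ⟨hc, fun z hz => by cases z <;> simp_all [T]⟩
      · refine ⟨hc', fun z hz => ?_⟩
        cases z with
        | inl a => rw [← mem_toLeft, hl]; simpa [T] using hz
        | inr a => rw [← mem_toRight]; simp [T] at hz; rwa [hz]
      · exact ⟨hdB x, (subset_insert _ _).trans (hdT x)⟩
    have h1 := card_le_card hall
    rw [card_union_of_disjoint, card_image_of_injOn hdinj, card_pair hne.symm, card_compl, h3, hcnt,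
      Fintype.card_fin] at h1
    · omega
    · rw [disjoint_left]
      intro e he he'
      obtain ⟨x, hx, rfl⟩ := mem_image.mp he'
      exact hdl x (mem_compl.mp hx) he
  have e : c'.toRight = c.toRightᶜ := eq_of_subset_of_card_le
    (fun r hr => mem_compl.mpr fun h => hdisj r h hr) (by rw [card_compl, hR, hR', Fintype.card_fin])
  rw [← e, ← hl, toLeft_disjSum_toRight]
  exact hc'

/-- The system is the model after relabelling the left half. -/
theorem exists_model : ∃ τ : Equiv.Perm (Fin 6), ∀ c : Finset Pt,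
    c ∈ B ↔ IsStd (c.toLeft.map τ.toEmbedding) c.toRight := by
  classical
  choose! syn hsyn using fun L hL => exists_syn hB hbase (L := L) hL
  have hcompat : ∀ a b c : Fin 6, a ≠ b → a ≠ c → b ≠ c → compat (syn {a, b}) (syn {a, c}) := by
    intro a b c hab hac hbc P hP hP'
    have hb1 := (hsyn _ (card_pair hab) P).mp hP
    have hb2 := (hsyn _ (card_pair hac) P).mp hP'
    have hne : ({a, b} : Finset (Fin 6)).disjSum Pᶜ ≠ ({a, c} : Finset (Fin 6)).disjSum Pᶜ := fun e => by
      have h := congrArg (fun S => Sum.inl b ∈ S) e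
      simp [hab.symm, hbc] at h
    have h := inter_le hB hb1 hb2 hne
    rw [toLeft_disjSum, toLeft_disjSum, toRight_disjSum, toRight_disjSum, inter_self, card_compl,
      (synPairs_length _).2.2 P hP, Fintype.card_fin] at h
    have h1 : 0 < (({a, b} : Finset (Fin 6)) ∩ {a, c}).card := card_pos.mpr ⟨a, by simp⟩
    omega
  have htot : ∀ i : Fin 6, ∃ t, ∀ j, j ≠ i → syn {i, j} ∈ totals t := by
    intro i
    obtain ⟨a, b, c, d, e, hab, hac, had, hae, hbc, hbd, hbe, hcd, hce, hde, hi⟩ :
        ∃ a b c d e : Fin 6, a ≠ b ∧ a ≠ c ∧ a ≠ d ∧ a ≠ e ∧ b ≠ c ∧ b ≠ d ∧ b ≠ e ∧ c ≠ d ∧ c ≠ e ∧ d ≠ e ∧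
          ∀ j : Fin 6, j ≠ i ↔ j = a ∨ j = b ∨ j = c ∨ j = d ∨ j = e :=
      ⟨i + 1, i + 2, i + 3, i + 4, i + 5, by revert i; decide⟩
    have ha := ((hi a).mpr (by simp)).symm
    have hb := ((hi b).mpr (by simp)).symm
    have hc := ((hi c).mpr (by simp)).symm
    have hd := ((hi d).mpr (by simp)).symm
    have he := ((hi e).mpr (by simp)).symm
    obtain ⟨t, ta, tb, tc, td, te⟩ := total_exists _ _ (hcompat i a b ha hb hab) _ (hcompat i a c ha hc hac)
      (hcompat i b c hb hc hbc) _ (hcompat i a d ha hd had) (hcompat i b d hb hd hbd) (hcompat i c d hc hd hcd)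
      _ (hcompat i a e ha he hae) (hcompat i b e hb he hbe) (hcompat i c e hc he hce) (hcompat i d e hd he hde)
    exact ⟨t, fun j hj => by rcases (hi j).mp hj with rfl | rfl | rfl | rfl | rfl <;> assumption⟩
  choose τ hτ using htot
  have htrans : ∀ c ∈ B, c.toLeft.card = 3 → ∀ a ∈ c.toLeft, ∀ b ∈ c.toLeft, a ≠ b →
      ∀ P ∈ synPairs (syn {a, b}), (P ∩ c.toRight).card = 1 := by
    intro c hc h3 a ha b hb hab P hP
    have hb1 := (hsyn _ (card_pair hab) P).mp hP
    have hP2 := (synPairs_length _).2.2 P hP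
    have hsub : ({a, b} : Finset (Fin 6)) ⊆ c.toLeft := insert_subset_iff.mpr ⟨ha, singleton_subset_iff.mpr hb⟩
    have key : ∀ d ∈ B, d.toLeft = c.toLeft → 1 ≤ (P ∩ d.toRight).card := by
      intro d hd hdl
      have h := inter_le hB hb1 hd fun e => by
        have h2 := congrArg (fun S => S.toLeft.card) e
        rw [toLeft_disjSum, hdl, card_pair hab, h3] at h2
        omega
      rw [toLeft_disjSum, toRight_disjSum, hdl, inter_eq_left.mpr hsub, card_pair hab] at h
      have h4 := card_inter_add_card_sdiff d.toRight P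
      rw [inter_comm Pᶜ, ← sdiff_eq_inter_compl] at h
      have h5 : d.toRight.card = 3 := by have := sides_card hB hd; rw [hdl, h3] at this; omega
      rw [inter_comm P]
      omega
    have k1 := key c hc rfl
    have k2 := key _ (right_compl hB hbase hc h3) toLeft_disjSum
    rw [toRight_disjSum, ← sdiff_eq_inter_compl] at k2
    have := card_inter_add_card_sdiff P c.toRight
    omega
  have hτinj : Function.Injective τ := by
    intro i j e
    by_contra hij
    obtain ⟨l, hli, hlj⟩ : ∃ l, l ≠ i ∧ l ≠ j := by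
      have h : ∀ i j : Fin 6, ∃ l, l ≠ i ∧ l ≠ j := by decide
      exact h i j
    obtain ⟨c, hc⟩ := card_pos.mp (show 0 < ((blocks B).filter fun d => d.toLeft = {i, j, l}).card by
      rw [left_count hB hbase, card_eq_three.mpr ⟨i, j, l, hij, hli.symm, hlj.symm, rfl⟩]; decide)
    rw [mem_filter, mem_blocks] at hc
    have h3 : c.toLeft.card = 3 := by rw [hc.2]; exact card_eq_three.mpr ⟨i, j, l, hij, hli.symm, hlj.symm, rfl⟩
    have ne : ∀ {k m : Fin 15}, compat k m → k ≠ m := fun h e => compat_self _ (e ▸ h)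
    have n2 : syn {i, j} ≠ syn {j, l} := by
      rw [pair_comm i j]; exact ne (hcompat j i l (Ne.symm hij) hlj.symm hli.symm)
    have n3 : syn {i, l} ≠ syn {j, l} := by
      rw [pair_comm i l, pair_comm j l]; exact ne (hcompat l i j hli hlj hij)
    have hR : c.toRight ∈ powersetCard 3 (univ : Finset (Fin 6)) :=
      mem_powersetCard.mpr ⟨subset_univ _, by have := sides_card hB hc.1; omega⟩
    obtain ⟨P, hP, hbad⟩ := not_bipartite (τ i) _ (hτ i j (Ne.symm hij)) _ (hτ i l hli)
      (ne (hcompat i j l hij hli.symm hlj.symm)) _ (e ▸ hτ j l hlj) n2 n3 _ hR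
    apply hbad
    rw [List.mem_append, List.mem_append] at hP
    have mi : i ∈ c.toLeft := by rw [hc.2]; simp
    have mj : j ∈ c.toLeft := by rw [hc.2]; simp
    have ml : l ∈ c.toLeft := by rw [hc.2]; simp
    rcases hP with (hP | hP) | hP
    · exact htrans c hc.1 h3 i mi j mj hij P hP
    · exact htrans c hc.1 h3 i mi l ml hli.symm P hP
    · exact htrans c hc.1 h3 j mj l ml hlj.symm P hP
  set τ' : Equiv.Perm (Fin 6) := Equiv.ofBijective τ (Finite.injective_iff_bijective.mp hτinj)
  have hsynOf : ∀ L : Finset (Fin 6), L.card = 2 → synOf (L.map τ'.toEmbedding) = syn L := by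
    intro L hL
    obtain ⟨a, b, hab, rfl⟩ := card_eq_two.mp hL
    rw [map_insert, map_singleton]
    exact (common_unique _ _ (fun e => hab (hτinj e)) _ (hτ a b hab.symm)
      (by rw [pair_comm]; exact hτ b a hab)).symm
  have hinto : ∀ c ∈ B, IsStd (c.toLeft.map τ'.toEmbedding) c.toRight := by
    intro c hc
    have hs := sides_card hB hc
    have h15 := left_cases hB hbase hc
    rcases (show c.toLeft.card = 0 ∨ c.toLeft.card = 2 ∨ c.toLeft.card = 3 ∨ c.toLeft.card = 4 ∨
      c.toLeft.card = 6 by omega) with h | h | h | h | h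
    · refine Or.inr (Or.inl ⟨by rw [card_eq_zero.mp h, map_empty], eq_univ_of_card _ ?_⟩)
      rw [Fintype.card_fin]; omega
    · refine Or.inr (Or.inr (Or.inl ⟨by rw [card_map, h], ?_⟩))
      rw [hsynOf _ h, hsyn _ h, compl_compl, toLeft_disjSum_toRight]
      exact hc
    · refine Or.inr (Or.inr (Or.inr (Or.inr ⟨by rw [card_map, h], by omega, ?_⟩)))
      intro a ha b hb hab P hP
      obtain ⟨a', ha', rfl⟩ := mem_map.mp ha
      obtain ⟨b', hb', rfl⟩ := mem_map.mp hb
      have hab' : a' ≠ b' := fun e => hab (e ▸ rfl)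
      refine htrans c hc h a' ha' b' hb' hab' P ?_
      rwa [← hsynOf _ (card_pair hab'), map_insert, map_singleton]
    · refine Or.inr (Or.inr (Or.inr (Or.inl ⟨by rw [card_map, h], ?_⟩)))
      have h2 : c.toLeftᶜ.card = 2 := by rw [card_compl, h]; rfl
      have e : (c.toLeft.map τ'.toEmbedding)ᶜ = c.toLeftᶜ.map τ'.toEmbedding := by ext; simp
      rw [e, hsynOf _ h2, hsyn _ h2, ← toRight_compl, ← toLeft_compl, toLeft_disjSum_toRight]
      exact block_compl card_pt hB hc
    · exact Or.inl ⟨eq_univ_of_card _ (by rw [card_map, h, Fintype.card_fin]), card_eq_zero.mp (by omega)⟩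
  refine ⟨τ', fun c => ⟨hinto c, fun h => ?_⟩⟩
  have hinj : Set.InjOn (fun d : Finset Pt => (d.toLeft.map τ'.toEmbedding, d.toRight)) (blocks B) :=
    fun d _ d' _ e => eq_of_sides (map_injective _ (Prod.ext_iff.mp e).1) (Prod.ext_iff.mp e).2
  have himg : (blocks B).image (fun d : Finset Pt => (d.toLeft.map τ'.toEmbedding, d.toRight)) =
      univ.filter fun p : Finset (Fin 6) × Finset (Fin 6) => IsStd p.1 p.2 := by
    refine eq_of_subset_of_card_le (fun p hp => ?_) ?_
    · obtain ⟨d, hd, rfl⟩ := mem_image.mp hp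
      simp only [mem_filter, mem_univ, true_and]
      exact hinto d (mem_blocks.mp hd)
    · have h1 := card_blocks_mul hB
      rw [card_pt, show (6 : ℕ).choose 5 = 6 from rfl, show (12 : ℕ).choose 5 = 792 from rfl] at h1
      rw [card_image_of_injOn hinj, card_isStd]
      omega
  have hmem : (c.toLeft.map τ'.toEmbedding, c.toRight) ∈
      (blocks B).image (fun d : Finset Pt => (d.toLeft.map τ'.toEmbedding, d.toRight)) := by
    rw [himg]; simp only [mem_filter, mem_univ, true_and]; exact h
  obtain ⟨d, hd, e⟩ := mem_image.mp hmem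
  rw [Prod.ext_iff] at e
  rw [← eq_of_sides (map_injective _ e.1) e.2]
  exact mem_blocks.mp hd

end Sys

variable {α : Type*} [Fintype α] [DecidableEq α]

theorem exists_coord (hα : Fintype.card α = 12) {B : Set (Finset α)} (hB : IsSteinerSystem 5 6 B) {b : Finset α}
    (hb : b ∈ B) : ∃ e : α ≃ Pt, (∀ x, x ∈ b ↔ (e x).isLeft = true) ∧
      ∀ S : Finset α, S ∈ B ↔ IsStd (S.map e.toEmbedding).toLeft (S.map e.toEmbedding).toRight := by
  classical
  have h6 := hB.1 b hb
  let e₀ : α ≃ Pt := (Equiv.sumCompl (· ∈ b)).symm.trans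
    ((Fintype.equivFinOfCardEq (show Fintype.card {x // x ∈ b} = 6 by rw [Fintype.card_coe, h6])).sumCongr
      (Fintype.equivFinOfCardEq (show Fintype.card {x // x ∉ b} = 6 by
        rw [Fintype.card_subtype_compl, Fintype.card_coe, hα, h6])))
  have he₀ : ∀ x, x ∈ b ↔ (e₀ x).isLeft = true := by
    intro x
    by_cases hx : x ∈ b
    · simp [e₀, Equiv.sumCompl_symm_apply_of_pos hx, hx]
    · simp [e₀, Equiv.sumCompl_symm_apply_of_neg hx, hx]
  have hB₀ := isSteiner_image e₀ hB
  have hbase : (univ : Finset (Fin 6)).disjSum ∅ ∈ (fun S => S.map e₀.toEmbedding) '' B := by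
    refine ⟨b, hb, ?_⟩
    ext y
    rw [mem_map_equiv, he₀, Equiv.apply_symm_apply]
    cases y <;> simp
  obtain ⟨τ, hτ⟩ := exists_model hB₀ hbase
  refine ⟨e₀.trans (Equiv.sumCongr τ (Equiv.refl _)), fun x => ?_, fun S => ?_⟩
  · rw [he₀]
    cases h : e₀ x <;> simp [h]
  · have h := hτ (S.map e₀.toEmbedding)
    rw [show (S.map e₀.toEmbedding ∈ (fun S => S.map e₀.toEmbedding) '' B) ↔ S ∈ B from
      ⟨fun ⟨T, hT, e⟩ => map_injective _ e ▸ hT, fun h => ⟨S, h, rfl⟩⟩] at h
    rw [h]
    have e1 : (S.map (e₀.trans (Equiv.sumCongr τ (Equiv.refl _))).toEmbedding).toLeft =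
        (S.map e₀.toEmbedding).toLeft.map τ.toEmbedding := by
      ext a
      rw [mem_toLeft, mem_map_equiv, mem_map_equiv, mem_toLeft, mem_map_equiv]
      simp
    have e2 : (S.map (e₀.trans (Equiv.sumCongr τ (Equiv.refl _))).toEmbedding).toRight =
        (S.map e₀.toEmbedding).toRight := by
      ext a
      rw [mem_toRight, mem_map_equiv, mem_toRight, mem_map_equiv]
      simp
    rw [e1, e2]

theorem exists_block (hα : Fintype.card α = 12) {B : Set (Finset α)} (hB : IsSteinerSystem 5 6 B) : ∃ b, b ∈ B := by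
  obtain ⟨s, hs⟩ := exists_subset_card_eq (show 5 ≤ (univ : Finset α).card by rw [card_univ, hα]; norm_num)
  obtain ⟨b, ⟨hb, -⟩, -⟩ := hB.2 s hs.2
  exact ⟨b, hb⟩

theorem iso12 (hα : Fintype.card α = 12) {β : Type*} [Fintype β] [DecidableEq β] (hβ : Fintype.card β = 12)
    {B : Set (Finset α)} {B' : Set (Finset β)} (hB : IsSteinerSystem 5 6 B) (hB' : IsSteinerSystem 5 6 B') :
    SetSystemIso B B' := by
  obtain ⟨b, hb⟩ := exists_block hα hB
  obtain ⟨b', hb'⟩ := exists_block hβ hB'
  obtain ⟨e, -, he⟩ := exists_coord hα hB hb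
  obtain ⟨e', -, he'⟩ := exists_coord hβ hB' hb'
  have key : ∀ S : Finset α, (S.image (e.trans e'.symm)).map e'.toEmbedding = S.map e.toEmbedding := fun S => by
    rw [map_eq_image, map_eq_image, image_image]
    congr 1
    funext p; simp
  refine ⟨e.trans e'.symm, Set.ext fun T => ⟨?_, fun hT => ⟨T.image (e'.trans e.symm), ?_, ?_⟩⟩⟩
  · rintro ⟨S, hS, rfl⟩
    rw [he', key]
    exact (he S).mp hS
  · rw [he, ← key, image_image, show ((e.trans e'.symm : α → β) ∘ (e'.trans e.symm : β → α)) = id from
      funext fun p => by simp, image_id]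
    exact (he' T).mp hT
  · show (T.image _).image _ = T
    rw [image_image, show ((e.trans e'.symm : α → β) ∘ (e'.trans e.symm : β → α)) = id from
      funext fun p => by simp, image_id]

/-- An automorphism fixing five points is trivial. -/
theorem rigid12 (hα : Fintype.card α = 12) {B : Set (Finset α)} (hB : IsSteinerSystem 5 6 B) {g : Equiv.Perm α}
    (hg : ∀ S ∈ B, S.image g ∈ B) {s : Finset α} (hs : s.card = 5) (hfix : ∀ x ∈ s, g x = x) : g = 1 := by
  classical
  obtain ⟨b, ⟨hb, hsb⟩, huniq⟩ := hB.2 s hs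
  have hgb : b.image g = b := huniq _ ⟨hg b hb, fun x hx => mem_image.mpr ⟨x, hsb hx, hfix x hx⟩⟩
  have hfb : ∀ x ∈ b, g x = x := by
    intro x hx
    by_cases hxs : x ∈ s
    · exact hfix x hxs
    have h1 : g x ∈ b := hgb ▸ mem_image_of_mem _ hx
    have h2 : g x ∉ s := fun h => hxs (by
      have := g.injective (hfix _ h)
      rwa [← this])
    have h3 : b \ s = {x} := (eq_of_subset_of_card_le (singleton_subset_iff.mpr (mem_sdiff.mpr ⟨hx, hxs⟩))
      (by rw [card_singleton, card_sdiff_of_subset hsb, hs, hB.1 b hb])).symm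
    have h4 : g x ∈ b \ s := mem_sdiff.mpr ⟨h1, h2⟩
    rw [h3, mem_singleton] at h4
    exact h4
  obtain ⟨e, hel, he⟩ := exists_coord hα hB hb
  set h := e.permCongr g
  have hl : ∀ a, h (.inl a) = .inl a := fun a => by
    have : e.symm (.inl a) ∈ b := by rw [hel]; simp
    simp [h, hfb _ this]
  have hr : ∀ a, ∃ a', h (.inr a) = .inr a' := fun a => by
    cases hh : h (.inr a) with
    | inl c => exact absurd (h.injective (hh.trans (hl c).symm)) (by simp)
    | inr c => exact ⟨c, rfl⟩
  choose π hπ using hr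
  have hπinj : Function.Injective π := fun a c e =>
    Sum.inr_injective (h.injective (by rw [hπ, hπ, e]))
  have hstd : ∀ L R, IsStd L R → IsStd L (R.image π) := by
    intro L R hLR
    set S : Finset α := (L.disjSum R).map e.symm.toEmbedding
    have hSe : S.map e.toEmbedding = L.disjSum R := by ext y; simp [S, mem_map_equiv]
    have hS : S ∈ B := by rw [he, hSe, toLeft_disjSum, toRight_disjSum]; exact hLR
    have h1 := (he _).mp (hg S hS)
    have e1 : (S.image g).map e.toEmbedding = L.disjSum (R.image π) := by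
      have e0 : (S.image g).map e.toEmbedding = (S.map e.toEmbedding).image h := by
        rw [map_eq_image, map_eq_image, image_image, image_image]
        congr 1
        funext p; simp [h]
      rw [e0, hSe]
      ext y
      cases y with
      | inl a =>
        simp only [mem_image, inl_mem_disjSum]
        refine ⟨fun ⟨x, hx, hxa⟩ => ?_, fun ha => ⟨.inl a, by simpa using ha, hl a⟩⟩
        cases x with
        | inl c => rw [hl] at hxa; simpa [Sum.inl_injective hxa] using hx
        | inr c => rw [hπ] at hxa; simp at hxa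
      | inr a =>
        simp only [mem_image, inr_mem_disjSum]
        refine ⟨fun ⟨x, hx, hxa⟩ => ?_, fun ⟨c, hc, e⟩ => ⟨.inr c, by simpa using hc, by rw [hπ, e]⟩⟩
        cases x with
        | inl c => rw [hl] at hxa; simp at hxa
        | inr c => rw [hπ] at hxa; exact ⟨c, by simpa using hx, Sum.inr_injective hxa⟩
    rwa [e1, toLeft_disjSum, toRight_disjSum] at h1
  have hpres : ∀ k, ∀ P ∈ synPairs k, P.image π ∈ synPairs k := by
    intro k P hP
    obtain ⟨a, c, hac, rfl⟩ := synOf_surjective k
    have h1 := hstd {a, c} Pᶜ (Or.inr (Or.inr (Or.inl ⟨card_pair hac, by rwa [compl_compl]⟩)))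
    have h2 : (Pᶜ.image π)ᶜ = P.image π := by
      rw [compl_eq_univ_sdiff, compl_eq_univ_sdiff, image_sdiff _ _ hπinj,
        image_univ_of_surjective (Finite.injective_iff_surjective.mp hπinj), ← compl_eq_univ_sdiff,
        ← compl_eq_univ_sdiff, compl_compl]
    rcases h1 with ⟨e1, -⟩ | ⟨e1, -⟩ | ⟨-, h1⟩ | ⟨e1, -⟩ | ⟨e1, -⟩
    · have := congrArg card e1; rw [card_pair hac, card_univ, Fintype.card_fin] at this; omega
    · have := congrArg card e1; rw [card_pair hac, card_empty] at this; omega
    · rwa [h2] at h1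
    · rw [card_pair hac] at e1; omega
    · rw [card_pair hac] at e1; omega
  have hpair : ∀ P : Finset (Fin 6), P.card = 2 → P.image π = P := by
    intro P hP
    obtain ⟨k, l, hk, hl', huniq'⟩ := pair_determined P (mem_powersetCard.mpr ⟨subset_univ _, hP⟩)
    exact huniq' _ (hpres k P hk) (hpres l P hl')
  have hπid : ∀ a, π a = a := by
    intro a
    obtain ⟨c, d, hac, had, hcd⟩ : ∃ c d, a ≠ c ∧ a ≠ d ∧ c ≠ d := by revert a; decide
    have m1 : π a ∈ ({a, c} : Finset (Fin 6)) := hpair _ (card_pair hac) ▸ mem_image_of_mem π (by simp)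
    have m2 : π a ∈ ({a, d} : Finset (Fin 6)) := hpair _ (card_pair had) ▸ mem_image_of_mem π (by simp)
    simp only [mem_insert, mem_singleton] at m1 m2
    rcases m1 with m1 | m1
    · exact m1
    · rcases m2 with m2 | m2
      · exact m2
      · exact absurd (m1.symm.trans m2) hcd
  ext x
  have h1 : h (e x) = e x := by
    cases hx : e x with
    | inl a => exact hl a
    | inr a => rw [hπ, hπid]
  simpa [h] using h1

end CfsgLib.SmallGroups.Steiner12
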