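import Mathlib

/-!
# Synthemes and totals on six points

The model of `S(5,6,12)` on two sets of six points, in which a pair on the left determines a syntheme
on the right.
-/

set_option autoImplicit false
set_option maxRecDepth 20000
set_option synthInstance.maxSize 4096
set_option synthInstance.maxHeartbeats 200000

namespace CfsgLib.SmallGroups.Steiner12

open Finset

/-- The fifteen synthemes. -/
def synPairs : Fin 15 → List (Finset (Fin 6)) :=
  ![[{0,1},{2,3},{4,5}], [{0,1},{2,4},{3,5}], [{0,1},{2,5},{3,4}], [{0,2},{1,3},{4,5}], [{0,2},{1,4},{3,5}],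
    [{0,2},{1,5},{3,4}], [{0,3},{1,2},{4,5}], [{0,3},{1,4},{2,5}], [{0,3},{1,5},{2,4}], [{0,4},{1,2},{3,5}],
    [{0,4},{1,3},{2,5}], [{0,4},{1,5},{2,3}], [{0,5},{1,2},{3,4}], [{0,5},{1,3},{2,4}], [{0,5},{1,4},{2,3}]]

/-- The six totals. -/
def totals : Fin 6 → List (Fin 15) :=
  ![[0,4,8,10,12], [0,5,7,9,13], [1,3,7,11,12], [1,5,6,10,14], [2,3,8,9,14], [2,4,6,11,13]]

/-- Two synthemes without a common pair. -/
def compat (k l : Fin 15) : Prop := ∀ P ∈ synPairs k, P ∉ synPairs l

instance (k l : Fin 15) : Decidable (compat k l) := inferInstanceAs (Decidable (∀ P ∈ synPairs k, P ∉ synPairs l))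

/-- The syntheme lying in the totals named by `L`. -/
def synOf (L : Finset (Fin 6)) : Fin 15 :=
  ((List.finRange 15).filter fun k => decide (∀ a ∈ L, k ∈ totals a)).headD 0

/-- The condition on a block with three points on each side. -/
def Transversal (L R : Finset (Fin 6)) : Prop :=
  ∀ a ∈ L, ∀ b ∈ L, a ≠ b → ∀ P ∈ synPairs (synOf {a, b}), (P ∩ R).card = 1

instance (L R : Finset (Fin 6)) : Decidable (Transversal L R) :=
  decidable_of_iff (∀ a ∈ L, ∀ b ∈ L, a = b ∨ (synPairs (synOf {a, b})).all fun P => (P ∩ R).card == 1) (by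
    simp only [Transversal, List.all_eq_true, beq_iff_eq]
    exact forall₄_congr fun a _ b _ => or_iff_not_imp_left)

/-- The blocks of the model. -/
def IsStd (L R : Finset (Fin 6)) : Prop :=
  (L = univ ∧ R = ∅) ∨ (L = ∅ ∧ R = univ) ∨ (L.card = 2 ∧ Rᶜ ∈ synPairs (synOf L)) ∨
    (L.card = 4 ∧ R ∈ synPairs (synOf Lᶜ)) ∨
    (L.card = 3 ∧ R.card = 3 ∧ Transversal L R)

instance (L R : Finset (Fin 6)) : Decidable (IsStd L R) := by unfold IsStd; infer_instance

theorem synPairs_length : ∀ k, (synPairs k).length = 3 ∧ (synPairs k).Nodup ∧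
    ∀ P ∈ synPairs k, P.card = 2 := by decide +kernel

theorem syn_exists : ∀ P ∈ powersetCard 2 (univ : Finset (Fin 6)), ∀ Q ∈ powersetCard 2 (univ : Finset (Fin 6)),
    Disjoint P Q → ∀ R ∈ powersetCard 2 (univ : Finset (Fin 6)), Disjoint P R → Disjoint Q R →
    ∃ k, P ∈ synPairs k ∧ Q ∈ synPairs k ∧ R ∈ synPairs k := by decide +kernel

theorem total_exists : ∀ a b, compat a b → ∀ c, compat a c → compat b c → ∀ d, compat a d → compat b d →
    compat c d → ∀ e, compat a e → compat b e → compat c e → compat d e →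
    ∃ t, a ∈ totals t ∧ b ∈ totals t ∧ c ∈ totals t ∧ d ∈ totals t ∧ e ∈ totals t := by decide +kernel

theorem totals_two : ∀ a b, compat a b → ∀ t t', a ∈ totals t → b ∈ totals t → a ∈ totals t' → b ∈ totals t' →
    t = t' := by decide +kernel

theorem compat_self : ∀ k, ¬ compat k k := by decide +kernel

theorem not_bipartite : ∀ t, ∀ k ∈ totals t, ∀ l ∈ totals t, k ≠ l → ∀ m ∈ totals t, k ≠ m → l ≠ m →
    ∀ X ∈ powersetCard 3 (univ : Finset (Fin 6)),
      ∃ P ∈ synPairs k ++ synPairs l ++ synPairs m, (P ∩ X).card ≠ 1 := by decide +kernel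

theorem common_unique : ∀ a b : Fin 6, a ≠ b → ∀ k, k ∈ totals a → k ∈ totals b → k = synOf {a, b} := by
  decide +kernel

theorem synOf_surjective : ∀ k, ∃ a b : Fin 6, a ≠ b ∧ synOf {a, b} = k := by decide +kernel

theorem pair_determined : ∀ P ∈ powersetCard 2 (univ : Finset (Fin 6)), ∃ k l,
    P ∈ synPairs k ∧ P ∈ synPairs l ∧ ∀ Q ∈ synPairs k, Q ∈ synPairs l → Q = P := by decide +kernel

theorem card_isStd : (univ.filter fun p : Finset (Fin 6) × Finset (Fin 6) => IsStd p.1 p.2).card = 132 := by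
  decide +kernel

end CfsgLib.SmallGroups.Steiner12
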