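import Cfsg.Agent.Lib.SmallGroups.GolayUnique
import Cfsg.Agent.Lib.SmallGroups.Steiner
import Cfsg.Agent.Lib.SmallGroups.MathieuSets
import Cfsg.Agent.Lib.SmallGroups.MathieuSimple

/-!
# The code of a Steiner system `S(5,8,24)` or `S(4,7,23)`
-/

set_option autoImplicit false

namespace CfsgLib.SmallGroups.SteinerCode

open Cfsg Finset Submodule
open CfsgLib.SmallGroups.CodeUnique CfsgLib.SmallGroups.GolayUnique CfsgLib.SmallGroups.Steiner
open scoped Pointwise

variable {α : Type*} [Fintype α] [DecidableEq α]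

/-- The code spanned by a family of sets. -/
noncomputable def code (G : Set (Finset α)) : Submodule (ZMod 2) (α → ZMod 2) :=
  Submodule.span (ZMod 2) (ind '' G)

theorem ind_mem_code {G : Set (Finset α)} {S : Finset α} (h : S ∈ G) : ind S ∈ code G :=
  Submodule.subset_span ⟨S, h, rfl⟩

theorem code_orth {G : Set (Finset α)} (h4 : ∀ S ∈ G, S.card % 4 = 0)
    (hpair : ∀ S ∈ G, ∀ T ∈ G, S ≠ T → (S ∩ T).card % 2 = 0) :
    ∀ v ∈ code G, ∀ w ∈ code G, ∑ i, v i * w i = 0 := by
  have hle : code G ≤ (pairing (code G)).ker := by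
    refine Submodule.span_le.mpr ?_
    rintro _ ⟨S, hS, rfl⟩
    refine mem_perp.mpr fun c hc => ?_
    induction hc using Submodule.span_induction with
    | mem x hx =>
      obtain ⟨T, hT, rfl⟩ := hx
      rw [dot_ind, supp_ind, ZMod.natCast_eq_zero_iff_even, Nat.even_iff]
      by_cases h : S = T
      · subst h; rw [inter_self]; have := h4 S hS; omega
      · exact hpair S hS T hT h
    | zero => simp
    | add x y _ _ hx hy => simp [mul_add, Finset.sum_add_distrib, hx, hy]
    | smul a x _ hx => simp [mul_left_comm _ a, ← Finset.mul_sum, hx]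
  exact fun v hv w hw => mem_perp.mp (hle hv) w hw

theorem code_four {G : Set (Finset α)} (h4 : ∀ S ∈ G, S.card % 4 = 0)
    (hpair : ∀ S ∈ G, ∀ T ∈ G, S ≠ T → (S ∩ T).card % 2 = 0) :
    ∀ w ∈ code G, (supp w).card % 4 = 0 := by
  intro w hw
  induction hw using Submodule.span_induction with
  | mem x hx => obtain ⟨T, hT, rfl⟩ := hx; rw [supp_ind]; exact h4 T hT
  | zero => simp [supp]
  | add x y hx' hy' hx hy =>
    rw [supp_add]
    have h1 := card_symmDiff' (supp x) (supp y)
    have h2 := code_orth h4 hpair x hx' y hy'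
    rw [dot_eq, ZMod.natCast_eq_zero_iff_even, Nat.even_iff] at h2
    omega
  | smul a x _ hx =>
    rcases z2_cases a with rfl | rfl
    · simp [supp]
    · rw [one_smul]; exact hx

/-- A family of sets spanning the code. -/
theorem isDE_code (hα : Fintype.card α = 24) {G : Set (Finset α)} (h4 : ∀ S ∈ G, S.card % 4 = 0)
    (hpair : ∀ S ∈ G, ∀ T ∈ G, S ≠ T → (S ∩ T).card % 2 = 0)
    (hsmall : ∀ S : Finset α, S.Nonempty → S.card ≤ 6 → ∃ g ∈ G, (S ∩ g).card % 2 = 1) :
    IsDE (code G) := by
  classical
  have horth := code_orth h4 hpair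
  have hfour := code_four h4 hpair
  have hperp : ∀ S : Finset α, S.card ≤ 6 → pairing (code G) (ind S) = 0 → S = ∅ := by
    intro S hS h0
    by_contra hne
    obtain ⟨g, hg, hodd⟩ := hsmall S (nonempty_of_ne_empty hne) hS
    have h1 := mem_perp.mp (LinearMap.mem_ker.mpr h0) _ (ind_mem_code hg)
    rw [dot_ind, supp_ind, ZMod.natCast_eq_zero_iff_even, Nat.even_iff] at h1
    omega
  have hge : 12 ≤ Module.finrank (ZMod 2) (code G) := by
    by_contra hlt
    have : Finite (Module.Dual (ZMod 2) (code G)) := Module.finite_of_finite (ZMod 2)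
    have : Fintype (Module.Dual (ZMod 2) (code G)) := Fintype.ofFinite _
    set 𝒮 := (univ : Finset α).powersetCard 0 ∪ univ.powersetCard 1 ∪ univ.powersetCard 2 ∪ univ.powersetCard 3
    have hmem : ∀ S ∈ 𝒮, S.card ≤ 3 := by
      intro S hS
      simp only [𝒮, mem_union, mem_powersetCard] at hS
      omega
    have hcard : 𝒮.card = 2325 := by
      simp only [𝒮]
      rw [card_union_of_disjoint, card_union_of_disjoint, card_union_of_disjoint, card_powersetCard,
        card_powersetCard, card_powersetCard, card_powersetCard, card_univ, hα]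
      · rfl
      all_goals
        rw [disjoint_left]
        intro S h1 h2
        simp only [mem_union, mem_powersetCard] at h1 h2
        omega
    have hinj : Set.InjOn (fun S => pairing (code G) (ind S)) 𝒮 := by
      intro S hS T hT e
      have h0 : pairing (code G) (ind (symmDiff S T)) = 0 := by
        rw [← ind_add, map_add, show pairing (code G) (ind S) = pairing (code G) (ind T) from e]
        exact LinearMap.ext fun c => CharTwo.add_self_eq_zero _
      have hle : (symmDiff S T).card ≤ 6 := by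
        have := card_symmDiff' S T
        have := hmem S hS
        have := hmem T hT
        omega
      exact symmDiff_eq_bot.mp (hperp _ hle h0)
    have h := Finset.card_le_card_of_injOn _ (fun _ _ => mem_univ _) hinj
    rw [hcard, card_univ, Module.card_eq_pow_finrank (K := ZMod 2) (V := Module.Dual (ZMod 2) (code G)),
      Subspace.dual_finrank_eq, ZMod.card] at h
    have : 2 ^ Module.finrank (ZMod 2) (code G) ≤ 2 ^ 11 := Nat.pow_le_pow_right (by norm_num) (by omega)
    omega
  refine ⟨hα, ?_, horth, fun w hw => Nat.dvd_of_mod_eq_zero (hfour w hw), fun w hw h => ?_⟩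
  · have hle : code G ≤ (pairing (code G)).ker := fun c hc => mem_perp.mpr fun d hd => horth c hc d hd
    have h1 := Submodule.finrank_mono hle
    have h2 := finrank_perp (code G)
    rw [hα] at h2
    omega
  · rw [hammingNorm_eq] at h
    have h0 := hperp (supp w) (by omega) (LinearMap.mem_ker.mp (mem_perp.mpr fun c hc => by
      rw [ind_supp]; exact horth w hw c hc))
    rw [h0] at h
    simp at h

/-- A block meeting `w` exactly in `s`. -/
theorem exists_inter {t k v : ℕ} {B : Set (Finset α)} (hB : IsSteinerSystem t k B) (htk : t ≤ k)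
    (hv : Fintype.card α = v) {w s : Finset α} (hs : s ⊆ w) (a b : ℕ) (hst : s.card < t)
    (ha : a * (k - s.card).choose (t - s.card) = (v - s.card).choose (t - s.card))
    (hb : b * (k - (s.card + 1)).choose (t - (s.card + 1)) = (v - (s.card + 1)).choose (t - (s.card + 1)))
    (hlt : (w.card - s.card) * b < a) : ∃ c ∈ B, w ∩ c = s := by
  classical
  by_contra hh
  push Not at hh
  have hsub : (blocks B).filter (s ⊆ ·) ⊆ (w \ s).biUnion fun q => (blocks B).filter (insert q s ⊆ ·) := by
    intro c hc
    rw [mem_filter, mem_blocks] at hc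
    obtain ⟨q, hq, hqs⟩ : ∃ q ∈ w ∩ c, q ∉ s := by
      by_contra h'
      push Not at h'
      exact hh c hc.1 (Subset.antisymm (fun q hq => h' q hq) (subset_inter hs hc.2))
    rw [mem_inter] at hq
    exact mem_biUnion.mpr ⟨q, mem_sdiff.mpr ⟨hq.1, hqs⟩,
      mem_filter.mpr ⟨mem_blocks.mpr hc.1, insert_subset_iff.mpr ⟨hq.2, hc.2⟩⟩⟩
  have h1 := (card_le_card hsub).trans card_biUnion_le
  rw [count_eq hB htk hv rfl hst.le ha] at h1
  have h2 : ∀ q ∈ w \ s, ((blocks B).filter (insert q s ⊆ ·)).card = b := fun q hq => by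
    refine count_eq hB htk hv (i := s.card + 1) ?_ hst hb
    rw [card_insert_of_notMem (mem_sdiff.mp hq).2]
  rw [Finset.sum_congr rfl h2, Finset.sum_const, card_sdiff_of_subset hs, smul_eq_mul] at h1
  omega

theorem code_invariant {G : Set (Finset α)} {g : Equiv.Perm α} (hg : ∀ S ∈ G, ind (S.image g.symm) ∈ code G) :
    ∀ w ∈ code G, (fun p => w (g p)) ∈ code G := by
  intro w hw
  induction hw using Submodule.span_induction with
  | mem x hx =>
    obtain ⟨S, hS, rfl⟩ := hx
    have e : (fun p => ind S (g p)) = ind (S.image g.symm) := funext fun p => by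
      simp only [ind, mem_image]
      exact if_congr ⟨fun h => ⟨g p, h, g.symm_apply_apply p⟩, fun ⟨q, hq, e⟩ => by
        rw [← e, Equiv.apply_symm_apply]; exact hq⟩ rfl rfl
    rw [e]; exact hg S hS
  | zero => exact zero_mem _
  | add x y _ _ hx hy => exact add_mem hx hy
  | smul a x _ hx => exact Submodule.smul_mem _ a hx

variable {e : α ≃ GolayPt} {G : Set (Finset α)}

theorem permCongr_mem_M24 (he : ∀ w, w ∈ golayCode ↔ (fun p => w (e p)) ∈ code G) {g : Equiv.Perm α}
    (hg : ∀ S ∈ G, ind (S.image g.symm) ∈ code G) : e.permCongr g ∈ M24 := by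
  refine M24Group.mem_M24_of_forall fun w hw => ?_
  rw [he]
  have h := code_invariant hg _ ((he w).mp hw)
  simpa using h

theorem golay_comp {g : Equiv.Perm GolayPt} (hg : g ∈ M24) {w : GolayPt → ZMod 2} (hw : w ∈ golayCode) :
    (fun p => w (g p)) ∈ golayCode := by
  have h1 := M24Group.smul_mem_supports (inv_mem hg)
    (show support₂ w ∈ supports (golayCode : Set (GolayPt → ZMod 2)) from ⟨w, hw, rfl⟩)
  obtain ⟨v, hv, e⟩ := h1
  rw [← M24Group.support₂_comp] at e
  rwa [MathieuSets.support₂_injective e] at hv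

/-- Moving the coordinates by an element of `M24`. -/
theorem coord_smul (he : ∀ w, w ∈ golayCode ↔ (fun p => w (e p)) ∈ code G) {g : Equiv.Perm GolayPt}
    (hg : g ∈ M24) : ∀ w, w ∈ golayCode ↔ (fun p => w ((e.trans g) p)) ∈ code G := by
  intro w
  refine ⟨fun hw => (he _).mp (golay_comp hg hw), fun hw => ?_⟩
  have h1 := golay_comp (inv_mem hg) ((he (fun q => w (g q))).mpr hw)
  simpa using h1

theorem image_octad_iff (he : ∀ w, w ∈ golayCode ↔ (fun p => w (e p)) ∈ code G) {S : Finset α} :
    S.image e ∈ octads ↔ S.card = 8 ∧ ind S ∈ code G := by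
  have hc : (S.image e).card = S.card := card_image_of_injective _ e.injective
  have e2 : (fun p => ind (S.image e) (e p)) = ind S := funext fun p => by
    simp [ind, e.injective.eq_iff]
  constructor
  · intro h
    have h8 : S.card = 8 := hc ▸ h.2
    exact ⟨h8, e2 ▸ (he _).mp ((ind_mem_iff (hc.trans h8)).mpr h)⟩
  · rintro ⟨h8, h⟩
    exact (ind_mem_iff (hc.trans h8)).mp ((he _).mpr (e2.symm ▸ h))

section S24

variable (hα : Fintype.card α = 24) {B : Set (Finset α)} (hB : IsSteinerSystem 5 8 B)

include hα hB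

theorem small24 (S : Finset α) (hne : S.Nonempty) (h7 : S.card ≤ 7) : ∃ g ∈ B, (S ∩ g).card % 2 = 1 := by
  by_cases h3 : 3 ≤ S.card
  · obtain ⟨s, hs, hs3⟩ := exists_subset_card_eq h3
    obtain ⟨c, hc, e⟩ := exists_inter hB (by norm_num) hα hs 21 5 (by omega) (by rw [hs3]; decide)
      (by rw [hs3]; decide) (by omega)
    exact ⟨c, hc, by rw [e, hs3]⟩
  · obtain ⟨p, hp⟩ := hne
    obtain ⟨c, hc, e⟩ := exists_inter hB (by norm_num) hα (singleton_subset_iff.mpr hp) 253 77 (by simp)
      (by rw [card_singleton]; decide) (by rw [card_singleton]; decide) (by rw [card_singleton]; omega)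
    exact ⟨c, hc, by rw [e, card_singleton]⟩

theorem isDE24 : IsDE (code B) := by
  refine isDE_code hα (fun S hS => by rw [hB.1 S hS]) (fun S hS T hT hne => ?_)
    (fun S hne h6 => small24 hα hB S hne (by omega))
  have h1 : ∀ i, mu24 i = 0 → (S ∩ T).card ≠ i := fun i hi =>
    inter_card_ne hB hT hS (fun U hU => inter24 hα hB hT hU) hi
  have h8 : (S ∩ T).card < 5 := by
    by_contra h
    exact hne (eq_of_le_inter hB hS hT (by omega))
  have := h1 1 rfl
  have := h1 3 rfl
  omega

theorem mem_iff24 {S : Finset α} (h8 : S.card = 8) : ind S ∈ code B ↔ S ∈ B := by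
  refine ⟨fun h => ?_, ind_mem_code⟩
  obtain ⟨s, hs, hs5⟩ := exists_subset_card_eq (show 5 ≤ S.card by omega)
  obtain ⟨b, ⟨hb, hsb⟩, -⟩ := hB.2 s hs5
  have h0 : ind S + ind b = 0 := by
    refine (isDE24 hα hB).eq_zero (add_mem h (ind_mem_code hb)) ?_
    rw [hammingNorm_eq, supp_add, supp_ind, supp_ind]
    have := card_symmDiff' S b
    have := card_le_card (subset_inter hs hsb)
    rw [hB.1 b hb] at *
    omega
  have e : S = b := ind_inj (by
    calc ind S = ind S + (ind b + ind b) := by rw [pi_add_self, add_zero]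
      _ = ind b := by rw [← add_assoc, h0, zero_add])
  exact e ▸ hb

theorem exists_coord24 : ∃ e : α ≃ GolayPt, (∀ w, w ∈ golayCode ↔ (fun p => w (e p)) ∈ code B) ∧
    ∀ S : Finset α, S.image e ∈ octads ↔ S ∈ B := by
  obtain ⟨e, he⟩ := exists_equiv_golay (isDE24 hα hB)
  refine ⟨e, he, fun S => ?_⟩
  rw [image_octad_iff he]
  exact ⟨fun h => (mem_iff24 hα hB h.1).mp h.2, fun h => ⟨hB.1 S h, ind_mem_code h⟩⟩

end S24

theorem iso24 (hα : Fintype.card α = 24) {β : Type*} [Fintype β] [DecidableEq β] (hβ : Fintype.card β = 24)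
    {B : Set (Finset α)} {B' : Set (Finset β)} (hB : IsSteinerSystem 5 8 B) (hB' : IsSteinerSystem 5 8 B') :
    SetSystemIso B B' := by
  obtain ⟨e, -, he⟩ := exists_coord24 hα hB
  obtain ⟨e', -, he'⟩ := exists_coord24 hβ hB'
  refine ⟨e.trans e'.symm, Set.ext fun T => ⟨?_, fun hT => ⟨T.image (e'.trans e.symm), ?_, ?_⟩⟩⟩
  · rintro ⟨b, hb, rfl⟩
    rw [← he', image_image]
    have : (e' : β → GolayPt) ∘ (e.trans e'.symm : α → β) = e := funext fun p => by simp
    rw [this]
    exact (he b).mpr hb
  · rw [← he, image_image]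
    have : (e : α → GolayPt) ∘ (e'.trans e.symm : β → α) = e' := funext fun p => by simp
    rw [this]
    exact (he' T).mpr hT
  · show (T.image _).image _ = T
    rw [image_image]
    rw [show ((e.trans e'.symm : α → β) ∘ (e'.trans e.symm : β → α)) = id from funext fun p => by simp, image_id]

end CfsgLib.SmallGroups.SteinerCode
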