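import Cfsg.Agent.Lib.SmallGroups.SteinerCode
import Cfsg.Prelude.Def_Sporadic

/-!
# Uniqueness and automorphisms of `S(5,8,24)` and `S(4,7,23)`
-/

set_option autoImplicit false

namespace CfsgLib.SmallGroups.SteinerCode

open Cfsg Finset Submodule
open CfsgLib.SmallGroups.CodeUnique CfsgLib.SmallGroups.GolayUnique CfsgLib.SmallGroups.Steiner
open scoped Pointwise

theorem stabilizerInfIso {X : Type*} (K : Subgroup (Equiv.Perm X)) (p : X) :
    Nonempty (↥(K ⊓ MulAction.stabilizer (Equiv.Perm X) p) ≃* ↥(MulAction.stabilizer K p)) :=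
  ⟨{ toFun := fun g => ⟨⟨g.1, g.2.1⟩, g.2.2⟩
     invFun := fun g => ⟨g.1.1, g.1.2, g.2⟩
     left_inv := fun _ => rfl
     right_inv := fun _ => rfl
     map_mul' := fun _ _ => rfl }⟩

variable {α : Type*} [Fintype α] [DecidableEq α]

theorem aut_image {B : Set (Finset α)} {g : Equiv.Perm α} (hg : g ∈ setSystemAut B) {b : Finset α} (hb : b ∈ B) :
    b.image g ∈ B := by
  have h : g • B = B := hg
  rw [← h]
  exact Set.smul_mem_smul_set hb

theorem mem_aut_of_forall {B : Set (Finset α)} {g : Equiv.Perm α} (hg : ∀ b ∈ B, b.image g ∈ B) :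
    g ∈ setSystemAut B := by
  refine Set.eq_of_subset_of_ncard_le ?_ (le_of_eq ?_) (Set.toFinite _)
  · rintro _ ⟨b, hb, rfl⟩
    exact hg b hb
  · exact (Set.ncard_image_of_injective _ (MulAction.injective g)).symm

theorem aut_symm {B : Set (Finset α)} {g : Equiv.Perm α} (hg : g ∈ setSystemAut B) {b : Finset α} (hb : b ∈ B) :
    b.image g.symm ∈ B := aut_image (inv_mem hg) hb

/-- The automorphism group of an `S(5,8,24)`. -/
theorem aut24 (hα : Fintype.card α = 24) {B : Set (Finset α)} (hB : IsSteinerSystem 5 8 B) :
    IsM24 (setSystemAut B) ∧ MulAction.IsMultiplyPretransitive (setSystemAut B) α 5 := by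
  obtain ⟨e, he, heB⟩ := exists_coord24 hα hB
  have hmap : (setSystemAut B).map e.permCongrHom.toMonoidHom = M24 := by
    refine le_antisymm ?_ fun h hh => ⟨e.symm.permCongr h, mem_aut_of_forall fun b hb => ?_, ?_⟩
    · rintro _ ⟨g, hg, rfl⟩
      exact permCongr_mem_M24 he fun S hS => ind_mem_code (aut_symm hg hS)
    · rw [← heB, image_image]
      have e1 : (e : α → GolayPt) ∘ (e.symm.permCongr h : α → α) = (h : GolayPt → GolayPt) ∘ e :=
        funext fun p => by simp
      rw [e1, ← image_image]
      exact M24Group.smul_mem_weight hh ((heB b).mpr hb)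
    · show e.permCongr (e.symm.permCongr h) = h
      ext p; simp
  have E : ↥(setSystemAut B) ≃* M24 :=
    (Subgroup.equivMapOfInjective _ e.permCongrHom.toMonoidHom e.permCongrHom.injective).trans
      (MulEquiv.subgroupCongr hmap)
  have := MathieuSimple.isSimple_M24
  refine ⟨⟨MathieuSimple.isSimpleGroup_congr' E.symm, ?_⟩,
    ⟨fun x y => ?_⟩⟩
  · rw [Nat.card_congr E.toEquiv]
    exact M24Group.card_M24
  · obtain ⟨g, hg⟩ := MathieuSimple.exists_map_of_le le_rfl (x.trans e.toEmbedding) (y.trans e.toEmbedding)
    obtain ⟨h, hh, e1⟩ := hmap.ge g.2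
    refine ⟨⟨h, hh⟩, ?_⟩
    ext i
    show h (x i) = y i
    apply e.injective
    have h2 := hg i
    change (g : Equiv.Perm GolayPt) (e (x i)) = e (y i) at h2
    rw [← h2, ← e1]
    show e (h (x i)) = e.permCongr h (e (x i))
    simp

section S23

variable (hα : Fintype.card α = 23) {B : Set (Finset α)} (hB : IsSteinerSystem 4 7 B)

/-- The extended blocks. -/
def ext23 (B : Set (Finset α)) : Set (Finset (Option α)) := Finset.insertNone '' B

omit [Fintype α] in
theorem inter_ext23 (S : Finset (Option α)) (b : Finset α) :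
    (S ∩ Finset.insertNone b).card = (Finset.eraseNone S ∩ b).card + if none ∈ S then 1 else 0 := by
  have e : Finset.eraseNone (S ∩ Finset.insertNone b) = Finset.eraseNone S ∩ b := by
    ext a; simp [Finset.mem_eraseNone]
  rw [← e]
  split_ifs with h
  · rw [← Finset.card_insertNone, Finset.insertNone_eraseNone, insert_eq_of_mem (mem_inter.mpr ⟨h, by simp⟩)]
  · rw [add_zero, Finset.card_eraseNone_eq_card_erase, erase_eq_of_notMem (fun h' => h (mem_inter.mp h').1)]

include hα hB

theorem inter23' {b c : Finset α} (hb : b ∈ B) (hc : c ∈ B) (hne : b ≠ c) : (b ∩ c).card % 2 = 1 := by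
  have h1 : ∀ i, mu23 i = 0 → (b ∩ c).card ≠ i := fun i hi =>
    inter_card_ne hB hc hb (fun U hU => inter23 hα hB hc hU) hi
  have h8 : (b ∩ c).card < 4 := by
    by_contra h
    exact hne (eq_of_le_inter hB hb hc (by omega))
  have := h1 0 rfl
  have := h1 2 rfl
  omega

theorem small23 (S : Finset (Option α)) (hne : S.Nonempty) (h6 : S.card ≤ 6) :
    ∃ g ∈ ext23 B, (S ∩ g).card % 2 = 1 := by
  suffices h : ∃ b ∈ B, ((Finset.eraseNone S ∩ b).card + if none ∈ S then 1 else 0) % 2 = 1 by
    obtain ⟨b, hb, h⟩ := h
    exact ⟨_, ⟨b, hb, rfl⟩, by rw [inter_ext23]; exact h⟩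
  by_cases hn : none ∈ S
  · simp only [if_pos hn]
    have hc : (Finset.eraseNone S).card + 1 = S.card := by
      rw [← Finset.card_insertNone, Finset.insertNone_eraseNone, insert_eq_of_mem hn]
    by_cases h2 : 2 ≤ (Finset.eraseNone S).card
    · obtain ⟨s, hs, hs2⟩ := exists_subset_card_eq h2
      obtain ⟨c, hc', e⟩ := exists_inter hB (by norm_num) hα hs 21 5 (by omega) (by rw [hs2]; decide)
        (by rw [hs2]; decide) (by omega)
      exact ⟨c, hc', by rw [e, hs2]⟩
    · obtain ⟨c, hc', e⟩ := exists_inter hB (by norm_num) hα (empty_subset (Finset.eraseNone S)) 253 77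
        (by simp) (by rw [card_empty]; decide) (by rw [card_empty]; decide) (by rw [card_empty]; omega)
      exact ⟨c, hc', by rw [e, card_empty]⟩
  · simp only [if_neg hn, add_zero]
    have hc : (Finset.eraseNone S).card = S.card := by
      rw [Finset.card_eraseNone_eq_card_erase, erase_eq_of_notMem hn]
    have := hne.card_pos
    by_cases h3 : 3 ≤ (Finset.eraseNone S).card
    · obtain ⟨s, hs, hs3⟩ := exists_subset_card_eq h3
      obtain ⟨c, hc', e⟩ := exists_inter hB (by norm_num) hα hs 5 1 (by omega) (by rw [hs3]; decide)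
        (by rw [hs3]; decide) (by omega)
      exact ⟨c, hc', by rw [e, hs3]⟩
    · obtain ⟨p, hp⟩ := card_pos.mp (by omega : 0 < (Finset.eraseNone S).card)
      obtain ⟨c, hc', e⟩ := exists_inter hB (by norm_num) hα (singleton_subset_iff.mpr hp) 77 21 (by simp)
        (by rw [card_singleton]; decide) (by rw [card_singleton]; decide) (by rw [card_singleton]; omega)
      exact ⟨c, hc', by rw [e, card_singleton]⟩

theorem isDE23 : IsDE (code (ext23 B)) := by
  refine isDE_code (by rw [Fintype.card_option, hα]) ?_ ?_ (small23 hα hB)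
  · rintro _ ⟨b, hb, rfl⟩
    rw [Finset.card_insertNone, hB.1 b hb]
  · rintro _ ⟨b, hb, rfl⟩ _ ⟨c, hc, rfl⟩ hne
    rw [inter_ext23, if_pos (by simp), Finset.eraseNone_insertNone]
    have := inter23' hα hB hb hc fun e => hne (congrArg _ e)
    omega

theorem mem_iff23 {b : Finset α} :
    (Finset.insertNone b).card = 8 ∧ ind (Finset.insertNone b) ∈ code (ext23 B) ↔ b ∈ B := by
  refine ⟨fun ⟨h8, h⟩ => ?_, fun h => ⟨by rw [Finset.card_insertNone, hB.1 b h], ind_mem_code ⟨b, h, rfl⟩⟩⟩
  rw [Finset.card_insertNone] at h8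
  obtain ⟨s, hs, hs4⟩ := exists_subset_card_eq (show 4 ≤ b.card by omega)
  obtain ⟨c, ⟨hc, hsc⟩, -⟩ := hB.2 s hs4
  have hmem : ind (Finset.insertNone c) ∈ code (ext23 B) := ind_mem_code ⟨c, hc, rfl⟩
  have h0 : ind (Finset.insertNone b) + ind (Finset.insertNone c) = 0 := by
    refine (isDE23 hα hB).eq_zero (add_mem h hmem) ?_
    rw [hammingNorm_eq, supp_add, supp_ind, supp_ind]
    have h1 := card_symmDiff' (Finset.insertNone b) (Finset.insertNone c)
    rw [inter_ext23, if_pos (by simp), Finset.eraseNone_insertNone, Finset.card_insertNone,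
      Finset.card_insertNone, hB.1 c hc] at h1
    have := card_le_card (subset_inter hs hsc)
    omega
  have e : Finset.insertNone b = Finset.insertNone c := ind_inj (by
    calc ind (Finset.insertNone b) = ind (Finset.insertNone b) +
          (ind (Finset.insertNone c) + ind (Finset.insertNone c)) := by rw [pi_add_self, add_zero]
      _ = ind (Finset.insertNone c) := by rw [← add_assoc, h0, zero_add])
  exact Finset.insertNone.injective e ▸ hc

theorem exists_coord23 : ∃ e : Option α ≃ GolayPt, e none = none ∧
    (∀ w, w ∈ golayCode ↔ (fun p => w (e p)) ∈ code (ext23 B)) ∧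
    ∀ b : Finset α, (Finset.insertNone b).image e ∈ octads ↔ b ∈ B := by
  obtain ⟨e, he⟩ := exists_equiv_golay (isDE23 hα hB)
  obtain ⟨g, hg⟩ := MathieuSimple.exists_map_of_le (show 1 ≤ 5 by norm_num)
    ⟨fun _ => e none, Function.injective_of_subsingleton _⟩ ⟨fun _ => none, Function.injective_of_subsingleton _⟩
  refine ⟨e.trans (g : Equiv.Perm GolayPt), hg 0, coord_smul he g.2, fun b => ?_⟩
  rw [image_octad_iff (coord_smul he g.2), mem_iff23 hα hB]

end S23

theorem iso23 (hα : Fintype.card α = 23) {β : Type*} [Fintype β] [DecidableEq β] (hβ : Fintype.card β = 23)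
    {B : Set (Finset α)} {B' : Set (Finset β)} (hB : IsSteinerSystem 4 7 B) (hB' : IsSteinerSystem 4 7 B') :
    SetSystemIso B B' := by
  obtain ⟨e, e0, -, he⟩ := exists_coord23 hα hB
  obtain ⟨e', e0', -, he'⟩ := exists_coord23 hβ hB'
  set h := e.trans e'.symm
  have hnone : h none = none := by
    simp only [h, Equiv.trans_apply, e0]
    rw [← e0', Equiv.symm_apply_apply]
  have hf : ∀ a, some (Equiv.removeNone h a) = h (some a) := by
    intro a
    refine Equiv.removeNone_some _ ?_
    cases hh : h (some a) with
    | none => exact absurd (h.injective (hh.trans hnone.symm)) (Option.some_ne_none a)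
    | some x => exact ⟨x, rfl⟩
  set f := Equiv.removeNone h
  have key : ∀ b : Finset α, (Finset.insertNone (b.image f)).image e' = (Finset.insertNone b).image e := by
    intro b
    have e1 : Finset.insertNone (b.image f) = (Finset.insertNone b).image h := by
      ext x
      cases x with
      | none => simp only [Finset.none_mem_insertNone, mem_image, true_iff]; exact ⟨none, by simp, hnone⟩
      | some y =>
        simp only [Finset.some_mem_insertNone, mem_image]
        constructor
        · rintro ⟨a, ha, rfl⟩
          exact ⟨some a, by simpa using ha, (hf a).symm⟩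
        · rintro ⟨a, ha, hay⟩
          cases a with
          | none => rw [hnone] at hay; simp at hay
          | some a =>
            rw [← hf a] at hay
            exact ⟨a, by simpa using ha, Option.some_injective _ hay⟩
    rw [e1, image_image]
    congr 1
    funext p; simp [h]
  refine ⟨f, Set.ext fun T => ⟨?_, fun hT => ⟨T.image f.symm, ?_, ?_⟩⟩⟩
  · rintro ⟨b, hb, rfl⟩
    rw [← he', key]
    exact (he b).mpr hb
  · rw [← he, ← key, image_image, show (f : α → β) ∘ f.symm = id from funext fun p => by simp, image_id]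
    exact (he' T).mpr hT
  · show (T.image f.symm).image f = T
    rw [image_image, show (f : α → β) ∘ f.symm = id from funext fun p => by simp, image_id]

theorem aut23 (hα : Fintype.card α = 23) {B : Set (Finset α)} (hB : IsSteinerSystem 4 7 B) :
    IsM23 (setSystemAut B) ∧ MulAction.IsMultiplyPretransitive (setSystemAut B) α 4 := by
  obtain ⟨e, e0, he, heB⟩ := exists_coord23 hα hB
  let Φ : Equiv.Perm α →* Equiv.Perm GolayPt :=
    { toFun := fun g => e.permCongr (Equiv.optionCongr g)
      map_one' := by ext p; simp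
      map_mul' := fun a b => by ext p; cases h : e.symm p <;> simp [h] }
  have hΦ : ∀ g a, Φ g (e (some a)) = e (some (g a)) := fun g a => by simp [Φ]
  have hinj : Function.Injective Φ := fun a b h => Equiv.ext fun p =>
    Option.some_injective _ (e.injective (by rw [← hΦ, ← hΦ, h]))
  have hfix : ∀ g, Φ g none = none := fun g => by
    have : e.symm none = none := by rw [← e0, Equiv.symm_apply_apply]
    simp [Φ, this, e0]
  have himg : ∀ (g : Equiv.Perm α) (b : Finset α),
      (Finset.insertNone b).image (Equiv.optionCongr g) = Finset.insertNone (b.image g) := by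
    intro g b
    ext x
    cases x <;> simp
  have hmap : (setSystemAut B).map Φ = M24 ⊓ MulAction.stabilizer (Equiv.Perm GolayPt) (none : GolayPt) := by
    refine le_antisymm ?_ ?_
    · rintro _ ⟨g, hg, rfl⟩
      refine ⟨permCongr_mem_M24 he ?_, hfix g⟩
      rintro _ ⟨b, hb, rfl⟩
      rw [show (Equiv.optionCongr g).symm = Equiv.optionCongr g.symm from Equiv.ext fun x => by cases x <;> rfl, himg]
      exact ind_mem_code ⟨_, aut_symm hg hb, rfl⟩
    · rintro h ⟨hh, hn⟩
      have hn' : h none = none := hn
      set h' := e.symm.permCongr h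
      have h'none : h' none = none := by
        simp only [h', Equiv.permCongr_apply, Equiv.symm_symm, e0, hn']
        rw [← e0, Equiv.symm_apply_apply]
      have hopt : Equiv.optionCongr (Equiv.removeNone h') = h' := by
        ext1 x
        cases x with
        | none => simp [h'none]
        | some a =>
          simp only [Equiv.optionCongr_apply, Option.map_some]
          refine Equiv.removeNone_some _ ?_
          cases hh' : h' (some a) with
          | none => exact absurd (h'.injective (hh'.trans h'none.symm)) (Option.some_ne_none a)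
          | some x => exact ⟨x, rfl⟩
      refine ⟨Equiv.removeNone h', mem_aut_of_forall fun b hb => ?_, ?_⟩
      · rw [← heB, ← himg, hopt, image_image]
        have e1 : (e : Option α → GolayPt) ∘ (h' : Option α → Option α) = (h : GolayPt → GolayPt) ∘ e :=
          funext fun p => by simp [h']
        rw [e1, ← image_image]
        exact M24Group.smul_mem_weight hh ((heB b).mpr hb)
      · show e.permCongr (Equiv.optionCongr (Equiv.removeNone h')) = h
        rw [hopt]
        ext p; simp [h']
  obtain ⟨I⟩ := stabilizerInfIso M24 (none : GolayPt)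
  have E : ↥(setSystemAut B) ≃* ↥(MulAction.stabilizer M24 (none : GolayPt)) :=
    ((Subgroup.equivMapOfInjective _ Φ hinj).trans (MulEquiv.subgroupCongr hmap)).trans I
  have := MathieuSimple.isSimple_M23 (none : GolayPt)
  refine ⟨⟨MathieuSimple.isSimpleGroup_congr' E.symm, ?_⟩,
    ⟨fun x y => ?_⟩⟩
  · rw [Nat.card_congr E.toEquiv]
    exact MathieuSimple.card_stab_point _
  · let lift : (Fin 4 ↪ α) → (Fin 5 ↪ GolayPt) := fun x =>
      ⟨fun i => e ((Fin.cons none (fun j => some (x j)) : Fin 5 → Option α) i), e.injective.comp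
        (Fin.cons_injective_iff.mpr ⟨by simp, (Option.some_injective _).comp x.injective⟩)⟩
    obtain ⟨g, hg⟩ := MathieuSimple.exists_map_of_le le_rfl (lift x) (lift y)
    have h0 : (g : Equiv.Perm GolayPt) none = none := by
      have := hg 0
      simpa [lift, e0, Subgroup.smul_def] using this
    obtain ⟨h, hh, e1⟩ := hmap.ge (show (g : Equiv.Perm GolayPt) ∈ _ from ⟨g.2, h0⟩)
    refine ⟨⟨h, hh⟩, ?_⟩
    ext i
    show h (x i) = y i
    apply Option.some_injective
    apply e.injective
    rw [← hΦ, e1]
    have := hg i.succ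
    simpa [lift, Subgroup.smul_def] using this

end CfsgLib.SmallGroups.SteinerCode
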