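import Cfsg.Agent.Lib.SmallGroups.JordanCycle
import Cfsg.Agent.Lib.Fusion.Transfer

/-!
# There is no finite group with exactly twenty-one Sylow 5-subgroups
-/

set_option autoImplicit false

namespace CfsgLib.SmallGroups.TwentyOne

open MulAction Subgroup
open scoped Pointwise

variable {H X : Type*} [Group H] [Finite H] [MulAction H X] [FaithfulSMul H X] [Finite X]

/-- The configuration: each point `x` comes with a Sylow 5-subgroup whose normaliser is the stabiliser
of `x` and which fixes only `x`. -/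
structure Config (P : X → Sylow 5 H) : Prop where
  card : Nat.card X = 21
  norm : ∀ x, stabilizer H x ≤ normalizer ((P x : Subgroup H) : Set H)
  le : ∀ x, (P x : Subgroup H) ≤ stabilizer H x
  unique : ∀ x y, (∀ u ∈ (P x : Subgroup H), u • y = y) → y = x

theorem orderOf_toPerm (g : H) : orderOf (MulAction.toPermHom H X g) = orderOf g :=
  orderOf_injective (MulAction.toPermHom H X) MulAction.toPerm_injective g

omit [Finite H] [FaithfulSMul H X] [Finite X] in
theorem cycle_of_prime_order [Fintype X] [DecidableEq X] {c : Equiv.Perm X} {q : ℕ} (hq : q.Prime)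
    (ho : orderOf c = q) (hlt : c.support.card < 2 * q) : c.IsCycle ∧ c.support.card = q := by
  have h := Equiv.Perm.isCycle_of_prime_order (ho.symm ▸ hq) (by rw [ho]; exact hlt)
  exact ⟨h, h.orderOf.symm.trans ho⟩

/-- Orbits of a 5-subgroup. -/
theorem card_orbit_eq {U : Subgroup H} (hU : IsPGroup 5 U) (hX : Nat.card X = 21) {x z : X}
    (hx : ∀ u ∈ U, u • x = x) (hz : ∃ u ∈ U, u • z ≠ z) : Nat.card (orbit U z) = 5 := by
  have : Fact (Nat.Prime 5) := ⟨by norm_num⟩
  obtain ⟨k, hk⟩ := hU.card_orbit z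
  rw [hk]
  obtain ⟨u, hu, huz⟩ := hz
  have hlt : (orbit U z).ncard < 21 := by
    rw [← hX, ← Set.ncard_univ]
    refine Set.ncard_lt_ncard ⟨Set.subset_univ _, fun h => ?_⟩ (Set.toFinite _)
    obtain ⟨v, hv⟩ := h (Set.mem_univ x)
    have hzx : z = x := by
      have h1 : (v : H) • z = x := hv
      have h2 : z = (v : H)⁻¹ • x := eq_inv_smul_iff.mpr h1
      rw [h2]; exact hx _ (inv_mem v.2)
    exact huz (hzx.symm ▸ hx u hu)
  rw [← Nat.card_coe_set_eq, hk] at hlt
  rcases k with _ | _ | k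
  · exfalso
    have hs := (Nat.card_eq_one_iff_unique.mp (hk.trans (pow_zero 5))).1
    exact huz (congrArg Subtype.val (Subsingleton.elim
      (⟨u • z, ⟨⟨u, hu⟩, rfl⟩⟩ : orbit U z) ⟨z, mem_orbit_self z⟩))
  · rfl
  · exfalso
    have h : 5 ^ 2 ≤ 5 ^ (k + 1 + 1) := Nat.pow_le_pow_right (by norm_num) (by omega)
    omega

variable {P : X → Sylow 5 H}

theorem Config.stab_eq (hc : Config P) (x : X) :
    stabilizer H x = normalizer ((P x : Subgroup H) : Set H) := by
  refine le_antisymm (hc.norm x) fun g hg => hc.unique x (g • x) fun u hu => ?_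
  have h1 : g⁻¹ * u * g ∈ (P x : Subgroup H) := by
    have := (mem_normalizer_iff.mp (inv_mem hg) u).mp hu
    rwa [inv_inv] at this
  have h2 : (g⁻¹ * u * g) • x = x := hc.le x h1
  rw [mul_smul, mul_smul, inv_smul_eq_iff] at h2
  exact h2

theorem Config.smul_eq (hc : Config P) {x y : X} {g : H} (h : g • P x = P y) : g • x = y := by
  refine hc.unique y (g • x) fun u hu => ?_
  rw [← h] at hu
  obtain ⟨v, hv, rfl⟩ := hu
  show (MulAut.conj g v) • (g • x) = g • x
  rw [MulAut.conj_apply, ← mul_smul, inv_mul_cancel_right, mul_smul]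
  rw [show v • x = x from hc.le x hv]

theorem Config.pretransitive (hc : Config P) : IsPretransitive H X := by
  have : Fact (Nat.Prime 5) := ⟨by norm_num⟩
  exact ⟨fun x y => (exists_smul_eq H (P x) (P y)).imp fun g hg => hc.smul_eq hg⟩

theorem Config.moved (hc : Config P) {x z : X} (hz : z ≠ x) : ∃ u ∈ (P x : Subgroup H), u • z ≠ z := by
  by_contra h
  push Not at h
  exact hz (hc.unique x z h)

theorem Config.orbit_five (hc : Config P) {x z : X} (hz : z ≠ x) :
    Nat.card (orbit (P x : Subgroup H) z) = 5 :=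
  card_orbit_eq (P x).isPGroup' hc.card (fun _ hu => hc.le x hu) (hc.moved hz)

theorem Config.le_sylow (hc : Config P) {U : Subgroup H} (hU : IsPGroup 5 U) {z : X}
    (hz : ∀ u ∈ U, u • z = z) : U ≤ (P z : Subgroup H) := by
  have : Fact (Nat.Prime 5) := ⟨by norm_num⟩
  have h1 : U ≤ normalizer ((P z : Subgroup H) : Set H) := fun u hu => hc.norm z (hz u hu)
  have h2 := hU.inf_normalizer_sylow (P z)
  exact inf_eq_left.mp (((inf_eq_left.mpr h1).symm.trans h2).symm)

theorem Config.commute (hc : Config P) {x : X} {u v : H} (hu : u ∈ (P x : Subgroup H))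
    (hv : v ∈ (P x : Subgroup H)) : u * v = v * u := by
  have : Fact (Nat.Prime 5) := ⟨by norm_num⟩
  refine FaithfulSMul.eq_of_smul_eq_smul (α := X) fun z => ?_
  by_cases hz : z = x
  · subst hz
    rw [mul_smul, mul_smul]
    simp [show u • z = z from hc.le z hu, show v • z = z from hc.le z hv]
  set S := stabilizer ↥(P x : Subgroup H) z with hS
  have hidx : S.index = 5 := by
    rw [hS, MulAction.index_stabilizer, ← Nat.card_coe_set_eq]
    exact hc.orbit_five hz
  have hne : Nat.card ↥(P x : Subgroup H) ≠ 1 := fun h => by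
    have := S.index_mul_card
    rw [hidx, h] at this
    omega
  obtain ⟨k, hk⟩ := (P x).isPGroup'.exists_card_eq
  have hnorm : S.Normal := by
    refine Subgroup.normal_of_index_eq_minFac_card ?_
    rw [hidx, hk]
    rcases k with _ | k
    · exact absurd (hk.trans (pow_zero 5)) hne
    · rw [Nat.Prime.pow_minFac (by norm_num) (Nat.succ_ne_zero k)]
  have hq : Nat.card (↥(P x : Subgroup H) ⧸ S) = 5 := hidx
  have hcyc := isCyclic_of_prime_card hq
  set a : ↥(P x : Subgroup H) := ⟨u, hu⟩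
  set b : ↥(P x : Subgroup H) := ⟨v, hv⟩
  have hab : (b * a)⁻¹ * (a * b) ∈ S := by
    rw [← QuotientGroup.eq, QuotientGroup.mk_mul, QuotientGroup.mk_mul]
    exact hcyc.isMulCommutative.is_comm.comm _ _
  have h2 : ((b * a)⁻¹ * (a * b)) • z = z := hab
  rw [mul_smul, inv_smul_eq_iff] at h2
  exact h2

/-- The alternating group is excluded. -/
theorem Config.not_alternating [Fintype X] [DecidableEq X] (hc : Config P) :
    ¬ alternatingGroup X ≤ (MulAction.toPermHom H X).range := by
  intro hA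
  have : Fact (Nat.Prime 5) := ⟨by norm_num⟩
  obtain ⟨x, a, hax⟩ : ∃ x a : X, a ≠ x := by
    by_contra hh
    push Not at hh
    have hsub : Subsingleton X := ⟨fun p q => hh q p⟩
    have h := Finite.card_le_one_iff_subsingleton.mpr hsub
    rw [hc.card] at h; omega
  obtain ⟨u, hu, hua⟩ := hc.moved hax
  have hper : ∀ j : ℕ, Nat.Coprime j 5 → u ^ j • a ≠ a := by
    intro j hj e
    apply hua
    obtain ⟨k, hk⟩ := (P x).isPGroup' ⟨u, hu⟩
    have hk' : u ^ 5 ^ k • a = a := by
      rw [show u ^ 5 ^ k = 1 from congrArg Subtype.val hk, one_smul]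
    rw [MulAction.pow_smul_eq_iff_period_dvd] at e hk'
    have h1 : MulAction.period u a = 1 := Nat.eq_one_of_dvd_coprimes (hj.pow_right k) e hk'
    have h2 : u ^ 1 • a = a := MulAction.pow_smul_eq_iff_period_dvd.mpr (by rw [h1])
    rwa [pow_one] at h2
  set b := u • a with hb
  set c := u • b with hcdef
  have hab : a ≠ b := fun e => hua e.symm
  have hac : a ≠ c := fun e => hper 2 (by norm_num) (by rw [pow_two, mul_smul, ← hb, ← hcdef, ← e])
  have hbc : b ≠ c := fun e => hab ((smul_left_cancel_iff u).mp e)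
  set σ : Equiv.Perm X := Equiv.swap a b * Equiv.swap b c
  have hσ : σ ∈ alternatingGroup X := by
    rw [Equiv.Perm.mem_alternatingGroup, map_mul, Equiv.Perm.sign_swap hab, Equiv.Perm.sign_swap hbc]
    rfl
  obtain ⟨h, hh⟩ := hA hσ
  have hh' : ∀ z, h • z = σ z := fun z => by rw [← hh]; rfl
  have hfix : ∀ z, z ≠ a → z ≠ b → z ≠ c → h • z = z := fun z h1 h2 h3 => by
    rw [hh']; simp [σ, Equiv.swap_apply_of_ne_of_ne h2 h3, Equiv.swap_apply_of_ne_of_ne h1 h2]
  have hxne : ∀ j : ℕ, u ^ j • a ≠ x := by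
    intro j e
    apply hax
    have h1 : a = (u ^ j)⁻¹ • x := eq_inv_smul_iff.mpr e
    rw [h1]
    exact hc.le x (inv_mem (pow_mem hu j))
  have hhx : h • x = x := hfix x (by simpa using (hxne 0).symm) (by simpa [← hb] using (hxne 1).symm)
    (by simpa [pow_two, mul_smul, ← hb, ← hcdef] using (hxne 2).symm)
  set w := h * u * h⁻¹ * u⁻¹
  have hw : w ∈ (P x : Subgroup H) :=
    mul_mem ((mem_normalizer_iff.mp (hc.norm x hhx) u).mp hu) (inv_mem hu)
  have hsupp : ∀ z, w • z ≠ z → z = a ∨ z = b ∨ z = c ∨ z = u • c := by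
    intro z hz
    by_contra hh2
    push Not at hh2
    obtain ⟨h1, h2, h3, h4⟩ := hh2
    apply hz
    have e1 : h • (u⁻¹ • z) = u⁻¹ • z := hfix _ (fun e => h2 (by rw [hb, ← e, smul_inv_smul]))
      (fun e => h3 (by rw [hcdef, ← e, smul_inv_smul])) (fun e => h4 (by rw [← e, smul_inv_smul]))
    have e2 : h⁻¹ • (u⁻¹ • z) = u⁻¹ • z := inv_smul_eq_iff.mpr e1.symm
    simp only [w, mul_smul, e2, smul_inv_smul]
    exact hfix z h1 h2 h3
  have hw1 : ∀ z : X, w • z = z := by
    intro z
    by_contra hz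
    have h5 := card_orbit_eq ((P x).isPGroup'.to_le (zpowers_le.mpr hw)) hc.card
      (fun v hv => hc.le x (zpowers_le.mpr hw hv)) ⟨w, mem_zpowers w, hz⟩
    have hle : orbit (zpowers w) z ⊆ {a, b, c, u • c} := by
      rintro y ⟨v, rfl⟩
      refine hsupp _ fun e => hz ?_
      have hcomm : w * (v : H) = v * w := by
        obtain ⟨i, hi⟩ := v.2
        rw [← hi]
        exact (Commute.refl w).zpow_right i
      change w • ((v : H) • z) = (v : H) • z at e
      rw [← mul_smul, hcomm, mul_smul] at e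
      exact (smul_left_cancel_iff (v : H)).mp e
    have h6 := Set.ncard_le_ncard hle (Set.toFinite _)
    rw [← Nat.card_coe_set_eq, h5] at h6
    have h7 := Set.ncard_insert_le a ({b, c, u • c} : Set X)
    have h8 := Set.ncard_insert_le b ({c, u • c} : Set X)
    have h9 := Set.ncard_insert_le c ({u • c} : Set X)
    rw [Set.ncard_singleton] at h9
    omega
  have hcm : h * u = u * h := by
    have := FaithfulSMul.eq_of_smul_eq_smul (α := X) (m₁ := w) (m₂ := 1) fun z => by rw [hw1, one_smul]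
    rw [← mul_inv_eq_one]
    simpa [w, mul_assoc, mul_inv_rev] using this
  have hhb : h • b = c := by rw [hh']; simp [σ, Equiv.swap_apply_of_ne_of_ne hac.symm hbc.symm]
  have hhc : h • c = a := by rw [hh']; simp [σ]
  have e : u • c = a := by
    rw [← hhc]
    calc u • c = u • (h • b) := by rw [hhb]
      _ = h • (u • b) := by rw [← mul_smul, ← hcm, mul_smul]
      _ = h • c := rfl
  exact hper 3 (by norm_num) (by rw [pow_succ', pow_two, mul_smul, mul_smul]; exact e)

theorem Config.isPreprimitive (hc : Config P) : IsPreprimitive H X := by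
  have : Fact (Nat.Prime 5) := ⟨by norm_num⟩
  have := hc.pretransitive
  obtain ⟨⟨x⟩, -⟩ := Nat.card_pos_iff.mp (by rw [hc.card]; norm_num : 0 < Nat.card X)
  refine IsPreprimitive.of_isTrivialBlock_base x fun {B} hxB hB => ?_
  let B' : SubMulAction ↥(P x : Subgroup H) X :=
    { carrier := B
      smul_mem' := fun u z hz => by
        have h1 : (u : H) • B = B := hB.smul_eq_of_mem hxB (by rw [show (u : H) • x = x from hc.le x u.2]; exact hxB)
        show (u : H) • z ∈ B
        rw [← h1]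
        exact Set.smul_mem_smul_set hz }
  have hmod := (P x).isPGroup'.card_modEq_card_fixedPoints B'
  have h1 : Nat.card (fixedPoints ↥(P x : Subgroup H) B') = 1 := by
    refine Nat.card_eq_one_iff_unique.mpr ⟨⟨fun p q => ?_⟩, ⟨⟨⟨x, hxB⟩, fun u => Subtype.ext (hc.le x u.2)⟩⟩⟩
    have key : ∀ p : fixedPoints ↥(P x : Subgroup H) B', ((p : B') : X) = x := fun p =>
      hc.unique x _ fun u hu => congrArg Subtype.val (p.2 ⟨u, hu⟩)
    exact Subtype.ext (Subtype.ext ((key p).trans (key q).symm))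
  rw [h1] at hmod
  have hn : Nat.card B' = B.ncard := Nat.card_coe_set_eq B
  rw [hn] at hmod
  have hd : B.ncard ∣ 21 := hc.card ▸ hB.ncard_dvd_card ⟨x, hxB⟩
  have hcases : B.ncard = 1 ∨ B.ncard = 21 := by
    have hle := Nat.le_of_dvd (by norm_num) hd
    have : B.ncard % 5 = 1 := hmod
    generalize B.ncard = n at *
    interval_cases n <;> omega
  rcases hcases with h | h
  · exact Or.inl (Set.ncard_le_one_iff_subsingleton.mp h.le)
  · exact Or.inr (Set.eq_univ_of_forall fun z => by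
      rw [Set.eq_of_subset_of_ncard_le (Set.subset_univ B) (by rw [Set.ncard_univ, hc.card, h]) (Set.toFinite _)]
      trivial)

/-- For large Sylow subgroups the group contains a cycle of prime length at most eleven. -/
theorem Config.exists_cycle [Fintype X] [DecidableEq X] (hc : Config P) {x : X}
    (hbig : Nat.card (P x : Subgroup H) ≠ 5) :
    ∃ c ∈ (MulAction.toPermHom H X).range, c.IsCycle ∧ c.support.card.Prime ∧ c.support.card ≤ 11 := by
  have : Fact (Nat.Prime 5) := ⟨by norm_num⟩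
  obtain ⟨y, hy⟩ : ∃ y, y ≠ x := by
    by_contra hh
    push Not at hh
    have hsub : Subsingleton X := ⟨fun p q => (hh p).trans (hh q).symm⟩
    have h := Finite.card_le_one_iff_subsingleton.mpr hsub
    rw [hc.card] at h; omega
  set D : Subgroup H := (P x : Subgroup H) ⊓ stabilizer H y with hD
  have hDp : IsPGroup 5 D := (P x).isPGroup'.to_le inf_le_left
  have hDne : D ≠ ⊥ := by
    intro hb
    apply hbig
    have h1 : stabilizer ↥(P x : Subgroup H) y = ⊥ := by
      rw [Subgroup.eq_bot_iff_forall]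
      intro u hu
      have : (u : H) ∈ D := ⟨u.2, hu⟩
      rw [hb, mem_bot] at this
      exact Subtype.ext this
    refine Eq.trans ?_ (hc.orbit_five hy)
    rw [Nat.card_coe_set_eq, ← MulAction.index_stabilizer, h1, Subgroup.index_bot]
  set F : Set X := {z | ∀ d ∈ D, d • z = z}
  have hxF : x ∈ F := fun d hd => hc.le x hd.1
  have hyF : y ∈ F := fun d hd => hd.2
  set M : Subgroup H := centralizer (D : Set H)
  have hMF : ∀ m ∈ M, ∀ z ∈ F, m • z ∈ F := by
    intro m hm z hz d hd
    rw [← mul_smul, mem_centralizer_iff.mp hm d hd, mul_smul, hz d hd]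
  have hPM : ∀ z ∈ F, (P z : Subgroup H) ≤ M := fun z hz v hv =>
    mem_centralizer_iff.mpr fun d hd => hc.commute (hc.le_sylow hDp hz hd) hv
  have hmod : F.ncard % 5 = 1 := by
    have h := hDp.card_modEq_card_fixedPoints X
    have e : fixedPoints D X = F :=
      Set.ext fun z => ⟨fun h d hd => h ⟨d, hd⟩, fun h d => h d d.2⟩
    rw [e, Nat.card_coe_set_eq, hc.card] at h
    exact h.symm
  have h2F : 2 ≤ F.ncard := by
    have h := Set.ncard_le_ncard (show ({x, y} : Set X) ⊆ F by
      intro z hz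
      rcases hz with rfl | rfl
      · exact hxF
      · exact hyF) (Set.toFinite _)
    rwa [Set.ncard_pair hy.symm] at h
  have hlt : F.ncard < 21 := by
    rw [← hc.card, ← Set.ncard_univ]
    refine Set.ncard_lt_ncard ⟨Set.subset_univ _, fun h => hDne ?_⟩ (Set.toFinite _)
    rw [Subgroup.eq_bot_iff_forall]
    exact fun d hd => FaithfulSMul.eq_of_smul_eq_smul (α := X) fun z => by
      rw [one_smul]; exact h (Set.mem_univ z) d hd
  obtain ⟨d, hdD, hdo⟩ : ∃ d ∈ D, orderOf d = 5 := by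
    obtain ⟨k, hk⟩ := hDp.exists_card_eq
    obtain ⟨⟨d, hd⟩, ho⟩ := exists_prime_orderOf_dvd_card' 5 (show 5 ∣ Nat.card D by
      rcases k with _ | k
      · exact absurd (Subgroup.eq_bot_of_card_eq D (hk.trans (pow_zero 5))) hDne
      · exact hk ▸ dvd_pow_self 5 (Nat.succ_ne_zero k))
    exact ⟨d, hd, by rwa [← Subgroup.orderOf_coe] at ho⟩
  have mkCycle : ∀ (g : H) (q : ℕ), q.Prime → q ≤ 11 → orderOf g = q →
      (MulAction.toPermHom H X g).support.card < 2 * q →
      ∃ c ∈ (MulAction.toPermHom H X).range, c.IsCycle ∧ c.support.card.Prime ∧ c.support.card ≤ 11 := by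
    intro g q hq hq11 ho hs
    obtain ⟨h1, h2⟩ := cycle_of_prime_order hq ((orderOf_toPerm g).trans ho) hs
    exact ⟨_, ⟨g, rfl⟩, h1, h2.symm ▸ hq, h2.symm ▸ hq11⟩
  rcases (show F.ncard = 6 ∨ F.ncard = 11 ∨ F.ncard = 16 by omega) with h6 | h11 | h16
  rotate_left
  · -- eleven fixed points
    have horb : orbit M x = F := by
      refine Set.Subset.antisymm ?_ fun z hz => ?_
      · rintro _ ⟨m, rfl⟩
        exact hMF m m.2 x hxF
      · obtain ⟨m, hm⟩ := exists_smul_eq ↥M ((P x).subtype (hPM x hxF)) ((P z).subtype (hPM z hz))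
        rw [Sylow.smul_subtype (hPM x hxF) m] at hm
        exact ⟨m, hc.smul_eq (Sylow.subtype_injective hm)⟩
    have hdvd : 11 ∣ Nat.card M := by
      rw [← h11, ← horb, ← MulAction.index_stabilizer]
      exact index_dvd_card _
    have : Fact (Nat.Prime 11) := ⟨by norm_num⟩
    obtain ⟨⟨g, hg⟩, ho⟩ := exists_prime_orderOf_dvd_card' 11 hdvd
    rw [← Subgroup.orderOf_coe] at ho
    refine mkCycle g 11 (by norm_num) le_rfl ho ?_
    have := Finset.card_le_univ (MulAction.toPermHom H X g).support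
    rw [← Nat.card_eq_fintype_card, hc.card] at this
    omega
  · -- sixteen fixed points
    refine mkCycle d 5 (by norm_num) (by norm_num) hdo ?_
    have hle : ((MulAction.toPermHom H X d).support : Set X) ⊆ Fᶜ := by
      intro z hz hzF
      exact Equiv.Perm.mem_support.mp hz (hzF d hdD)
    have h := Set.ncard_le_ncard hle (Set.toFinite _)
    rw [Set.ncard_coe_finset, Set.ncard_compl F, hc.card] at h
    omega
  -- six fixed points
  have horbD : ∀ w ∈ F, ∀ z ∉ F, orbit D z = orbit (P w : Subgroup H) z := by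
    intro w hw z hz
    have hle : D ≤ (P w : Subgroup H) := hc.le_sylow hDp hw
    refine Set.eq_of_subset_of_ncard_le (fun a ha => ?_) ?_ (Set.toFinite _)
    · obtain ⟨d, rfl⟩ := ha
      exact ⟨⟨d, hle d.2⟩, rfl⟩
    · rw [← Nat.card_coe_set_eq, ← Nat.card_coe_set_eq, hc.orbit_five (fun e : z = w => hz (by rw [e]; exact hw)),
        card_orbit_eq hDp hc.card (fun d hd => hc.le x hd.1) (by
          by_contra h
          push Not at h
          exact hz h)]
  let M1 : Subgroup H :=
    { carrier := {m | m ∈ M ∧ ∀ z ∉ F, ∃ d ∈ D, m • z = d • z}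
      one_mem' := ⟨one_mem _, fun z _ => ⟨1, one_mem _, rfl⟩⟩
      mul_mem' := by
        rintro a b ⟨ha, ha'⟩ ⟨hb, hb'⟩
        refine ⟨mul_mem ha hb, fun z hz => ?_⟩
        obtain ⟨e, he, hbe⟩ := hb' z hz
        obtain ⟨d, hd, had⟩ := ha' z hz
        refine ⟨e * d, mul_mem he hd, ?_⟩
        rw [mul_smul, hbe, ← mul_smul, ← mem_centralizer_iff.mp ha e he, mul_smul, had, mul_smul]
      inv_mem' := by
        rintro a ⟨ha, ha'⟩
        refine ⟨inv_mem ha, fun z hz => ?_⟩
        obtain ⟨d, hd, had⟩ := ha' z hz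
        refine ⟨d⁻¹, inv_mem hd, ?_⟩
        rw [inv_smul_eq_iff, ← mul_smul, ← mem_centralizer_iff.mp ha _ (inv_mem hd), mul_smul, had,
          inv_smul_smul] }
  have hPM1 : ∀ w ∈ F, (P w : Subgroup H) ≤ M1 := fun w hw v hv => ⟨hPM w hw hv, fun z hz => by
    have h : v • z ∈ orbit (P w : Subgroup H) z := ⟨⟨v, hv⟩, rfl⟩
    rw [← horbD w hw z hz] at h
    obtain ⟨d, hd⟩ := h
    exact ⟨d, d.2, hd.symm⟩⟩
  let K0 : Subgroup ↥M1 :=
    { carrier := {m | ∀ z ∉ F, (m : H) • z = z}
      one_mem' := fun z _ => one_smul H z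
      mul_mem' := fun {a b} ha hb z hz => by rw [Subgroup.coe_mul, mul_smul, hb z hz, ha z hz]
      inv_mem' := fun {a} ha z hz => by rw [Subgroup.coe_inv, inv_smul_eq_iff, ha z hz] }
  have hK0 : K0.Normal := ⟨fun n hn g z hz => by
    have h1 : (g : H)⁻¹ • z ∉ F := fun h => hz (by
      have := hMF (g : H) g.2.1 _ h
      rwa [smul_inv_smul] at this)
    rw [Subgroup.coe_mul, Subgroup.coe_mul, Subgroup.coe_inv, mul_smul, mul_smul, hn _ h1, smul_inv_smul]⟩
  have hquot : IsPGroup 5 (↥M1 ⧸ K0) := by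
    obtain ⟨k, hk⟩ := hDp.exists_card_eq
    intro q
    induction q using QuotientGroup.induction_on with | _ a => ?_
    refine ⟨k, ?_⟩
    rw [← QuotientGroup.mk_pow, QuotientGroup.eq_one_iff]
    intro z hz
    obtain ⟨d, hd, had⟩ := a.2.2 z hz
    have hpow : ∀ j : ℕ, (a : H) ^ j • z = d ^ j • z := by
      intro j
      induction j with
      | zero => simp
      | succ j ih =>
        rw [pow_succ', mul_smul, ih, ← mul_smul, ← mem_centralizer_iff.mp a.2.1 _ (pow_mem hd j), mul_smul,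
          had, ← mul_smul, ← pow_succ]
    rw [SubmonoidClass.coe_pow, hpow, ← hk]
    have : d ^ Nat.card D = 1 := congrArg Subtype.val (pow_card_eq_one' (x := (⟨d, hd⟩ : D)))
    rw [this, one_smul]
  set P' : Sylow 5 ↥M1 := (P x).subtype (hPM1 x hxF)
  have hP'mem : ∀ v : ↥M1, v ∈ (P' : Subgroup ↥M1) ↔ (v : H) ∈ (P x : Subgroup H) := fun v => Iff.rfl
  have hfactor : ∀ a : ↥M1, ∃ u ∈ (P' : Subgroup ↥M1), a * u⁻¹ ∈ K0 := by
    intro a
    have htop : ((P'.mapSurjective (QuotientGroup.mk'_surjective K0) : Sylow 5 (↥M1 ⧸ K0)) :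
        Subgroup (↥M1 ⧸ K0)) = ⊤ :=
      ((P'.mapSurjective (QuotientGroup.mk'_surjective K0)).is_maximal'
        (hquot.to_subgroup ⊤) le_top).symm
    obtain ⟨u, hu, hua⟩ : QuotientGroup.mk' K0 a ∈ (P' : Subgroup ↥M1).map (QuotientGroup.mk' K0) := by
      rw [← Sylow.coe_mapSurjective (hf := QuotientGroup.mk'_surjective K0), htop]; trivial
    refine ⟨u, hu, ?_⟩
    rw [← QuotientGroup.eq_one_iff, QuotientGroup.mk_mul, QuotientGroup.mk_inv]
    exact mul_inv_eq_one.mpr hua.symm
  have htrans : ∀ z ∈ F, ∃ k ∈ K0, ((k : ↥M1) : H) • x = z := by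
    intro z hz
    obtain ⟨a, ha⟩ := exists_smul_eq ↥M1 P' ((P z).subtype (hPM1 z hz))
    obtain ⟨u, hu, hk⟩ := hfactor a
    refine ⟨a * u⁻¹, hk, ?_⟩
    rw [Sylow.smul_subtype (hPM1 x hxF) a] at ha
    rw [Subgroup.coe_mul, Subgroup.coe_inv, mul_smul,
      show (u : H)⁻¹ • x = x from hc.le x (inv_mem hu)]
    exact hc.smul_eq (Sylow.subtype_injective ha)
  have hsupp : ∀ k ∈ K0, ((MulAction.toPermHom H X (k : H)).support : Set X) ⊆ F := by
    intro k hk z hz
    by_contra h
    exact Equiv.Perm.mem_support.mp hz (hk z h)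
  by_cases h5 : 5 ∣ Nat.card K0
  · obtain ⟨⟨g, hg⟩, ho⟩ := exists_prime_orderOf_dvd_card' 5 h5
    rw [← Subgroup.orderOf_coe, ← Subgroup.orderOf_coe] at ho
    refine mkCycle (g : H) 5 (by norm_num) (by norm_num) ho ?_
    have h := Set.ncard_le_ncard (hsupp g hg) (Set.toFinite _)
    rw [Set.ncard_coe_finset, h6] at h
    omega
  exfalso
  have horbK : orbit K0 x = F := by
    refine Set.Subset.antisymm ?_ fun z hz => ?_
    · rintro _ ⟨k, rfl⟩
      exact hMF _ (k : ↥M1).2.1 x hxF
    · obtain ⟨k, hk, e⟩ := htrans z hz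
      exact ⟨⟨k, hk⟩, e⟩
  have h3K : 3 ∣ Nat.card K0 :=
    (show 3 ∣ 6 by norm_num).trans (h6 ▸ horbK ▸ (MulAction.index_stabilizer K0 x) ▸ index_dvd_card _)
  have hK720 : Nat.card K0 ∣ 720 := by
    classical
    let φ : K0 →* Equiv.Perm X := (MulAction.toPermHom H X).comp (M1.subtype.comp K0.subtype)
    have hinj : Function.Injective φ :=
      MulAction.toPerm_injective.comp (M1.subtype_injective.comp K0.subtype_injective)
    have hle : φ.range ≤ (Equiv.Perm.ofSubtype (p := fun z => z ∈ F)).range := by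
      rintro _ ⟨k, rfl⟩
      have h1 : ∀ z, φ k z ≠ z → z ∈ F := fun z hz => hsupp k.1 k.2 (Equiv.Perm.mem_support.mpr hz)
      have h2 : ∀ z, φ k z ∈ F ↔ z ∈ F := fun z => by
        by_cases hz : φ k z = z
        · rw [hz]
        · exact iff_of_true (h1 _ fun e => hz ((φ k).injective e)) (h1 z hz)
      exact ⟨(φ k).subtypePerm h2, Equiv.Perm.ofSubtype_subtypePerm h2 h1⟩
    have h := Subgroup.card_dvd_of_le hle
    rw [Nat.card_congr (MonoidHom.ofInjective hinj).toEquiv.symm,
      Nat.card_congr (MonoidHom.ofInjective (Equiv.Perm.ofSubtype_injective)).toEquiv.symm, Nat.card_perm,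
      show Nat.card {z // z ∈ F} = 6 from (Nat.card_coe_set_eq F).trans h6] at h
    simpa [Nat.factorial] using h
  have : Fact (Nat.Prime 3) := ⟨by norm_num⟩
  obtain ⟨T⟩ : Nonempty (Sylow 3 K0) := inferInstance
  set T1 : Subgroup ↥M1 := (T : Subgroup K0).map K0.subtype
  have hfr : normalizer (T1 : Set ↥M1) ⊔ K0 = ⊤ := Sylow.normalizer_sup_eq_top T
  have hidx : K0.index ∣ Nat.card (normalizer (T1 : Set ↥M1)) := by
    have h := relIndex_sup_right (H := normalizer (T1 : Set ↥M1)) (K := K0)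
    rw [hfr, relIndex_top_right] at h
    rw [h]
    exact relIndex_dvd_card _ _
  obtain ⟨j, hj⟩ := P'.isPGroup'.exists_card_eq
  have hPN : 5 ^ j ∣ Nat.card (normalizer (T1 : Set ↥M1)) := by
    refine dvd_trans ?_ hidx
    have h := card_subgroup_dvd_card (P' : Subgroup ↥M1)
    rw [hj, ← K0.index_mul_card] at h
    exact (Nat.Coprime.pow_left j ((Nat.Prime.coprime_iff_not_dvd (by norm_num)).mpr h5)).dvd_of_dvd_mul_right h
  obtain ⟨R, hR⟩ := Sylow.exists_subgroup_card_pow_prime 5 hPN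
  have hR' : Nat.card (R.map (normalizer (T1 : Set ↥M1)).subtype) =
      5 ^ (Nat.card ↥M1).factorization 5 := by
    rw [Subgroup.card_map_of_injective (Subgroup.subtype_injective _), hR, ← hj, P'.card_eq_multiplicity]
  obtain ⟨g, hg⟩ := exists_smul_eq ↥M1 (Sylow.ofCard _ hR') P'
  set T2 : Subgroup ↥M1 := T1.map (MulAut.conj g).toMonoidHom
  have hP'T : (P' : Subgroup ↥M1) ≤ normalizer (T2 : Set ↥M1) := by
    intro v hv
    rw [← hg] at hv
    obtain ⟨r, hr, rfl⟩ := hv
    obtain ⟨r', -, rfl⟩ : r ∈ R.map (normalizer (T1 : Set ↥M1)).subtype := hr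
    exact Subgroup.le_normalizer_map (f := (MulAut.conj g).toMonoidHom) ⟨r', r'.2, rfl⟩
  have hT2K : T2 ≤ K0 := by
    rintro _ ⟨t, ⟨t', -, rfl⟩, rfl⟩
    exact hK0.conj_mem _ t'.2 g
  have hT2card : Nat.card T2 = Nat.card (T : Subgroup K0) := by
    rw [Subgroup.card_map_of_injective (MulAut.conj g).injective,
      Subgroup.card_map_of_injective K0.subtype_injective]
  obtain ⟨i, hi⟩ := T.isPGroup'.exists_card_eq
  have hi1 : i = 1 ∨ i = 2 := by
    have h3T : 3 ∣ Nat.card (T : Subgroup K0) := T.dvd_card_of_dvd_card h3K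
    have h720 : 3 ^ i ∣ 720 := hi ▸ (card_subgroup_dvd_card _).trans hK720
    rcases i with _ | _ | _ | i
    · rw [hi] at h3T; norm_num at h3T
    · exact Or.inl rfl
    · exact Or.inr rfl
    · exfalso
      have : 3 ^ 3 ∣ 720 := (pow_dvd_pow 3 (show 3 ≤ i + 1 + 1 + 1 by omega)).trans h720
      norm_num at this
  let f : ↥(P' : Subgroup ↥M1) →* MulAut T2 :=
    (normalizerMonoidHom T2).comp (Subgroup.inclusion hP'T)
  let act : MulAction ↥(P' : Subgroup ↥M1) ↥T2 := MulAction.compHom ↥T2 f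
  have hmodT := P'.isPGroup'.card_modEq_card_fixedPoints ↥T2
  obtain ⟨t, ht, ht1⟩ : ∃ t : ↥T2, t ∈ fixedPoints ↥(P' : Subgroup ↥M1) ↥T2 ∧ t ≠ 1 := by
    by_contra hh
    push Not at hh
    have h1 : Nat.card (fixedPoints ↥(P' : Subgroup ↥M1) ↥T2) = 1 := by
      refine Nat.card_eq_one_iff_unique.mpr ⟨⟨fun p q => Subtype.ext ((hh p p.2).trans (hh q q.2).symm)⟩,
        ⟨⟨1, fun u => map_one (f u)⟩⟩⟩
    rw [h1, hT2card, hi] at hmodT
    rcases hi1 with rfl | rfl <;> exact absurd hmodT (by decide)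
  have htK : (t : ↥M1) ∈ K0 := hT2K t.2
  have htcomm : ∀ v ∈ (P x : Subgroup H), v * ((t : ↥M1) : H) = ((t : ↥M1) : H) * v := by
    intro v hv
    have h := congrArg (fun s : ↥T2 => ((s : ↥M1) : H)) (ht ⟨⟨v, hPM1 x hxF hv⟩, hv⟩)
    change v * ((t : ↥M1) : H) * v⁻¹ = ((t : ↥M1) : H) at h
    exact mul_inv_eq_iff_eq_mul.mp h
  set τ : H := ((t : ↥M1) : H)
  have hτx : τ • x = x := hc.unique x _ fun v hv => by
    rw [← mul_smul, htcomm v hv, mul_smul, show v • x = x from hc.le x hv]
  apply ht1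
  apply Subtype.ext
  apply Subtype.ext
  show τ = 1
  refine FaithfulSMul.eq_of_smul_eq_smul (α := X) fun z => ?_
  rw [one_smul]
  by_cases hzF : z ∈ F
  swap
  · exact htK z hzF
  by_cases hzx : z = x
  · rw [hzx]; exact hτx
  have hO : orbit (P x : Subgroup H) z = F \ {x} := by
    refine Set.eq_of_subset_of_ncard_le ?_ ?_ (Set.toFinite _)
    · rintro _ ⟨v, rfl⟩
      refine ⟨hMF _ (hPM x hxF v.2) z hzF, fun e => hzx ?_⟩
      have h1 : z = (v : H)⁻¹ • x := eq_inv_smul_iff.mpr e
      rw [h1]; exact hc.le x (inv_mem v.2)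
    · rw [Set.ncard_sdiff_singleton_of_mem hxF, h6, ← Nat.card_coe_set_eq, hc.orbit_five hzx]
  obtain ⟨v, hv⟩ : τ • z ∈ orbit (P x : Subgroup H) z := by
    rw [hO]
    exact ⟨hMF τ (t : ↥M1).2.1 z hzF, fun e => hzx ((smul_left_cancel_iff τ).mp (Eq.trans e hτx.symm))⟩
  have hv' : (v : H) • z = τ • z := hv
  have hpow : ∀ n : ℕ, τ ^ n • z = (v : H) ^ n • z := by
    intro n
    induction n with
    | zero => simp
    | succ n ih =>
      rw [pow_succ', mul_smul, ih, ← mul_smul, ← htcomm _ (pow_mem v.2 n), mul_smul, ← hv', ← mul_smul,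
        ← pow_succ]
  have hT2p : IsPGroup 3 T2 := IsPGroup.of_card (hT2card.trans hi)
  obtain ⟨n, hn⟩ := hT2p t
  obtain ⟨l, hl⟩ := (P x).isPGroup' v
  have hn' : τ ^ 3 ^ n = 1 := congrArg (fun s : ↥T2 => ((s : ↥M1) : H)) hn
  have e1 : (v : H) ^ 3 ^ n • z = z := by rw [← hpow, hn', one_smul]
  have e2 : (v : H) ^ 5 ^ l • z = z := by
    rw [show (v : H) ^ 5 ^ l = 1 from congrArg Subtype.val hl, one_smul]
  rw [MulAction.pow_smul_eq_iff_period_dvd] at e1 e2
  have h1 : MulAction.period (v : H) z = 1 :=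
    Nat.eq_one_of_dvd_coprimes (Nat.Coprime.pow n l (by norm_num : Nat.Coprime 3 5)) e1 e2
  have h2 : (v : H) ^ 1 • z = z := MulAction.pow_smul_eq_iff_period_dvd.mpr (by rw [h1])
  rw [pow_one] at h2
  rw [← hv', h2]

theorem Config.small_sylow [Fintype X] [DecidableEq X] (hc : Config P) (x : X) :
    Nat.card (P x : Subgroup H) = 5 := by
  by_contra hbig
  obtain ⟨c, hcm, hcc, hcp, hc11⟩ := hc.exists_cycle hbig
  refine hc.not_alternating ?_
  have : IsPreprimitive (MulAction.toPermHom H X).range X := by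
    have := hc.isPreprimitive
    let f : X →ₑ[(MulAction.toPermHom H X).rangeRestrict] X :=
      { toFun := id
        map_smul' := fun _ _ => rfl }
    exact IsPreprimitive.of_surjective (f := f) Function.surjective_id
  refine JordanCycle.alternatingGroup_le this hcc hcm hcp ?_
  rw [← Nat.card_eq_fintype_card, hc.card]
  omega

end CfsgLib.SmallGroups.TwentyOne
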