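import Cfsg.Agent.Lib.SmallGroups.TwentyOne

/-!
# Twenty-one Sylow 5-subgroups of order five: fusion of 2-elements and transfer
-/

set_option autoImplicit false

namespace CfsgLib.SmallGroups.TwentyOne

open MulAction Subgroup

variable {H X : Type*} [Group H] [Finite H] [MulAction H X] [FaithfulSMul H X] [Finite X]
  {P : X → Sylow 5 H}

omit [Finite H] [FaithfulSMul H X] in
theorem card_fixedBy_modEq {q : ℕ} [Fact q.Prime] {t : H} (ht : t ^ q = 1) :
    Nat.card X % q = Nat.card (fixedBy X t) % q := by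
  have hp : IsPGroup q (zpowers t) := by
    rintro ⟨g, i, rfl⟩
    refine ⟨1, Subtype.ext ?_⟩
    show (t ^ i) ^ q ^ 1 = 1
    rw [pow_one, ← zpow_natCast, ← zpow_mul, mul_comm, zpow_mul, zpow_natCast, ht, one_zpow]
  have e : fixedPoints (zpowers t) X = fixedBy X t := by
    ext z
    refine ⟨fun h => h ⟨t, mem_zpowers t⟩, fun h u => ?_⟩
    obtain ⟨i, hi⟩ := u.2
    show (u : H) • z = z
    rw [← hi]
    exact zpow_smul_eq_iff_period_dvd.mpr (Int.dvd_trans (Int.natCast_dvd_natCast.mpr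
      ((pow_smul_eq_iff_period_dvd (n := 1)).mp (by rw [pow_one]; exact h))) (by simp))
  have h := hp.card_modEq_card_fixedPoints X
  rw [e] at h
  exact h

theorem Config.centralizer_smul (hc : Config P) {x : X} {t : H}
    (ht : t ∈ centralizer ((P x : Subgroup H) : Set H)) : t • x = x := by
  have h : t ∈ stabilizer H x := by rw [hc.stab_eq x]; exact centralizer_le_normalizer _ ht
  exact h

theorem Config.card_fixedBy_mod_five (hc : Config P) {x : X} {t : H}
    (ht : t ∈ centralizer ((P x : Subgroup H) : Set H)) : Nat.card (fixedBy X t) % 5 = 1 := by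
  have : Fact (Nat.Prime 5) := ⟨by norm_num⟩
  let F : SubMulAction ↥(P x : Subgroup H) X :=
    { carrier := fixedBy X t
      smul_mem' := fun u z hz => by
        show t • ((u : H) • z) = (u : H) • z
        rw [← mul_smul, ← mem_centralizer_iff.mp ht u u.2, mul_smul, show t • z = z from hz] }
  have hmod := (P x).isPGroup'.card_modEq_card_fixedPoints F
  have h1 : Nat.card (fixedPoints ↥(P x : Subgroup H) F) = 1 := by
    refine Nat.card_eq_one_iff_unique.mpr
      ⟨⟨fun p q => ?_⟩, ⟨⟨⟨x, hc.centralizer_smul ht⟩, fun u => Subtype.ext (hc.le x u.2)⟩⟩⟩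
    have key : ∀ p : fixedPoints ↥(P x : Subgroup H) F, ((p : F) : X) = x := fun p =>
      hc.unique x _ fun u hu => congrArg Subtype.val (p.2 ⟨u, hu⟩)
    exact Subtype.ext (Subtype.ext ((key p).trans (key q).symm))
  rw [h1] at hmod
  exact hmod

theorem Config.eq_one_of_pow_seven (hc : Config P) {x : X} {t : H}
    (ht : t ∈ centralizer ((P x : Subgroup H) : Set H)) (h7 : t ^ 7 = 1) : t = 1 := by
  have : Fact (Nat.Prime 7) := ⟨by norm_num⟩
  have h1 := hc.card_fixedBy_mod_five ht
  have h2 := card_fixedBy_modEq (X := X) h7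
  rw [hc.card] at h2
  have h3 : Nat.card (fixedBy X t) ≤ 21 := by
    rw [← hc.card, Nat.card_coe_set_eq, ← Set.ncard_univ]
    exact Set.ncard_le_ncard (Set.subset_univ _) (Set.toFinite _)
  have hall : fixedBy X t = Set.univ := by
    refine Set.eq_of_subset_of_ncard_le (Set.subset_univ _) ?_ (Set.toFinite _)
    rw [Set.ncard_univ, hc.card, ← Nat.card_coe_set_eq]
    omega
  exact FaithfulSMul.eq_of_smul_eq_smul (α := X) fun z => by
    rw [one_smul]; exact (hall ▸ Set.mem_univ z : z ∈ fixedBy X t)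

/-- The normaliser of a Sylow 5-subgroup is not its centraliser. -/
theorem Config.exists_not_centralizing (hc : Config P) (h5 : ∀ x, Nat.card (P x : Subgroup H) = 5) (x : X) :
    ∃ n, n • x = x ∧ n ∉ centralizer ((P x : Subgroup H) : Set H) := by
  by_contra hh
  push Not at hh
  have : Fact (Nat.Prime 5) := ⟨by norm_num⟩
  have : Fact (Nat.Prime 7) := ⟨by norm_num⟩
  have hle : normalizer ((P x : Subgroup H) : Set H) ≤ centralizer ((P x : Subgroup H) : Set H) := fun n hn => by
    refine hh n ?_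
    rw [← hc.stab_eq x] at hn
    exact hn
  set M := (MonoidHom.transferSylow (P x) hle).ker
  have hcompl : M.IsComplement' (P x : Subgroup H) := MonoidHom.ker_transferSylow_isComplement' (P x) hle
  have hM5 : ¬ 5 ∣ Nat.card M := MonoidHom.not_dvd_card_ker_transferSylow (P x) hle
  have hmul := hcompl.card_mul_card
  have := hc.pretransitive
  have hidx := (stabilizer H x).index_mul_card
  rw [MulAction.index_stabilizer_of_transitive, hc.card] at hidx
  have h7N : ¬ 7 ∣ Nat.card (stabilizer H x) := by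
    intro h
    obtain ⟨⟨t, ht⟩, ho⟩ := exists_prime_orderOf_dvd_card' 7 h
    rw [← Subgroup.orderOf_coe] at ho
    have ht1 := hc.eq_one_of_pow_seven (hh t ht) (ho ▸ pow_orderOf_eq_one t)
    change orderOf t = 7 at ho
    rw [ht1, orderOf_one] at ho
    norm_num at ho
  have h7M : 7 ∣ Nat.card M := by
    have h : 7 ∣ Nat.card M * Nat.card (P x : Subgroup H) := by
      rw [hmul, ← hidx]; exact dvd_mul_of_dvd_left (by norm_num) _
    rw [h5] at h
    exact ((by norm_num : Nat.Coprime 7 5)).dvd_of_dvd_mul_right h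
  obtain ⟨T⟩ : Nonempty (Sylow 7 M) := inferInstance
  set T1 : Subgroup H := (T : Subgroup M).map M.subtype
  have hT : Nat.card T1 = 7 := by
    obtain ⟨j, hj⟩ := T.isPGroup'.exists_card_eq
    rw [Subgroup.card_map_of_injective M.subtype_injective, hj]
    have h7T : 7 ∣ Nat.card (T : Subgroup M) := T.dvd_card_of_dvd_card h7M
    have hd : 7 ^ j ∣ 21 * Nat.card (stabilizer H x) := by
      rw [hidx, ← hj, ← Subgroup.card_map_of_injective M.subtype_injective]
      exact card_subgroup_dvd_card _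
    rcases j with _ | _ | j
    · rw [hj] at h7T; norm_num at h7T
    · rfl
    · exfalso
      have h : 7 * 7 ∣ 7 * (3 * Nat.card (stabilizer H x)) := by
        rw [← mul_assoc]
        exact (pow_two (7 : ℕ)) ▸ (pow_dvd_pow 7 (show 2 ≤ j + 1 + 1 by omega)).trans hd
      exact h7N (((by norm_num : Nat.Coprime 7 3)).dvd_of_dvd_mul_left (Nat.dvd_of_mul_dvd_mul_left (by norm_num) h))
  have hfr : normalizer (T1 : Set H) ⊔ M = ⊤ := Sylow.normalizer_sup_eq_top T
  have h5N : 5 ∣ Nat.card (normalizer (T1 : Set H)) := by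
    have h := relIndex_sup_right (H := normalizer (T1 : Set H)) (K := M)
    rw [hfr, relIndex_top_right] at h
    have h1 : M.index = 5 := by
      have h2 := M.index_mul_card
      rw [← hmul, h5, mul_comm (Nat.card M) 5] at h2
      exact Nat.eq_of_mul_eq_mul_right Nat.card_pos h2
    rw [← h1, h]
    exact relIndex_dvd_card _ _
  obtain ⟨⟨u, hu⟩, ho⟩ := exists_prime_orderOf_dvd_card' 5 h5N
  rw [← Subgroup.orderOf_coe] at ho
  change orderOf u = 5 at ho
  -- `u` centralises `T1`
  set f := normalizerMonoidHom T1 ⟨u, hu⟩ with hf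
  have hf1 : f = 1 := by
    have hd1 : orderOf f ∣ 5 := by
      refine orderOf_dvd_of_pow_eq_one ?_
      rw [hf, ← map_pow, show (⟨u, hu⟩ : normalizer (T1 : Set H)) ^ 5 = 1 from
        Subtype.ext (ho ▸ pow_orderOf_eq_one u), map_one]
    have hd2 : orderOf f ∣ 6 := by
      have : IsCyclic T1 := isCyclic_of_prime_card hT
      refine orderOf_dvd_natCard f |>.trans ?_
      rw [IsCyclic.card_mulAut, hT, Nat.totient_prime (by norm_num)]
    exact orderOf_eq_one_iff.mp (Nat.eq_one_of_dvd_coprimes (by norm_num) hd1 hd2)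
  have hcard : Nat.card (zpowers u) = 5 ^ (Nat.card H).factorization 5 := by
    rw [Nat.card_zpowers, ho, ← (P x).card_eq_multiplicity, h5]
  obtain ⟨g, hg⟩ := exists_smul_eq H (P x) (Sylow.ofCard _ hcard)
  have huy : (P (g • x) : Subgroup H) = zpowers u := by
    have h := exists_smul_eq H (P x) (P (g • x))
    symm
    refine Subgroup.eq_of_le_of_card_ge ?_ (by rw [Nat.card_zpowers, ho, h5])
    refine hc.le_sylow ((Sylow.ofCard (zpowers u) hcard).isPGroup') fun v hv => ?_
    have hv' : v ∈ (Sylow.ofCard (zpowers u) hcard : Subgroup H) := hv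
    rw [← hg] at hv'
    obtain ⟨w, hw, rfl⟩ := hv'
    show (MulAut.conj g w) • (g • x) = g • x
    rw [MulAut.conj_apply, ← mul_smul, inv_mul_cancel_right, mul_smul, show w • x = x from hc.le x hw]
  obtain ⟨⟨t, ht⟩, hto⟩ := exists_prime_orderOf_dvd_card' 7 (hT.symm ▸ dvd_rfl : 7 ∣ Nat.card T1)
  rw [← Subgroup.orderOf_coe] at hto
  change orderOf t = 7 at hto
  have htc : t ∈ centralizer ((P (g • x) : Subgroup H) : Set H) := by
    rw [huy]
    refine mem_centralizer_iff.mpr fun v hv => ?_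
    have hut : u * t * u⁻¹ = t := by
      have h := congrArg (fun s : T1 => (s : H)) (DFunLike.congr_fun hf1 (⟨t, ht⟩ : T1))
      exact h
    obtain ⟨i, rfl⟩ := hv
    exact (show Commute u t from mul_inv_eq_iff_eq_mul.mp hut).zpow_left i
  rw [hc.eq_one_of_pow_seven htc (hto ▸ pow_orderOf_eq_one t), orderOf_one] at hto
  norm_num at hto

theorem toPerm_even (hno : ∀ K : Subgroup H, K.index ≠ 2) [Fintype X] [DecidableEq X] (g : H) :
    Equiv.Perm.sign (MulAction.toPermHom H X g) = 1 := by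
  set φ : H →* ℤˣ := Equiv.Perm.sign.comp (MulAction.toPermHom H X) with hφ
  by_contra h
  apply hno φ.ker
  rw [index_ker, show φ.range = ⊤ from ?_]
  · rw [Nat.card_congr Subgroup.topEquiv.toEquiv, Nat.card_eq_fintype_card]; rfl
  · rw [eq_top_iff]
    rintro z -
    rcases Int.units_eq_one_or z with rfl | rfl
    · exact one_mem _
    · exact ⟨g, (Int.units_eq_one_or _).resolve_left h⟩

/-- A non-trivial 2-element centralising `P x` fixes only `x`. -/
theorem Config.fixed_two (hc : Config P) (hno : ∀ K : Subgroup H, K.index ≠ 2) {x y : X} {w : H}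
    (hw : w ∈ centralizer ((P x : Subgroup H) : Set H)) (h2 : ∃ k, w ^ 2 ^ k = 1) (h1 : w ≠ 1)
    (hy : w • y = y) : y = x := by
  classical
  have := Fintype.ofFinite X
  obtain ⟨k, hk⟩ := h2
  obtain ⟨j, -, hj⟩ := (Nat.dvd_prime_pow Nat.prime_two).mp (orderOf_dvd_of_pow_eq_one hk)
  obtain ⟨j', rfl⟩ : ∃ j', j = j' + 1 := by
    rcases j with _ | j
    · exact absurd (orderOf_eq_one_iff.mp (hj.trans (pow_zero 2))) h1
    · exact ⟨j, rfl⟩
  set z := w ^ 2 ^ j' with hzdef
  have hz2 : z ^ 2 = 1 := by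
    rw [hzdef, ← pow_mul, ← pow_succ, ← hj, pow_orderOf_eq_one]
  have hz1 : z ≠ 1 := fun e => by
    have hd := orderOf_dvd_of_pow_eq_one (x := w) e
    rw [hj] at hd
    have h := Nat.le_of_dvd (by positivity) hd
    have : (2 : ℕ) ^ j' < 2 ^ (j' + 1) := Nat.pow_lt_pow_right (by norm_num) (by omega)
    omega
  have hzC : z ∈ centralizer ((P x : Subgroup H) : Set H) := pow_mem hw _
  have h5 := hc.card_fixedBy_mod_five hzC
  set σ := MulAction.toPermHom H X z with hσdef
  have hσ : σ ^ 2 = 1 := by rw [hσdef, ← map_pow, hz2, map_one]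
  have hσ1 : σ ≠ 1 := fun e => hz1 (FaithfulSMul.eq_of_smul_eq_smul (α := X) fun p => by
    rw [one_smul]; exact DFunLike.congr_fun e p)
  have ho : orderOf σ = 2 := orderOf_eq_prime hσ hσ1
  obtain ⟨n, hn⟩ := Equiv.Perm.cycleType_prime_order (ho.symm ▸ Nat.prime_two : (orderOf σ).Prime)
  rw [ho] at hn
  have hsign := toPerm_even hno z (X := X)
  rw [← hσdef, Equiv.Perm.sign_of_cycleType, hn, Multiset.sum_replicate, Multiset.card_replicate, smul_eq_mul]
    at hsign
  have heven : Even (n + 1) := by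
    rcases Nat.even_or_odd (n + 1) with h | h
    · exact h
    · exfalso
      rw [Odd.neg_one_pow (show Odd ((n + 1) * 2 + (n + 1)) from
        (Nat.even_mul.mpr (Or.inr even_two)).add_odd h)] at hsign
      exact absurd hsign (by decide)
  have hsupp : σ.support.card = (n + 1) * 2 := by
    rw [← Equiv.Perm.sum_cycleType, hn, Multiset.sum_replicate, smul_eq_mul]
  have hfix : Nat.card (fixedBy X z) + σ.support.card = 21 := by
    rw [← hc.card, Nat.card_eq_fintype_card (α := X), ← Finset.card_compl_add_card σ.support]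
    congr 1
    rw [Nat.card_coe_set_eq, ← Set.ncard_coe_finset]
    congr 1
    ext q
    simp [σ, MulAction.mem_fixedBy, Equiv.Perm.mem_support]
  obtain ⟨t, ht⟩ := heven
  have hone : Nat.card (fixedBy X z) = 1 := by omega
  have hsub := (Nat.card_eq_one_iff_unique.mp hone).1
  have hyz : y ∈ fixedBy X z := pow_smul_eq_iff_period_dvd.mpr
    ((pow_smul_eq_iff_period_dvd (n := 1)).mp (by rw [pow_one]; exact hy) |>.trans (one_dvd _))
  exact congrArg Subtype.val (Subsingleton.elim (⟨y, hyz⟩ : fixedBy X z) ⟨x, hc.centralizer_smul hzC⟩)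

theorem units_five : ∀ a b : (ZMod 5)ˣ, a ^ 4 = 1 ∧ (a ^ 2 = 1 → b ^ 2 = 1 → a ≠ 1 → b ≠ 1 → a = b) := by
  decide

/-- The group has a subgroup of index two. -/
theorem Config.exists_index_two (hc : Config P) (h5 : ∀ x, Nat.card (P x : Subgroup H) = 5) :
    ∃ K : Subgroup H, K.index = 2 := by
  classical
  by_contra hh
  push Not at hh
  have : Fact (Nat.Prime 2) := ⟨Nat.prime_two⟩
  have : Fact (Nat.Prime 5) := ⟨by norm_num⟩
  obtain ⟨S⟩ : Nonempty (Sylow 2 H) := inferInstance
  obtain ⟨x, hSx⟩ : ∃ x : X, ∀ s ∈ (S : Subgroup H), s • x = x := by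
    have hne := S.isPGroup'.nonempty_fixed_point_of_prime_not_dvd_card X (by rw [hc.card]; norm_num)
    exact hne.imp fun x hx s hs => hx ⟨s, hs⟩
  set N : Subgroup H := normalizer ((P x : Subgroup H) : Set H) with hN
  have hSN : (S : Subgroup H) ≤ N := fun s hs => hc.norm x (hSx s hs)
  have hcyc : IsCyclic ↥(P x : Subgroup H) := isCyclic_of_prime_card (h5 x)
  let A := (ZMod 5)ˣ
  let E : MulAut ↥(P x : Subgroup H) ≃* A :=
    (IsCyclic.mulAutMulEquiv ↥(P x : Subgroup H)).trans
      (Units.mapEquiv (ZMod.ringEquivCongr (h5 x)).toMulEquiv)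
  let ψ : N →* A := E.toMonoidHom.comp (normalizerMonoidHom (P x : Subgroup H))
  have hker : ∀ n : N, ψ n = 1 ↔ (n : H) ∈ centralizer ((P x : Subgroup H) : Set H) := by
    intro n
    rw [show (ψ n = 1) ↔ normalizerMonoidHom (P x : Subgroup H) n = 1 from E.map_eq_one_iff, ← MonoidHom.mem_ker,
      normalizerMonoidHom_ker, mem_subgroupOf]
  have hconj : ∀ a b : N, ψ (b * a * b⁻¹) = ψ a := fun a b => by
    rw [map_mul, map_mul, map_inv, mul_comm, inv_mul_cancel_left]
  have hNmem : ∀ h : H, h • x = x → h ∈ N := fun h hh' => hc.norm x hh'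
  -- fusion respects the kernel of `ψ` on the Sylow 2-subgroup
  have hclosed : ∀ (s t : N) (g : H), (s : H) ∈ (S : Subgroup H) → (t : H) ∈ (S : Subgroup H) →
      g⁻¹ * (s : H) * g = (t : H) → ψ s = 1 → ψ t = 1 := by
    intro s t g hs ht e h1
    by_cases hs1 : (s : H) = 1
    · rw [hker]
      rw [← e, hs1]; simp
    have hgx : g • x = x := by
      refine hc.fixed_two hh ((hker s).mp h1) ?_ hs1 ?_
      · obtain ⟨k, hk⟩ := S.isPGroup' ⟨s, hs⟩
        exact ⟨k, congrArg Subtype.val hk⟩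
      · have h2 : (g⁻¹ * (s : H) * g) • x = x := e ▸ hSx t ht
        rw [mul_smul, mul_smul, inv_smul_eq_iff] at h2
        exact h2
    have ht' : t = (⟨g, hNmem g hgx⟩⁻¹ : N) * s * (⟨g, hNmem g hgx⟩⁻¹ : N)⁻¹ :=
      Subtype.ext (by rw [← e]; simp)
    rw [ht', hconj, h1]
  let ι : ↥(S : Subgroup H) →* N := Subgroup.inclusion hSN
  let φ : ↥(S : Subgroup H) →* A := ψ.comp ι
  obtain ⟨a, ha⟩ : ∃ a : ↥(S : Subgroup H), φ a ≠ 1 := by
    obtain ⟨n, hnx, hnC⟩ := hc.exists_not_centralizing h5 x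
    set n' : N := ⟨n, hNmem n hnx⟩
    set r := orderOf n' / 2 ^ (orderOf n').factorization 2 with hr
    have hodd : ¬ 2 ∣ r := Nat.not_dvd_ordCompl Nat.prime_two (orderOf_pos n').ne'
    have hm : ψ (n' ^ r) ≠ 1 := by
      intro e
      apply hnC
      refine (hker n').mp ?_
      rw [map_pow] at e
      have hd1 := orderOf_dvd_of_pow_eq_one e
      have hd2 := orderOf_dvd_of_pow_eq_one (units_five (ψ n') 1).1
      exact orderOf_eq_one_iff.mp (Nat.eq_one_of_dvd_coprimes
        (((Nat.Prime.coprime_iff_not_dvd Nat.prime_two).mpr hodd).symm.pow_right 2) hd1 hd2)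
    have hp : IsPGroup 2 (zpowers (n' ^ r)) := by
      refine IsPGroup.of_card (n := (orderOf n').factorization 2) ?_
      rw [Nat.card_zpowers, orderOf_pow_orderOf_div (orderOf_pos n').ne' (Nat.ordProj_dvd _ _)]
    obtain ⟨Q, hQ⟩ := hp.exists_le_sylow
    obtain ⟨g, hg⟩ := exists_smul_eq ↥N Q (S.subtype hSN)
    have hmem : g * n' ^ r * g⁻¹ ∈ (S.subtype hSN : Subgroup ↥N) := by
      rw [← hg]
      exact ⟨n' ^ r, hQ (mem_zpowers _), rfl⟩
    refine ⟨⟨(g * n' ^ r * g⁻¹ : N), hmem⟩, fun e => hm ?_⟩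
    rw [← hconj (n' ^ r) g]
    exact e
  obtain ⟨k, hk2, hkne⟩ : ∃ k : ℕ, (∀ s, (φ s ^ k) ^ 2 = 1) ∧ ∃ b, φ b ^ k ≠ 1 := by
    by_cases h : ∃ s, φ s ^ 2 ≠ 1
    · exact ⟨2, fun s => by rw [← pow_mul]; exact (units_five (φ s) 1).1, h⟩
    · push Not at h
      exact ⟨1, fun s => by rw [pow_one]; exact h s, a, by rw [pow_one]; exact ha⟩
  obtain ⟨b, hb⟩ := hkne
  let τ : ↥(S : Subgroup H) →* A := (powMonoidHom k).comp φ
  have hiff : ∀ (s t : ↥(S : Subgroup H)) (g : H), g⁻¹ * (s : H) * g = (t : H) → τ s = 1 → τ t = 1 := by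
    intro s t g e h1
    have h1' : ψ (ι s ^ k) = 1 := by rw [map_pow]; exact h1
    have h2 := hclosed (ι s ^ k) (ι t ^ k) g ?_ ?_ ?_ h1'
    · rw [map_pow] at h2; exact h2
    · exact pow_mem s.2 k
    · exact pow_mem t.2 k
    · show g⁻¹ * (s : H) ^ k * g = (t : H) ^ k
      rw [← e]
      have h3 := (conj_pow (a := g⁻¹) (b := (s : H)) (i := k)).symm
      rwa [inv_inv] at h3
  have key : ∀ (s : ↥(S : Subgroup H)) (g : H) (hs : g⁻¹ * (s : H) * g ∈ (S : Subgroup H)),
      τ ⟨_, hs⟩ = τ s := by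
    intro s g hs
    by_cases h1 : τ s = 1
    · rw [h1]; exact hiff s _ g rfl h1
    · have h2 : τ ⟨_, hs⟩ ≠ 1 := fun h => h1 (hiff ⟨_, hs⟩ s g⁻¹ (by simp [mul_assoc]) h)
      exact (units_five _ _).2 (hk2 _) (hk2 s) h2 h1
  have htr := CfsgLib.Fusion.Transfer.transfer_eq_pow_of_invariant τ key b
  have hodd : Odd (S : Subgroup H).index := by
    rw [Nat.odd_iff, ← Nat.two_dvd_ne_zero]
    exact S.not_dvd_index
  have hb' : MonoidHom.transfer τ (b : H) ≠ 1 := by
    rw [htr]
    obtain ⟨m, hm⟩ := hodd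
    rw [hm, pow_succ, pow_mul, show τ b ^ 2 = 1 from hk2 b, one_pow, one_mul]
    exact hb
  have hsq : ∀ h : H, MonoidHom.transfer τ h ^ 2 = 1 := by
    intro h
    have e : MonoidHom.transfer τ h ∈ (powMonoidHom 2 : A →* A).ker := by
      have : Fintype (Quotient (MulAction.orbitRel (zpowers h) (H ⧸ (S : Subgroup H)))) := Fintype.ofFinite _
      rw [MonoidHom.transfer_eq_prod_quotient_orbitRel_zpowers_quot]
      exact prod_mem fun q _ => hk2 _
    exact e
  refine hh (MonoidHom.transfer τ).ker ?_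
  rw [index_ker]
  have hr : (MonoidHom.transfer τ).range = zpowers (MonoidHom.transfer τ (b : H)) := by
    refine le_antisymm ?_ (zpowers_le.mpr ⟨_, rfl⟩)
    rintro _ ⟨h, rfl⟩
    by_cases e : MonoidHom.transfer τ h = 1
    · rw [e]; exact one_mem _
    · rw [(units_five _ _).2 (hsq h) (hsq b) e hb']; exact mem_zpowers _
  rw [hr, Nat.card_zpowers, orderOf_eq_prime (hsq b) hb']

theorem not_config : ∀ (n : ℕ) (H X : Type*) [Group H] [Finite H] [MulAction H X] [FaithfulSMul H X] [Finite X]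
    (P : X → Sylow 5 H), Nat.card H = n → ¬ Config P := by
  intro n
  induction n using Nat.strong_induction_on with
  | _ n ih =>
  intro H X _ _ _ _ _ P hn hc
  classical
  have := Fintype.ofFinite X
  have : Fact (Nat.Prime 5) := ⟨by norm_num⟩
  have h5 : ∀ x, Nat.card (P x : Subgroup H) = 5 := fun x => hc.small_sylow x
  obtain ⟨K, hK⟩ := hc.exists_index_two h5
  have : K.Normal := normal_of_index_eq_two hK
  have hle : ∀ x, (P x : Subgroup H) ≤ K := by
    intro x u hu
    have h1 : u ^ 2 ∈ K := by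
      have := K.pow_index_mem u
      rwa [hK] at this
    have h2 : u ^ 5 = 1 := by
      have := congrArg Subtype.val (pow_card_eq_one' (x := (⟨u, hu⟩ : ↥(P x : Subgroup H))))
      rw [h5] at this
      exact this
    have e : u = (u ^ 2) ^ 3 := by rw [← pow_mul, show 2 * 3 = 5 + 1 from rfl, pow_succ, h2, one_mul]
    rw [e]; exact pow_mem h1 3
  have hlt : Nat.card K < n := by
    have h := K.index_mul_card
    rw [hK, hn] at h
    have := Nat.card_pos (α := K)
    omega
  refine ih _ hlt ↥K X (fun x => (P x).subtype (hle x)) rfl ⟨hc.card, fun x k hk => ?_, fun x k hk => ?_, ?_⟩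
  · refine mem_normalizer_iff.mpr fun z => ?_
    exact mem_normalizer_iff.mp (hc.norm x (show (k : H) • x = x from hk)) (z : H)
  · exact hc.le x hk
  · intro x y hy
    exact hc.unique x y fun u hu => hy ⟨u, hle x hu⟩ hu

/-- No finite group has exactly twenty-one Sylow 5-subgroups. -/
theorem card_sylow_five_ne {G : Type*} [Group G] [Finite G] : Nat.card (Sylow 5 G) ≠ 21 := by
  intro h
  have : Fact (Nat.Prime 5) := ⟨by norm_num⟩
  set φ := MulAction.toPermHom G (Sylow 5 G)
  let P : Sylow 5 G → Sylow 5 φ.range := fun Q => Q.mapSurjective (MonoidHom.rangeRestrict_surjective φ)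
  refine not_config _ φ.range (Sylow 5 G) P rfl ⟨h, ?_, ?_, ?_⟩
  · rintro Q ⟨_, g, rfl⟩ hg
    have hgN : g ∈ normalizer ((Q : Subgroup G) : Set G) := Sylow.smul_eq_iff_mem_normalizer.mp hg
    exact Subgroup.le_normalizer_map (f := φ.rangeRestrict) ⟨g, hgN, rfl⟩
  · rintro Q _ ⟨g, hg, rfl⟩
    exact Sylow.smul_eq_iff_mem_normalizer.mpr (le_normalizer hg)
  · intro Q R hR
    have hle : (Q : Subgroup G) ≤ normalizer ((R : Subgroup G) : Set G) := fun g hg =>
      Sylow.smul_eq_iff_mem_normalizer.mp (hR (φ.rangeRestrict g) ⟨g, hg, rfl⟩)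
    have h2 := Q.isPGroup'.inf_normalizer_sylow R
    have h3 : (Q : Subgroup G) ≤ R := inf_eq_left.mp (((inf_eq_left.mpr hle).symm.trans h2).symm)
    exact (Sylow.ext (Q.is_maximal' R.isPGroup' h3))

end CfsgLib.SmallGroups.TwentyOne
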